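import Cfsg.Agent.Lib.CharNormal.Clifford

/-!
# Kernels of characters and inflation

* `charKer χ hχ`: the kernel of a character, a normal subgroup, with
  `mem_charKer : g ∈ charKer hχ ↔ χ g = χ 1`;
* `isIrr_comp_mk'_iff`, `exists_eq_comp_mk'`: characters of `G ⧸ N` are the characters of `G`
  with kernel containing `N`;
* `inflEquiv : IrrCharacter (G ⧸ N) ≃ {χ : IrrCharacter G // N in the kernel}`;
* `res_eq_degree_of_constituent_one`: trivial constituent on a normal subgroup.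
-/

namespace CfsgLib.CharNormal

open Module CfsgLib.Char
open scoped ComplexConjugate

variable {G : Type*} [Group G] [Finite G]

theorem apply_eq_one_mul {χ : G → ℂ} (hχ : Cfsg.IsCharacter G χ) {g : G} (hg : χ g = χ 1) (x : G) :
    χ (g * x) = χ x := by
  obtain ⟨n, ρ, rfl⟩ := hχ
  have h : ρ g = LinearMap.id := (character_eq_degree_iff ρ g).mp (by simpa using hg)
  simp [Representation.character, h, Module.End.mul_eq_comp]

theorem apply_mul_eq_one {χ : G → ℂ} (hχ : Cfsg.IsCharacter G χ) {g : G} (hg : χ g = χ 1) (x : G) :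
    χ (x * g) = χ x := by
  rw [char_mul_comm' hχ, apply_eq_one_mul hχ hg]

/-- The kernel of a character. -/
def charKer {χ : G → ℂ} (hχ : Cfsg.IsCharacter G χ) : Subgroup G where
  carrier := {g | χ g = χ 1}
  one_mem' := rfl
  mul_mem' := fun {a b} (ha : χ a = χ 1) (hb : χ b = χ 1) => by
    show χ (a * b) = χ 1
    rw [apply_eq_one_mul hχ ha, hb]
  inv_mem' := fun {a} (ha : χ a = χ 1) => by
    show χ a⁻¹ = χ 1
    rw [char_inv hχ, ha, char_conj_one hχ]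

theorem mem_charKer {χ : G → ℂ} {hχ : Cfsg.IsCharacter G χ} {g : G} :
    g ∈ charKer hχ ↔ χ g = χ 1 := Iff.rfl

theorem charKer_normal {χ : G → ℂ} (hχ : Cfsg.IsCharacter G χ) : (charKer hχ).Normal :=
  ⟨fun g (hg : χ g = χ 1) x => by
    show χ (x * g * x⁻¹) = χ 1
    rw [isClassFunction_of_isCharacter hχ, hg]⟩

variable (N : Subgroup G) [hN : N.Normal]

theorem isCharacter_comp_mk' {ψ : G ⧸ N → ℂ} (hψ : Cfsg.IsCharacter (G ⧸ N) ψ) :
    Cfsg.IsCharacter G (ψ ∘ QuotientGroup.mk) :=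
  isCharacter_comp hψ (QuotientGroup.mk' N)

theorem comp_mk'_const {ψ : G ⧸ N → ℂ} {n : G} (hn : n ∈ N) :
    (ψ ∘ QuotientGroup.mk) n = (ψ ∘ QuotientGroup.mk) 1 := by
  show ψ _ = ψ _
  rw [(QuotientGroup.eq_one_iff n).mpr hn, QuotientGroup.mk_one]

/-- A character with kernel containing `N` factors through `G ⧸ N`. -/
theorem exists_eq_comp_mk' {χ : G → ℂ} (hχ : Cfsg.IsCharacter G χ)
    (hker : ∀ n ∈ N, χ n = χ 1) :
    ∃ ψ : G ⧸ N → ℂ, Cfsg.IsCharacter (G ⧸ N) ψ ∧ ψ ∘ QuotientGroup.mk = χ := by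
  obtain ⟨n, ρ, rfl⟩ := hχ
  have hle : N ≤ (ρ : G →* ((Fin n → ℂ) →ₗ[ℂ] (Fin n → ℂ))).ker := fun x hx => by
    rw [MonoidHom.mem_ker]
    exact (character_eq_degree_iff ρ x).mp (by simpa using hker x hx)
  let σ : Representation ℂ (G ⧸ N) (Fin n → ℂ) := QuotientGroup.lift N ρ hle
  exact ⟨σ.character, ⟨n, σ, rfl⟩, funext fun g => rfl⟩

theorem sum_comp_mk' [Fintype G] [Fintype (G ⧸ N)] (f : G ⧸ N → ℂ) :
    ∑ g : G, f (g : G ⧸ N) = (Nat.card N : ℂ) * ∑ q : G ⧸ N, f q := by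
  classical
  rw [← Finset.sum_fiberwise (Finset.univ : Finset G) (fun g => (g : G ⧸ N))
    (fun g => f (g : G ⧸ N)), Finset.mul_sum]
  refine Finset.sum_congr rfl fun q _ => ?_
  have hfib : ∀ g ∈ Finset.univ.filter (fun g : G => (g : G ⧸ N) = q), f (g : G ⧸ N) = f q :=
    fun g hg => by rw [(Finset.mem_filter.mp hg).2]
  rw [Finset.sum_congr rfl hfib, Finset.sum_const, nsmul_eq_mul]
  congr 2
  obtain ⟨x, rfl⟩ := QuotientGroup.mk_surjective q
  rw [← Nat.card_eq_finsetCard]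
  refine Nat.card_congr
    { toFun := fun g => ⟨x⁻¹ * g.1, ?_⟩, invFun := fun n => ⟨x * n.1, ?_⟩,
      left_inv := fun g => by ext; simp, right_inv := fun n => by ext; simp }
  · exact QuotientGroup.eq.mp ((Finset.mem_filter.mp g.2).2).symm
  · simp only [Finset.mem_filter, Finset.mem_univ, true_and]
    exact (QuotientGroup.mk_mul_of_mem x n.2)

theorem classInner_comp_mk' [Fintype G] [Fintype (G ⧸ N)] (φ ψ : G ⧸ N → ℂ) :
    Cfsg.classInner (φ ∘ QuotientGroup.mk) (ψ ∘ QuotientGroup.mk) = Cfsg.classInner φ ψ := by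
  rw [classInner_def, classInner_def]
  simp only [Function.comp_apply]
  rw [sum_comp_mk' N (fun q => φ q * conj (ψ q)), ← mul_assoc]
  congr 1
  rw [Subgroup.card_eq_card_quotient_mul_card_subgroup N, Nat.cast_mul, mul_inv,
    mul_assoc, inv_mul_cancel₀ (by exact_mod_cast (Nat.card_pos (α := N)).ne'), mul_one]

theorem isIrr_comp_mk'_iff {ψ : G ⧸ N → ℂ} (hψ : Cfsg.IsCharacter (G ⧸ N) ψ) :
    Cfsg.IsIrrCharacter G (ψ ∘ QuotientGroup.mk) ↔ Cfsg.IsIrrCharacter (G ⧸ N) ψ := by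
  have := Fintype.ofFinite G
  have := Fintype.ofFinite (G ⧸ N)
  constructor
  · intro h
    refine irr_of_norm_one hψ ?_
    rw [← classInner_comp_mk' N, classInner_irr_self h]
  · intro h
    refine irr_of_norm_one (isCharacter_comp_mk' N hψ) ?_
    rw [classInner_comp_mk' N, classInner_irr_self h]

theorem isIrr_comp_mk' {ψ : G ⧸ N → ℂ} (hψ : Cfsg.IsIrrCharacter (G ⧸ N) ψ) :
    Cfsg.IsIrrCharacter G (ψ ∘ QuotientGroup.mk) :=
  (isIrr_comp_mk'_iff N (isCharacter_of_isIrr hψ)).mpr hψ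

theorem exists_irr_eq_comp_mk' {χ : G → ℂ} (hχ : Cfsg.IsIrrCharacter G χ)
    (hker : ∀ n ∈ N, χ n = χ 1) :
    ∃ ψ : G ⧸ N → ℂ, Cfsg.IsIrrCharacter (G ⧸ N) ψ ∧ ψ ∘ QuotientGroup.mk = χ := by
  obtain ⟨ψ, hψ, rfl⟩ := exists_eq_comp_mk' N (isCharacter_of_isIrr hχ) hker
  exact ⟨ψ, (isIrr_comp_mk'_iff N hψ).mp hχ, rfl⟩

/-- Inflation as a bijection. -/
noncomputable def inflEquiv : Cfsg.IrrCharacter (G ⧸ N) ≃
    {χ : Cfsg.IrrCharacter G // ∀ n ∈ N, (χ : G → ℂ) n = (χ : G → ℂ) 1} :=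
  Equiv.ofBijective (fun ψ => ⟨⟨(ψ : G ⧸ N → ℂ) ∘ QuotientGroup.mk, isIrr_comp_mk' N ψ.2⟩,
      fun _ hn => comp_mk'_const N hn⟩) <| by
    constructor
    · intro ψ₁ ψ₂ h
      have h' : (ψ₁ : G ⧸ N → ℂ) ∘ QuotientGroup.mk = (ψ₂ : G ⧸ N → ℂ) ∘ QuotientGroup.mk :=
        congrArg (fun χ => (χ.1 : G → ℂ)) h
      exact Subtype.ext (QuotientGroup.mk_surjective.injective_comp_right h')
    · rintro ⟨χ, hχ⟩
      obtain ⟨ψ, hψ, he⟩ := exists_irr_eq_comp_mk' N χ.2 hχ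
      exact ⟨⟨ψ, hψ⟩, Subtype.ext (Subtype.ext he)⟩

theorem inflEquiv_apply (ψ : Cfsg.IrrCharacter (G ⧸ N)) (g : G) :
    ((inflEquiv N ψ).1 : G → ℂ) g = (ψ : G ⧸ N → ℂ) g := rfl

theorem conjFun_const (g : G) (c : ℂ) : conjFun N g (fun _ => c) = fun _ => c := rfl

/-- If the principal character is a constituent of the restriction to a normal subgroup, that
subgroup lies in the kernel. -/
theorem res_eq_degree_of_constituent_one [Fintype G] [Fintype N] {χ : G → ℂ}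
    (hχ : Cfsg.IsIrrCharacter G χ)
    (h0 : Cfsg.classInner (fun n : N => χ n) (fun _ => (1 : ℂ)) ≠ 0) :
    ∀ n ∈ N, χ n = χ 1 := by
  intro n hn
  have h := res_eq_smul_of_invariant N hχ isIrrCharacter_one (fun g => rfl) h0
  have h1 := congrFun h ⟨n, hn⟩
  have h2 := congrFun h 1
  simp only [Pi.smul_apply, smul_eq_mul, OneMemClass.coe_one] at h1 h2
  rw [h1, h2]

end CfsgLib.CharNormal
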