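import Cfsg.Agent.Lib.CharNormal.Basic

/-!
# Clifford theory

For a normal subgroup `N` of `G`:
* `conjFun N g θ = fun n => θ (g n g⁻¹)`, a right action on functions of `N`;
* `exists_conj_of_constituents`: two constituents of a restricted irreducible are conjugate;
* `res_eq_smul_sum_orbit`, `degree_eq_mul_card_orbit`: Clifford's theorem;
* `inertia`, `card_orbit_eq_index`, `card_orbit_dvd_index`;
* `exists_irr_over`: every irreducible of `N` lies under an irreducible of `G`.
-/

namespace CfsgLib.CharNormal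

open CfsgLib.Char
open scoped ComplexConjugate

variable {G : Type*} [Group G] (N : Subgroup G) [hN : N.Normal]

/-- The conjugate `n ↦ θ (g n g⁻¹)` of a function on a normal subgroup. -/
def conjFun (g : G) (θ : N → ℂ) : N → ℂ := fun n => θ ⟨g * n * g⁻¹, hN.conj_mem n n.2 g⟩

theorem conjFun_apply (g : G) (θ : N → ℂ) (n : N) :
    conjFun N g θ n = θ ⟨g * n * g⁻¹, hN.conj_mem n n.2 g⟩ := rfl

theorem conjFun_eq_comp (g : G) (θ : N → ℂ) :
    conjFun N g θ = θ ∘ (MulAut.conjNormal g : MulAut N) := by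
  funext n
  exact congrArg θ (Subtype.ext (MulAut.conjNormal_apply g n).symm)

theorem conjFun_one (θ : N → ℂ) : conjFun N 1 θ = θ := by
  funext n; exact congrArg θ (Subtype.ext (by simp))

theorem conjFun_conjFun (g h : G) (θ : N → ℂ) :
    conjFun N g (conjFun N h θ) = conjFun N (h * g) θ := by
  funext n; exact congrArg θ (Subtype.ext (by simp [mul_assoc]))

theorem conjFun_inv_conjFun (g : G) (θ : N → ℂ) : conjFun N g⁻¹ (conjFun N g θ) = θ := by
  rw [conjFun_conjFun, mul_inv_cancel, conjFun_one]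

theorem conjFun_conjFun_inv (g : G) (θ : N → ℂ) : conjFun N g (conjFun N g⁻¹ θ) = θ := by
  rw [conjFun_conjFun, inv_mul_cancel, conjFun_one]

theorem conjFun_injective (g : G) : Function.Injective (conjFun N g) :=
  Function.LeftInverse.injective (conjFun_inv_conjFun N g)

theorem conjFun_res {χ : G → ℂ} (hχ : Cfsg.IsClassFunction G χ) (g : G) :
    conjFun N g (fun n : N => χ n) = fun n : N => χ n :=
  funext fun n => hχ n g

theorem conjFun_smul (g : G) (c : ℂ) (θ : N → ℂ) :
    conjFun N g (c • θ) = c • conjFun N g θ := rfl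

theorem conjFun_sum (g : G) {ι : Type*} (s : Finset ι) (f : ι → N → ℂ) :
    conjFun N g (∑ i ∈ s, f i) = ∑ i ∈ s, conjFun N g (f i) := by
  funext n; simp [conjFun]

theorem conjFun_of_mem {θ : N → ℂ} (hθ : Cfsg.IsClassFunction N θ) {g : G} (hg : g ∈ N) :
    conjFun N g θ = θ :=
  funext fun n => hθ n ⟨g, hg⟩

/-- The inertia subgroup of a function on `N`. -/
def inertia (θ : N → ℂ) : Subgroup G where
  carrier := {g | conjFun N g θ = θ}
  one_mem' := conjFun_one N θ
  mul_mem' := fun {a b} (ha : conjFun N a θ = θ) (hb : conjFun N b θ = θ) => by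
    show conjFun N (a * b) θ = θ
    rw [← conjFun_conjFun, ha, hb]
  inv_mem' := fun {a} (ha : conjFun N a θ = θ) => by
    show conjFun N a⁻¹ θ = θ
    conv_lhs => rw [← ha]
    exact conjFun_inv_conjFun N a θ

theorem mem_inertia {θ : N → ℂ} {g : G} : g ∈ inertia N θ ↔ conjFun N g θ = θ := Iff.rfl

theorem le_inertia {θ : N → ℂ} (hθ : Cfsg.IsClassFunction N θ) : N ≤ inertia N θ :=
  fun _ hg => conjFun_of_mem N hθ hg

variable [Fintype N]

theorem classInner_conjFun (g : G) (θ φ : N → ℂ) :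
    Cfsg.classInner (conjFun N g θ) (conjFun N g φ) = Cfsg.classInner θ φ := by
  rw [conjFun_eq_comp, conjFun_eq_comp, classInner_comp_mulEquiv]

theorem isCharacter_conjFun {θ : N → ℂ} (hθ : Cfsg.IsCharacter N θ) (g : G) :
    Cfsg.IsCharacter N (conjFun N g θ) := by
  rw [conjFun_eq_comp]; exact isCharacter_comp_mulEquiv hθ _

theorem isIrr_conjFun {θ : N → ℂ} (hθ : Cfsg.IsIrrCharacter N θ) (g : G) :
    Cfsg.IsIrrCharacter N (conjFun N g θ) := by
  rw [conjFun_eq_comp]; exact isIrr_comp_mulEquiv hθ _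

/-- The conjugate of an irreducible character, as an irreducible character. -/
def conjIrr (g : G) (θ : Cfsg.IrrCharacter N) : Cfsg.IrrCharacter N :=
  ⟨conjFun N g θ, isIrr_conjFun N θ.2 g⟩

theorem conjIrr_coe (g : G) (θ : Cfsg.IrrCharacter N) :
    (conjIrr N g θ : N → ℂ) = conjFun N g θ := rfl

theorem classInner_res_conjFun {χ : G → ℂ} (hχ : Cfsg.IsClassFunction G χ) (g : G) (θ : N → ℂ) :
    Cfsg.classInner (fun n : N => χ n) (conjFun N g θ) =
      Cfsg.classInner (fun n : N => χ n) θ := by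
  conv_lhs => rw [← conjFun_res N hχ g]
  exact classInner_conjFun N g _ θ

variable [Fintype G]

/-- The finite set of `G`-conjugates of an irreducible character of `N`. -/
noncomputable def orbit (θ : Cfsg.IrrCharacter N) : Finset (Cfsg.IrrCharacter N) :=
  haveI := Classical.decEq (Cfsg.IrrCharacter N)
  Finset.univ.image fun g : G => conjIrr N g θ

theorem mem_orbit {θ φ : Cfsg.IrrCharacter N} :
    φ ∈ orbit N θ ↔ ∃ g : G, conjFun N g θ = (φ : N → ℂ) := by
  simp [orbit, Subtype.ext_iff, conjIrr_coe]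

theorem self_mem_orbit (θ : Cfsg.IrrCharacter N) : θ ∈ orbit N θ :=
  (mem_orbit N).mpr ⟨1, conjFun_one N _⟩

/-- Two constituents of the restriction of an irreducible character are conjugate. -/
theorem exists_conj_of_constituents {χ : G → ℂ} (hχ : Cfsg.IsIrrCharacter G χ) {θ φ : N → ℂ}
    (hθ : Cfsg.IsIrrCharacter N θ) (hφ : Cfsg.IsIrrCharacter N φ)
    (h₁ : Cfsg.classInner (fun n : N => χ n) θ ≠ 0)
    (h₂ : Cfsg.classInner (fun n : N => χ n) φ ≠ 0) :
    ∃ g : G, conjFun N g θ = φ := by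
  classical
  by_contra hne
  set r : N → ℂ := fun n => χ n with hr
  have hrc : Cfsg.IsCharacter N r := isCharacter_res N (isCharacter_of_isIrr hχ)
  obtain ⟨a, hadec, ha⟩ := char_decomp hrc
  set O := orbit N ⟨θ, hθ⟩ with hO
  have hφO : (⟨φ, hφ⟩ : Cfsg.IrrCharacter N) ∉ O := fun h =>
    hne ((mem_orbit N).mp h)
  -- the orbit part of the restriction
  set f : N → ℂ := ∑ ψ ∈ O, (a ψ : ℂ) • (ψ : N → ℂ) with hf
  have hfc : Cfsg.IsClassFunction N f :=
    isClassFunction_sum _ fun ψ _ => isClassFunction_smul (isClassFunction_of_isIrr ψ.2) _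
  have hfinv : ∀ g : G, conjFun N g f = f := by
    intro g
    rw [hf, conjFun_sum]
    refine Finset.sum_bij (fun ψ _ => conjIrr N g ψ) ?_ ?_ ?_ ?_
    · intro ψ hψ
      obtain ⟨h, hh⟩ := (mem_orbit N).mp hψ
      exact (mem_orbit N).mpr ⟨h * g, by rw [conjIrr_coe, ← hh, conjFun_conjFun]⟩
    · intro ψ₁ _ ψ₂ _ he
      exact Subtype.ext (conjFun_injective N g (congrArg Subtype.val he))
    · intro ψ hψ
      refine ⟨conjIrr N g⁻¹ ψ, ?_, Subtype.ext (conjFun_conjFun_inv N g _)⟩
      obtain ⟨h, hh⟩ := (mem_orbit N).mp hψ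
      exact (mem_orbit N).mpr ⟨h * g⁻¹, by rw [conjIrr_coe, ← hh, conjFun_conjFun]⟩
    · intro ψ _
      rw [conjFun_smul, conjIrr_coe]
      congr 1
      have := (ha (conjIrr N g ψ)).symm.trans
        ((classInner_res_conjFun N (isClassFunction_of_isIrr hχ) g _).trans (ha ψ))
      rw [this]
  -- extended by zero to `G`
  let F : G → ℂ := fun x => if h : x ∈ N then conj (f ⟨x, h⟩) else 0
  have hF : Cfsg.IsClassFunction G F := by
    intro x c
    simp only [F]
    by_cases h : x ∈ N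
    · rw [dif_pos h, dif_pos (hN.conj_mem x h c)]
      exact congrArg conj (congrFun (hfinv c) ⟨x, h⟩)
    · rw [dif_neg h, dif_neg]
      intro h'
      exact h (by simpa [mul_assoc] using hN.conj_mem _ h' c⁻¹)
  have hsum : ∀ m : G, ∑ x : G, F x * χ (m * x) = ∑ n : N, conj (f n) * χ (m * n) := by
    intro m
    rw [← Finset.sum_subset (Finset.subset_univ (Finset.univ.filter (· ∈ N)))
      (fun x _ hx => by simp [F, (by simpa using hx : x ∉ N)])]
    rw [Finset.sum_subtype (p := fun x => x ∈ N) _ (fun x => by simp)]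
    exact Finset.sum_congr rfl fun n _ => by simp [F]
  have hsum1 : ∑ x : G, F x * χ x = ∑ n : N, conj (f n) * r n := by simpa using hsum 1
  -- inner products with `f`
  have hin : ∀ ψ : Cfsg.IrrCharacter N,
      ∑ n : N, conj (f n) * (ψ : N → ℂ) n = if ψ ∈ O then (Nat.card N : ℂ) * a ψ else 0 := by
    intro ψ
    have : ∑ n : N, conj (f n) * (ψ : N → ℂ) n = (Nat.card N : ℂ) * Cfsg.classInner (ψ : N → ℂ) f := by
      rw [card_mul_classInner]; exact Finset.sum_congr rfl fun g _ => mul_comm _ _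
    rw [this, hf, classInner_sum_right]
    simp only [classInner_smul_right, map_natCast, classInner_irrCharacter, mul_ite, mul_one,
      mul_zero, Finset.sum_ite_eq]
  set c : ℂ := (∑ x : G, F x * χ x) / χ 1 with hc
  have hc0 : c ≠ 0 := by
    rw [hc, hsum1]
    refine div_ne_zero ?_ (irr_one_ne_zero hχ)
    have : ∑ n : N, conj (f n) * r n = (Nat.card N : ℂ) * ((∑ ψ ∈ O, a ψ * a ψ : ℕ) : ℂ) := by
      have hr2 : ∀ n, r n = ∑ ψ : Cfsg.IrrCharacter N, (a ψ : ℂ) * (ψ : N → ℂ) n := fun n => by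
        simpa [Finset.sum_apply] using congrFun hadec n
      simp only [hr2, Finset.mul_sum]
      rw [Finset.sum_comm]
      calc _ = ∑ ψ : Cfsg.IrrCharacter N, (a ψ : ℂ) * ∑ n : N, conj (f n) * (ψ : N → ℂ) n :=
            Finset.sum_congr rfl fun ψ _ => by
              rw [Finset.mul_sum]; exact Finset.sum_congr rfl fun n _ => by ring
        _ = _ := by
          simp only [hin, mul_ite, mul_zero, Finset.sum_ite_mem, Finset.univ_inter]
          push_cast
          rw [Finset.mul_sum]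
          exact Finset.sum_congr rfl fun ψ _ => by ring
    rw [this]
    refine mul_ne_zero card_ne_zero' (Nat.cast_ne_zero.mpr ?_)
    intro h0
    have := (Finset.sum_eq_zero_iff.mp h0) ⟨θ, hθ⟩ (self_mem_orbit N _)
    have h3 : a ⟨θ, hθ⟩ = 0 := by simpa using this
    exact h₁ (by rw [ha ⟨θ, hθ⟩, h3]; simp)
  -- Schur: the restriction is supported on the orbit
  have key : (fun n : N => c * r n) = ∑ ψ : Cfsg.IrrCharacter N,
      ((a ψ : ℂ) * ((∑ n : N, conj (f n) * (ψ : N → ℂ) n) / (ψ : N → ℂ) 1)) • (ψ : N → ℂ) := by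
    funext m
    rw [Finset.sum_apply]
    have h := sum_classFun_mul_apply_mul hχ hF (m : G)
    rw [hsum] at h
    show c * χ m = _
    rw [← h]
    have hr2 : ∀ n : N, χ ((m : G) * n) =
        ∑ ψ : Cfsg.IrrCharacter N, (a ψ : ℂ) * (ψ : N → ℂ) (m * n) := fun n => by
      simpa [Finset.sum_apply, r] using congrFun hadec (m * n)
    simp only [hr2, Finset.mul_sum]
    rw [Finset.sum_comm]
    refine Finset.sum_congr rfl fun ψ _ => ?_
    have h2 := sum_classFun_mul_apply_mul ψ.2 (isClassFunction_conj hfc) m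
    rw [Pi.smul_apply, smul_eq_mul, mul_assoc, ← h2, Finset.mul_sum]
    exact Finset.sum_congr rfl fun n _ => by ring
  have h3 := congrArg (innerₗ φ) key
  rw [innerₗ_apply, map_sum] at h3
  simp only [innerₗ_apply, classInner_smul_left] at h3
  rw [Finset.sum_eq_single (⟨φ, hφ⟩ : Cfsg.IrrCharacter N)
    (fun ψ _ hne => by rw [classInner_irr_ne ψ.2 hφ fun e => hne (Subtype.ext e), mul_zero])
    (by simp), hin, if_neg hφO] at h3
  have h4 : Cfsg.classInner (fun n : N => c * r n) φ = c * Cfsg.classInner r φ :=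
    classInner_smul_left (φ := r) (ψ := φ) c
  rw [h4] at h3
  exact mul_ne_zero hc0 h₂ (by simpa using h3)

/-- Clifford's theorem. -/
theorem res_eq_smul_sum_orbit {χ : G → ℂ} (hχ : Cfsg.IsIrrCharacter G χ)
    (θ : Cfsg.IrrCharacter N) (hθ : Cfsg.classInner (fun n : N => χ n) (θ : N → ℂ) ≠ 0) :
    (fun n : N => χ n) =
      Cfsg.classInner (fun n : N => χ n) (θ : N → ℂ) • ∑ ψ ∈ orbit N θ, (ψ : N → ℂ) := by
  classical
  have hrc : Cfsg.IsCharacter N (fun n : N => χ n) := isCharacter_res N (isCharacter_of_isIrr hχ)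
  conv_lhs => rw [classFun_eq_sum (isClassFunction_of_isCharacter hrc)]
  rw [Finset.smul_sum, ← Finset.sum_subset (Finset.subset_univ (orbit N θ))]
  · refine Finset.sum_congr rfl fun ψ hψ => ?_
    obtain ⟨g, hg⟩ := (mem_orbit N).mp hψ
    rw [← hg, classInner_res_conjFun N (isClassFunction_of_isIrr hχ)]
  · intro ψ _ hψ
    have : Cfsg.classInner (fun n : N => χ n) (ψ : N → ℂ) = 0 := by
      by_contra hne
      exact hψ ((mem_orbit N).mpr (exists_conj_of_constituents N hχ θ.2 ψ.2 hθ hne))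
    rw [this, zero_smul]

theorem conjFun_apply_one (g : G) (θ : N → ℂ) : conjFun N g θ 1 = θ 1 :=
  congrArg θ (Subtype.ext (by simp))

theorem degree_eq_mul_card_orbit {χ : G → ℂ} (hχ : Cfsg.IsIrrCharacter G χ)
    (θ : Cfsg.IrrCharacter N) (hθ : Cfsg.classInner (fun n : N => χ n) (θ : N → ℂ) ≠ 0) :
    χ 1 = Cfsg.classInner (fun n : N => χ n) (θ : N → ℂ) * (orbit N θ).card * (θ : N → ℂ) 1 := by
  have h := congrFun (res_eq_smul_sum_orbit N hχ θ hθ) 1
  simp only [OneMemClass.coe_one, Pi.smul_apply, Finset.sum_apply, smul_eq_mul] at h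
  have h2 : ∀ ψ ∈ orbit N θ, (ψ : N → ℂ) 1 = (θ : N → ℂ) 1 := fun ψ hψ => by
    obtain ⟨g, hg⟩ := (mem_orbit N).mp hψ
    rw [← hg, conjFun_apply_one]
  rw [h, Finset.sum_congr rfl h2]
  simp [mul_assoc]

/-- An invariant character has a one-point orbit. -/
theorem orbit_eq_singleton {θ : Cfsg.IrrCharacter N}
    (h : ∀ g : G, conjFun N g θ = (θ : N → ℂ)) : orbit N θ = {θ} := by
  ext ψ
  rw [mem_orbit, Finset.mem_singleton]
  constructor
  · rintro ⟨g, hg⟩
    exact Subtype.ext (hg.symm.trans (h g))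
  · rintro rfl
    exact ⟨1, h 1⟩

theorem res_eq_smul_of_invariant {χ : G → ℂ} (hχ : Cfsg.IsIrrCharacter G χ) {θ : N → ℂ}
    (hθ : Cfsg.IsIrrCharacter N θ) (hinv : ∀ g : G, conjFun N g θ = θ)
    (h0 : Cfsg.classInner (fun n : N => χ n) θ ≠ 0) :
    (fun n : N => χ n) = Cfsg.classInner (fun n : N => χ n) θ • θ := by
  have := res_eq_smul_sum_orbit N hχ ⟨θ, hθ⟩ h0
  rwa [orbit_eq_singleton N (θ := ⟨θ, hθ⟩) hinv, Finset.sum_singleton] at this

/-- The number of conjugates is the index of the inertia subgroup. -/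
theorem card_orbit_eq_index (θ : Cfsg.IrrCharacter N) :
    (orbit N θ).card = (inertia N (θ : N → ℂ)).index := by
  classical
  rw [Subgroup.index, ← Nat.card_eq_finsetCard]
  refine (Nat.card_eq_of_bijective (fun q : G ⧸ inertia N (θ : N → ℂ) =>
    (⟨conjIrr N (Quotient.out q)⁻¹ θ, (mem_orbit N).mpr ⟨_, rfl⟩⟩ :
      {ψ // ψ ∈ orbit N θ})) ⟨?_, ?_⟩).symm
  · intro q₁ q₂ h
    have h1 := congrArg (fun ψ : {ψ // ψ ∈ orbit N θ} => (ψ.1 : N → ℂ)) h
    simp only [conjIrr_coe] at h1
    have h2 := congrArg (conjFun N (Quotient.out q₂)) h1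
    rw [conjFun_conjFun_inv, conjFun_conjFun] at h2
    rw [← QuotientGroup.out_eq' q₁, ← QuotientGroup.out_eq' q₂, QuotientGroup.eq]
    exact (mem_inertia N).mpr h2
  · rintro ⟨ψ, hψ⟩
    obtain ⟨g, hg⟩ := (mem_orbit N).mp hψ
    refine ⟨(g⁻¹ : G), Subtype.ext (Subtype.ext ?_)⟩
    show conjFun N _ _ = _
    have hmem : g * Quotient.out ((g⁻¹ : G) : G ⧸ inertia N (θ : N → ℂ)) ∈
        inertia N (θ : N → ℂ) := by
      have := QuotientGroup.eq.mp
        (QuotientGroup.out_eq' ((g⁻¹ : G) : G ⧸ inertia N (θ : N → ℂ))).symm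
      simpa using this
    rw [← hg]
    set o := Quotient.out ((g⁻¹ : G) : G ⧸ inertia N (θ : N → ℂ)) with ho
    calc conjFun N o⁻¹ (θ : N → ℂ)
        = conjFun N o⁻¹ (conjFun N (g * o) (θ : N → ℂ)) := by rw [(mem_inertia N).mp hmem]
      _ = conjFun N g (θ : N → ℂ) := by rw [conjFun_conjFun, mul_inv_cancel_right]

theorem card_orbit_dvd_index (θ : Cfsg.IrrCharacter N) : (orbit N θ).card ∣ N.index := by
  rw [card_orbit_eq_index]
  exact Subgroup.index_dvd_of_le (le_inertia N (isClassFunction_of_isIrr θ.2))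

/-- The multiplicities of `θ` in the restrictions, weighted by degree, add up to `[G:N] θ(1)`. -/
theorem sum_degree_mul_classInner_res {θ : N → ℂ} (hθ : Cfsg.IsIrrCharacter N θ) :
    ∑ χ : Cfsg.IrrCharacter G,
        (χ : G → ℂ) 1 * Cfsg.classInner (fun n : N => (χ : G → ℂ) n) θ =
      (N.index : ℂ) * θ 1 := by
  classical
  have hterm : ∀ χ : Cfsg.IrrCharacter G,
      (χ : G → ℂ) 1 * Cfsg.classInner (fun n : N => (χ : G → ℂ) n) θ =
      (Nat.card N : ℂ)⁻¹ * ∑ n : N, ((χ : G → ℂ) 1 * (χ : G → ℂ) n) * conj (θ n) := by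
    intro χ
    rw [classInner_def, Finset.mul_sum, Finset.mul_sum, Finset.mul_sum]
    exact Finset.sum_congr rfl fun n _ => by ring
  rw [Finset.sum_congr rfl fun χ _ => hterm χ, ← Finset.mul_sum, Finset.sum_comm]
  simp only [← Finset.sum_mul, sum_degree_mul_apply]
  rw [Finset.sum_eq_single (1 : N) (fun n _ hn => by
    rw [if_neg (fun h : (n : G) = 1 => hn (Subtype.ext h)), zero_mul]) (by simp), if_pos (OneMemClass.coe_one N),
    char_conj_one (isCharacter_of_isIrr hθ), ← N.index_mul_card]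
  push_cast
  field_simp

theorem exists_irr_over {θ : N → ℂ} (hθ : Cfsg.IsIrrCharacter N θ) :
    ∃ χ : Cfsg.IrrCharacter G, Cfsg.classInner (fun n : N => (χ : G → ℂ) n) θ ≠ 0 := by
  by_contra h
  push Not at h
  have := sum_degree_mul_classInner_res N hθ
  rw [Finset.sum_congr rfl fun χ _ => by rw [h χ, mul_zero], Finset.sum_const_zero] at this
  exact mul_ne_zero (Nat.cast_ne_zero.mpr Subgroup.index_ne_zero_of_finite)
    (irr_one_ne_zero hθ) this.symm

end CfsgLib.CharNormal
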