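import Cfsg.Agent.Lib.CharNormal.Basic
import Mathlib.FieldTheory.IsAlgClosed.Classification
import Mathlib.FieldTheory.Minpoly.IsConjRoot
import Mathlib.RingTheory.Polynomial.Cyclotomic.Roots
import Mathlib.RingTheory.AlgebraicIndependent.TranscendenceBasis

/-!
# Galois action on characters

* `exists_ringEquiv_extend`: an automorphism of a subfield of `ℂ` extends to `ℂ`;
* `exists_ringEquiv_root_pow`: for `k` prime to `n` some automorphism of `ℂ` is `z ↦ z ^ k` on the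
  `n`-th roots of unity;
* `isCharacter_ringEquiv`, `isIrr_ringEquiv`, `galIrr`: automorphisms of `ℂ` permute `Irr G`;
* `ringEquiv_char_apply`: `σ (χ g) = χ (g ^ k)`;
* `exists_int_of_forall_coprime`: a value fixed by all these is a rational integer.
-/

namespace CfsgLib.CharNormal

open Polynomial CfsgLib.Char
open scoped ComplexConjugate

/-- An automorphism of a subfield of `ℂ` extends to an automorphism of `ℂ`. -/
theorem exists_ringEquiv_extend {L : Type*} [Field L] [Algebra L ℂ] (τ : L ≃+* L) :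
    ∃ σ : ℂ ≃+* ℂ, ∀ x : L, σ (algebraMap L ℂ x) = algebraMap L ℂ (τ x) := by
  obtain ⟨ι, v, hv⟩ := exists_isTranscendenceBasis' L ℂ
  letI := IsAlgClosed.isAlgClosure_of_transcendence_basis v hv
  let e : Algebra.adjoin L (Set.range v) ≃+* Algebra.adjoin L (Set.range v) :=
    hv.1.aevalEquiv.symm.toRingEquiv.trans
      ((MvPolynomial.mapEquiv ι τ).trans hv.1.aevalEquiv.toRingEquiv)
  refine ⟨IsAlgClosure.equivOfEquiv ℂ ℂ e, fun x => ?_⟩
  rw [IsScalarTower.algebraMap_apply L (Algebra.adjoin L (Set.range v)) ℂ x,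
    IsAlgClosure.equivOfEquiv_algebraMap,
    IsScalarTower.algebraMap_apply L (Algebra.adjoin L (Set.range v)) ℂ (τ x)]
  congr 1
  show hv.1.aevalEquiv (MvPolynomial.map (τ : L →+* L)
    (hv.1.aevalEquiv.symm (algebraMap L _ x))) = _
  rw [AlgEquiv.commutes, MvPolynomial.algebraMap_eq, MvPolynomial.map_C,
    ← MvPolynomial.algebraMap_eq, AlgEquiv.commutes]
  rfl

/-- For `k` prime to `n` there is an automorphism of `ℂ` raising `n`-th roots of unity to the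
`k`-th power. -/
theorem exists_ringEquiv_root_pow {n k : ℕ} (hn : n ≠ 0) (hk : k.Coprime n) :
    ∃ σ : ℂ ≃+* ℂ, ∀ z : ℂ, z ^ n = 1 → σ z = z ^ k := by
  have hζ : IsPrimitiveRoot (Complex.exp (2 * Real.pi * Complex.I / n)) n :=
    Complex.isPrimitiveRoot_exp n hn
  set ζ := Complex.exp (2 * Real.pi * Complex.I / n)
  let L : IntermediateField ℚ ℂ := algebraicClosure ℚ ℂ
  haveI hL : IsAlgClosure ℚ L := algebraicClosure.isAlgClosure ℚ ℂ
  haveI : Normal ℚ L := IsAlgClosure.normal ℚ L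
  haveI : Algebra.IsSeparable ℚ L := IsAlgClosure.separable ℚ L
  have hmem : ζ ∈ L := (mem_algebraicClosure_iff' ..).mpr
    ((hζ.isIntegral hn.bot_lt).tower_top)
  let ζ' : L := ⟨ζ, hmem⟩
  have hζ' : IsPrimitiveRoot ζ' n := by
    rw [← IsPrimitiveRoot.map_iff_of_injective (f := L.val) L.val.injective]
    exact hζ
  have hconj : IsConjRoot ℚ (ζ' ^ k) ζ' := by
    rw [isConjRoot_def, ← cyclotomic_eq_minpoly_rat (hζ'.pow_of_coprime k hk) hn.bot_lt,
      ← cyclotomic_eq_minpoly_rat hζ' hn.bot_lt]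
  obtain ⟨τ, hτ⟩ := hconj.exists_algEquiv
  obtain ⟨σ, hσ⟩ := exists_ringEquiv_extend τ.toRingEquiv
  refine ⟨σ, fun z hz => ?_⟩
  have hσζ : σ ζ = ζ ^ k := (hσ ζ').trans (congrArg (fun x : L => (x : ℂ)) hτ)
  have : NeZero n := ⟨hn⟩
  obtain ⟨i, -, rfl⟩ := hζ.eq_pow_of_pow_eq_one hz
  rw [map_pow, hσζ, ← pow_mul, ← pow_mul, mul_comm]

variable {G : Type*} [Group G]

theorem isCharacter_ringEquiv (σ : ℂ ≃+* ℂ) {χ : G → ℂ} (hχ : Cfsg.IsCharacter G χ) :
    Cfsg.IsCharacter G (σ ∘ χ) := by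
  obtain ⟨d, ρ, rfl⟩ := hχ
  let ρ' : Representation ℂ G (Fin d → ℂ) :=
    (Matrix.toLinAlgEquiv' : Matrix (Fin d) (Fin d) ℂ ≃ₐ[ℂ] _).toRingEquiv.toMonoidHom.comp
      ((σ : ℂ →+* ℂ).mapMatrix.toMonoidHom.comp
        ((LinearMap.toMatrixAlgEquiv' : _ ≃ₐ[ℂ] Matrix (Fin d) (Fin d) ℂ).toRingEquiv.toMonoidHom.comp
          ρ))
  refine ⟨d, ρ', funext fun g => ?_⟩
  refine Eq.symm ?_
  show σ (LinearMap.trace ℂ _ (ρ g)) = LinearMap.trace ℂ _ (ρ' g)
  rw [LinearMap.trace_eq_matrix_trace ℂ (Pi.basisFun ℂ (Fin d)) (ρ g),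
    LinearMap.trace_eq_matrix_trace ℂ (Pi.basisFun ℂ (Fin d)) (ρ' g)]
  rw [LinearMap.toMatrix_eq_toMatrix']
  show σ (Matrix.trace (LinearMap.toMatrix' (ρ g))) =
    Matrix.trace (LinearMap.toMatrix' (Matrix.toLin' ((LinearMap.toMatrix' (ρ g)).map σ)))
  rw [LinearMap.toMatrix'_toLin', Matrix.trace, Matrix.trace, map_sum]
  rfl

theorem classInner_ringEquiv [Fintype G] (σ : ℂ ≃+* ℂ) (φ : G → ℂ) {ψ : G → ℂ}
    (hψ : Cfsg.IsCharacter G ψ) :
    Cfsg.classInner (σ ∘ φ) (σ ∘ ψ) = σ (Cfsg.classInner φ ψ) := by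
  simp only [classInner_def, Function.comp_apply, map_mul, map_inv₀, map_natCast, map_sum]
  congr 1
  refine Finset.sum_congr rfl fun g _ => ?_
  congr 1
  refine ((char_inv (isCharacter_ringEquiv σ hψ) g).symm.trans ?_)
  rw [Function.comp_apply, char_inv hψ]

theorem isIrr_ringEquiv [Finite G] (σ : ℂ ≃+* ℂ) {χ : G → ℂ} (hχ : Cfsg.IsIrrCharacter G χ) :
    Cfsg.IsIrrCharacter G (σ ∘ χ) := by
  have := Fintype.ofFinite G
  refine irr_of_norm_one (isCharacter_ringEquiv σ (isCharacter_of_isIrr hχ)) ?_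
  rw [classInner_ringEquiv σ χ (isCharacter_of_isIrr hχ), classInner_irr_self hχ, map_one]

/-- An automorphism of `ℂ` permutes the irreducible characters. -/
noncomputable def galIrr [Finite G] (σ : ℂ ≃+* ℂ) :
    Cfsg.IrrCharacter G ≃ Cfsg.IrrCharacter G where
  toFun χ := ⟨σ ∘ (χ : G → ℂ), isIrr_ringEquiv σ χ.2⟩
  invFun χ := ⟨σ.symm ∘ (χ : G → ℂ), isIrr_ringEquiv σ.symm χ.2⟩
  left_inv χ := Subtype.ext (funext fun g => σ.symm_apply_apply _)
  right_inv χ := Subtype.ext (funext fun g => σ.apply_symm_apply _)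

theorem galIrr_apply [Finite G] (σ : ℂ ≃+* ℂ) (χ : Cfsg.IrrCharacter G) (g : G) :
    (galIrr σ χ : G → ℂ) g = σ ((χ : G → ℂ) g) := rfl

theorem ringEquiv_char_apply [Finite G] {σ : ℂ ≃+* ℂ} {n k : ℕ}
    (hσ : ∀ z : ℂ, z ^ n = 1 → σ z = z ^ k) {χ : G → ℂ} (hχ : Cfsg.IsCharacter G χ) {g : G}
    (hg : orderOf g ∣ n) : σ (χ g) = χ (g ^ k) := by
  obtain ⟨d, ρ, rfl⟩ := hχ
  obtain ⟨z, hz, hsum⟩ := exists_roots_char_pow ρ g
  have h1 := hsum 1
  rw [pow_one] at h1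
  rw [h1, hsum k, map_sum]
  obtain ⟨m, rfl⟩ := hg
  exact Finset.sum_congr rfl fun i _ => by
    rw [pow_one, hσ _ (by rw [pow_mul, hz i, one_pow])]

/-- A character value fixed under all Galois conjugations is a rational integer. -/
theorem exists_int_of_forall_coprime [Finite G] {χ : G → ℂ} (hχ : Cfsg.IsCharacter G χ) (g : G)
    (h : ∀ k : ℕ, k.Coprime (orderOf g) → χ (g ^ k) = χ g) : ∃ m : ℤ, χ g = m := by
  set n := orderOf g with hn
  have hint : IsIntegral ℤ (χ g) := char_isIntegral hχ g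
  let L : IntermediateField ℚ ℂ := algebraicClosure ℚ ℂ
  haveI hL : IsAlgClosure ℚ L := algebraicClosure.isAlgClosure ℚ ℂ
  haveI : Normal ℚ L := IsAlgClosure.normal ℚ L
  haveI : Algebra.IsSeparable ℚ L := IsAlgClosure.separable ℚ L
  have hxq : IsIntegral ℚ (χ g) := hint.tower_top
  let x : L := ⟨χ g, (mem_algebraicClosure_iff' ..).mpr hxq⟩
  have hxb : x ∈ (⊥ : Subalgebra ℚ L) := by
    by_contra hx
    have hsep : IsSeparable ℚ x := Algebra.IsSeparable.isSeparable ℚ x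
    obtain ⟨y, hne, hy⟩ := (notMem_iff_exists_ne_and_isConjRoot hsep
      (Normal.splits inferInstance x)).mp hx
    obtain ⟨τ, hτ⟩ := hy.exists_algEquiv
    obtain ⟨σ, hσ⟩ := exists_ringEquiv_extend τ.toRingEquiv
    have hn0 : n ≠ 0 := (orderOf_pos g).ne'
    have hζ : IsPrimitiveRoot (Complex.exp (2 * Real.pi * Complex.I / n)) n :=
      Complex.isPrimitiveRoot_exp n hn0
    have : NeZero n := ⟨hn0⟩
    obtain ⟨k, -, hk, hkζ⟩ := hζ.isPrimitiveRoot_iff.mp (hζ.map_of_injective σ.injective)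
    have hroot : ∀ z : ℂ, z ^ n = 1 → σ z = z ^ k := fun z hz => by
      obtain ⟨i, -, rfl⟩ := hζ.eq_pow_of_pow_eq_one hz
      rw [map_pow, ← hkζ, ← pow_mul, ← pow_mul, mul_comm k i]
    have h2 : σ (χ g) = χ g := (ringEquiv_char_apply hroot hχ dvd_rfl).trans (h k hk)
    have h3 : τ x = x := Subtype.ext ((hσ x).symm.trans h2)
    exact hne (τ.injective (h3.trans hτ.symm))
  obtain ⟨q, hq⟩ := Algebra.mem_bot.mp hxb
  have hq' : algebraMap ℚ ℂ q = χ g := congrArg (fun z : L => (z : ℂ)) hq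
  rw [← hq'] at hint
  obtain ⟨m, hm⟩ := IsIntegrallyClosed.isIntegral_iff.mp
    ((isIntegral_algebraMap_iff (algebraMap ℚ ℂ).injective).mp hint)
  exact ⟨m, by rw [← hq', ← hm]; simp⟩

end CfsgLib.CharNormal
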