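import Cfsg.Agent.Lib.CharNormal.Kernel

/-!
# Extensions and Gallagher's theorem

* `sum_normSq_coset`: if `χ` restricts irreducibly to `N`, then `∑ n, |χ (g n)|² = |N|` for all `g`;
* `isIrr_mul_comp_mk'`, `mul_comp_mk'_injective`, `exists_eq_mul_comp_mk'`: Gallagher's theorem;
* `isIrr_mul_linear`: multiplying by a linear character;
* `exists_linear_eq_mul_of_extensions`: two extensions differ by a unique linear character.
-/

namespace CfsgLib.CharNormal

open Module CfsgLib.Char
open scoped ComplexConjugate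

variable {G : Type*} [Group G] [Fintype G] (N : Subgroup G) [Fintype N]

theorem sum_normSq_coset {χ : G → ℂ} (hχ : Cfsg.IsCharacter G χ)
    (hN : Cfsg.IsIrrCharacter N (fun n : N => χ n)) (g : G) :
    ∑ n : N, χ (g * n) * conj (χ (g * n)) = (Nat.card N : ℂ) := by
  obtain ⟨d, ρ, rfl⟩ := hχ
  let ρN : Representation ℂ N (Fin d → ℂ) := ρ.comp N.subtype
  have hirr : ρN.IsIrreducible := isIrreducible_of_isIrrCharacter ρN hN
  have hd : (d : ℂ) ≠ 0 := by
    have := irr_one_ne_zero hN
    simpa using this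
  set σ := Representation.linHom ρ ρ with hσ
  let E : Module.End ℂ ((Fin d → ℂ) →ₗ[ℂ] (Fin d → ℂ)) :=
    (Nat.card N : ℂ)⁻¹ • ∑ n : N, σ (n : G)
  -- the averaging operator is the trace
  have hE : ∀ T : (Fin d → ℂ) →ₗ[ℂ] (Fin d → ℂ),
      E T = ((LinearMap.trace ℂ (Fin d → ℂ) T) / d) • LinearMap.id := by
    intro T
    have hfix : ∀ m : N, σ (m : G) (E T) = E T := by
      intro m
      simp only [E, LinearMap.smul_apply, map_smul, LinearMap.sum_apply, map_sum]
      congr 1
      refine Fintype.sum_equiv (Equiv.mulLeft m) _ _ fun n => ?_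
      rw [← Module.End.mul_apply, ← map_mul]
      rfl
    let I : Representation.IntertwiningMap ρN ρN :=
      { toLinearMap := E T
        isIntertwining' := fun m => by
          have h := hfix m
          rw [hσ, Representation.linHom_apply] at h
          conv_lhs => rw [← h]
          show (ρ (m : G) ∘ₗ E T ∘ₗ ρ (m : G)⁻¹) ∘ₗ ρ (m : G) = ρ (m : G) ∘ₗ E T
          rw [LinearMap.comp_assoc, LinearMap.comp_assoc, ← Module.End.mul_eq_comp (ρ (m : G)⁻¹),
            ← map_mul, inv_mul_cancel, map_one]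
          rfl }
    obtain ⟨c, hc⟩ := (Representation.IsIrreducible.algebraMap_intertwiningMap_bijective_of_isAlgClosed
      (ρ := ρN)).2 I
    have hc' : E T = c • LinearMap.id := by
      have := congrArg Representation.IntertwiningMap.toLinearMap hc
      exact this.symm
    have htr : LinearMap.trace ℂ (Fin d → ℂ) (E T) = LinearMap.trace ℂ (Fin d → ℂ) T := by
      simp only [E, LinearMap.smul_apply, LinearMap.sum_apply, map_smul, map_sum, hσ,
        Representation.linHom_apply]
      have hconj : ∀ n : N, LinearMap.trace ℂ (Fin d → ℂ) (ρ (n : G) ∘ₗ T ∘ₗ ρ (n : G)⁻¹) =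
          LinearMap.trace ℂ (Fin d → ℂ) T := fun n => by
        rw [← Module.End.mul_eq_comp, ← Module.End.mul_eq_comp, LinearMap.trace_mul_comm, mul_assoc,
          ← map_mul, inv_mul_cancel, map_one, mul_one]
      rw [Finset.sum_congr rfl fun n _ => hconj n]
      simp [Nat.card_eq_fintype_card]
    rw [hc', map_smul, LinearMap.trace_id, smul_eq_mul, finrank_fin_fun] at htr
    rw [hc', ← htr, mul_div_cancel_right₀ _ hd]
  have hEg : σ g * E = E := by
    refine LinearMap.ext fun T => ?_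
    rw [Module.End.mul_apply, hE, map_smul]
    congr 1
    rw [hσ, Representation.linHom_apply, LinearMap.id_comp, ← Module.End.mul_eq_comp, ← map_mul,
      mul_inv_cancel, map_one]
    rfl
  have htrE : LinearMap.trace ℂ _ E = 1 := by
    have : E = LinearMap.smulRight ((d : ℂ)⁻¹ • LinearMap.trace ℂ (Fin d → ℂ)) LinearMap.id := by
      refine LinearMap.ext fun T => ?_
      rw [hE]
      simp [div_eq_inv_mul]
    rw [this, LinearMap.trace_smulRight]
    simp [inv_mul_cancel₀ hd]
  have h1 : LinearMap.trace ℂ _ (σ g * E) =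
      (Nat.card N : ℂ)⁻¹ * ∑ n : N, σ.character (g * n) := by
    simp only [E, mul_smul_comm, Finset.mul_sum, ← map_mul, map_smul, map_sum, smul_eq_mul]
    rfl
  rw [hEg, htrE] at h1
  simp only [hσ, Representation.char_linHom] at h1
  have h2 := congrArg (fun z => (Nat.card N : ℂ) * z) h1
  simp only [mul_one, mul_inv_cancel_left₀ (card_ne_zero' (G := N))] at h2
  rw [h2]
  exact Finset.sum_congr rfl fun n _ => by rw [character_inv, mul_comm]

variable [hN : N.Normal]

/-- The average over a coset, as a function on the quotient. -/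
noncomputable def cosetAvg (f : G → ℂ) : G ⧸ N → ℂ :=
  fun q => (Nat.card N : ℂ)⁻¹ * ∑ n : N, f (Quotient.out q * n)

omit [Fintype G] hN in
theorem cosetAvg_mk (f : G → ℂ) (g : G) :
    cosetAvg N f (g : G ⧸ N) = (Nat.card N : ℂ)⁻¹ * ∑ n : N, f (g * n) := by
  obtain ⟨n₀, hn₀⟩ := QuotientGroup.mk_out_eq_mul N g
  rw [cosetAvg, hn₀]
  congr 1
  exact Fintype.sum_equiv (Equiv.mulLeft n₀) _ _ fun n => by simp [mul_assoc]

theorem classInner_mul_comp_mk' [Fintype (G ⧸ N)] (f : G → ℂ) (β : G ⧸ N → ℂ) :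
    Cfsg.classInner f (β ∘ QuotientGroup.mk) = Cfsg.classInner (cosetAvg N f) β := by
  classical
  rw [classInner_def, classInner_def]
  have h : ∑ q : G ⧸ N, cosetAvg N f q * conj (β q) =
      (Nat.card N : ℂ)⁻¹ * ∑ g : G, f g * conj ((β ∘ QuotientGroup.mk) g) := by
    rw [← Finset.sum_fiberwise (Finset.univ : Finset G) (fun g => (g : G ⧸ N))
      (fun g => f g * conj ((β ∘ QuotientGroup.mk) g)), Finset.mul_sum]
    refine Finset.sum_congr rfl fun q _ => ?_
    obtain ⟨x, rfl⟩ := QuotientGroup.mk_surjective q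
    rw [cosetAvg_mk, mul_assoc, Finset.sum_mul]
    congr 1
    refine Finset.sum_bij' (fun n _ => x * (n : G))
      (fun g hg => (⟨x⁻¹ * g, QuotientGroup.eq.mp ((Finset.mem_filter.mp hg).2).symm⟩ : N))
      (fun n _ => ?_) (fun _ _ => Finset.mem_univ _) (fun n _ => by ext; simp)
      (fun g _ => by simp) (fun n _ => ?_)
    · simp only [Finset.mem_filter, Finset.mem_univ, true_and]
      exact QuotientGroup.mk_mul_of_mem x n.2
    · simp only [Function.comp_apply]
      rw [QuotientGroup.mk_mul_of_mem x n.2]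
  rw [h, ← mul_assoc]
  congr 1
  rw [Subgroup.card_eq_card_quotient_mul_card_subgroup N, Nat.cast_mul, mul_inv]

theorem isClassFunction_cosetAvg {f : G → ℂ} (hf : Cfsg.IsClassFunction G f) :
    Cfsg.IsClassFunction (G ⧸ N) (cosetAvg N f) := by
  intro q r
  obtain ⟨g, rfl⟩ := QuotientGroup.mk_surjective q
  obtain ⟨h, rfl⟩ := QuotientGroup.mk_surjective r
  rw [← QuotientGroup.mk_inv, ← QuotientGroup.mk_mul, ← QuotientGroup.mk_mul, cosetAvg_mk,
    cosetAvg_mk]
  congr 1
  refine Fintype.sum_equiv (MulAut.conjNormal h⁻¹ : MulAut N).toEquiv _ _ fun n => ?_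
  show f _ = f (g * (MulAut.conjNormal h⁻¹ n : G))
  rw [MulAut.conjNormal_apply, ← hf (g * (h⁻¹ * n * h⁻¹⁻¹)) h]
  group

theorem classInner_mul_mul_comp_mk' [Fintype (G ⧸ N)] {χ : G → ℂ} (hχ : Cfsg.IsCharacter G χ)
    (hres : Cfsg.IsIrrCharacter N (fun n : N => χ n)) (β β' : G ⧸ N → ℂ) :
    Cfsg.classInner (χ * (β ∘ QuotientGroup.mk)) (χ * (β' ∘ QuotientGroup.mk)) =
      Cfsg.classInner β β' := by
  have h1 : Cfsg.classInner (χ * (β ∘ QuotientGroup.mk)) (χ * (β' ∘ QuotientGroup.mk)) =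
      Cfsg.classInner (fun g => χ g * conj (χ g) * β g) (β' ∘ QuotientGroup.mk) := by
    simp only [classInner_def, Pi.mul_apply, Function.comp_apply, map_mul]
    congr 1
    exact Finset.sum_congr rfl fun g _ => by ring
  rw [h1, classInner_mul_comp_mk']
  congr 1
  funext q
  obtain ⟨g, rfl⟩ := QuotientGroup.mk_surjective q
  rw [cosetAvg_mk]
  simp only [fun n : N => QuotientGroup.mk_mul_of_mem g n.2, ← Finset.sum_mul]
  rw [sum_normSq_coset N hχ hres g, ← mul_assoc, inv_mul_cancel₀ card_ne_zero', one_mul]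

/-- Gallagher: the products with irreducible characters of the quotient are irreducible. -/
theorem isIrr_mul_comp_mk' {χ : G → ℂ} (hχ : Cfsg.IsCharacter G χ)
    (hres : Cfsg.IsIrrCharacter N (fun n : N => χ n)) {β : G ⧸ N → ℂ}
    (hβ : Cfsg.IsIrrCharacter (G ⧸ N) β) :
    Cfsg.IsIrrCharacter G (χ * (β ∘ QuotientGroup.mk)) := by
  have := Fintype.ofFinite (G ⧸ N)
  refine irr_of_norm_one (isCharacter_mul hχ (isCharacter_comp_mk' N (isCharacter_of_isIrr hβ))) ?_
  rw [classInner_mul_mul_comp_mk' N hχ hres, classInner_irr_self hβ]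

theorem mul_comp_mk'_injective {χ : G → ℂ} (hχ : Cfsg.IsCharacter G χ)
    (hres : Cfsg.IsIrrCharacter N (fun n : N => χ n)) {β β' : G ⧸ N → ℂ}
    (hβ : Cfsg.IsIrrCharacter (G ⧸ N) β) (hβ' : Cfsg.IsIrrCharacter (G ⧸ N) β')
    (he : χ * (β ∘ QuotientGroup.mk) = χ * (β' ∘ QuotientGroup.mk)) : β = β' := by
  have := Fintype.ofFinite (G ⧸ N)
  by_contra hne
  have h := classInner_mul_mul_comp_mk' N hχ hres β β'
  rw [classInner_irr_ne hβ hβ' hne, ← he,
    classInner_mul_mul_comp_mk' N hχ hres, classInner_irr_self hβ] at h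
  exact one_ne_zero h

/-- Gallagher: every irreducible character over `χ|N` is such a product. -/
theorem exists_eq_mul_comp_mk' {χ : G → ℂ} (hχ : Cfsg.IsCharacter G χ)
    (hres : Cfsg.IsIrrCharacter N (fun n : N => χ n)) {ψ : G → ℂ} (hψ : Cfsg.IsIrrCharacter G ψ)
    (h0 : Cfsg.classInner (fun n : N => ψ n) (fun n : N => χ n) ≠ 0) :
    ∃ β : G ⧸ N → ℂ, Cfsg.IsIrrCharacter (G ⧸ N) β ∧ ψ = χ * (β ∘ QuotientGroup.mk) := by
  have := Fintype.ofFinite (G ⧸ N)
  by_contra hne
  push Not at hne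
  set b := cosetAvg N (fun g => ψ g * conj (χ g)) with hb
  have hbc : Cfsg.IsClassFunction (G ⧸ N) b := isClassFunction_cosetAvg N
    (isClassFunction_mul (isClassFunction_of_isIrr hψ)
      (isClassFunction_conj (isClassFunction_of_isCharacter hχ)))
  have hb0 : b = 0 := by
    refine classFun_ext hbc (isClassFunction_const 0) fun β hβ => ?_
    show _ = Cfsg.classInner (0 : G ⧸ N → ℂ) β
    rw [classInner_zero_left, hb, ← classInner_mul_comp_mk']
    have : Cfsg.classInner ψ (χ * (β ∘ QuotientGroup.mk)) = 0 :=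
      classInner_irr_ne hψ (isIrr_mul_comp_mk' N hχ hres hβ) (hne β hβ)
    rw [← this]
    simp only [classInner_def, Pi.mul_apply, Function.comp_apply, map_mul]
    congr 1
    exact Finset.sum_congr rfl fun g _ => by ring
  apply h0
  have h1 := congrFun hb0 ((1 : G) : G ⧸ N)
  rw [hb, cosetAvg_mk] at h1
  simpa [classInner_def] using h1

theorem apply_comp_mk'_one {β : G ⧸ N → ℂ} :
    (β ∘ QuotientGroup.mk) (1 : G) = β 1 := by simp

omit [Fintype N] hN in
/-- Product with a linear character. -/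
theorem isIrr_mul_linear {χ lam : G → ℂ} (hχ : Cfsg.IsIrrCharacter G χ)
    (hl : Cfsg.IsCharacter G lam) (hl1 : lam 1 = 1) : Cfsg.IsIrrCharacter G (χ * lam) := by
  refine irr_of_norm_one (isCharacter_mul (isCharacter_of_isIrr hχ) hl) ?_
  have hu : ∀ g, lam g * conj (lam g) = 1 := fun g => by
    rw [← char_inv hl, ← linear_map_mul hl hl1, mul_inv_cancel, hl1]
  rw [← classInner_irr_self hχ, classInner_def, classInner_def]
  congr 1
  refine Finset.sum_congr rfl fun g _ => ?_
  calc (χ * lam) g * conj ((χ * lam) g)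
      = χ g * conj (χ g) * (lam g * conj (lam g)) := by simp only [Pi.mul_apply, map_mul]; ring
    _ = χ g * conj (χ g) := by rw [hu, mul_one]

/-- Two extensions of an irreducible character differ by a linear character of the quotient. -/
theorem exists_linear_eq_mul_of_extensions {χ ψ : G → ℂ} (hχ : Cfsg.IsCharacter G χ)
    (hψ : Cfsg.IsCharacter G ψ) (hres : Cfsg.IsIrrCharacter N (fun n : N => χ n))
    (heq : ∀ n : N, ψ n = χ n) :
    ∃ lam : G → ℂ, Cfsg.IsCharacter G lam ∧ lam 1 = 1 ∧ (∀ n ∈ N, lam n = 1) ∧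
      ψ = χ * lam := by
  have hfun : (fun n : N => ψ n) = fun n : N => χ n := funext heq
  have hψirr : Cfsg.IsIrrCharacter G ψ := by
    obtain ⟨φ, hφ, h0⟩ := exists_constituent hψ (fun h0 => irr_ne_zero hres (by
      rw [← hfun, h0]; rfl))
    obtain ⟨a, hadec, ha⟩ := char_decomp hψ
    have hφN : Cfsg.classInner (fun n : N => φ n) (fun n : N => χ n) ≠ 0 := by
      obtain ⟨θ, hθ, hθ0⟩ := exists_constituent (isCharacter_res N (isCharacter_of_isIrr hφ))
        (fun h => irr_one_ne_zero hφ (by simpa using congrFun h 1))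
      suffices hθe : θ = fun n : N => χ n by rwa [← hθe]
      by_contra hne
      have hzero := classInner_irr_ne hres hθ (Ne.symm hne)
      rw [← hfun, show (fun n : N => ψ n) = ∑ c, (a c : ℂ) • (fun n : N => (c : G → ℂ) n) from
        funext fun n => by simpa [Finset.sum_apply] using congrFun hadec n,
        classInner_sum_left] at hzero
      simp only [classInner_smul_left] at hzero
      choose k hk using fun c : Cfsg.IrrCharacter G => classInner_char_nat
        (isCharacter_res N (isCharacter_of_isIrr c.2)) (isCharacter_of_isIrr hθ)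
      simp only [hk] at hzero
      have h3 : ∑ c, a c * k c = 0 := by exact_mod_cast hzero
      have h4 := (Finset.sum_eq_zero_iff.mp h3) ⟨φ, hφ⟩ (Finset.mem_univ _)
      rcases Nat.mul_eq_zero.mp h4 with h5 | h5
      · exact h0 (by rw [ha ⟨φ, hφ⟩, h5]; simp)
      · exact hθ0 (by rw [hk ⟨φ, hφ⟩, h5]; simp)
    obtain ⟨β, hβ, hφe⟩ := exists_eq_mul_comp_mk' N hχ hres hφ hφN
    -- degree comparison
    obtain ⟨b, hb, hb1⟩ := exists_degree_pos hβ
    have hdeg : ψ 1 = χ 1 := by simpa using heq 1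
    have hψ1 : ψ 1 = ∑ c : Cfsg.IrrCharacter G, (a c : ℂ) * (c : G → ℂ) 1 := by
      simpa [Finset.sum_apply] using congrFun hadec 1
    choose e he hev using fun c : Cfsg.IrrCharacter G => exists_degree_pos c.2
    have hφ1 : (e ⟨φ, hφ⟩ : ℂ) = χ 1 * b := by
      rw [← hev ⟨φ, hφ⟩]; show φ 1 = _
      rw [hφe]; simp [hb1]
    obtain ⟨d, hd⟩ := exists_degree hχ
    rw [hd] at hφ1 hdeg
    rw [hdeg] at hψ1
    simp only [hev] at hψ1
    have h6 : d = ∑ c : Cfsg.IrrCharacter G, a c * e c := by exact_mod_cast hψ1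
    have h7 : e ⟨φ, hφ⟩ = d * b := by exact_mod_cast hφ1
    have hd0 : 0 < d := Nat.pos_of_ne_zero fun h => irr_one_ne_zero hres (by simp [hd, h])
    have ha0 : a ⟨φ, hφ⟩ ≠ 0 := fun h => h0 (by rw [ha ⟨φ, hφ⟩, h]; simp)
    classical
    have h8 := Finset.add_sum_erase Finset.univ (fun c => a c * e c)
      (Finset.mem_univ (⟨φ, hφ⟩ : Cfsg.IrrCharacter G))
    rw [← h6] at h8
    simp only [h7] at h8
    set S := ∑ c ∈ Finset.univ.erase (⟨φ, hφ⟩ : Cfsg.IrrCharacter G), a c * e c with hS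
    have h9 : 1 ≤ a ⟨φ, hφ⟩ := Nat.one_le_iff_ne_zero.mpr ha0
    have h9' : a ⟨φ, hφ⟩ = 1 := by
      by_contra h
      have h2 : 2 ≤ a ⟨φ, hφ⟩ := by omega
      have := Nat.mul_le_mul h2 (Nat.le_mul_of_pos_right d hb)
      omega
    have h10 : ∑ c ∈ Finset.univ.erase (⟨φ, hφ⟩ : Cfsg.IrrCharacter G), a c * e c = 0 := by
      have h11 := Nat.le_mul_of_pos_right d hb
      rw [h9', one_mul] at h8
      change S = 0
      omega
    have hψφ : ψ = φ := by
      rw [hadec, Finset.sum_eq_single (⟨φ, hφ⟩ : Cfsg.IrrCharacter G) (fun c _ hne => by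
        rcases Nat.mul_eq_zero.mp ((Finset.sum_eq_zero_iff.mp h10) c (by simp [hne])) with h | h
        · simp [h]
        · exact absurd h (he c).ne') (by simp), h9']
      simp
    exact hψφ ▸ hφ
  have h0 : Cfsg.classInner (fun n : N => ψ n) (fun n : N => χ n) ≠ 0 := by
    rw [hfun, classInner_irr_self hres]; exact one_ne_zero
  obtain ⟨β, hβ, he⟩ := exists_eq_mul_comp_mk' N hχ hres hψirr h0
  have hβ1 : β 1 = 1 := by
    have h1 := heq 1
    simp only [OneMemClass.coe_one] at h1
    rw [he, Pi.mul_apply, apply_comp_mk'_one] at h1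
    exact (mul_eq_left₀ (irr_one_ne_zero hres)).mp h1
  refine ⟨β ∘ QuotientGroup.mk, isCharacter_comp_mk' N (isCharacter_of_isIrr hβ),
    (apply_comp_mk'_one N).trans hβ1, fun n hn => ?_, he⟩
  rw [comp_mk'_const N hn, apply_comp_mk'_one, hβ1]

end CfsgLib.CharNormal
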