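import Cfsg.Agent.Lib.Char.Ortho

/-!
# Transport along isomorphisms and the class-sum form of Schur's lemma

* `isCharacter_comp_mulEquiv`, `isIrr_comp_mulEquiv`: characters along group isomorphisms;
* `sum_classFun_mul_apply_mul`: for an irreducible `χ` and a class function `f`,
  `∑ g, f g * χ (m * g) = (∑ g, f g * χ g) / χ 1 * χ m`;
* `sum_conj_irr_mul_apply_mul`: generalised first orthogonality.
-/

namespace CfsgLib.CharNormal

open Module CfsgLib.Char
open scoped ComplexConjugate

section Transport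

variable {G H : Type*} [Group G] [Group H]

theorem isCharacter_comp_mulEquiv {χ : H → ℂ} (hχ : Cfsg.IsCharacter H χ) (e : G ≃* H) :
    Cfsg.IsCharacter G (χ ∘ e) :=
  isCharacter_comp hχ e.toMonoidHom

theorem isIrr_comp_mulEquiv [Fintype G] [Fintype H] {χ : H → ℂ}
    (hχ : Cfsg.IsIrrCharacter H χ) (e : G ≃* H) : Cfsg.IsIrrCharacter G (χ ∘ e) :=
  irr_of_norm_one (isCharacter_comp_mulEquiv (isCharacter_of_isIrr hχ) e)
    (by rw [classInner_comp_mulEquiv]; exact classInner_irr_self hχ)

theorem isIrr_comp_mulEquiv_iff [Fintype G] [Fintype H] {χ : H → ℂ} (e : G ≃* H) :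
    Cfsg.IsIrrCharacter G (χ ∘ e) ↔ Cfsg.IsIrrCharacter H χ := by
  refine ⟨fun h => ?_, fun h => isIrr_comp_mulEquiv h e⟩
  have h' := isIrr_comp_mulEquiv h e.symm
  have : (χ ∘ e) ∘ e.symm = χ := funext fun x => by simp
  rwa [this] at h'

theorem isClassFunction_conj {f : G → ℂ} (hf : Cfsg.IsClassFunction G f) :
    Cfsg.IsClassFunction G (fun g => conj (f g)) :=
  fun g h => congrArg _ (hf g h)

end Transport

section Schur

variable {G : Type*} [Group G] [Fintype G]

/-- Class-sum form of Schur's lemma. -/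
theorem sum_classFun_mul_apply_mul {χ : G → ℂ} (hχ : Cfsg.IsIrrCharacter G χ) {f : G → ℂ}
    (hf : Cfsg.IsClassFunction G f) (m : G) :
    ∑ g : G, f g * χ (m * g) = (∑ g : G, f g * χ g) / χ 1 * χ m := by
  obtain ⟨n, ρ, hirr, rfl⟩ := hχ
  let T : Representation.IntertwiningMap ρ ρ :=
    { toLinearMap := ∑ g : G, f g • ρ g
      isIntertwining' := fun x => by
        rw [← Module.End.mul_eq_comp, ← Module.End.mul_eq_comp, Finset.sum_mul, Finset.mul_sum]
        refine Fintype.sum_equiv (MulAut.conj x⁻¹).toEquiv _ _ fun g => ?_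
        simp only [smul_mul_assoc, mul_smul_comm, ← map_mul]
        simp [mul_assoc, show f (x⁻¹ * (g * x)) = f g from by
          simpa [mul_assoc] using hf g x⁻¹] }
  obtain ⟨c, hc⟩ := (Representation.IsIrreducible.algebraMap_intertwiningMap_bijective_of_isAlgClosed
    (ρ := ρ)).2 T
  have hT : (∑ g : G, f g • ρ g) = c • (LinearMap.id : (Fin n → ℂ) →ₗ[ℂ] (Fin n → ℂ)) := by
    have := congrArg Representation.IntertwiningMap.toLinearMap hc
    exact this.symm
  have h1 : ∑ g : G, f g * ρ.character g = c * ρ.character 1 := by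
    have := congrArg (LinearMap.trace ℂ (Fin n → ℂ)) hT
    simp only [map_sum, map_smul, smul_eq_mul, LinearMap.trace_id] at this
    rw [Representation.char_one]
    exact this
  have h2 : ∑ g : G, f g * ρ.character (m * g) = c * ρ.character m := by
    have := congrArg (fun A => LinearMap.trace ℂ (Fin n → ℂ) (ρ m * A)) hT
    simp only [Finset.mul_sum, mul_smul_comm, ← map_mul, map_sum, map_smul, smul_eq_mul] at this
    simp only [Representation.character]
    rw [this]
    simp [Module.End.mul_eq_comp]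
  have h0 : ρ.character 1 ≠ 0 := irr_one_ne_zero ⟨n, ρ, hirr, rfl⟩
  rw [h1, h2, mul_div_cancel_right₀ _ h0]

/-- Generalised first orthogonality. -/
theorem sum_conj_irr_mul_apply_mul {χ ψ : G → ℂ} (hχ : Cfsg.IsIrrCharacter G χ)
    (hψ : Cfsg.IsIrrCharacter G ψ) [Decidable (χ = ψ)] (m : G) :
    ∑ g : G, conj (ψ g) * χ (m * g) =
      if χ = ψ then (Nat.card G : ℂ) / χ 1 * χ m else 0 := by
  rw [sum_classFun_mul_apply_mul hχ (isClassFunction_conj (isClassFunction_of_isIrr hψ)) m]
  have : ∑ g : G, conj (ψ g) * χ g = (Nat.card G : ℂ) * Cfsg.classInner χ ψ := by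
    rw [card_mul_classInner]; exact Finset.sum_congr rfl fun g _ => mul_comm _ _
  rw [this]
  split_ifs with h
  · subst h; rw [classInner_irr_self hχ, mul_one]
  · rw [classInner_irr_ne hχ hψ h, mul_zero, zero_div, zero_mul]

end Schur

end CfsgLib.CharNormal
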