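import Cfsg.Agent.Lib.Char.Integral
import Mathlib.GroupTheory.PGroup
import Mathlib.Data.Int.GCD
import Mathlib.Data.Nat.Prime.Int

/-!
# Congruences modulo a prime in the algebraic integers and orbit sums

* `CongrP p x y`: `x - y` is `p` times an algebraic integer;
* `dvd_sum_sub_fixed`: an invariant sum over a set acted on by a `p`-group is congruent to the sum
  over the fixed points.
-/

namespace CfsgLib.CharNormal

open CfsgLib.Char

/-- `x ≡ y` modulo `p` in the algebraic integers. -/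
def CongrP (p : ℕ) (x y : ℂ) : Prop := ∃ t : ℂ, IsIntegral ℤ t ∧ x - y = (p : ℂ) * t

namespace CongrP

variable {p : ℕ} {x y z x' y' : ℂ}

protected theorem refl (x : ℂ) : CongrP p x x := ⟨0, isIntegral_zero, by simp⟩

protected theorem symm (h : CongrP p x y) : CongrP p y x := by
  obtain ⟨t, ht, he⟩ := h
  exact ⟨-t, ht.neg, by linear_combination -he⟩

protected theorem trans (h : CongrP p x y) (h' : CongrP p y z) : CongrP p x z := by
  obtain ⟨t, ht, he⟩ := h
  obtain ⟨u, hu, he'⟩ := h'
  exact ⟨t + u, ht.add hu, by linear_combination he + he'⟩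

protected theorem add (h : CongrP p x y) (h' : CongrP p x' y') : CongrP p (x + x') (y + y') := by
  obtain ⟨t, ht, he⟩ := h
  obtain ⟨u, hu, he'⟩ := h'
  exact ⟨t + u, ht.add hu, by linear_combination he + he'⟩

theorem mul_left (h : CongrP p x y) {c : ℂ} (hc : IsIntegral ℤ c) :
    CongrP p (c * x) (c * y) := by
  obtain ⟨t, ht, he⟩ := h
  exact ⟨c * t, hc.mul ht, by linear_combination c * he⟩

theorem mul_right (h : CongrP p x y) {c : ℂ} (hc : IsIntegral ℤ c) :
    CongrP p (x * c) (y * c) := by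
  simpa [mul_comm] using h.mul_left hc

protected theorem sum {ι : Type*} {s : Finset ι} {f g : ι → ℂ}
    (h : ∀ i ∈ s, CongrP p (f i) (g i)) : CongrP p (∑ i ∈ s, f i) (∑ i ∈ s, g i) := by
  classical
  induction s using Finset.induction_on with
  | empty => exact .refl _
  | insert a s has ih =>
    rw [Finset.sum_insert has, Finset.sum_insert has]
    exact (h a (Finset.mem_insert_self a s)).add (ih fun i hi => h i (Finset.mem_insert_of_mem hi))

theorem int_dvd {a b : ℤ} (h : CongrP p (a : ℂ) (b : ℂ)) : (p : ℤ) ∣ a - b := by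
  rcases eq_or_ne p 0 with rfl | hp
  · obtain ⟨t, -, he⟩ := h
    rw [Nat.cast_zero, zero_mul, ← Int.cast_sub, Int.cast_eq_zero] at he
    simp [he]
  obtain ⟨t, ht, he⟩ := h
  have hq : IsIntegral ℤ ((((a - b : ℤ) : ℚ) / (p : ℚ) : ℚ) : ℂ) := by
    convert ht using 1
    push_cast
    rw [he, mul_div_cancel_left₀ _ (by exact_mod_cast hp)]
  obtain ⟨z, hz⟩ := exists_int_of_isIntegral_rat hq
  refine ⟨z, ?_⟩
  rw [div_eq_iff (by exact_mod_cast hp), mul_comm] at hz
  exact_mod_cast hz

theorem of_int_dvd {a b : ℤ} (h : (p : ℤ) ∣ a - b) : CongrP p (a : ℂ) (b : ℂ) := by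
  obtain ⟨k, hk⟩ := h
  exact ⟨k, isIntegral_algebraMap, by exact_mod_cast hk⟩

end CongrP

section Orbit

variable {S X : Type*} [Group S] [MulAction S X] [Fintype X] {p : ℕ} [Fact p.Prime]

theorem dvd_sum_sub_fixed (hS : IsPGroup p S) {R : Type*} [CommRing R] (f : X → R)
    (hf : ∀ (s : S) (x : X), f (s • x) = f x) [DecidablePred (· ∈ MulAction.fixedPoints S X)] :
    (p : R) ∣ (∑ x, f x) - ∑ x with x ∈ MulAction.fixedPoints S X, f x := by
  classical
  rw [← Finset.sum_filter_add_sum_filter_not (Finset.univ : Finset X)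
    (· ∈ MulAction.fixedPoints S X) f, add_sub_cancel_left,
    ← Finset.sum_fiberwise (s := Finset.univ.filter fun x => ¬ x ∈ MulAction.fixedPoints S X)
      (g := fun x => (Quotient.mk (MulAction.orbitRel S X) x))]
  refine Finset.dvd_sum fun q _ => ?_
  rcases Finset.eq_empty_or_nonempty
    ((Finset.univ.filter fun x => ¬ x ∈ MulAction.fixedPoints S X).filter
      fun x => Quotient.mk (MulAction.orbitRel S X) x = q) with he | ⟨x₀, hx₀⟩
  · rw [he]; simp
  simp only [Finset.mem_filter, Finset.mem_univ, true_and] at hx₀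
  obtain ⟨hx₀, rfl⟩ := hx₀
  have hset : ((Finset.univ.filter fun x => ¬ x ∈ MulAction.fixedPoints S X).filter
      fun x => Quotient.mk (MulAction.orbitRel S X) x =
        Quotient.mk (MulAction.orbitRel S X) x₀) = (MulAction.orbit S x₀).toFinset := by
    ext x
    simp only [Finset.mem_filter, Finset.mem_univ, true_and, Set.mem_toFinset,
      Quotient.eq, MulAction.orbitRel_apply]
    refine ⟨fun h => h.2, fun h => ⟨fun hx => hx₀ ?_, h⟩⟩
    obtain ⟨s, rfl⟩ := h
    have h1 := hx s⁻¹
    simp only [inv_smul_smul] at h1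
    exact h1.symm ▸ hx
  have hconst : ∀ x ∈ (MulAction.orbit S x₀).toFinset, f x = f x₀ := fun x hx => by
    obtain ⟨s, rfl⟩ := Set.mem_toFinset.mp hx
    exact hf s x₀
  rw [hset, Finset.sum_congr rfl hconst, Finset.sum_const, nsmul_eq_mul]
  refine Dvd.dvd.mul_right ?_ _
  obtain ⟨n, hn⟩ := hS.card_orbit x₀
  rw [Set.toFinset_card, ← Nat.card_eq_fintype_card, hn]
  have hn0 : n ≠ 0 := by
    rintro rfl
    rw [pow_zero] at hn
    obtain ⟨hss, -⟩ := Nat.card_eq_one_iff_unique.mp hn
    exact hx₀ fun s => congrArg Subtype.val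
      (hss.elim ⟨s • x₀, MulAction.mem_orbit x₀ s⟩ ⟨x₀, MulAction.mem_orbit_self x₀⟩)
  exact_mod_cast Nat.cast_dvd_cast (α := R) (dvd_pow_self p hn0)

/-- Version for functions with algebraic integer values. -/
theorem congrP_sum_fixed (hS : IsPGroup p S) (f : X → ℂ) (hint : ∀ x, IsIntegral ℤ (f x))
    (hf : ∀ (s : S) (x : X), f (s • x) = f x) [DecidablePred (· ∈ MulAction.fixedPoints S X)] :
    CongrP p (∑ x, f x) (∑ x with x ∈ MulAction.fixedPoints S X, f x) := by
  obtain ⟨t, ht⟩ := dvd_sum_sub_fixed hS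
    (fun x => (⟨f x, hint x⟩ : integralClosure ℤ ℂ)) fun s x => Subtype.ext (hf s x)
  refine ⟨t, t.2, ?_⟩
  have := congrArg (fun z : integralClosure ℤ ℂ => (z : ℂ)) ht
  simpa using this

end Orbit

end CfsgLib.CharNormal
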