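import Mathlib.Algebra.Group.End
import Mathlib.Algebra.Group.Subgroup.Basic
import Mathlib.GroupTheory.Subgroup.Centralizer

/-!
# A subgroup normalising another, as a group of automorphisms
-/

namespace CfsgLib.CharNormal

variable {Γ : Type*} [Group Γ] (G S : Subgroup Γ) (hnorm : ∀ s ∈ S, ∀ g ∈ G, s * g * s⁻¹ ∈ G)

/-- Conjugation by the elements of `S` as automorphisms of `G`. -/
def conjAut : S →* MulAut G where
  toFun s :=
    { toFun := fun g => ⟨s * g * (s : Γ)⁻¹, hnorm s s.2 g g.2⟩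
      invFun := fun g => ⟨(s : Γ)⁻¹ * g * s,
        by simpa using hnorm (s : Γ)⁻¹ (S.inv_mem s.2) g g.2⟩
      left_inv := fun g => Subtype.ext (by simp [mul_assoc])
      right_inv := fun g => Subtype.ext (by simp [mul_assoc])
      map_mul' := fun g h => Subtype.ext (by simp [mul_assoc]) }
  map_one' := MulEquiv.ext fun g => Subtype.ext (by simp)
  map_mul' s t := MulEquiv.ext fun g => Subtype.ext (by simp [mul_assoc])

theorem coe_conjAut (s : S) (g : G) :
    ((conjAut G S hnorm s g : G) : Γ) = s * g * (s : Γ)⁻¹ := rfl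

/-- Invariance of a function under `conjAut` in the relational form used in the statements. -/
theorem forall_conjAut_iff {β : Sort*} (f : G → β) :
    (∀ (s : S) (g : G), f (conjAut G S hnorm s g) = f g) ↔
      ∀ s ∈ S, ∀ g g' : G, (g' : Γ) = s * g * s⁻¹ → f g' = f g := by
  refine ⟨fun h s hs g g' he => ?_, fun h s g => h s s.2 g _ rfl⟩
  rw [← h ⟨s, hs⟩ g]
  exact congrArg f (Subtype.ext he)

theorem fixed_iff_mem_range (C : Subgroup Γ) (hC : C = G ⊓ Subgroup.centralizer (S : Set Γ))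
    (hCG : C ≤ G) (g : G) :
    (∀ s, conjAut G S hnorm s g = g) ↔ g ∈ (Subgroup.inclusion hCG).range := by
  constructor
  · intro h
    refine ⟨⟨g, hC ▸ ⟨g.2, Subgroup.mem_centralizer_iff.mpr fun s hs => ?_⟩⟩, rfl⟩
    have := congrArg Subtype.val (h ⟨s, hs⟩)
    rw [coe_conjAut, mul_inv_eq_iff_eq_mul] at this
    exact this
  · rintro ⟨c, rfl⟩ s
    have hc : (c : Γ) ∈ G ⊓ Subgroup.centralizer (S : Set Γ) := hC ▸ c.2
    exact Subtype.ext (mul_inv_eq_iff_eq_mul.mpr (Subgroup.mem_centralizer_iff.mp hc.2 s s.2))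

end CfsgLib.CharNormal
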