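import Cfsg.Agent.Lib.CharNormal.Glauberman
import Mathlib.GroupTheory.Solvable
import Mathlib.GroupTheory.Perm.Cycle.Type

/-!
# Coprime action: invariant characters and invariant classes

`card_invariant_irr_eq`: for a solvable group acting coprimely, the numbers of invariant irreducible
characters and of invariant conjugacy classes agree.
-/

namespace CfsgLib.CharNormal

open CfsgLib.Char

universe u

/-- A nontrivial solvable group has a nontrivial normal `p`-subgroup for some prime `p`. -/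
theorem exists_normal_pGroup {S : Type*} [Group S] [Finite S] [Nontrivial S]
    (hsolv : Group.IsSolvable S) :
    ∃ (p : ℕ) (T : Subgroup S), p.Prime ∧ T.Normal ∧ T ≠ ⊥ ∧ IsPGroup p T := by
  classical
  obtain ⟨n, hn⟩ := hsolv.solvable
  have hex : ∃ k, derivedSeries S (k + 1) = ⊥ := by
    rcases n with _ | n
    · rw [derivedSeries_zero] at hn
      exact absurd hn top_ne_bot
    · exact ⟨n, hn⟩
  set k := Nat.find hex
  set A := derivedSeries S k with hA
  have hA1 : A ≠ ⊥ := by
    rcases Nat.eq_zero_or_pos k with h0 | h0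
    · rw [hA, h0, derivedSeries_zero]; exact top_ne_bot
    · obtain ⟨j, hj⟩ : ∃ j, k = j + 1 := ⟨k - 1, by omega⟩
      intro h
      exact Nat.find_min hex (show j < k by omega) (by rw [← hj]; exact h)
  have hcomm : ∀ a ∈ A, ∀ b ∈ A, a * b = b * a := by
    intro a ha b hb
    have h : ⁅A, A⁆ = ⊥ := by rw [hA, ← derivedSeries_succ]; exact Nat.find_spec hex
    exact commutatorElement_eq_one_iff_mul_comm.mp
      (Subgroup.mem_bot.mp (h ▸ Subgroup.commutator_mem_commutator ha hb))
  obtain ⟨p, hp, hdvd⟩ := Nat.exists_prime_and_dvd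
    (fun h => hA1 (Subgroup.card_eq_one.mp h) : Nat.card A ≠ 1)
  have : Fact p.Prime := ⟨hp⟩
  obtain ⟨a, ha⟩ := exists_prime_orderOf_dvd_card' p hdvd
  let T : Subgroup S :=
    { carrier := {x | x ∈ A ∧ x ^ p = 1}
      one_mem' := ⟨one_mem A, one_pow p⟩
      mul_mem' := fun {x y} hx hy => ⟨mul_mem hx.1 hy.1, by
        rw [(show Commute x y from hcomm x hx.1 y hy.1).mul_pow, hx.2, hy.2, one_mul]⟩
      inv_mem' := fun {x} hx => ⟨inv_mem hx.1, by rw [inv_pow, hx.2, inv_one]⟩ }
  have hAn : A.Normal := derivedSeries_normal S k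
  refine ⟨p, T, hp, ⟨fun x hx g => ⟨hAn.conj_mem x hx.1 g, by rw [conj_pow, hx.2]; group⟩⟩,
    fun h => ?_, fun x => ⟨1, by rw [pow_one]; exact Subtype.ext x.2.2⟩⟩
  have hmem : (a : S) ∈ T := ⟨a.2, by
    rw [← Subgroup.coe_pow, ← ha, pow_orderOf_eq_one]; rfl⟩
  rw [h, Subgroup.mem_bot] at hmem
  have : orderOf a = 1 := orderOf_eq_one_iff.mpr (Subtype.ext hmem)
  exact hp.ne_one (ha.symm.trans this)

section Step

variable {G S : Type*} [Group G] [Group S] (φ : S →* MulAut G) (T : Subgroup S) [hT : T.Normal]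

/-- The fixed points of `T`. -/
def fixedBy : Subgroup G where
  carrier := {g | ∀ t ∈ T, φ t g = g}
  one_mem' := fun t _ => map_one _
  mul_mem' := fun {a b} ha hb t ht => by rw [map_mul, ha t ht, hb t ht]
  inv_mem' := fun {a} ha t ht => by rw [map_inv, ha t ht]

theorem apply_mem_fixedBy (s : S) {g : G} (hg : g ∈ fixedBy φ T) : φ s g ∈ fixedBy φ T := by
  intro t ht
  have h1 : φ (s⁻¹ * t * s) g = g := hg _ (by simpa using hT.conj_mem t ht s⁻¹)
  rw [← MulAut.mul_apply, ← map_mul, show t * s = s * (s⁻¹ * t * s) by group, map_mul,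
    MulAut.mul_apply, h1]

/-- The action on the fixed points. -/
def fixedAut : S →* MulAut (fixedBy φ T) where
  toFun s :=
    { toFun := fun g => ⟨φ s g, apply_mem_fixedBy φ T s g.2⟩
      invFun := fun g => ⟨φ s⁻¹ g, apply_mem_fixedBy φ T s⁻¹ g.2⟩
      left_inv := fun g => Subtype.ext (by
        show φ s⁻¹ (φ s g) = g
        rw [← MulAut.mul_apply, ← map_mul, inv_mul_cancel, map_one]; rfl)
      right_inv := fun g => Subtype.ext (by
        show φ s (φ s⁻¹ g) = g
        rw [← MulAut.mul_apply, ← map_mul, mul_inv_cancel, map_one]; rfl)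
      map_mul' := fun g h => Subtype.ext (map_mul (φ s) (g : G) h) }
  map_one' := MulEquiv.ext fun g => Subtype.ext (by simp)
  map_mul' s t := MulEquiv.ext fun g => Subtype.ext (by simp [MulAut.mul_apply])

theorem fixedAut_apply (s : S) (g : fixedBy φ T) :
    ((fixedAut φ T s g : fixedBy φ T) : G) = φ s g := rfl

/-- The action of the quotient on the fixed points. -/
def fixedQuotAut : S ⧸ T →* MulAut (fixedBy φ T) :=
  QuotientGroup.lift T (fixedAut φ T) fun t ht => MulEquiv.ext fun g => Subtype.ext (g.2 t ht)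

theorem fixedQuotAut_mk (s : S) : fixedQuotAut φ T (s : S ⧸ T) = fixedAut φ T s := rfl

/-- Invariance of a class. -/
def IsInvariantClass {G S : Type*} [Group G] [Group S] (φ : S →* MulAut G) (K : ConjClasses G) :
    Prop :=
  ∀ (s : S) (g : G), ConjClasses.mk g = K → ConjClasses.mk (φ s g) = K

variable [Fintype G] [Fintype (fixedBy φ T)] {p : ℕ} [Fact p.Prime]
  (hTp : IsPGroup p T) (hG : ¬ p ∣ Nat.card G)

include hTp hG

theorem fixedBy_conj {x y : G} (hx : x ∈ fixedBy φ T) (hy : y ∈ fixedBy φ T) (h : IsConj x y) :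
    ∃ g ∈ fixedBy φ T, g * x * g⁻¹ = y := by
  classical
  obtain ⟨a, ha⟩ := isConj_iff.mp h
  let _ : MulAction T G := MulAction.compHom G (φ.comp T.subtype)
  have hsm : ∀ (t : T) g, t • g = φ t g := fun _ _ => rfl
  let f : G → ℤ := fun g => if g * x * g⁻¹ = y then 1 else 0
  have hf : ∀ (t : T) g, f (t • g) = f g := fun t g => by
    refine if_congr ?_ rfl rfl
    rw [hsm, ← (φ t).injective.eq_iff (a := g * x * g⁻¹), map_mul, map_mul, map_inv, hx t t.2,
      hy t t.2]
  have h1 := dvd_sum_sub_fixed hTp f hf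
  by_contra hne
  push Not at hne
  have h2 : ∑ g with g ∈ MulAction.fixedPoints T G, f g = 0 := Finset.sum_eq_zero fun g hg =>
    if_neg (hne g fun t ht => (Finset.mem_filter.mp hg).2 ⟨t, ht⟩)
  have h3 : ∑ g, f g = (Nat.card (Subgroup.centralizer ({x} : Set G)) : ℤ) := by
    rw [Finset.sum_boole, ← Fintype.card_subtype, ← Nat.card_eq_fintype_card]
    refine congrArg Nat.cast (Nat.card_congr ((Equiv.mulLeft a⁻¹).subtypeEquiv fun g => ?_))
    simp only [Equiv.coe_mulLeft, Subgroup.mem_centralizer_singleton_iff]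
    rw [← ha]
    constructor
    · intro hh
      calc a⁻¹ * g * x = a⁻¹ * (g * x * g⁻¹) * g := by group
        _ = x * (a⁻¹ * g) := by rw [hh]; group
    · intro hh
      calc g * x * g⁻¹ = a * (a⁻¹ * g * x) * g⁻¹ := by group
        _ = a * x * a⁻¹ := by rw [hh]; group
  rw [h2, h3, sub_zero] at h1
  exact hG ((Int.natCast_dvd_natCast.mp h1).trans (Subgroup.card_subgroup_dvd_card _))

theorem exists_fixed_of_invariantClass {K : ConjClasses G} (hK : IsInvariantClass φ K) :
    ∃ x ∈ fixedBy φ T, ConjClasses.mk x = K := by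
  classical
  let _ : MulAction T G := MulAction.compHom G (φ.comp T.subtype)
  let f : G → ℤ := fun g => if ConjClasses.mk g = K then 1 else 0
  have hf : ∀ (t : T) g, f (t • g) = f g := fun t g => by
    refine if_congr ⟨fun h => ?_, fun h => hK (t : S) g h⟩ rfl rfl
    have h1 := hK (t : S)⁻¹ _ h
    rw [show t • g = φ (t : S) g from rfl, ← MulAut.mul_apply, ← map_mul, inv_mul_cancel,
      map_one] at h1
    exact h1
  have h1 := dvd_sum_sub_fixed hTp f hf
  by_contra hne
  push Not at hne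
  have h2 : ∑ g with g ∈ MulAction.fixedPoints T G, f g = 0 := Finset.sum_eq_zero fun g hg =>
    if_neg (hne g fun t ht => (Finset.mem_filter.mp hg).2 ⟨t, ht⟩)
  rw [h2, sub_zero, Finset.sum_boole, Int.natCast_dvd_natCast] at h1
  obtain ⟨x, rfl⟩ := ConjClasses.mk_surjective K
  refine hG (h1.trans ⟨Nat.card (Subgroup.centralizer ({x} : Set G)), ?_⟩)
  rw [← card_isConj_mul_card_centralizer x, ← Fintype.card_subtype, ← Nat.card_eq_fintype_card]
  congr 1
  refine Nat.card_congr (Equiv.subtypeEquivRight fun y => ?_)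
  rw [ConjClasses.mk_eq_mk_iff_isConj]
  first
  | exact Iff.rfl
  | exact ⟨IsConj.symm, IsConj.symm⟩

theorem card_invariantClass_fixedBy :
    Nat.card {K : ConjClasses (fixedBy φ T) // IsInvariantClass (fixedQuotAut φ T) K} =
      Nat.card {K : ConjClasses G // IsInvariantClass φ K} := by
  classical
  let j := (fixedBy φ T).subtype
  have hinj : ∀ x y : fixedBy φ T, ConjClasses.mk (x : G) = ConjClasses.mk (y : G) →
      ConjClasses.mk x = ConjClasses.mk y := fun x y h => by
    obtain ⟨g, hg, he⟩ := fixedBy_conj φ T hTp hG x.2 y.2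
      (ConjClasses.mk_eq_mk_iff_isConj.mp h)
    exact ConjClasses.mk_eq_mk_iff_isConj.mpr (isConj_iff.mpr ⟨⟨g, hg⟩, Subtype.ext he⟩)
  have hmem : ∀ K : ConjClasses (fixedBy φ T), IsInvariantClass (fixedQuotAut φ T) K →
      IsInvariantClass φ (ConjClasses.map j K) := by
    intro K hK s g hg
    obtain ⟨c, rfl⟩ := ConjClasses.mk_surjective K
    obtain ⟨a, ha⟩ := isConj_iff.mp (ConjClasses.mk_eq_mk_iff_isConj.mp hg)
    have h1 := congrArg (ConjClasses.map j) (hK (s : S ⧸ T) c rfl)
    refine Eq.trans ?_ h1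
    show ConjClasses.mk (φ s g) = ConjClasses.mk (φ s (c : G))
    refine ConjClasses.mk_eq_mk_iff_isConj.mpr (isConj_iff.mpr ⟨φ s a, ?_⟩)
    rw [← map_inv, ← map_mul, ← map_mul, ha]
    rfl
  refine Nat.card_congr (Equiv.ofBijective (fun K => ⟨_, hmem K.1 K.2⟩) ⟨fun K K' h => ?_,
    fun K => ?_⟩)
  · obtain ⟨x, hx⟩ := ConjClasses.mk_surjective K.1
    obtain ⟨y, hy⟩ := ConjClasses.mk_surjective K'.1
    have h' : ConjClasses.map j K.1 = ConjClasses.map j K'.1 := congrArg Subtype.val h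
    rw [← hx, ← hy] at h'
    exact Subtype.ext (by rw [← hx, ← hy]; exact hinj x y h')
  · obtain ⟨x, hx, hxK⟩ := exists_fixed_of_invariantClass φ T hTp hG K.2
    refine ⟨⟨ConjClasses.mk ⟨x, hx⟩, fun q c hc => ?_⟩, Subtype.ext hxK⟩
    obtain ⟨s, rfl⟩ := QuotientGroup.mk_surjective q
    apply hinj
    have h1 : ConjClasses.mk (c : G) = K.1 := (congrArg (ConjClasses.map j) hc).trans hxK
    exact (K.2 s c h1).trans hxK.symm

omit hTp hG [Fact p.Prime] in
theorem mult_comp_apply (s : S) (χ : Cfsg.IrrCharacter G)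
    (β : Cfsg.IrrCharacter (fixedBy φ T)) :
    mult (fixedBy φ T).subtype ⟨_, isIrr_comp_mulEquiv χ.2 (φ s)⟩
        ⟨_, isIrr_comp_mulEquiv β.2 (fixedAut φ T s)⟩ =
      mult (fixedBy φ T).subtype χ β := by
  have h1 := classInner_eq_mult (fixedBy φ T).subtype ⟨_, isIrr_comp_mulEquiv χ.2 (φ s)⟩
    ⟨_, isIrr_comp_mulEquiv β.2 (fixedAut φ T s)⟩
  have h2 : ((χ : G → ℂ) ∘ (φ s)) ∘ (fixedBy φ T).subtype =
      ((χ : G → ℂ) ∘ (fixedBy φ T).subtype) ∘ (fixedAut φ T s) := funext fun c => rfl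
  rw [h2, classInner_comp_mulEquiv, classInner_eq_mult] at h1
  exact_mod_cast h1.symm

omit hTp hG [Fintype G] [Fintype (fixedBy φ T)] [Fact p.Prime] in
theorem fixedBy_range (g : G) :
    (∀ t, φ.comp T.subtype t g = g) ↔ g ∈ (fixedBy φ T).subtype.range :=
  ⟨fun h => ⟨⟨g, fun t ht => h ⟨t, ht⟩⟩, rfl⟩, by rintro ⟨c, rfl⟩ t; exact c.2 t t.2⟩

theorem isInvariant_of_corr {χ : Cfsg.IrrCharacter G}
    (hχ : IsInvariant (φ.comp T.subtype) χ) {β : Cfsg.IrrCharacter (fixedBy φ T)}
    (hβ : IsInvariant (fixedQuotAut φ T) β) (hd : ¬ p ∣ mult (fixedBy φ T).subtype χ β) :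
    IsInvariant φ χ := by
  intro s
  let χ' : Cfsg.IrrCharacter G := ⟨_, isIrr_comp_mulEquiv χ.2 (φ s)⟩
  have hχ' : IsInvariant (φ.comp T.subtype) χ' := fun t g => by
    show (χ : G → ℂ) (φ s (φ (t : S) g)) = (χ : G → ℂ) (φ s g)
    rw [← MulAut.mul_apply, ← map_mul,
      show s * (t : S) = (⟨s * t * s⁻¹, hT.conj_mem t t.2 s⟩ : T) * s by group, map_mul,
      MulAut.mul_apply]
    exact hχ ⟨s * t * s⁻¹, hT.conj_mem t t.2 s⟩ (φ s g)
  have h1 := mult_comp_apply φ T s χ β
  rw [show (⟨_, isIrr_comp_mulEquiv β.2 (fixedAut φ T s)⟩ :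
    Cfsg.IrrCharacter (fixedBy φ T)) = β from Subtype.ext (funext (hβ (s : S ⧸ T)))] at h1
  exact congrFun (congrArg Subtype.val
    (invariant_unique hTp Subtype.val_injective (fixedBy_range φ T) hG hχ' hχ (by rwa [h1]) hd))

theorem isInvariant_corr {χ : Cfsg.IrrCharacter G} (hχ : IsInvariant φ χ)
    {β : Cfsg.IrrCharacter (fixedBy φ T)} (hd : ¬ p ∣ mult (fixedBy φ T).subtype χ β) :
    IsInvariant (fixedQuotAut φ T) β := by
  intro q g
  obtain ⟨s, rfl⟩ := QuotientGroup.mk_surjective q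
  have h1 := mult_comp_apply φ T s χ β
  rw [show (⟨_, isIrr_comp_mulEquiv χ.2 (φ s)⟩ : Cfsg.IrrCharacter G) = χ from
    Subtype.ext (funext (hχ s))] at h1
  exact congrFun (congrArg Subtype.val (mult_unique hTp Subtype.val_injective (fixedBy_range φ T)
    hG (fun t g => hχ t g) (by rwa [h1]) hd)) g

theorem card_invariant_irr_fixedBy :
    Nat.card {χ : Cfsg.IrrCharacter G // IsInvariant φ χ} =
      Nat.card {β : Cfsg.IrrCharacter (fixedBy φ T) // IsInvariant (fixedQuotAut φ T) β} := by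
  classical
  let ι := (fixedBy φ T).subtype
  have hι : Function.Injective ι := Subtype.val_injective
  have hfix := fixedBy_range φ T
  have hT' : ∀ {χ : Cfsg.IrrCharacter G}, IsInvariant φ χ → IsInvariant (φ.comp T.subtype) χ :=
    fun h t g => h t g
  have hpick : ∀ χ : {χ : Cfsg.IrrCharacter G // IsInvariant φ χ},
      ∃ β : {β : Cfsg.IrrCharacter (fixedBy φ T) // IsInvariant (fixedQuotAut φ T) β},
        ¬ p ∣ mult ι χ.1 β.1 := by
    rintro ⟨χ, hχ⟩
    obtain ⟨β, hβ⟩ := exists_mult_of_invariant hTp hι hfix hG (hT' hχ)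
    exact ⟨⟨β, isInvariant_corr φ T hTp hG hχ hβ⟩, hβ⟩
  choose F hF using hpick
  refine Nat.card_congr (Equiv.ofBijective F ⟨fun χ χ' h => ?_, fun β => ?_⟩)
  · exact Subtype.ext (invariant_unique hTp hι hfix hG (hT' χ.2) (hT' χ'.2) (hF χ) (h ▸ hF χ'))
  · obtain ⟨χ, hχ, hd⟩ := exists_invariant_mult hTp hι hfix hG β.1
    have hinv := isInvariant_of_corr φ T hTp hG hχ β.2 hd
    exact ⟨⟨χ, hinv⟩, Subtype.ext (mult_unique hTp hι hfix hG hχ (hF ⟨χ, hinv⟩) hd)⟩

end Step

/-- Invariant characters and invariant classes are equinumerous. -/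
theorem card_invariant_irr_eq {G S : Type u} [Group G] [Group S] [Finite G] [Finite S]
    (φ : S →* MulAut G) (hsolv : Group.IsSolvable S)
    (hcop : (Nat.card G).Coprime (Nat.card S)) :
    Nat.card {χ : Cfsg.IrrCharacter G // IsInvariant φ χ} =
      Nat.card {K : ConjClasses G // IsInvariantClass φ K} := by
  generalize hn : Nat.card S = n
  induction n using Nat.strong_induction_on generalizing G S with
  | _ n ih =>
    classical
    have := Fintype.ofFinite G
    rcases subsingleton_or_nontrivial S with hss | hnt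
    · have h1 : ∀ χ : Cfsg.IrrCharacter G, IsInvariant φ χ := fun χ s g => by
        rw [Subsingleton.elim s 1, map_one]; rfl
      have h2 : ∀ K : ConjClasses G, IsInvariantClass φ K := fun K s g hg => by
        rw [Subsingleton.elim s 1, map_one]; exact hg
      rw [Nat.card_congr (Equiv.subtypeUnivEquiv h1), Nat.card_congr (Equiv.subtypeUnivEquiv h2)]
      exact card_irr_eq_card_conjClasses
    · obtain ⟨p, T, hp, hTn, hT1, hTp⟩ := exists_normal_pGroup hsolv
      have : Fact p.Prime := ⟨hp⟩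
      obtain ⟨k, hk⟩ := IsPGroup.iff_card.mp hTp
      have hpS : p ∣ Nat.card S := by
        refine dvd_trans ?_ (Subgroup.card_subgroup_dvd_card T)
        rcases k with _ | k
        · exact absurd (Subgroup.card_eq_one.mp (by simpa using hk)) hT1
        · exact ⟨p ^ k, by rw [hk, pow_succ']⟩
      have hG : ¬ p ∣ Nat.card G := fun h =>
        hp.ne_one (Nat.eq_one_of_dvd_coprimes hcop h hpS)
      have := Fintype.ofFinite (fixedBy φ T)
      rw [card_invariant_irr_fixedBy φ T hTp hG, ← card_invariantClass_fixedBy φ T hTp hG]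
      have hlt : Nat.card (S ⧸ T) < n := by
        rw [← hn, Subgroup.card_eq_card_quotient_mul_card_subgroup T]
        refine lt_mul_of_one_lt_right Nat.card_pos ?_
        exact (Subgroup.one_lt_card_iff_ne_bot T).mpr hT1
      have hsolvQ : Group.IsSolvable (S ⧸ T) := inferInstance
      exact ih _ hlt (fixedQuotAut φ T) hsolvQ
        ((hcop.coprime_dvd_left (Subgroup.card_subgroup_dvd_card _)).coprime_dvd_right
          (T.index_dvd_card)) rfl

end CfsgLib.CharNormal
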