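import Cfsg.Agent.Lib.CharNormal.InvariantCount
import Cfsg.Agent.Lib.CharNormal.Clifford

/-!
# Invariant characters above invariant characters

`exists_invariant_over`: for a solvable coprime action an invariant character of an invariant
normal subgroup lies under an invariant character.
-/

namespace CfsgLib.CharNormal

open CfsgLib.Char

universe u

variable {G S : Type*} [Group G] [Group S]

/-- Restriction of the operators to an invariant subgroup. -/
def restrAut (φ : S →* MulAut G) (N : Subgroup G) (hN : ∀ s, ∀ n ∈ N, φ s n ∈ N) :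
    S →* MulAut N where
  toFun s :=
    { toFun := fun n => ⟨φ s n, hN s n n.2⟩
      invFun := fun n => ⟨φ s⁻¹ n, hN s⁻¹ n n.2⟩
      left_inv := fun n => Subtype.ext (by
        show φ s⁻¹ (φ s n) = n
        rw [← MulAut.mul_apply, ← map_mul, inv_mul_cancel, map_one]; rfl)
      right_inv := fun n => Subtype.ext (by
        show φ s (φ s⁻¹ n) = n
        rw [← MulAut.mul_apply, ← map_mul, mul_inv_cancel, map_one]; rfl)
      map_mul' := fun a b => Subtype.ext (map_mul (φ s) (a : G) b) }
  map_one' := MulEquiv.ext fun g => Subtype.ext (by simp)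
  map_mul' s t := MulEquiv.ext fun g => Subtype.ext (by simp [MulAut.mul_apply])

theorem restrAut_apply (φ : S →* MulAut G) (N : Subgroup G) (hN : ∀ s, ∀ n ∈ N, φ s n ∈ N)
    (s : S) (n : N) : ((restrAut φ N hN s n : N) : G) = φ s n := rfl

/-- The inclusion of the fixed points of a normal subgroup. -/
def fixedIncl (φ : S →* MulAut G) (T : Subgroup S) [T.Normal] (N : Subgroup G) :
    N.subgroupOf (fixedBy φ T) →* N where
  toFun x := ⟨((x : fixedBy φ T) : G), x.2⟩
  map_one' := rfl
  map_mul' _ _ := rfl

/-- Invariant characters lie under invariant characters. -/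
theorem exists_invariant_over {G S : Type u} [Group G] [Group S] [Fintype G] [Finite S]
    (φ : S →* MulAut G) (hsolv : Group.IsSolvable S)
    (hcop : (Nat.card G).Coprime (Nat.card S)) (N : Subgroup G) [hN : N.Normal] [Fintype N]
    (hstab : ∀ s, ∀ n ∈ N, φ s n ∈ N) (θ : Cfsg.IrrCharacter N)
    (hθ : IsInvariant (restrAut φ N hstab) θ) :
    ∃ χ : Cfsg.IrrCharacter G, IsInvariant φ χ ∧
      Cfsg.classInner (fun n : N => (χ : G → ℂ) n) (θ : N → ℂ) ≠ 0 := by
  generalize hn : Nat.card S = n
  induction n using Nat.strong_induction_on generalizing G S with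
  | _ n ih =>
    classical
    rcases subsingleton_or_nontrivial S with hss | hnt
    · obtain ⟨χ, h0⟩ := exists_irr_over N θ.2
      exact ⟨χ, fun s g => by rw [Subsingleton.elim s 1, map_one]; rfl, h0⟩
    obtain ⟨p, T, hp, hTn, hT1, hTp⟩ := exists_normal_pGroup hsolv
    have : Fact p.Prime := ⟨hp⟩
    obtain ⟨k, hk⟩ := IsPGroup.iff_card.mp hTp
    have hpS : p ∣ Nat.card S := by
      refine dvd_trans ?_ (Subgroup.card_subgroup_dvd_card T)
      rcases k with _ | k
      · exact absurd (Subgroup.card_eq_one.mp (by simpa using hk)) hT1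
      · exact ⟨p ^ k, by rw [hk, pow_succ']⟩
    have hG : ¬ p ∣ Nat.card G := fun h =>
      hp.ne_one (Nat.eq_one_of_dvd_coprimes hcop h hpS)
    have hGN : ¬ p ∣ Nat.card N := fun h => hG (h.trans (Subgroup.card_subgroup_dvd_card N))
    set C := fixedBy φ T with hC
    have := Fintype.ofFinite C
    set N' := N.subgroupOf C with hN'
    have hN'n : N'.Normal := ⟨fun x hx c => hN.conj_mem _ hx _⟩
    have := Fintype.ofFinite N'
    let φN := (restrAut φ N hstab).comp T.subtype
    let ιN := fixedIncl φ T N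
    have hιN : Function.Injective ιN := fun x y h => by
      have := congrArg (fun n : N => (n : G)) h
      exact Subtype.ext (Subtype.ext this)
    have hfixN : ∀ g, (∀ t, φN t g = g) ↔ g ∈ ιN.range := by
      intro g
      constructor
      · intro h
        exact ⟨⟨⟨g, fun t ht => congrArg Subtype.val (h ⟨t, ht⟩)⟩, g.2⟩, Subtype.ext rfl⟩
      · rintro ⟨c, rfl⟩ t
        exact Subtype.ext ((c : C).2 t t.2)
    have hθT : IsInvariant φN θ := fun t g => hθ t g
    obtain ⟨θ', hθ'⟩ := exists_mult_of_invariant hTp hιN hfixN hGN hθT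
    -- `θ'` is invariant under the quotient
    have hstab' : ∀ q, ∀ x ∈ N', fixedQuotAut φ T q x ∈ N' := by
      intro q x hx
      obtain ⟨s, rfl⟩ := QuotientGroup.mk_surjective q
      exact hstab s _ hx
    have hθ'inv : IsInvariant (restrAut (fixedQuotAut φ T) N' hstab') θ' := by
      intro q g
      obtain ⟨s, rfl⟩ := QuotientGroup.mk_surjective q
      let e : N' ≃* N' := restrAut (fixedQuotAut φ T) N' hstab' (s : S ⧸ T)
      have h1 := classInner_eq_mult ιN ⟨_, isIrr_comp_mulEquiv θ.2 (restrAut φ N hstab s)⟩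
        ⟨_, isIrr_comp_mulEquiv θ'.2 e⟩
      have h2 : ((θ : N → ℂ) ∘ (restrAut φ N hstab s)) ∘ ιN = ((θ : N → ℂ) ∘ ιN) ∘ e :=
        funext fun c => rfl
      rw [h2, classInner_comp_mulEquiv, classInner_eq_mult, Nat.cast_inj,
        show (⟨_, isIrr_comp_mulEquiv θ.2 (restrAut φ N hstab s)⟩ : Cfsg.IrrCharacter N) = θ from
          Subtype.ext (funext (hθ s))] at h1
      exact congrFun (congrArg Subtype.val
        (mult_unique hTp hιN hfixN hGN hθT (by rwa [← h1]) hθ')) g
    have hlt : Nat.card (S ⧸ T) < n := by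
      rw [← hn, Subgroup.card_eq_card_quotient_mul_card_subgroup T]
      exact lt_mul_of_one_lt_right Nat.card_pos ((Subgroup.one_lt_card_iff_ne_bot T).mpr hT1)
    obtain ⟨β, hβinv, hβ0⟩ := ih _ hlt (fixedQuotAut φ T) inferInstance
      ((hcop.coprime_dvd_left (Subgroup.card_subgroup_dvd_card _)).coprime_dvd_right
        (T.index_dvd_card)) N' hstab' θ' hθ'inv rfl
    obtain ⟨χ, hχT, hd⟩ :=
      exists_invariant_mult hTp Subtype.val_injective (fixedBy_range φ T) hG β
    refine ⟨χ, isInvariant_of_corr φ T hTp hG hχT hβinv hd, fun h0 => ?_⟩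
    set m : Cfsg.IrrCharacter C → ℕ := fun γ => mult C.subtype χ γ with hm
    -- the multiplicity of `θ'` in `β` is prime to `p`
    obtain ⟨b, hb⟩ := classInner_char_nat (isCharacter_res N' (isCharacter_of_isIrr β.2))
      (isCharacter_of_isIrr θ'.2)
    have hb0 : b ≠ 0 := fun h => hβ0 (by rw [hb, h]; simp)
    have hbp : ¬ p ∣ b := by
      obtain ⟨e, he, he1⟩ := exists_degree_pos θ'.2
      obtain ⟨d, hd', hd1⟩ := exists_degree_pos β.2
      have h1 := degree_eq_mul_card_orbit N' β.2 θ' hβ0
      rw [hb, he1, hd1] at h1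
      have h2 : d = b * (orbit N' θ').card * e := by
        have : (d : ℂ) = ((b * (orbit N' θ').card * e : ℕ) : ℂ) := by
          rw [h1]; push_cast; ring
        exact_mod_cast this
      intro hpb
      have h3 : p ∣ Nat.card C :=
        (dvd_trans (hpb.trans ⟨(orbit N' θ').card * e, by rw [h2]; ring⟩)
          (degree_dvd_card β.2 hd1))
      exact hG (h3.trans (Subgroup.card_subgroup_dvd_card C))
    -- the two evaluations
    have hcomp : (fun x : N' => (χ : G → ℂ) ((x : C) : G)) =
        ∑ γ : Cfsg.IrrCharacter C, (m γ : ℂ) • (fun x : N' => (γ : C → ℂ) x) := by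
      funext x
      simpa [Finset.sum_apply] using comp_eq_sum_mult C.subtype χ (x : C)
    choose bγ hbγ using fun γ : Cfsg.IrrCharacter C => classInner_char_nat
      (isCharacter_res N' (isCharacter_of_isIrr γ.2)) (isCharacter_of_isIrr θ'.2)
    have hM1 : Cfsg.classInner (fun x : N' => (χ : G → ℂ) ((x : C) : G)) (θ' : N' → ℂ) =
        ((∑ γ, m γ * bγ γ : ℕ) : ℂ) := by
      rw [hcomp, classInner_sum_left, Nat.cast_sum]
      exact Finset.sum_congr rfl fun γ _ => by rw [classInner_smul_left, hbγ]; push_cast; ring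
    have hcomp2 : (fun x : N' => (χ : G → ℂ) ((x : C) : G)) =
        ∑ η : Cfsg.IrrCharacter N, (mult N.subtype χ η : ℂ) • ((η : N → ℂ) ∘ ιN) := by
      funext x
      have hx : (χ : G → ℂ) ((x : C) : G) = (χ : G → ℂ) (N.subtype (ιN x)) := rfl
      simp only [Finset.sum_apply, Pi.smul_apply, smul_eq_mul, Function.comp_apply, hx]
      exact comp_eq_sum_mult N.subtype χ (ιN x)
    have hM2 : Cfsg.classInner (fun x : N' => (χ : G → ℂ) ((x : C) : G)) (θ' : N' → ℂ) =
        ((∑ η, mult N.subtype χ η * mult ιN η θ' : ℕ) : ℂ) := by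
      rw [hcomp2, classInner_sum_left, Nat.cast_sum]
      exact Finset.sum_congr rfl fun η _ => by
        rw [classInner_smul_left, classInner_eq_mult]; push_cast; ring
    have heq : (∑ γ, m γ * bγ γ) = ∑ η, mult N.subtype χ η * mult ιN η θ' := by
      exact_mod_cast hM1.symm.trans hM2
    have hL : ¬ p ∣ ∑ γ, m γ * bγ γ := by
      rw [← Finset.add_sum_erase _ _ (Finset.mem_univ β)]
      intro hdvd
      rw [Nat.dvd_add_left (Finset.dvd_sum fun γ hγ => Dvd.dvd.mul_right (by
        by_contra hγd
        exact (Finset.mem_erase.mp hγ).1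
          (mult_unique hTp Subtype.val_injective (fixedBy_range φ T) hG hχT hγd hd)) _)] at hdvd
      rcases hp.dvd_mul.mp hdvd with h | h
      · exact hd h
      · refine hbp (?_ : p ∣ b)
        have : b = bγ β := by exact_mod_cast hb.symm.trans (hbγ β)
        rwa [this]
    apply hL
    rw [heq]
    let _ : MulAction T (Cfsg.IrrCharacter N) := irrAction φN
    let f : Cfsg.IrrCharacter N → ℤ := fun η => (mult N.subtype χ η : ℤ) * mult ιN η θ'
    have hsm : ∀ (t : T) (η : Cfsg.IrrCharacter N) g,
        ((t • η : Cfsg.IrrCharacter N) : N → ℂ) g = (η : N → ℂ) (φN t⁻¹ g) := fun _ _ _ => rfl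
    have hf : ∀ (t : T) η, f (t • η) = f η := by
      intro t η
      have e1 : mult ιN (t • η) θ' = mult ιN η θ' := by
        have : ((t • η : Cfsg.IrrCharacter N) : N → ℂ) ∘ ιN = (η : N → ℂ) ∘ ιN :=
          funext fun c => by rw [Function.comp_apply, hsm, (hfixN _).mpr ⟨c, rfl⟩]; rfl
        exact_mod_cast (classInner_eq_mult ιN (t • η) θ').symm.trans
          (this ▸ classInner_eq_mult ιN η θ')
      have e2 : mult N.subtype χ (t • η) = mult N.subtype χ η := by
        have h1 := classInner_eq_mult N.subtype χ (t • η)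
        have h2 : (χ : G → ℂ) ∘ N.subtype = ((χ : G → ℂ) ∘ N.subtype) ∘ (φN t⁻¹ : N ≃* N) :=
          funext fun g => (hχT t⁻¹ (g : G)).symm
        have h3 : ((t • η : Cfsg.IrrCharacter N) : N → ℂ) = (η : N → ℂ) ∘ (φN t⁻¹ : N ≃* N) := rfl
        rw [h2, h3, classInner_comp_mulEquiv, classInner_eq_mult] at h1
        exact_mod_cast h1.symm
      simp only [f, e1, e2]
    have hdiv := dvd_sum_sub_fixed hTp f hf
    have hfixed : (p : ℤ) ∣ ∑ η with η ∈ MulAction.fixedPoints T (Cfsg.IrrCharacter N), f η := by
      refine Finset.dvd_sum fun η hη => ?_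
      by_cases he : η = θ
      · subst he
        have h1 : mult N.subtype χ η = 0 := by
          have := (classInner_eq_mult N.subtype χ η).symm.trans h0
          exact_mod_cast this
        simp [f, h1]
      · refine Dvd.dvd.mul_left (Int.natCast_dvd_natCast.mpr ?_) _
        by_contra hηd
        refine he (invariant_unique hTp hιN hfixN hGN (fun t g => ?_) hθT hηd hθ')
        have h1 := congrFun (congrArg Subtype.val ((Finset.mem_filter.mp hη).2 t⁻¹)) g
        rw [hsm, inv_inv] at h1
        exact h1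
    have := dvd_add hdiv hfixed
    rw [sub_add_cancel] at this
    refine Int.natCast_dvd_natCast.mp ?_
    rw [Nat.cast_sum]
    simpa [f] using this

end CfsgLib.CharNormal
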