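import Cfsg.Agent.Lib.CharNormal.Basic

/-!
# Linear characters of commutative groups

* `irr_one_of_comm`: irreducible characters of a commutative group have degree one;
* `res_comm_decomp`: a character on a commutative subgroup is a sum of linear characters.
-/

namespace CfsgLib.CharNormal

open CfsgLib.Char

variable {G : Type*} [Group G] [Finite G]

theorem irr_one_of_comm (hcomm : ∀ x y : G, x * y = y * x) {χ : G → ℂ}
    (hχ : Cfsg.IsIrrCharacter G χ) : χ 1 = 1 := by
  classical
  have := Fintype.ofFinite G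
  choose e he hev using fun c : Cfsg.IrrCharacter G => exists_degree_pos c.2
  have hinj : Function.Injective (ConjClasses.mk : G → ConjClasses G) := fun x y h => by
    obtain ⟨c, hc⟩ := isConj_iff.mp (ConjClasses.mk_eq_mk_iff_isConj.mp h)
    rw [← hc, hcomm c x, mul_inv_cancel_right]
  have hcard : Fintype.card (Cfsg.IrrCharacter G) = Nat.card G := by
    rw [← Nat.card_eq_fintype_card, card_irr_eq_card_conjClasses]
    exact (Nat.card_congr (Equiv.ofBijective _ ⟨hinj, ConjClasses.mk_surjective⟩)).symm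
  have hsum : ∑ c, e c ^ 2 = Nat.card G := by
    have h := sum_degree_sq (G := G)
    simp only [hev] at h
    exact_mod_cast h
  have h1 : ∀ c, (1 : ℕ) = e c ^ 2 := fun c =>
    (Finset.sum_eq_sum_iff_of_le (s := Finset.univ) (f := fun _ => 1) (g := fun c => e c ^ 2)
      fun c _ => Nat.one_le_pow _ _ (he c)).mp (by simp [hsum, hcard]) c (Finset.mem_univ c)
  have h2 : e ⟨χ, hχ⟩ = 1 :=
    le_antisymm (by nlinarith [h1 ⟨χ, hχ⟩, he ⟨χ, hχ⟩]) (he _)
  simpa [h2] using hev ⟨χ, hχ⟩

/-- A character of a commutative group is a nonnegative sum of linear characters, with total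
multiplicity its degree. -/
theorem res_comm_decomp (hcomm : ∀ x y : G, x * y = y * x) {χ : G → ℂ}
    (hχ : Cfsg.IsCharacter G χ) :
    ∃ m : Cfsg.IrrCharacter G → ℕ, (∀ g, χ g = ∑ c, (m c : ℂ) * (c : G → ℂ) g) ∧
      χ 1 = ((∑ c, m c : ℕ) : ℂ) ∧
      ∀ c : Cfsg.IrrCharacter G, ∀ x y, (c : G → ℂ) (x * y) = (c : G → ℂ) x * (c : G → ℂ) y := by
  classical
  have := Fintype.ofFinite G
  obtain ⟨m, hm, -⟩ := char_decomp hχ
  have h : ∀ g, χ g = ∑ c, (m c : ℂ) * (c : G → ℂ) g := fun g => by
    conv_lhs => rw [hm]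
    simp
  refine ⟨m, h, ?_, fun c x y => linear_map_mul (isCharacter_of_isIrr c.2)
    (irr_one_of_comm hcomm c.2) x y⟩
  rw [h, Nat.cast_sum]
  exact Finset.sum_congr rfl fun c _ => by rw [irr_one_of_comm hcomm c.2, mul_one]

end CfsgLib.CharNormal
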