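import Cfsg.Agent.Lib.CharNormal.Clifford
import Cfsg.Agent.Lib.CharNormal.Linear
import Cfsg.Agent.Lib.CharNormal.Gallagher
import Cfsg.Agent.Lib.CharNormal.InvariantAbove
import Mathlib.GroupTheory.Solvable
import Mathlib.GroupTheory.FiniteAbelian.Duality
import Mathlib.RingTheory.RootsOfUnity.AlgebraicallyClosed
import Mathlib.Analysis.Complex.Polynomial.Basic

/-!
# Invariant characters above, solvable quotient

* `exists_eq_linear_mul_of_over`: for an abelian quotient the characters over a common constituent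
  differ by linear characters;
* `exists_fixed_of_cocycle`: averaging in an abelian group acting transitively;
* `exists_invariant_over_of_solvable_quot`: invariant character above an invariant one.
-/

namespace CfsgLib.CharNormal

open CfsgLib.Char
open scoped ComplexConjugate

section Transitive

variable {G : Type*} [Group G] [Fintype G] (N : Subgroup G) [N.Normal] [Fintype N]

theorem exists_eq_linear_mul_of_over (hab : ∀ a b : G ⧸ N, a * b = b * a) {χ ψ : G → ℂ}
    (hχ : Cfsg.IsIrrCharacter G χ) (hψ : Cfsg.IsIrrCharacter G ψ) {θ : N → ℂ}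
    (hθ : Cfsg.IsIrrCharacter N θ) (h1 : Cfsg.classInner (fun n : N => χ n) θ ≠ 0)
    (h2 : Cfsg.classInner (fun n : N => ψ n) θ ≠ 0) :
    ∃ l : G ⧸ N →* ℂˣ, ψ = fun g : G => ((l (g : G ⧸ N)) : ℂ) * χ g := by
  classical
  have := Fintype.ofFinite (G ⧸ N)
  have hdeg : ∀ β : Cfsg.IrrCharacter (G ⧸ N), (β : G ⧸ N → ℂ) 1 = 1 := fun β =>
    irr_one_of_comm hab β.2
  have hsum : ∀ q : G ⧸ N, ∑ β : Cfsg.IrrCharacter (G ⧸ N), conj ((β : G ⧸ N → ℂ) q) =
      if q = 1 then (N.index : ℂ) else 0 := fun q => by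
    have h := congrArg conj (sum_degree_mul_apply q)
    simp only [map_sum, map_mul, hdeg, map_one, one_mul] at h
    rw [h]
    split_ifs
    · rw [map_natCast]; rfl
    · rw [map_zero]
  -- the multiplicities in the restrictions
  have hpos : Cfsg.classInner (fun n : N => ψ n) (fun n : N => χ n) ≠ 0 := by
    obtain ⟨a, hadec, ha⟩ := char_decomp (isCharacter_res N (isCharacter_of_isIrr hχ))
    obtain ⟨b, hbdec, hb⟩ := char_decomp (isCharacter_res N (isCharacter_of_isIrr hψ))
    rw [classInner_eq_sum (isClassFunction_of_isCharacter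
      (isCharacter_res N (isCharacter_of_isIrr hψ)))]
    simp only [ha, hb, map_natCast]
    intro h
    have h3 : ∑ c, b c * a c = 0 := by exact_mod_cast h
    rcases Nat.mul_eq_zero.mp
      ((Finset.sum_eq_zero_iff.mp h3) (⟨θ, hθ⟩ : Cfsg.IrrCharacter N) (Finset.mem_univ _))
      with h4 | h4
    · exact h2 ((hb ⟨θ, hθ⟩).trans (by rw [h4]; simp))
    · exact h1 ((ha ⟨θ, hθ⟩).trans (by rw [h4]; simp))
  by_contra hne
  push Not at hne
  apply hpos
  have h0 : ∀ β : Cfsg.IrrCharacter (G ⧸ N),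
      Cfsg.classInner ψ (fun g : G => (β : G ⧸ N → ℂ) g * χ g) = 0 := by
    intro β
    let l := linearHom (isCharacter_of_isIrr β.2) (hdeg β)
    have he : (fun g : G => (β : G ⧸ N → ℂ) g * χ g) = fun g : G => (l (g : G ⧸ N) : ℂ) * χ g :=
      funext fun g => by rw [linearHom_apply]
    have hirr : Cfsg.IsIrrCharacter G (fun g : G => (β : G ⧸ N → ℂ) g * χ g) := by
      have := isIrr_mul_linear hχ (isCharacter_comp_mk' N (isCharacter_of_isIrr β.2))
        (by simpa using hdeg β)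
      rwa [mul_comm] at this
    exact classInner_irr_ne hψ hirr (fun h => hne l (h.trans he))
  have h5 : ∑ β : Cfsg.IrrCharacter (G ⧸ N),
      Cfsg.classInner ψ (fun g : G => (β : G ⧸ N → ℂ) g * χ g) = 0 :=
    Finset.sum_eq_zero fun β _ => h0 β
  simp only [classInner_def, map_mul, ← Finset.mul_sum] at h5
  rw [Finset.sum_comm] at h5
  simp only [← mul_assoc, mul_comm (ψ _), ← Finset.sum_mul, hsum,
    QuotientGroup.eq_one_iff] at h5
  rw [classInner_def]
  have h6 : ∑ g : G, (if g ∈ N then (N.index : ℂ) else 0) * ψ g * conj (χ g) = 0 := by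
    rcases mul_eq_zero.mp h5 with h | h
    · exact absurd (inv_eq_zero.mp h) card_ne_zero'
    · refine Eq.trans ?_ h
      exact Finset.sum_congr rfl fun g _ => by split_ifs <;> ring
  simp only [ite_mul, zero_mul, ← Finset.sum_filter] at h6
  rw [Finset.sum_subtype (p := fun x => x ∈ N) _ (fun x => by simp)] at h6
  simp only [mul_assoc, ← Finset.mul_sum] at h6
  rw [(mul_eq_zero.mp h6).resolve_left
    (Nat.cast_ne_zero.mpr Subgroup.index_ne_zero_of_finite), mul_zero]

end Transitive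

/-- Averaging: a point in a transitive orbit of an abelian group is fixed by coprime operators. -/
theorem exists_fixed_of_cocycle {S Λ Y : Type*} [Group S] [Finite S] [CommGroup Λ] [Finite Λ]
    [MulAction S Y] [MulAction Λ Y] [MulDistribMulAction S Λ] (S₀ : Subgroup S) [S₀.Normal]
    (y : Y) (hΛ : ∀ s ∈ S₀, ∀ l : Λ, s • l = l) (hy : ∀ s ∈ S₀, s • y = y)
    (hcompat : ∀ (s : S) (l : Λ) (x : Y), s • (l • x) = (s • l) • (s • x))
    (hcop : (Nat.card Λ).Coprime S₀.index) (hx : ∀ s : S, ∃ l : Λ, s • y = l • y) :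
    ∃ l : Λ, ∀ s : S, s • (l • y) = l • y := by
  classical
  have := Fintype.ofFinite (S ⧸ S₀)
  choose lam hlam using hx
  let g : S ⧸ S₀ → Λ := fun q => lam q.out
  have hg : ∀ s : S, s • y = g s • y := fun s => by
    obtain ⟨t, ht⟩ := QuotientGroup.mk_out_eq_mul S₀ s
    rw [← hlam, ht, mul_smul, hy _ t.2]
  set K := MulAction.stabilizer Λ y with hK
  have hrel : ∀ a b : Λ, a • y = b • y → (a : Λ ⧸ K) = b := fun a b h => by
    rw [QuotientGroup.eq, hK, MulAction.mem_stabilizer_iff, mul_smul, ← h, inv_smul_smul]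
  have hinv : ∀ (s : S) (q : S ⧸ S₀),
      (((s • g q) * g s : Λ) : Λ ⧸ K) = (g (s * q) : Λ ⧸ K) := by
    intro s q
    obtain ⟨t, rfl⟩ := QuotientGroup.mk_surjective q
    refine hrel _ _ ?_
    rw [← QuotientGroup.mk_mul, ← hg, mul_smul, mul_smul, hg t, hcompat, ← hg s]
  set L := ∏ q, g q with hL
  have hsum : ∀ s : S, (((s • L) * g s ^ S₀.index : Λ) : Λ ⧸ K) = (L : Λ ⧸ K) := by
    intro s
    have h1 : (s • L) * g s ^ S₀.index = ∏ q, ((s • g q) * g s) := by
      rw [Finset.prod_mul_distrib, Finset.prod_const, hL, Finset.smul_prod', Finset.card_univ,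
        Subgroup.index_eq_card, Nat.card_eq_fintype_card]
    rw [h1]
    show QuotientGroup.mk' K _ = QuotientGroup.mk' K _
    rw [map_prod, hL, map_prod]
    simp only [QuotientGroup.mk'_apply, hinv]
    exact Fintype.prod_equiv (Equiv.mulLeft (s : S ⧸ S₀)) _ _ fun q => rfl
  obtain ⟨j, hj⟩ : ∃ j : ℕ, ∀ l : Λ, (l ^ S₀.index) ^ j = l := by
    obtain ⟨c, hc⟩ : ∃ c : ℕ, S₀.index * c ≡ 1 [MOD Nat.card Λ] := by
      rcases Nat.lt_or_ge 1 (Nat.card Λ) with h1 | h1
      · obtain ⟨c, -, hc⟩ := Nat.exists_mul_mod_eq_one_of_coprime hcop.symm h1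
        exact ⟨c, by rw [Nat.ModEq, hc, Nat.mod_eq_of_lt h1]⟩
      · exact ⟨0, by
          have : Nat.card Λ = 1 := le_antisymm h1 Nat.card_pos
          rw [this]; exact Nat.modEq_one⟩
    refine ⟨c, fun l => ?_⟩
    rw [← pow_mul]
    conv_rhs => rw [← pow_one l]
    exact pow_eq_pow_iff_modEq.mpr (hc.of_dvd (orderOf_dvd_natCard l))
  refine ⟨L ^ j, fun s => ?_⟩
  rw [hcompat, hg s, ← mul_smul]
  have h2 : (((s • L ^ j) * g s : Λ) : Λ ⧸ K) = ((L ^ j : Λ) : Λ ⧸ K) := by
    have h3 : (s • L ^ j) * g s = ((s • L) * g s ^ S₀.index) ^ j := by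
      rw [mul_pow, hj, smul_pow']
    rw [h3, QuotientGroup.mk_pow, QuotientGroup.mk_pow, hsum]
  rw [QuotientGroup.eq, hK, MulAction.mem_stabilizer_iff, mul_smul, inv_smul_eq_iff] at h2
  exact h2.symm

section Invariant

variable {G S : Type*} [Group G] [Fintype G] [Group S] [Finite S]

/-- One abelian layer. -/
theorem exists_invariant_over_abelian (φ : S →* MulAut G) (N : Subgroup G) [N.Normal] [Fintype N]
    (hab : ∀ a b : G ⧸ N, a * b = b * a) (hstab : ∀ s, ∀ n ∈ N, φ s n ∈ N)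
    (S₀ : Subgroup S) [S₀.Normal] (hS₀ : ∀ s ∈ S₀, ∃ n ∈ N, ∀ g, φ s g = n * g * n⁻¹)
    (hcop : N.index.Coprime S₀.index) (θ : Cfsg.IrrCharacter N)
    (hθ : IsInvariant (restrAut φ N hstab) θ) :
    ∃ χ : Cfsg.IrrCharacter G, IsInvariant φ χ ∧
      Cfsg.classInner (fun n : N => (χ : G → ℂ) n) (θ : N → ℂ) ≠ 0 := by
  classical
  obtain ⟨χ, hχ⟩ := exists_irr_over N θ.2
  let _ : CommGroup (G ⧸ N) := { (inferInstance : Group (G ⧸ N)) with mul_comm := hab }
  let qφ : S → (G ⧸ N →* G ⧸ N) := fun s =>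
    QuotientGroup.map N N (φ s⁻¹).toMonoidHom fun n hn => hstab s⁻¹ n hn
  have qφ_mk : ∀ (s : S) (g : G), qφ s (g : G ⧸ N) = ((φ s⁻¹ g : G) : G ⧸ N) := fun _ _ => rfl
  let _ : MulDistribMulAction S (G ⧸ N →* ℂˣ) :=
    { smul := fun s l => l.comp (qφ s)
      one_smul := fun l => MonoidHom.ext fun q => by
        obtain ⟨g, rfl⟩ := QuotientGroup.mk_surjective q
        show l (qφ 1 (g : G ⧸ N)) = _
        rw [qφ_mk, inv_one, map_one]; rfl
      mul_smul := fun s t l => MonoidHom.ext fun q => by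
        obtain ⟨g, rfl⟩ := QuotientGroup.mk_surjective q
        show l (qφ (s * t) (g : G ⧸ N)) = l (qφ t (qφ s (g : G ⧸ N)))
        rw [qφ_mk, qφ_mk, qφ_mk, mul_inv_rev, map_mul, MulAut.mul_apply]
      smul_mul := fun _ _ _ => rfl
      smul_one := fun _ => rfl }
  have lsm : ∀ (s : S) (l : G ⧸ N →* ℂˣ) (g : G),
      (s • l) (g : G ⧸ N) = l ((φ s⁻¹ g : G) : G ⧸ N) := fun _ _ _ => rfl
  let _ : MulAction (G ⧸ N →* ℂˣ) (G → ℂ) :=
    { smul := fun l f g => (l (g : G ⧸ N) : ℂ) * f g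
      one_smul := fun f => funext fun g => by
        show ((1 : G ⧸ N →* ℂˣ) (g : G ⧸ N) : ℂ) * f g = f g
        simp
      mul_smul := fun l l' f => funext fun g => by
        show ((l * l') (g : G ⧸ N) : ℂ) * f g = (l g : ℂ) * ((l' g : ℂ) * f g)
        rw [MonoidHom.mul_apply, Units.val_mul, mul_assoc] }
  let _ : MulAction S (G → ℂ) :=
    { smul := fun s f g => f (φ s⁻¹ g)
      one_smul := fun f => funext fun g => by
        show f (φ (1 : S)⁻¹ g) = f g
        rw [inv_one, map_one]; rfl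
      mul_smul := fun s t f => funext fun g => by
        show f (φ (s * t)⁻¹ g) = f (φ t⁻¹ (φ s⁻¹ g))
        rw [mul_inv_rev, map_mul, MulAut.mul_apply] }
  have := Fintype.ofFinite (G ⧸ N)
  have hΛf : Finite (G ⧸ N →* ℂˣ) := inferInstance
  have hΛcard : Nat.card (G ⧸ N →* ℂˣ) = N.index := by
    rw [CommGroup.card_monoidHom_of_hasEnoughRootsOfUnity]
    rfl
  have hΛ0 : ∀ s ∈ S₀, ∀ l : G ⧸ N →* ℂˣ, s • l = l := fun s hs l => by
    refine MonoidHom.ext fun q => ?_
    obtain ⟨g, rfl⟩ := QuotientGroup.mk_surjective q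
    obtain ⟨n, hn, he⟩ := hS₀ s⁻¹ (S₀.inv_mem hs)
    rw [lsm, he, QuotientGroup.mk_mul, QuotientGroup.mk_mul, QuotientGroup.mk_inv,
      (QuotientGroup.eq_one_iff n).mpr hn]
    simp
  have hy0 : ∀ s ∈ S₀, s • (χ : G → ℂ) = (χ : G → ℂ) := fun s hs => by
    funext g
    obtain ⟨n, hn, he⟩ := hS₀ s⁻¹ (S₀.inv_mem hs)
    show (χ : G → ℂ) (φ s⁻¹ g) = _
    rw [he]
    exact isClassFunction_of_isIrr χ.2 g n
  have hcompat : ∀ (s : S) (l : G ⧸ N →* ℂˣ) (x : G → ℂ),
      s • (l • x) = (s • l) • (s • x) := fun s l x => by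
    funext g
    rfl
  have hx : ∀ s : S, ∃ l : G ⧸ N →* ℂˣ, s • (χ : G → ℂ) = l • (χ : G → ℂ) := fun s => by
    -- the translate lies over `θ` as well
    have h1 : Cfsg.classInner (fun n : N => (χ : G → ℂ) (φ s⁻¹ n)) (θ : N → ℂ) ≠ 0 := by
      have h2 : (θ : N → ℂ) = (θ : N → ℂ) ∘ (restrAut φ N hstab s⁻¹ : N ≃* N) :=
        funext fun n => (hθ s⁻¹ n).symm
      rw [show (fun n : N => (χ : G → ℂ) (φ s⁻¹ n)) =
        (fun n : N => (χ : G → ℂ) n) ∘ (restrAut φ N hstab s⁻¹ : N ≃* N) from rfl, h2,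
        classInner_comp_mulEquiv]
      exact hχ
    exact exists_eq_linear_mul_of_over N hab χ.2 (isIrr_comp_mulEquiv χ.2 (φ s⁻¹)) θ.2 hχ h1
  obtain ⟨l, hl⟩ := exists_fixed_of_cocycle S₀ (χ : G → ℂ) hΛ0 hy0 hcompat (hΛcard ▸ hcop) hx
  let ψ : G → ℂ := l • (χ : G → ℂ)
  have hlc : Cfsg.IsCharacter G (fun g : G => ((l (g : G ⧸ N)) : ℂ)) :=
    isCharacter_of_isIrr (isIrrCharacter_units_hom (l.comp (QuotientGroup.mk' N)))
  have hψ : Cfsg.IsIrrCharacter G ψ := by
    have := isIrr_mul_linear χ.2 hlc (by simp)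
    rwa [mul_comm] at this
  refine ⟨⟨ψ, hψ⟩, fun s g => ?_, ?_⟩
  · have h1 := congrFun (hl s) (φ s g)
    show ψ (φ s g) = ψ g
    refine h1.symm.trans ?_
    show ψ (φ s⁻¹ (φ s g)) = ψ g
    rw [← MulAut.mul_apply, ← map_mul, inv_mul_cancel, map_one]; rfl
  · have : (fun n : N => ψ n) = fun n : N => (χ : G → ℂ) n := funext fun n => by
      show ((l ((n : G) : G ⧸ N)) : ℂ) * (χ : G → ℂ) n = _
      rw [(QuotientGroup.eq_one_iff (n : G)).mpr n.2, map_one, Units.val_one, one_mul]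
    exact this ▸ hχ

end Invariant

/-- Invariant character above an invariant one, solvable quotient. -/
theorem exists_invariant_over_of_solvable_quot {G S : Type*} [Group G] [Fintype G] [Group S]
    [Finite S] (φ : S →* MulAut G) (N : Subgroup G) [hN : N.Normal] [Fintype N]
    (hsolv : Group.IsSolvable (G ⧸ N)) (hstab : ∀ s, ∀ n ∈ N, φ s n ∈ N)
    (S₀ : Subgroup S) [S₀.Normal] (hS₀ : ∀ s ∈ S₀, ∃ n ∈ N, ∀ g, φ s g = n * g * n⁻¹)
    (hcop : N.index.Coprime S₀.index) (θ : Cfsg.IrrCharacter N)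
    (hθ : IsInvariant (restrAut φ N hstab) θ) :
    ∃ χ : Cfsg.IrrCharacter G, IsInvariant φ χ ∧
      Cfsg.classInner (fun n : N => (χ : G → ℂ) n) (θ : N → ℂ) ≠ 0 := by
  generalize hm : N.index = m at hcop
  induction m using Nat.strong_induction_on generalizing N with
  | _ m ih =>
    classical
    by_cases hab : ∀ a b : G ⧸ N, a * b = b * a
    · exact exists_invariant_over_abelian φ N hab hstab S₀ hS₀ (hm ▸ hcop) θ hθ
    obtain ⟨k, hk⟩ := hsolv.solvable
    have hex : ∃ k, derivedSeries (G ⧸ N) (k + 1) = ⊥ :=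
      ⟨k, eq_bot_iff.mpr ((derivedSeries_antitone _ k.le_succ).trans hk.le)⟩
    set j := Nat.find hex
    let M : Subgroup G := (derivedSeries (G ⧸ N) j).comap (QuotientGroup.mk' N)
    have hMeq : ∀ g : G, g ∈ M ↔ (g : G ⧸ N) ∈ derivedSeries (G ⧸ N) j := fun g => Iff.rfl
    have : (derivedSeries (G ⧸ N) j).Normal := derivedSeries_normal _ j
    have hMn : M.Normal := Subgroup.Normal.comap ‹_› _
    have hNM : N ≤ M := fun n hn => by
      rw [hMeq, (QuotientGroup.eq_one_iff n).mpr hn]; exact one_mem _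
    have hMstab : ∀ s, ∀ g ∈ M, φ s g ∈ M := fun s g hg => by
      let f : G ⧸ N →* G ⧸ N := QuotientGroup.map N N (φ s).toMonoidHom fun n hn => hstab s n hn
      exact map_derivedSeries_le_derivedSeries f j (Subgroup.mem_map_of_mem f hg)
    have hne : M ≠ N := by
      intro h
      have hbot : derivedSeries (G ⧸ N) j = ⊥ := by
        refine eq_bot_iff.mpr fun q hq => ?_
        obtain ⟨g, rfl⟩ := QuotientGroup.mk_surjective q
        rw [Subgroup.mem_bot, QuotientGroup.eq_one_iff, ← h]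
        exact hq
      rcases Nat.eq_zero_or_pos j with h0 | h0
      · rw [h0, derivedSeries_zero] at hbot
        exact hab fun a b => by
          have ha := hbot ▸ Subgroup.mem_top a
          have hb := hbot ▸ Subgroup.mem_top b
          rw [Subgroup.mem_bot.mp ha, Subgroup.mem_bot.mp hb]
      · exact Nat.find_min hex (show j - 1 < j by omega)
          (by rwa [show j - 1 + 1 = j by omega])
    have := Fintype.ofFinite M
    let N' := N.subgroupOf M
    have := Fintype.ofFinite N'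
    let φM := restrAut φ M hMstab
    have hstab' : ∀ s, ∀ n ∈ N', φM s n ∈ N' := fun s n hn => hstab s _ hn
    let e : N' ≃* N := Subgroup.subgroupOfEquivOfLe hNM
    have habM : ∀ a b : M ⧸ N', a * b = b * a := by
      intro a b
      obtain ⟨a, rfl⟩ := QuotientGroup.mk_surjective a
      obtain ⟨b, rfl⟩ := QuotientGroup.mk_surjective b
      rw [← QuotientGroup.mk_mul, ← QuotientGroup.mk_mul, QuotientGroup.eq,
        Subgroup.mem_subgroupOf, ← QuotientGroup.eq_one_iff]
      push_cast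
      rw [QuotientGroup.mk_mul, QuotientGroup.mk_inv, inv_mul_eq_one, QuotientGroup.mk_mul,
        QuotientGroup.mk_mul]
      exact commutatorElement_eq_one_iff_mul_comm.mp (Subgroup.mem_bot.mp
        (Nat.find_spec hex ▸ derivedSeries_succ (G ⧸ N) j ▸
          Subgroup.commutator_mem_commutator a.2 b.2))
    obtain ⟨η, hηinv, hη⟩ := exists_invariant_over_abelian φM N' habM hstab' S₀
      (fun s hs => by
        obtain ⟨n, hn, he⟩ := hS₀ s hs
        exact ⟨⟨n, hNM hn⟩, hn, fun g => Subtype.ext (he g)⟩)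
      (by
        refine (hm ▸ hcop).coprime_dvd_left ?_
        exact Dvd.intro _ (Subgroup.relIndex_mul_index hNM))
      ⟨(θ : N → ℂ) ∘ e, isIrr_comp_mulEquiv θ.2 e⟩ (fun s n => hθ s (e n))
    have hlt : M.index < m := by
      rw [← hm, ← Subgroup.relIndex_mul_index hNM]
      refine lt_mul_of_one_lt_left (Nat.pos_of_ne_zero Subgroup.index_ne_zero_of_finite) ?_
      exact Nat.one_lt_iff_ne_zero_and_ne_one.mpr ⟨Subgroup.index_ne_zero_of_finite,
        fun h => hne (le_antisymm (Subgroup.relIndex_eq_one.mp h) hNM)⟩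
    have hsM : Group.IsSolvable (G ⧸ M) :=
      Group.isSolvable_of_surjective (f := QuotientGroup.map N M (MonoidHom.id G) hNM)
        (fun q => by
          obtain ⟨g, rfl⟩ := QuotientGroup.mk_surjective q
          exact ⟨(g : G ⧸ N), rfl⟩)
    obtain ⟨χ, hχinv, hχ⟩ := ih _ hlt M hsM hMstab
      (fun s hs => let ⟨n, hn, he⟩ := hS₀ s hs; ⟨n, hNM hn, he⟩) η hηinv rfl
      ((hm ▸ hcop).coprime_dvd_left (Subgroup.index_dvd_of_le hNM))
    refine ⟨χ, hχinv, ?_⟩
    -- transitivity of lying over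
    rw [← classInner_comp_mulEquiv e]
    rw [show (fun n : N => (χ : G → ℂ) n) ∘ e =
      (fun m : M => (χ : G → ℂ) m) ∘ N'.subtype from rfl]
    obtain ⟨a, hadec, ha⟩ := char_decomp (isCharacter_res M (isCharacter_of_isIrr χ.2))
    choose b hb using fun c : Cfsg.IrrCharacter M => classInner_char_nat
      (isCharacter_res N' (isCharacter_of_isIrr c.2))
      (isCharacter_of_isIrr (isIrr_comp_mulEquiv θ.2 e))
    rw [show (fun m : M => (χ : G → ℂ) m) ∘ N'.subtype =
        ∑ c : Cfsg.IrrCharacter M, (a c : ℂ) • (fun n : N' => (c : M → ℂ) n) from funext fun n => by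
      simpa [Finset.sum_apply] using congrFun hadec (n : M), classInner_sum_left]
    simp only [classInner_smul_left, hb]
    intro h0
    have h3 : ∑ c, a c * b c = 0 := by exact_mod_cast h0
    rcases Nat.mul_eq_zero.mp ((Finset.sum_eq_zero_iff.mp h3) η (Finset.mem_univ _)) with h4 | h4
    · exact hχ (by rw [ha η, h4]; simp)
    · exact hη (by rw [hb η, h4]; simp)

end CfsgLib.CharNormal
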