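import Cfsg.Agent.Lib.CharNormal.Gallagher
import Cfsg.Agent.Lib.CharNormal.Kernel
import Cfsg.Agent.Lib.CharNormal.Linear
import Cfsg.Agent.Lib.Char.Restrict
import Cfsg.Agent.Lib.Char.Integral
import Cfsg.Agent.Lib.Cores.Basic
import Cfsg.Agent.Lib.Solvable.SchurZassenhaus

/-!
# Solvable linear groups: degree divisors and normal Sylow subgroups

A solvable irreducible linear group of degree `n` has a normal Sylow `p`-subgroup unless `n` has a
prime power divisor congruent to `0`, `1` or `-1` modulo `p`.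
-/

namespace CfsgLib.CharNormal

open CfsgLib.Char
open scoped ComplexConjugate commutatorElement

universe u

section Res

variable {H : Type u} [Group H] [Fintype H] (M : Subgroup H) [M.Normal] [Fintype M]

theorem norm_res_of_vanish {χ : H → ℂ} (hχ : Cfsg.IsIrrCharacter H χ)
    (hv : ∀ g, g ∉ M → χ g = 0) :
    Cfsg.classInner (fun x : M => χ x) (fun x : M => χ x) = (M.index : ℂ) := by
  classical
  have h := card_mul_classInner χ χ
  rw [classInner_irr_self hχ, mul_one] at h
  have h2 := card_mul_classInner (fun x : M => χ x) (fun x : M => χ x)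
  have h3 : ∑ x : M, χ x * conj (χ x) = ∑ g : H, χ g * conj (χ g) := by
    rw [← Finset.sum_subset (Finset.subset_univ (Finset.univ.filter (· ∈ M))) fun g _ hg => by
      rw [hv g fun hgM => hg (Finset.mem_filter.mpr ⟨Finset.mem_univ _, hgM⟩), zero_mul]]
    exact (Finset.sum_subtype _ (by simp) fun g : H => χ g * conj (χ g)).symm
  rw [h3, ← h, ← M.index_mul_card, Nat.cast_mul, mul_comm (M.index : ℂ)] at h2
  exact mul_left_cancel₀ card_ne_zero' h2

theorem isIrr_res_of_gen (hab : ∀ a b : H ⧸ M, a * b = b * a) {χ : H → ℂ}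
    (hχ : Cfsg.IsIrrCharacter H χ)
    (hgen : ∀ X : Subgroup H, M ≤ X → (∀ g, χ g ≠ 0 → g ∈ X) → X = ⊤) :
    Cfsg.IsIrrCharacter M (fun x : M => χ x) := by
  classical
  have hc := isCharacter_of_isIrr hχ
  refine irr_of_norm_one (isCharacter_res M hc) ?_
  have := Fintype.ofFinite (H ⧸ M)
  have hdeg : ∀ β : Cfsg.IrrCharacter (H ⧸ M), (β : H ⧸ M → ℂ) 1 = 1 := fun β =>
    irr_one_of_comm hab β.2
  -- the twists of `χ`
  set tw : Cfsg.IrrCharacter (H ⧸ M) → H → ℂ :=
    fun β g => χ g * (β : H ⧸ M → ℂ) (g : H ⧸ M) with htw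
  have hne : ∀ β, β ≠ irrOne → Cfsg.classInner (tw β) χ = 0 := by
    intro β hβ
    have hl : Cfsg.IsCharacter H fun g => (β : H ⧸ M → ℂ) (g : H ⧸ M) :=
      isCharacter_comp (isCharacter_of_isIrr β.2) (QuotientGroup.mk' M)
    refine classInner_irr_ne (isIrr_mul_linear hχ hl (by simp [hdeg])) hχ ?_
    intro e
    refine hβ (Subtype.ext (funext fun c => ?_))
    obtain ⟨g, rfl⟩ := QuotientGroup.mk_surjective c
    rw [irrOne_apply]
    have hm := linear_map_mul (isCharacter_of_isIrr β.2) (hdeg β)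
    let X : Subgroup H :=
      { carrier := {g | (β : H ⧸ M → ℂ) (g : H ⧸ M) = 1}
        one_mem' := hdeg β
        mul_mem' := fun {a b} (ha : _ = (1 : ℂ)) (hb : _ = (1 : ℂ)) => by
          show (β : H ⧸ M → ℂ) ((a * b : H) : H ⧸ M) = 1
          rw [QuotientGroup.mk_mul, hm, ha, hb, one_mul]
        inv_mem' := fun {a} (ha : _ = (1 : ℂ)) => by
          show (β : H ⧸ M → ℂ) ((a⁻¹ : H) : H ⧸ M) = 1
          rw [QuotientGroup.mk_inv, char_inv (isCharacter_of_isIrr β.2), ha, map_one] }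
    have hX : X = ⊤ := hgen X (fun g hg => show (β : H ⧸ M → ℂ) (g : H ⧸ M) = 1 by
      rw [(QuotientGroup.eq_one_iff g).mpr hg, hdeg]) fun g hg => by
        have h := congrFun e g
        exact mul_left_cancel₀ hg (h.trans (mul_one _).symm)
    exact (hX ▸ Subgroup.mem_top g : g ∈ X)
  have hsum : ∀ q : H ⧸ M, ∑ β : Cfsg.IrrCharacter (H ⧸ M), (β : H ⧸ M → ℂ) q =
      if q = 1 then (M.index : ℂ) else 0 := fun q => by
    have h := sum_degree_mul_apply q
    simp only [hdeg, one_mul] at h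
    rw [h]
    split_ifs <;> rfl
  have h1 : ∑ β, Cfsg.classInner (tw β) χ = 1 := by
    rw [Finset.sum_eq_single irrOne (fun β _ hβ => hne β hβ) (by simp)]
    rw [show tw irrOne = χ from funext fun g => by simp [htw, irrOne_apply], classInner_irr_self hχ]
  rw [← classInner_sum_left, classInner_def] at h1
  have h2 : ∀ g : H, (∑ β, tw β) g * conj (χ g) =
      if g ∈ M then (M.index : ℂ) * (χ g * conj (χ g)) else 0 := by
    intro g
    simp only [Finset.sum_apply, htw, ← Finset.mul_sum, hsum, QuotientGroup.eq_one_iff]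
    split_ifs
    · ring
    · rw [mul_zero, zero_mul]
  rw [Finset.sum_congr rfl fun g _ => h2 g, ← Finset.sum_filter, ← Finset.mul_sum,
    Finset.sum_subtype (Finset.univ.filter (· ∈ M)) (p := (· ∈ M)) (by simp)
      (fun g : H => χ g * conj (χ g)), ← card_mul_classInner (fun x : M => χ x) (fun x : M => χ x),
    ← M.index_mul_card, Nat.cast_mul] at h1
  have hi : (M.index : ℂ) ≠ 0 := by exact_mod_cast Subgroup.index_ne_zero_of_finite
  have hM : (Nat.card M : ℂ) ≠ 0 := card_ne_zero'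
  field_simp at h1
  exact h1

theorem res_data {χ : H → ℂ} (hχ : Cfsg.IsIrrCharacter H χ) {n : ℕ} (hn : χ 1 = n)
    (θ : Cfsg.IrrCharacter M) (hθ : Cfsg.classInner (fun x : M => χ x) (θ : M → ℂ) ≠ 0) :
    ∃ e d : ℕ, n = e * (inertia M (θ : M → ℂ)).index * d ∧
      Cfsg.classInner (fun x : M => χ x) (fun x : M => χ x) =
        ((e * e * (inertia M (θ : M → ℂ)).index : ℕ) : ℂ) := by
  classical
  obtain ⟨e, he⟩ := classInner_char_nat (isCharacter_res M (isCharacter_of_isIrr hχ))
    (isCharacter_of_isIrr θ.2)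
  obtain ⟨d, -, hd⟩ := exists_degree_pos θ.2
  refine ⟨e, d, ?_, ?_⟩
  · have h := degree_eq_mul_card_orbit M hχ θ hθ
    rw [hn, he, hd, card_orbit_eq_index] at h
    exact_mod_cast h
  · have h := res_eq_smul_sum_orbit M hχ θ hθ
    rw [he] at h
    have h2 : Cfsg.classInner (∑ ψ ∈ orbit M θ, (ψ : M → ℂ)) (∑ ψ ∈ orbit M θ, (ψ : M → ℂ)) =
        ((orbit M θ).card : ℂ) := by
      rw [classInner_sum_left, Finset.sum_congr rfl fun ψ hψ => ?_, Finset.sum_const,
        nsmul_eq_mul, mul_one]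
      rw [classInner_sum_right, Finset.sum_eq_single ψ (fun b _ hb => classInner_irr_ne ψ.2 b.2
        fun e => hb (Subtype.ext e).symm) (fun h => absurd hψ h), classInner_irr_self ψ.2]
    rw [h, classInner_smul_left, classInner_smul_right, h2, card_orbit_eq_index, map_natCast]
    push_cast
    ring

theorem isIrr_res_prime_index {p : ℕ} (hp : p.Prime) (hM : M.index = p) {χ : H → ℂ}
    (hχ : Cfsg.IsIrrCharacter H χ) {n : ℕ} (hn : χ 1 = n) (hpn : ¬ p ∣ n) :
    Cfsg.IsIrrCharacter M (fun x : M => χ x) := by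
  classical
  have := Fintype.ofFinite (H ⧸ M)
  have hab : ∀ a b : H ⧸ M, a * b = b * a := by
    have := Fact.mk hp
    have : IsCyclic (H ⧸ M) := isCyclic_of_prime_card (p := p) hM
    exact fun a b => (IsCyclic.commutative (α := H ⧸ M)).is_comm.comm a b
  by_cases hv : ∀ g, g ∉ M → χ g = 0
  · exfalso
    obtain ⟨θ', hθ', hθ⟩ := exists_constituent (isCharacter_res M (isCharacter_of_isIrr hχ))
      (fun h => irr_one_ne_zero hχ (by simpa using congrFun h 1))
    let θ : Cfsg.IrrCharacter M := ⟨θ', hθ'⟩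
    obtain ⟨e, d, hned, hnorm⟩ := res_data M hχ hn θ hθ
    rw [norm_res_of_vanish M hχ hv, hM] at hnorm
    have h : p = e * e * (inertia M (θ : M → ℂ)).index := by exact_mod_cast hnorm
    rcases (Nat.dvd_prime hp).mp (hM ▸ card_orbit_dvd_index M θ) with h1 | h1 <;>
      rw [card_orbit_eq_index] at h1
    · rw [h1, mul_one] at h
      exact hp.not_isSquare ⟨e, h⟩ |>.elim
    · refine hpn ?_
      rw [hned, h1]
      exact Dvd.dvd.mul_right (dvd_mul_left p e) d
  push Not at hv
  obtain ⟨g, hgM, hg⟩ := hv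
  refine isIrr_res_of_gen M hab hχ fun X hMX hX => ?_
  have hd : X.index ∣ p := hM ▸ Subgroup.index_dvd_of_le hMX
  rcases (Nat.dvd_prime hp).mp hd with h | h
  · exact Subgroup.index_eq_one.mp h
  · exfalso
    have : M = X := Subgroup.eq_of_le_of_card_ge hMX (le_of_eq
      (Nat.eq_of_mul_eq_mul_right hp.pos (by
        conv_lhs => rw [← h, X.card_mul_index, ← M.card_mul_index, hM])))
    exact hgM (this ▸ hX g hg)

end Res

/-- A bad prime power for `p`. -/
def BadFor (p q : ℕ) : Prop := p ∣ q ∨ p ∣ q - 1 ∨ p ∣ q + 1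

/-- No prime power divisor of `d` is bad for `p`. -/
def GoodDeg (p d : ℕ) : Prop := ∀ q, IsPrimePow q → q ∣ d → ¬ BadFor p q

theorem GoodDeg.of_dvd {p d d' : ℕ} (h : GoodDeg p d) (hd : d' ∣ d) : GoodDeg p d' :=
  fun q hq hqd => h q hq (hqd.trans hd)

theorem GoodDeg.not_dvd {p d : ℕ} (hp : p.Prime) (h : GoodDeg p d) : ¬ p ∣ d :=
  fun hd => h p hp.isPrimePow hd (Or.inl dvd_rfl)

/-- The statement for irreducible characters in groups of order below `m`. -/
def IrrBelow (p m : ℕ) : Prop :=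
  ∀ (G : Type u) [Group G] [Finite G], Nat.card G < m → Group.IsSolvable G →
    ∀ (χ : G → ℂ) (n : ℕ), Cfsg.IsIrrCharacter G χ → (∀ g, χ g = χ 1 → g = 1) → χ 1 = n →
      GoodDeg p n → ∀ P : Sylow p G, (P : Subgroup G).Normal

variable {G : Type u} [Group G] [Finite G]

theorem char_normal {p m : ℕ} [hp : Fact p.Prime] (ih : IrrBelow.{u} p m) (hcard : Nat.card G < m)
    (hsol : Group.IsSolvable G) {χ : G → ℂ} (hχ : Cfsg.IsCharacter G χ)
    (hfaith : ∀ g, χ g = χ 1 → g = 1)
    (hgood : ∀ [Fintype G] (ψ : Cfsg.IrrCharacter G) (d : ℕ), Cfsg.classInner χ ψ ≠ 0 →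
      (ψ : G → ℂ) 1 = d → GoodDeg p d)
    (P : Sylow p G) : (P : Subgroup G).Normal := by
  classical
  have := Fintype.ofFinite G
  refine Subgroup.normalizer_eq_top_iff.mp (eq_top_iff.mpr fun g _ => ?_)
  refine CfsgLib.Solvable.mem_normalizer_of_conj_mem fun x hx => ?_
  set J := (P : Subgroup G) ⊔ (P : Subgroup G).map (MulAut.conj g).toMonoidHom with hJ
  have hJp : IsPGroup p J := by
    intro a
    obtain ⟨k, hk⟩ := IsPGroup.iff_card.mp P.isPGroup'
    refine ⟨k, Subtype.ext (hfaith _ ?_)⟩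
    rw [classFun_eq_sum (isClassFunction_of_isCharacter hχ)]
    simp only [Finset.sum_apply, Pi.smul_apply, smul_eq_mul]
    refine Finset.sum_congr rfl fun ψ _ => ?_
    by_cases h0 : Cfsg.classInner χ ψ = 0
    · rw [h0, zero_mul, zero_mul]
    congr 1
    set K := charKer (isCharacter_of_isIrr ψ.2)
    have : K.Normal := charKer_normal (isCharacter_of_isIrr ψ.2)
    have := Fintype.ofFinite (G ⧸ K)
    obtain ⟨φ, hφ, hφe⟩ := exists_irr_eq_comp_mk' K ψ.2 fun k hk => mem_charKer.mp hk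
    obtain ⟨d, -, hd⟩ := exists_degree_pos ψ.2
    have hφfaith : ∀ c, φ c = φ 1 → c = 1 := by
      intro c hc
      obtain ⟨b, rfl⟩ := QuotientGroup.mk_surjective c
      rw [QuotientGroup.eq_one_iff]
      refine mem_charKer.mpr ?_
      rw [← hφe]
      exact hc
    have hsq : Group.IsSolvable (G ⧸ K) :=
      Group.isSolvable_of_surjective (QuotientGroup.mk'_surjective K)
    have hlt : Nat.card (G ⧸ K) < m := lt_of_le_of_lt
      (Nat.card_le_card_of_surjective _ (QuotientGroup.mk'_surjective K)) hcard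
    have hN := ih (G ⧸ K) hlt hsq φ d hφ hφfaith (by rw [← hd, ← hφe]; rfl) (hgood ψ d h0 hd)
      (P.mapSurjective (QuotientGroup.mk'_surjective K))
    rw [Sylow.coe_mapSurjective] at hN
    set Pb := (P : Subgroup G).map (QuotientGroup.mk' K) with hPb
    have hJle : J ≤ Pb.comap (QuotientGroup.mk' K) := by
      refine sup_le (Subgroup.le_comap_map _ _) ?_
      rintro _ ⟨b, hb, rfl⟩
      show QuotientGroup.mk' K (g * b * g⁻¹) ∈ Pb
      rw [map_mul, map_mul, map_inv]
      exact hN.conj_mem _ (Subgroup.mem_map_of_mem _ hb) _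
    have hmem : QuotientGroup.mk' K (a : G) ∈ Pb := hJle a.2
    have hpow : (QuotientGroup.mk' K (a : G)) ^ p ^ k = 1 := by
      refine orderOf_dvd_iff_pow_eq_one.mp ?_
      refine ((Subgroup.orderOf_mk (QuotientGroup.mk' K (a : G)) hmem) ▸
        orderOf_dvd_natCard (⟨_, hmem⟩ : Pb)).trans ?_
      rw [← hk]
      exact Subgroup.card_map_dvd _ _
    rw [← map_pow] at hpow
    refine mem_charKer.mp (?_ : ((a ^ p ^ k : J) : G) ∈ K)
    simpa using (QuotientGroup.eq_one_iff _).mp hpow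
  have hPJ : J = (P : Subgroup G) := P.is_maximal' hJp le_sup_left
  rw [← hPJ]
  exact Subgroup.mem_sup_right ⟨x, hx, rfl⟩

end CfsgLib.CharNormal
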