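import Cfsg.Agent.Lib.CharNormal.Kernel
import Cfsg.Agent.Lib.CharNormal.Linear
import Cfsg.Agent.Lib.Char.ClassAlgebra
import Cfsg.Agent.Lib.Char.Restrict
import Cfsg.Agent.Lib.Char.Integral
import Cfsg.Agent.Lib.Solvable.HallHigmanCyclic
import Cfsg.Agent.Lib.Solvable.CoprimeAction

/-!
# Coprime action in linear groups of small degree

If a `p`-element acts nontrivially on a `p'`-subgroup of a linear group of degree `n ≤ p - 1`, then
`n = p - 1` is a power of `2` and the linear group is irreducible (Itô).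
-/

namespace CfsgLib.CharNormal

open CfsgLib.Char
open scoped ComplexConjugate commutatorElement

universe u

variable {Q : Type u} [Group Q] [Finite Q]

theorem apply_central_mul' {θ : Q → ℂ} (hθ : Cfsg.IsIrrCharacter Q θ) {z : Q}
    (hz : z ∈ Subgroup.center Q) (y : Q) : θ (z * y) = θ z * θ y / θ 1 := by
  have := Fintype.ofFinite Q
  have h := sum_char_conj_mul hθ z y
  rw [Finset.sum_congr rfl fun b _ => by
      rw [Subgroup.mem_center_iff.mp hz b, mul_inv_cancel_right],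
    Finset.sum_const, Finset.card_univ, nsmul_eq_mul, ← Nat.card_eq_fintype_card, mul_assoc,
    mul_div_assoc] at h
  exact mul_left_cancel₀ card_ne_zero' h

/-- An invariant nonlinear irreducible character of a minimal moved group. -/
theorem degree_of_moved {p q : ℕ} [hp : Fact p.Prime] [hq : Fact q.Prime] (hqp : q ≠ p)
    (hQ : IsPGroup q Q) (σ : MulAut Q) (hσ : σ ^ p = 1) (hmoved : ∃ x, σ x ≠ x)
    (hsub : ∀ H : Subgroup Q, H ≠ ⊤ → (∀ x ∈ H, σ x ∈ H) → ∀ x ∈ H, σ x = x)
    {θ : Q → ℂ} (hθ : Cfsg.IsIrrCharacter Q θ) (hinv : ∀ x, θ (σ x) = θ x) {D : ℕ}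
    (hD : θ 1 = D) (hD1 : D ≠ 1) : p ∣ D * D - 1 ∧ ∃ m, D = q ^ m := by
  classical
  have := Fintype.ofFinite Q
  obtain ⟨C, hCZ, -, hCtop, hDC, hCmem, -, -⟩ :=
    Solvable.minimal_moved_structure (n := 1) hqp hQ σ one_pos (by rwa [pow_one])
      (by simpa using hsub) (by simpa using hmoved)
  simp only [Nat.sub_self, pow_zero, pow_one] at hCmem
  obtain ⟨D', hD'0, hD'⟩ := exists_degree_pos hθ
  have hD0 : 0 < D := by
    have : D' = D := by exact_mod_cast hD'.symm.trans hD
    omega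
  have hD0' : (D : ℂ) ≠ 0 := by exact_mod_cast hD0.ne'
  have hθc := isCharacter_of_isIrr hθ
  set K := charKer hθc with hK
  have : K.Normal := charKer_normal hθc
  have hKσ : ∀ x, σ x ∈ K ↔ x ∈ K := fun x => by
    rw [hK, mem_charKer, mem_charKer, hinv]
  set M := (Subgroup.center (Q ⧸ K)).comap (QuotientGroup.mk' K) with hM
  have hMmem : ∀ g, g ∈ M ↔ ∀ h : Q, ⁅h, g⁆ ∈ K := by
    intro g
    rw [hM, Subgroup.mem_comap, Subgroup.mem_center_iff]
    constructor
    · intro h a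
      have := h (QuotientGroup.mk' K a)
      rw [← QuotientGroup.eq_one_iff]
      show QuotientGroup.mk' K ⁅a, g⁆ = 1
      rw [map_commutatorElement]
      exact commutatorElement_eq_one_iff_mul_comm.mpr this
    · intro h c
      obtain ⟨a, rfl⟩ := QuotientGroup.mk'_surjective K c
      refine commutatorElement_eq_one_iff_mul_comm.mp ?_
      rw [← map_commutatorElement]
      exact (QuotientGroup.eq_one_iff _).mpr (h a)
  have hMtop : M ≠ ⊤ := by
    intro e
    obtain ⟨φ, hφ, hφe⟩ := exists_irr_eq_comp_mk' K hθ fun k hk => mem_charKer.mp hk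
    refine hD1 ?_
    have := Fintype.ofFinite (Q ⧸ K)
    have h1 : φ 1 = 1 := irr_one_of_comm (fun a b => by
      obtain ⟨a, rfl⟩ := QuotientGroup.mk'_surjective K a
      obtain ⟨b, rfl⟩ := QuotientGroup.mk'_surjective K b
      exact Subgroup.mem_center_iff.mp (Subgroup.mem_comap.mp (e ▸ Subgroup.mem_top b : b ∈ M)) _) hφ
    have h2 : θ 1 = 1 := by rw [← h1, ← hφe]; rfl
    exact_mod_cast hD.symm.trans h2
  have hMC : M ≤ C := fun g hg => (hCmem g).mpr (hsub M hMtop (fun x hx => by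
    rw [hMmem] at hx ⊢
    intro h
    have e : ⁅h, σ x⁆ = σ ⁅σ.symm h, x⁆ := by
      rw [map_commutatorElement, MulEquiv.apply_symm_apply]
    rw [e, hKσ]
    exact hx _) g hg)
  have hvan : ∀ g, g ∉ C → θ g = 0 := by
    intro g hg
    obtain ⟨h, hh⟩ : ∃ h : Q, ⁅h, g⁆ ∉ K := by
      by_contra hcon
      push Not at hcon
      exact hg (hMC ((hMmem g).mpr hcon))
    have h1 : θ g = θ ⁅h, g⁆ * θ g / θ 1 := by
      rw [← apply_central_mul' hθ (hCZ (hDC h g)),
        show ⁅h, g⁆ * g = h * g * h⁻¹ by rw [commutatorElement_def]; group,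
        isClassFunction_of_isIrr hθ]
    by_contra hne
    refine hh (mem_charKer.mpr ?_)
    rw [eq_div_iff (irr_one_ne_zero hθ), mul_comm (θ ⁅h, g⁆)] at h1
    exact (mul_left_cancel₀ hne h1).symm
  have habs : ∀ c ∈ C, θ c * conj (θ c) = (D : ℂ) * D := by
    intro c hc
    have h := apply_central_mul' hθ (hCZ hc) c⁻¹
    rw [mul_inv_cancel, char_inv hθc, hD, eq_div_iff hD0'] at h
    exact h.symm
  have hcard : Nat.card Q = Nat.card C * (D * D) := by
    have h := classInner_irr_self hθ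
    rw [classInner_def, inv_mul_eq_iff_eq_mul₀ card_ne_zero', mul_one,
      ← Finset.sum_subset (Finset.filter_subset (· ∈ C) Finset.univ) fun g _ hg => by
        rw [hvan g (fun hgC => hg (Finset.mem_filter.mpr ⟨Finset.mem_univ _, hgC⟩)), zero_mul],
      Finset.sum_congr rfl fun g hg => habs g (Finset.mem_filter.mp hg).2, Finset.sum_const,
      nsmul_eq_mul] at h
    have hc : (Finset.univ.filter (· ∈ C)).card = Nat.card C := by
      rw [Nat.card_eq_fintype_card]
      exact (Fintype.card_subtype _).symm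
    rw [hc] at h
    exact_mod_cast h.symm
  refine ⟨?_, ?_⟩
  · have hσp : IsPGroup p (Subgroup.zpowers σ) := by
      have hd : orderOf σ ∣ p := orderOf_dvd_of_pow_eq_one hσ
      rcases hp.out.eq_one_or_self_of_dvd _ hd with h | h
      · exact IsPGroup.of_card (n := 0) (by rw [Nat.card_zpowers, h, pow_zero])
      · exact IsPGroup.of_card (n := 1) (by rw [Nat.card_zpowers, h, pow_one])
    have hmod := hσp.card_modEq_card_fixedPoints Q
    have hfix : Nat.card (MulAction.fixedPoints (Subgroup.zpowers σ) Q) = Nat.card C := by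
      refine Nat.card_congr (Equiv.subtypeEquivRight fun x => ?_)
      rw [MulAction.mem_fixedPoints, hCmem]
      constructor
      · exact fun h => h ⟨σ, Subgroup.mem_zpowers σ⟩
      · intro h t
        have : t.1 ∈ MulAction.stabilizer (MulAut Q) x :=
          (Subgroup.zpowers_le.mpr (show σ ∈ MulAction.stabilizer (MulAut Q) x from h)) t.2
        exact this
    rw [hfix, hcard] at hmod
    have h2 : p ∣ Nat.card C * (D * D) - Nat.card C :=
      (Nat.modEq_iff_dvd' (Nat.le_mul_of_pos_right _ (Nat.mul_pos hD0 hD0))).mp hmod.symm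
    rw [show Nat.card C * (D * D) - Nat.card C = Nat.card C * (D * D - 1) by
      rw [Nat.mul_sub, mul_one]] at h2
    refine (hp.out.dvd_mul.mp h2).resolve_left fun h => hqp ?_
    obtain ⟨i, hi⟩ := IsPGroup.iff_card.mp (hQ.to_subgroup C)
    rw [hi] at h
    exact ((Nat.prime_dvd_prime_iff_eq hp.out hq.out).mp (hp.out.dvd_of_dvd_pow h)).symm
  · obtain ⟨i, hi⟩ := IsPGroup.iff_card.mp hQ
    obtain ⟨j, -, hj⟩ := (Nat.dvd_prime_pow hq.out).mp (hi ▸ degree_dvd_card hθ hD)
    exact ⟨j, hj⟩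

/-- The bound for an automorphism of order `p` of a minimal moved group. -/
theorem bound_of_moved {p q : ℕ} [hp : Fact p.Prime] [hq : Fact q.Prime] (hqp : q ≠ p)
    (hQ : IsPGroup q Q) (σ : MulAut Q) (hσ : σ ^ p = 1) (hmoved : ∃ x, σ x ≠ x)
    (hsub : ∀ H : Subgroup Q, H ≠ ⊤ → (∀ x ∈ H, σ x ∈ H) → ∀ x ∈ H, σ x = x)
    {χ : Q → ℂ} (hχ : Cfsg.IsCharacter Q χ) (hfaith : ∀ g, χ g = χ 1 → g = 1)
    (hinv : ∀ x, χ (σ x) = χ x) {n : ℕ} (hn : χ 1 = n) (hnp : n + 1 ≤ p) :
    n + 1 = p ∧ (∃ k : ℕ, n = 2 ^ k) ∧ Cfsg.IsIrrCharacter Q χ := by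
  classical
  have := Fintype.ofFinite Q
  obtain ⟨m, hm, hmi⟩ := char_decomp hχ
  choose d hd0 hd using fun θ : Cfsg.IrrCharacter Q => exists_degree_pos θ.2
  have hsum : n = ∑ θ, m θ * d θ := by
    have h := congrFun hm 1
    simp only [Finset.sum_apply, Pi.smul_apply, smul_eq_mul, hd, hn] at h
    exact_mod_cast h
  let Φ : Equiv.Perm (Cfsg.IrrCharacter Q) :=
    { toFun := fun θ => ⟨(θ : Q → ℂ) ∘ σ, isIrr_comp_mulEquiv θ.2 σ⟩
      invFun := fun θ => ⟨(θ : Q → ℂ) ∘ σ.symm, isIrr_comp_mulEquiv θ.2 σ.symm⟩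
      left_inv := fun θ => Subtype.ext (funext fun x => by simp)
      right_inv := fun θ => Subtype.ext (funext fun x => by simp) }
  have hΦ : ∀ (i : ℕ) (θ : Cfsg.IrrCharacter Q) (x : Q),
      ((Φ^[i] θ : Cfsg.IrrCharacter Q) : Q → ℂ) x = (θ : Q → ℂ) ((σ ^ i : MulAut Q) x) := by
    intro i
    induction i with
    | zero => simp
    | succ i ih =>
      intro θ x
      rw [Function.iterate_succ_apply', pow_succ, MulAut.mul_apply]
      exact ih θ (σ x)
  have hmΦ : ∀ θ, m (Φ θ) = m θ := by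
    intro θ
    have h1 := hmi (Φ θ)
    have h2 : Cfsg.classInner χ ((θ : Q → ℂ) ∘ σ) = Cfsg.classInner (χ ∘ σ) ((θ : Q → ℂ) ∘ σ) := by
      congr 1
      exact funext fun x => (hinv x).symm
    have h3 : ((m (Φ θ)) : ℂ) = m θ := by
      rw [← h1, ← hmi θ]
      exact h2.trans (classInner_comp_mulEquiv σ χ θ)
    exact_mod_cast h3
  have hfixed : ∀ θ, m θ ≠ 0 → Φ θ = θ := by
    intro θ hθ0
    by_contra hne
    have hper : Function.minimalPeriod Φ θ = p := by
      have hp' : Function.IsPeriodicPt Φ p θ := Subtype.ext (funext fun x => by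
        rw [hΦ, hσ, MulAut.one_apply])
      refine (hp.out.eq_one_or_self_of_dvd _ hp'.minimalPeriod_dvd).resolve_left fun h1 => hne ?_
      exact Function.minimalPeriod_eq_one_iff_isFixedPt.mp h1
    have hinj : Set.InjOn (fun i => Φ^[i] θ) (Finset.range p : Set ℕ) := by
      intro i hi j hj hij
      simp only [Finset.coe_range, Set.mem_Iio] at hi hj
      exact Function.iterate_injOn_Iio_minimalPeriod (by simpa [hper] using hi)
        (by simpa [hper] using hj) hij
    have hmit : ∀ i, m (Φ^[i] θ) = m θ := by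
      intro i
      induction i with
      | zero => rfl
      | succ i ih => rw [Function.iterate_succ_apply', hmΦ, ih]
    have hle : p ≤ n := by
      rw [hsum]
      calc p = ∑ θ' ∈ (Finset.range p).image (fun i => Φ^[i] θ), 1 := by
              rw [Finset.sum_const, Finset.card_image_of_injOn hinj, Finset.card_range,
                smul_eq_mul, mul_one]
        _ ≤ ∑ θ' ∈ (Finset.range p).image (fun i => Φ^[i] θ), m θ' * d θ' := by
              refine Finset.sum_le_sum fun θ' hθ' => ?_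
              obtain ⟨i, -, rfl⟩ := Finset.mem_image.mp hθ'
              rw [hmit]
              exact Nat.mul_pos (Nat.pos_of_ne_zero hθ0) (hd0 _)
        _ ≤ _ := Finset.sum_le_univ_sum_of_nonneg (fun _ => Nat.zero_le _)
    omega
  obtain ⟨θ, hθ0, hθ1⟩ : ∃ θ, m θ ≠ 0 ∧ d θ ≠ 1 := by
    by_contra hall
    push Not at hall
    obtain ⟨x, hx⟩ := hmoved
    refine hx (inv_mul_eq_one.mp (hfaith (x⁻¹ * σ x) ?_)).symm
    rw [hm]
    simp only [Finset.sum_apply, Pi.smul_apply, smul_eq_mul]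
    refine Finset.sum_congr rfl fun θ _ => ?_
    by_cases h0 : m θ = 0
    · simp [h0]
    have hlin : (θ : Q → ℂ) 1 = 1 := by rw [hd, hall θ h0, Nat.cast_one]
    have hfx : (θ : Q → ℂ) (σ x) = (θ : Q → ℂ) x := congrFun (congrArg Subtype.val (hfixed θ h0)) x
    rw [linear_map_mul (isCharacter_of_isIrr θ.2) hlin, hfx,
      ← linear_map_mul (isCharacter_of_isIrr θ.2) hlin, inv_mul_cancel]
  obtain ⟨hdvd, k, hk⟩ := degree_of_moved hqp hQ σ hσ hmoved hsub θ.2
    (fun x => congrFun (congrArg Subtype.val (hfixed θ hθ0)) x) (hd θ) hθ1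
  have hterm : m θ * d θ ≤ n := hsum ▸ Finset.single_le_sum (f := fun θ => m θ * d θ)
    (fun _ _ => Nat.zero_le _) (Finset.mem_univ θ)
  have hdn : d θ ≤ n := (Nat.le_mul_of_pos_left _ (Nat.pos_of_ne_zero hθ0)).trans hterm
  have hd2 : 2 ≤ d θ := by have := hd0 θ; omega
  have hsplit : p ∣ (d θ - 1) * (d θ + 1) := by
    have : (d θ - 1) * (d θ + 1) = d θ * d θ - 1 := by
      obtain ⟨a, ha⟩ : ∃ a, d θ = a + 1 := ⟨d θ - 1, by omega⟩
      rw [ha, Nat.add_sub_cancel, show (a + 1) * (a + 1) = a * (a + 1 + 1) + 1 by ring,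
        Nat.add_sub_cancel]
    rw [this]; exact hdvd
  have hp1 : p ∣ d θ + 1 := (hp.out.dvd_mul.mp hsplit).resolve_left fun h => by
    have := Nat.le_of_dvd (by omega) h
    omega
  have hpd : p ≤ d θ + 1 := Nat.le_of_dvd (by omega) hp1
  have hdeq : d θ = n := by omega
  have hm1 : m θ = 1 := by
    rcases Nat.lt_trichotomy (m θ) 1 with h | h | h
    · omega
    · exact h
    · have := Nat.mul_le_mul_right (d θ) h
      omega
  refine ⟨by omega, ⟨k, ?_⟩, ?_⟩
  · have hodd : Odd p := hp.out.odd_of_ne_two (by omega)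
    have heven : Even (d θ) := by
      obtain ⟨a, ha⟩ := hodd
      exact ⟨a, by omega⟩
    rw [← hdeq, hk] at *
    rw [Nat.even_pow] at heven
    rw [hq.out.even_iff.mp heven.1]
  · have hχe : χ = (θ : Q → ℂ) := by
      rw [hm, ← Finset.add_sum_erase _ _ (Finset.mem_univ θ), hm1, Nat.cast_one, one_smul,
        Finset.sum_eq_zero, add_zero]
      intro θ' hθ'
      have h := Finset.add_sum_erase Finset.univ (fun θ => m θ * d θ) (Finset.mem_univ θ)
      rw [← hsum, hm1, one_mul, hdeq] at h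
      have h0 : ∑ x ∈ Finset.univ.erase θ, m x * d x = 0 := by omega
      have := Finset.sum_eq_zero_iff.mp h0 θ' hθ'
      rw [(Nat.mul_eq_zero.mp this).resolve_right (hd0 θ').ne', Nat.cast_zero, zero_smul]
    rw [hχe]; exact θ.2

variable {G : Type u} [Group G] [Finite G]

theorem mem_normalizer_of_conj_le {H : Subgroup G} {y : G} (h : ∀ a ∈ H, y * a * y⁻¹ ∈ H) :
    y ∈ Subgroup.normalizer (H : Set G) := by
  have hle : H.map (MulAut.conj y).toMonoidHom ≤ H := by
    rintro _ ⟨a, ha, rfl⟩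
    exact h a ha
  have heq := Subgroup.eq_of_le_of_card_ge hle
    (le_of_eq (Subgroup.card_map_of_injective (MulEquiv.injective _)).symm)
  intro a
  refine ⟨fun ha => h a ha, fun ha => ?_⟩
  have : (MulAut.conj y) a ∈ H.map (MulAut.conj y).toMonoidHom := by rw [heq]; exact ha
  obtain ⟨b, hb, hba⟩ := this
  exact (MulEquiv.injective _ hba) ▸ hb

/-- Itô's lemma. -/
theorem ito_coprime {p : ℕ} [hp : Fact p.Prime] {χ : G → ℂ} (hχ : Cfsg.IsCharacter G χ)
    (hfaith : ∀ g, χ g = χ 1 → g = 1) {n : ℕ} (hn : χ 1 = n) (hnp : n + 1 ≤ p) {K : Subgroup G}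
    (hK : ¬ p ∣ Nat.card K) {x : G} (hx : ∃ k, orderOf x = p ^ k)
    (hxK : x ∈ Subgroup.normalizer (K : Set G)) (hne : ∃ a ∈ K, x * a ≠ a * x) :
    n + 1 = p ∧ (∃ k : ℕ, n = 2 ^ k) ∧ Cfsg.IsIrrCharacter G χ := by
  classical
  have := Fintype.ofFinite G
  obtain ⟨e, he⟩ := hx
  have hex : ∃ j, ∀ a ∈ K, x ^ p ^ j * a = a * x ^ p ^ j :=
    ⟨e, fun a _ => by rw [← he, pow_orderOf_eq_one, one_mul, mul_one]⟩
  have hj0 : Nat.find hex ≠ 0 := by
    intro h0
    obtain ⟨a, ha, hna⟩ := hne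
    exact hna (by simpa [h0] using Nat.find_spec hex a ha)
  obtain ⟨i, hi⟩ := Nat.exists_eq_succ_of_ne_zero hj0
  set y := x ^ p ^ i with hy
  have hyp : ∀ a ∈ K, y ^ p * a = a * y ^ p := fun a ha => by
    rw [hy, ← pow_mul, ← pow_succ]
    have := Nat.find_spec hex a ha
    rwa [hi] at this
  have hymov : ∃ a ∈ K, y * a ≠ a * y := by
    by_contra hcon
    push Not at hcon
    have := Nat.find_min' hex (m := i) hcon
    omega
  have hyK : y ∈ Subgroup.normalizer (K : Set G) := pow_mem hxK _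
  have hyord : ∃ k, Nat.card (Subgroup.zpowers y) = p ^ k := by
    rw [Nat.card_zpowers]
    obtain ⟨k, -, hk⟩ := (Nat.dvd_prime_pow hp.out).mp (he ▸ orderOf_pow_dvd (x := x) (p ^ i))
    exact ⟨k, hk⟩
  let P : Subgroup G → Prop := fun R =>
    R ≤ K ∧ y ∈ Subgroup.normalizer (R : Set G) ∧ ∃ a ∈ R, y * a ≠ a * y
  obtain ⟨Q, hQ, hQmin⟩ :=
    ((Finset.univ : Finset (Subgroup G)).filter P).exists_min_image (fun R => Nat.card R)
      ⟨K, Finset.mem_filter.mpr ⟨Finset.mem_univ _, le_rfl, hyK, hymov⟩⟩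
  obtain ⟨-, hQK, hQy, hQmov⟩ := Finset.mem_filter.mp hQ
  have hsmall : ∀ R : Subgroup G, R ≤ Q → R ≠ Q → y ∈ Subgroup.normalizer (R : Set G) →
      ∀ a ∈ R, y * a = a * y := by
    intro R hRQ hRne hRy a ha
    by_contra hna
    refine hRne (Subgroup.eq_of_le_of_card_ge hRQ (hQmin R ?_))
    exact Finset.mem_filter.mpr ⟨Finset.mem_univ _, hRQ.trans hQK, hRy, a, ha, hna⟩
  -- the minimal subgroup is a `q`-group
  have hzQ : Subgroup.zpowers y ≤ Subgroup.normalizer (Q : Set G) := Subgroup.zpowers_le.mpr hQy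
  have hcop : (Nat.card (Subgroup.zpowers y)).Coprime (Nat.card Q) := by
    obtain ⟨k, hk⟩ := hyord
    rw [hk]
    exact Nat.Coprime.pow_left _ (hp.out.coprime_iff_not_dvd.mpr fun h =>
      hK (h.trans (Subgroup.card_dvd_of_le hQK)))
  obtain ⟨q, hq, hqQ⟩ : ∃ q, q.Prime ∧ IsPGroup q Q := by
    by_contra hnone
    push Not at hnone
    set C := (Subgroup.centralizer ({y} : Set G)).subgroupOf Q with hC
    have hCtop : C ≠ ⊤ := by
      intro h
      obtain ⟨a, ha, hna⟩ := hQmov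
      exact hna (Subgroup.mem_centralizer_singleton_iff.mp
        (h ▸ Subgroup.mem_top (⟨a, ha⟩ : Q) : (⟨a, ha⟩ : Q) ∈ C)).symm
    obtain ⟨r, hr, hrd⟩ := Nat.exists_prime_and_dvd (mt Subgroup.index_eq_one.mp hCtop)
    have := Fact.mk hr
    obtain ⟨R, hR⟩ := CfsgLib.Solvable.exists_invariant_sylow (Subgroup.zpowers y) Q hzQ hcop
      (Or.inl inferInstance) r
    refine R.not_dvd_index (hrd.trans (Subgroup.index_dvd_of_le fun a ha => ?_))
    refine Subgroup.mem_centralizer_singleton_iff.mpr (hsmall _ (Subgroup.map_subtype_le _) ?_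
      (hR (Subgroup.mem_zpowers y)) _ ⟨a, ha, rfl⟩).symm
    intro e
    refine hnone r hr ?_
    rw [← e]
    exact R.isPGroup'.map _
  have := Fact.mk hq
  have hqp : q ≠ p := by
    rintro rfl
    obtain ⟨k, hk⟩ := IsPGroup.iff_card.mp hqQ
    obtain ⟨a, ha, hna⟩ := hQmov
    rcases k with _ | k
    · rw [pow_zero] at hk
      have ha1 : a = 1 := Subgroup.mem_bot.mp (Subgroup.card_eq_one.mp hk ▸ ha)
      subst ha1
      exact hna (by rw [mul_one, one_mul])
    · exact hK ((hk ▸ dvd_pow_self q k.succ_ne_zero).trans (Subgroup.card_dvd_of_le hQK))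
  let σ : MulAut Q :=
    { toFun := fun a => ⟨y * a * y⁻¹, (hQy a).mp a.2⟩
      invFun := fun a => ⟨y⁻¹ * a * y, by
        have := (Subgroup.inv_mem _ hQy (a : G)).mp a.2
        rwa [inv_inv] at this⟩
      left_inv := fun a => Subtype.ext (by simp [mul_assoc])
      right_inv := fun a => Subtype.ext (by simp [mul_assoc])
      map_mul' := fun a b => Subtype.ext (by simp [mul_assoc]) }
  have hσi : ∀ (j : ℕ) (a : Q), (((σ ^ j : MulAut Q) a : Q) : G) = y ^ j * a * (y ^ j)⁻¹ := by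
    intro j
    induction j with
    | zero => simp
    | succ j ih =>
      intro a
      rw [pow_succ, MulAut.mul_apply, ih, pow_succ, mul_inv_rev]
      simp [σ, mul_assoc]
  have hσp : σ ^ p = 1 := MulEquiv.ext fun a => Subtype.ext (by
    rw [hσi, hyp _ (hQK a.2), mul_inv_cancel_right, MulAut.one_apply])
  obtain ⟨h1, h2, h3⟩ := bound_of_moved hqp hqQ σ hσp (by
      obtain ⟨a, ha, hna⟩ := hQmov
      refine ⟨⟨a, ha⟩, fun h => hna ?_⟩
      exact mul_inv_eq_iff_eq_mul.mp (congrArg Subtype.val h))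
    (fun H hH hHσ a ha => by
      refine Subtype.ext ?_
      show y * (a : G) * y⁻¹ = a
      refine mul_inv_eq_iff_eq_mul.mpr ?_
      refine hsmall (H.map Q.subtype) (Subgroup.map_subtype_le _) ?_ ?_ _ ⟨a, ha, rfl⟩
      · intro e
        apply hH
        rw [Subgroup.eq_top_iff']
        intro b
        obtain ⟨b', hb', hbe⟩ : (b : G) ∈ H.map Q.subtype := e.symm ▸ b.2
        exact (Subtype.ext hbe : b' = b) ▸ hb'
      · refine mem_normalizer_of_conj_le ?_
        rintro _ ⟨b, hb, rfl⟩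
        exact ⟨σ b, hHσ b hb, rfl⟩)
    (isCharacter_res Q hχ) (fun g hg => Subtype.ext (hfaith _ hg))
    (fun a => (isClassFunction_of_isCharacter hχ) (a : G) y) hn hnp
  exact ⟨h1, h2, isIrr_of_comp_isIrr Q.subtype hχ h3⟩

end CfsgLib.CharNormal

namespace CfsgLib.CharNormal

open CfsgLib.Char

universe v

variable {G : Type v} [Group G] [Finite G]

/-- A Sylow subgroup centralizing `K`, with `K ⊔ P` normal, is normal. -/
theorem sylow_normal_of_centralizes {p : ℕ} [Fact p.Prime] (P : Sylow p G) {K : Subgroup G}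
    (hKP : (K ⊔ (P : Subgroup G)).Normal)
    (h : ∀ a ∈ K, ∀ x ∈ (P : Subgroup G), x * a = a * x) : (P : Subgroup G).Normal := by
  set L := K ⊔ (P : Subgroup G) with hL
  have hLN : L ≤ Subgroup.normalizer ((P : Subgroup G) : Set G) := by
    refine sup_le (fun a ha => ?_) Subgroup.le_normalizer
    refine mem_normalizer_of_conj_le fun x hx => ?_
    rwa [← h a ha x hx, mul_inv_cancel_right]
  have hmap : ((P.subtype le_sup_right : Sylow p L) : Subgroup L).map L.subtype = (P : Subgroup G) := by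
    rw [Sylow.coe_subtype]
    exact Subgroup.map_subgroupOf_eq_of_le le_sup_right
  have hfr := (P.subtype (le_sup_right : (P : Subgroup G) ≤ L)).normalizer_sup_eq_top
  rw [hmap, sup_eq_left.mpr hLN] at hfr
  exact Subgroup.normalizer_eq_top_iff.mp hfr

/-- Itô: a `p`-element moving a normal `p'`-subgroup. -/
theorem sylow_normal_or_extreme {p : ℕ} [hp : Fact p.Prime] {χ : G → ℂ}
    (hχ : Cfsg.IsCharacter G χ) (hfaith : ∀ g, χ g = χ 1 → g = 1) {n : ℕ} (hn : χ 1 = n)
    (hnp : n + 1 ≤ p) (P : Sylow p G) {K : Subgroup G} [K.Normal] (hK : ¬ p ∣ Nat.card K)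
    (hKP : (K ⊔ (P : Subgroup G)).Normal) :
    (P : Subgroup G).Normal ∨
      (n + 1 = p ∧ (∃ k : ℕ, n = 2 ^ k) ∧ Cfsg.IsIrrCharacter G χ) := by
  by_cases h : ∀ a ∈ K, ∀ x ∈ (P : Subgroup G), x * a = a * x
  · exact Or.inl (sylow_normal_of_centralizes P hKP h)
  push Not at h
  obtain ⟨a, ha, x, hx, hne⟩ := h
  refine Or.inr (ito_coprime hχ hfaith hn hnp hK ?_ ?_ ⟨a, ha, hne⟩)
  · obtain ⟨k, hk⟩ := IsPGroup.iff_orderOf.mp P.isPGroup' ⟨x, hx⟩
    exact ⟨k, by rw [← hk, Subgroup.orderOf_mk]⟩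
  · rw [Subgroup.normalizer_eq_top]
    trivial

end CfsgLib.CharNormal
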