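import Cfsg.Agent.Lib.CharNormal.Galois
import Cfsg.Agent.Lib.CharNormal.Kernel
import Cfsg.Agent.Lib.Char.Integral
import Cfsg.Agent.Lib.Char.Linear
import Cfsg.Agent.Lib.Char.Equiv
import Cfsg.Agent.Lib.Solvable.Hall
import Cfsg.Agent.Lib.Solvable.NilpotentHall
import Cfsg.Prelude.Def_OddOrderLocal
import Mathlib.GroupTheory.SchurZassenhaus

/-!
# Blichfeldt: Hall subgroups for large primes in linear groups

For a finite group with a faithful character of degree `n` and a set `π` of primes greater than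
`n + 1` there is an abelian Hall `π`-subgroup.
-/

namespace CfsgLib.CharNormal

open CfsgLib.Char
open scoped ComplexConjugate Pointwise

universe u

variable {G : Type u} [Group G] [Finite G]

/-- A group of order divisible only by primes above the degree of a faithful character is
abelian. -/
theorem comm_of_faithful_small {χ : G → ℂ} (hχ : Cfsg.IsCharacter G χ)
    (hfaith : ∀ g : G, χ g = χ 1 → g = 1) {n : ℕ} (hn : χ 1 = n)
    (hbig : ∀ q : ℕ, q.Prime → q ∣ Nat.card G → n < q) (a b : G) : a * b = b * a := by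
  classical
  have := Fintype.ofFinite G
  have h : ∀ ψ : Cfsg.IrrCharacter G, Cfsg.classInner χ ψ *
      (ψ : G → ℂ) (a * b * a⁻¹ * b⁻¹) = Cfsg.classInner χ ψ * (ψ : G → ℂ) 1 := by
    intro ψ
    by_cases h0 : Cfsg.classInner χ ψ = 0
    · rw [h0, zero_mul, zero_mul]
    obtain ⟨d, hd0, hd⟩ := exists_degree_pos ψ.2
    have hdle : d ≤ n := by
      have h := constituent_degree_le hχ ψ.2 h0
      rw [hn, hd, Complex.natCast_re, Complex.natCast_re] at h
      exact_mod_cast h
    have hd1 : d = 1 := by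
      by_contra hne
      obtain ⟨q, hq, hqd⟩ := Nat.exists_prime_and_dvd hne
      have := hbig q hq (hqd.trans (degree_dvd_card ψ.2 hd))
      have := Nat.le_of_dvd hd0 hqd
      omega
    have hlin : (ψ : G → ℂ) 1 = 1 := by rw [hd, hd1, Nat.cast_one]
    have hm := linear_map_mul (isCharacter_of_isIrr ψ.2) hlin
    congr 1
    rw [hm, isClassFunction_of_isIrr ψ.2, ← hm, mul_inv_cancel]
  have he : a * b * a⁻¹ * b⁻¹ = 1 := by
    refine hfaith _ ?_
    rw [classFun_eq_sum (isClassFunction_of_isCharacter hχ)]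
    simp only [Finset.sum_apply, Pi.smul_apply, smul_eq_mul]
    exact Finset.sum_congr rfl fun ψ _ => h ψ
  calc a * b = (a * b * a⁻¹ * b⁻¹) * (b * a) := by group
    _ = b * a := by rw [he, one_mul]

/-- A Galois twist moving a faithful irreducible character of small degree and fixing its values
at the `p`-regular elements. -/
theorem exists_twist {ψ : G → ℂ} (hψ : Cfsg.IsIrrCharacter G ψ)
    (hfaith : ∀ g : G, ψ g = ψ 1 → g = 1) {d : ℕ} (hd : ψ 1 = d) {p : ℕ} (hp : p.Prime)
    (hdp : d + 1 < p) (hpG : p ∣ Nat.card G) :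
    ∃ ψ' : G → ℂ, Cfsg.IsIrrCharacter G ψ' ∧ ψ' ≠ ψ ∧
      ∀ g : G, ¬ p ∣ orderOf g → ψ' g = ψ g := by
  classical
  have := Fintype.ofFinite G
  have := Fact.mk hp
  obtain ⟨x, hx⟩ := exists_prime_orderOf_dvd_card' p hpG
  have hc := isCharacter_of_isIrr hψ
  obtain ⟨a, ha1, hap, ha⟩ : ∃ a, 1 ≤ a ∧ a < p ∧ ψ (x ^ a) ≠ ψ x := by
    by_contra hcon
    push Not at hcon
    have := Fintype.ofFinite (Subgroup.zpowers x)
    obtain ⟨m, hm⟩ := classInner_char_nat (isCharacter_res (Subgroup.zpowers x) hc)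
      (isCharacter_one (G := Subgroup.zpowers x))
    have hsum : ∑ h : Subgroup.zpowers x, ψ h = ∑ i ∈ Finset.range p, ψ (x ^ i) := by
      rw [← Fin.sum_univ_eq_sum_range (fun i => ψ (x ^ i))]
      refine Fintype.sum_equiv ((finCongr hx.symm).trans
        (finEquivZPowers (isOfFinOrder_of_finite x))).symm _ _ fun h => ?_
      obtain ⟨i, rfl⟩ := ((finCongr hx.symm).trans
        (finEquivZPowers (isOfFinOrder_of_finite x))).surjective h
      rw [Equiv.symm_apply_apply]
      simp [finEquivZPowers_apply]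
    have hval : (m : ℂ) * p = d + (p - 1 : ℕ) * ψ x := by
      have h := card_mul_classInner (fun h : Subgroup.zpowers x => ψ h)
        (fun _ : Subgroup.zpowers x => (1 : ℂ))
      simp only [map_one, mul_one, hm, Nat.card_zpowers, hx] at h
      rw [mul_comm, h, hsum, Finset.range_eq_Ico, Finset.sum_eq_sum_Ico_succ_bot hp.pos, pow_zero,
        hd, Finset.sum_congr rfl (g := fun _ => ψ x) fun i hi => by
          rw [Finset.mem_Ico] at hi; exact hcon i hi.1 hi.2, Finset.sum_const, Nat.card_Ico,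
        nsmul_eq_mul]
    have hq : ψ x = (((m : ℚ) * p - d) / ((p - 1 : ℕ) : ℚ) : ℚ) := by
      have hp1 : ((p - 1 : ℕ) : ℂ) ≠ 0 := by exact_mod_cast (by omega : p - 1 ≠ 0)
      push_cast
      rw [eq_div_iff hp1]
      linear_combination -hval
    obtain ⟨z, hz⟩ := exists_int_of_isIntegral_rat (q := ((m : ℚ) * p - d) / ((p - 1 : ℕ) : ℚ))
      (by rw [← hq]; exact char_isIntegral hc x)
    rw [hz] at hq
    have hq' : ψ x = (z : ℂ) := by rw [hq]; norm_num
    have hle : z ≤ d := by
      have := norm_char_le hc x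
      rw [hq', hd, Complex.norm_intCast, Complex.natCast_re] at this
      have h1 : (|z| : ℝ) ≤ d := by exact_mod_cast this
      have h2 : |z| ≤ (d : ℤ) := by exact_mod_cast h1
      exact (le_abs_self z).trans h2
    have hval' : (m : ℤ) * p = d + ((p - 1 : ℕ) : ℤ) * z := by
      rw [hq'] at hval; exact_mod_cast hval
    have hp1 : ((p - 1 : ℕ) : ℤ) = (p : ℤ) - 1 := by omega
    rw [hp1] at hval'
    -- all nontrivial eigenvalues would have the same multiplicity
    have hzd : z ≠ d := by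
      intro e
      have hx1 : x = 1 := hfaith x (by rw [hq', hd, e, Int.cast_natCast])
      rw [hx1, orderOf_one] at hx
      exact hp.one_lt.ne hx
    have h1 : ((d : ℤ) - z) = ((p : ℤ)) * ((m : ℤ) - z) := by linear_combination -hval'
    have h2 : 0 < (m : ℤ) - z := by
      have : 0 < (d : ℤ) - z := by omega
      by_contra hle'
      push Not at hle'
      have := mul_nonpos_of_nonneg_of_nonpos (Int.natCast_nonneg p) hle'
      omega
    have h3 : (p : ℤ) ≤ (d : ℤ) - z := by
      rw [h1]; exact le_mul_of_one_le_right (Int.natCast_nonneg p) h2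
    have h4 : ((p : ℤ) - 1) * ((m : ℤ) - z) = (d : ℤ) - m := by linear_combination -h1
    have h5 : (p : ℤ) - 1 ≤ (d : ℤ) - m := by
      rw [← h4]; exact le_mul_of_one_le_right (by omega) h2
    omega
  have hc2 : Nat.Coprime (p ^ (Nat.card G).factorization p)
      (Nat.card G / p ^ (Nat.card G).factorization p) :=
    Nat.Coprime.pow_left _ (Nat.coprime_ordCompl hp Nat.card_pos.ne')
  obtain ⟨k, hk1, hk2⟩ := Nat.chineseRemainder hc2 a 1
  set N := Nat.card G with hN
  have hf : 1 ≤ N.factorization p := (hp.dvd_iff_one_le_factorization Nat.card_pos.ne').mp hpG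
  have hka : k ≡ a [MOD p] := hk1.of_dvd (dvd_pow_self p (by omega))
  have hkc : Nat.Coprime k N := by
    refine Nat.coprime_of_dvd fun r hr hrk hrN => ?_
    by_cases hrp : r = p
    · subst hrp
      have h0 : a ≡ 0 [MOD r] := hka.symm.trans ((Nat.modEq_zero_iff_dvd).mpr hrk)
      have := Nat.le_of_dvd (by omega) ((Nat.modEq_zero_iff_dvd).mp h0)
      omega
    · have hr' : r ∣ N / p ^ N.factorization p := by
        rw [← Nat.ordProj_mul_ordCompl_eq_self N p] at hrN
        exact ((Nat.Coprime.pow_right _ ((Nat.coprime_primes hr hp).mpr hrp))).dvd_of_dvd_mul_left hrN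
      have h0 : 1 ≡ 0 [MOD r] := (hk2.of_dvd hr').symm.trans ((Nat.modEq_zero_iff_dvd).mpr hrk)
      exact hr.one_lt.ne' (Nat.dvd_one.mp ((Nat.modEq_zero_iff_dvd).mp h0))
  obtain ⟨σ, hσ⟩ := exists_ringEquiv_root_pow (n := N) Nat.card_pos.ne' hkc
  have hval : ∀ g : G, (σ ∘ ψ) g = ψ (g ^ k) := fun g =>
    ringEquiv_char_apply hσ hc (orderOf_dvd_natCard g)
  refine ⟨σ ∘ ψ, isIrr_ringEquiv σ hψ, fun e => ha ?_, fun g hg => ?_⟩
  · have h := congrFun e x
    rw [hval, pow_eq_pow_iff_modEq.mpr (show k ≡ a [MOD orderOf x] by rw [hx]; exact hka)] at h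
    exact h
  · rw [hval]
    congr 1
    have hdvd : orderOf g ∣ N / p ^ N.factorization p := by
      have h := orderOf_dvd_natCard g
      rw [← hN, ← Nat.ordProj_mul_ordCompl_eq_self N p] at h
      exact (Nat.Coprime.pow_right _ ((hp.coprime_iff_not_dvd.mpr hg).symm)).dvd_of_dvd_mul_left h
    conv_rhs => rw [← pow_one g]
    exact pow_eq_pow_iff_modEq.mpr (hk2.of_dvd hdvd)

/-- Two large primes have commuting elements. -/
theorem exists_commuting {ψ : G → ℂ} (hψ : Cfsg.IsIrrCharacter G ψ)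
    (hfaith : ∀ g : G, ψ g = ψ 1 → g = 1) {d : ℕ} (hd : ψ 1 = d) {p q : ℕ} (hp : p.Prime)
    (hq : q.Prime) (hdp : d + 1 < p) (hdq : d + 1 < q) (hpG : p ∣ Nat.card G)
    (hqG : q ∣ Nat.card G) :
    ∃ x y : G, orderOf x = p ∧ orderOf y = q ∧ Commute x y := by
  classical
  have := Fintype.ofFinite G
  obtain ⟨α, hα, hαne, hαreg⟩ := exists_twist hψ hfaith hd hp hdp hpG
  obtain ⟨β, hβ, hβne, hβreg⟩ := exists_twist hψ hfaith hd hq hdq hqG
  by_contra hcon
  push Not at hcon
  have hzero : Cfsg.classInner (ψ - α) (ψ - β) = 0 := by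
    rw [classInner_def, Finset.sum_eq_zero, mul_zero]
    intro g _
    by_cases h1 : p ∣ orderOf g
    · by_cases h2 : q ∣ orderOf g
      · exact absurd (((Commute.refl g).pow_pow _ _))
          (hcon _ _ (orderOf_pow_orderOf_div (orderOf_pos g).ne' h1)
            (orderOf_pow_orderOf_div (orderOf_pos g).ne' h2))
      · rw [Pi.sub_apply ψ β, hβreg g h2, sub_self, map_zero, mul_zero]
    · rw [Pi.sub_apply ψ α, hαreg g h1, sub_self, zero_mul]
  rw [classInner_sub_left, classInner_sub_right, classInner_sub_right, classInner_irr_self hψ,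
    classInner_irr_ne hψ hβ hβne.symm, classInner_irr_ne hα hψ hαne, classInner_irr hα hβ] at hzero
  split_ifs at hzero <;> norm_num at hzero

omit [Finite G] in
theorem isPiHall_of_subgroup {π : Set ℕ} {L : Subgroup G} (hL : ∀ q : ℕ, q.Prime → q ∈ π →
    ¬ q ∣ L.index) {A : Subgroup L} (hA : Cfsg.IsPiHall π A) :
    Cfsg.IsPiHall π (A.map L.subtype) := by
  refine ⟨fun q hq hd => hA.1 q hq ?_, fun q hq hqπ hd => ?_⟩
  · rwa [Subgroup.card_map_of_injective L.subtype_injective] at hd
  · rw [Subgroup.index_map_subtype] at hd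
    rcases hq.dvd_mul.mp hd with h | h
    · exact hA.2 q hq hqπ h
    · exact hL q hq hqπ h

/-- The induction hypothesis. -/
def HallBelow (m : ℕ) : Prop :=
  ∀ (H : Type u) [Group H] [Finite H], Nat.card H < m → ∀ (χ : H → ℂ) (n : ℕ),
    Cfsg.IsCharacter H χ → (∀ g : H, χ g = χ 1 → g = 1) → χ 1 = n →
    ∀ π : Set ℕ, (∀ q : ℕ, q.Prime → q ∈ π → n + 1 < q) → ∃ A : Subgroup H, Cfsg.IsPiHall π A

theorem hall_subgroup (ih : HallBelow.{u} (Nat.card G)) {χ : G → ℂ} (hχ : Cfsg.IsCharacter G χ)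
    (hfaith : ∀ g : G, χ g = χ 1 → g = 1) {n : ℕ} (hn : χ 1 = n) {π : Set ℕ}
    (hπ : ∀ q : ℕ, q.Prime → q ∈ π → n + 1 < q) {L : Subgroup G} (hL : L ≠ ⊤) :
    ∃ A : Subgroup L, Cfsg.IsPiHall π A ∧ ∀ a b : A, a * b = b * a := by
  have hlt : Nat.card L < Nat.card G :=
    lt_of_le_of_ne L.card_le_card_group fun e => hL (L.eq_top_of_card_eq e)
  have hfaith' : ∀ g : L, χ g = χ ((1 : L) : G) → g = 1 := fun g h => Subtype.ext (hfaith _ h)
  obtain ⟨A, hA⟩ := ih L hlt (fun g : L => χ g) n (isCharacter_res L hχ) hfaith' hn π hπ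
  refine ⟨A, hA, ?_⟩
  exact comm_of_faithful_small (isCharacter_res A (isCharacter_res L hχ))
      (fun g h => Subtype.ext (hfaith' _ h)) (n := n) hn
      fun q hq hd => by have := hπ q hq (hA.1 q hq hd); omega

/-- Extension across a quotient possessing a Hall subgroup. -/
theorem hall_of_quotient (ih : HallBelow.{u} (Nat.card G)) {χ : G → ℂ}
    (hχ : Cfsg.IsCharacter G χ) (hfaith : ∀ g : G, χ g = χ 1 → g = 1) {n : ℕ} (hn : χ 1 = n)
    {π : Set ℕ} (hπ : ∀ q : ℕ, q.Prime → q ∈ π → n + 1 < q) (K : Subgroup G) [K.Normal]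
    (hK : K ≠ ⊤) (hQ : ∃ H : Subgroup (G ⧸ K), Cfsg.IsPiHall π H) :
    ∃ A : Subgroup G, Cfsg.IsPiHall π A := by
  obtain ⟨H, hH⟩ := hQ
  set L := H.comap (QuotientGroup.mk' K) with hLdef
  have hidx : L.index = H.index :=
    Subgroup.index_comap_of_surjective H (QuotientGroup.mk'_surjective K)
  have hLπ : ∀ q : ℕ, q.Prime → q ∈ π → ¬ q ∣ L.index := fun q hq hqπ => hidx ▸ hH.2 q hq hqπ
  by_cases hL : L ≠ ⊤
  · obtain ⟨A, hA, -⟩ := hall_subgroup ih hχ hfaith hn hπ hL
    exact ⟨_, isPiHall_of_subgroup hLπ hA⟩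
  push Not at hL
  -- now the quotient is a `π`-group
  have hKπ : ∀ q : ℕ, q.Prime → q ∣ K.index → q ∈ π := by
    intro q hq hd
    refine hH.1 q hq ?_
    rw [hL, Subgroup.index_top] at hidx
    rw [Subgroup.index_eq_one.mp hidx.symm, Subgroup.card_top]
    exact hd
  obtain ⟨A, hA, hAcomm⟩ := hall_subgroup ih hχ hfaith hn hπ hK
  have hAnil : Group.IsNilpotent A := by
    let : CommGroup A := { (inferInstance : Group A) with mul_comm := hAcomm }
    infer_instance
  have hcopA : (Nat.card A).Coprime A.index :=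
    Nat.coprime_of_dvd fun q hq h1 h2 => hA.2 q hq (hA.1 q hq h1) h2
  set A' : Subgroup G := A.map K.subtype with hA'
  have hA'K : A' ≤ K := Subgroup.map_subtype_le A
  set N := Subgroup.normalizer (A' : Set G) with hN
  -- Frattini argument
  have hfr : ∀ g : G, ∃ x ∈ K, x * g ∈ N := by
    intro g
    let B : Subgroup K := A.map (MulAut.conjNormal g : MulAut K).toMonoidHom
    have hBcard : Nat.card B = Nat.card A :=
      Subgroup.card_map_of_injective (MulEquiv.injective _)
    obtain ⟨x, hx⟩ := CfsgLib.Solvable.nilpotent_hall_dominates hAnil hcopA (K := B)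
      fun q _ hd => hBcard ▸ hd
    refine ⟨((x : G))⁻¹, K.inv_mem x.2, ?_⟩
    have hle : A'.map (MulAut.conj (((x : G))⁻¹ * g)).toMonoidHom ≤ A' := by
      rintro _ ⟨_, ⟨a, ha, rfl⟩, rfl⟩
      obtain ⟨a', ha', hae⟩ := hx (Subgroup.mem_map_of_mem (MulAut.conjNormal g : MulAut K).toMonoidHom ha)
      refine ⟨a', ha', ?_⟩
      have h := congrArg (fun z : K => (z : G)) hae
      simp only [MulEquiv.toMonoidHom_eq_coe, MonoidHom.coe_coe, MulDistribMulAction.toMonoidEnd_apply,
        MulAut.smul_def, MulAut.conj_apply, Subgroup.coe_mul, Subgroup.coe_inv,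
        MulAut.conjNormal_apply] at h
      have hh : (x : G) * (a' : G) * (x : G)⁻¹ = g * (a : G) * g⁻¹ := h
      show (a' : G) = ((x : G))⁻¹ * g * (a : G) * (((x : G))⁻¹ * g)⁻¹
      calc (a' : G) = (x : G)⁻¹ * ((x : G) * (a' : G) * (x : G)⁻¹) * x := by group
        _ = _ := by rw [hh]; group
    have heq := Subgroup.eq_of_le_of_card_ge hle
      (le_of_eq (Subgroup.card_map_of_injective (MulEquiv.injective _)).symm)
    intro y
    refine ⟨fun hy => hle ⟨y, hy, rfl⟩, fun hy => ?_⟩
    have hy' : (MulAut.conj (((x : G))⁻¹ * g)) y ∈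
        A'.map (MulAut.conj (((x : G))⁻¹ * g)).toMonoidHom := by rw [heq]; exact hy
    obtain ⟨z, hz, hzy⟩ := hy'
    exact (MulEquiv.injective _ hzy) ▸ hz
  by_cases hNtop : N ≠ ⊤
  · -- the normalizer has `π'`-index
    have hNπ : ∀ q : ℕ, q.Prime → q ∈ π → ¬ q ∣ N.index := by
      intro q hq hqπ hd
      have hsurj : Function.Surjective (fun k : K => ((k : G) : G ⧸ N)) := by
        intro c
        obtain ⟨g, rfl⟩ := QuotientGroup.mk_surjective c
        obtain ⟨x, hxK, hxN⟩ := hfr g⁻¹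
        refine ⟨⟨g * x * g⁻¹, Subgroup.Normal.conj_mem ‹K.Normal› x hxK g⟩,
          QuotientGroup.eq.mpr ?_⟩
        have := N.inv_mem hxN
        simpa [mul_assoc] using this
      have hdvd : N.index ∣ A.index := by
        have h1 : N.relIndex K = N.index := by
          rw [Subgroup.relIndex, Subgroup.index, Subgroup.index]
          refine Nat.card_eq_of_bijective (fun c => Quotient.liftOn' c (fun k : K => ((k : G) : G ⧸ N))
            fun a b hab => QuotientGroup.eq.mpr (QuotientGroup.leftRel_apply.mp hab :)) ⟨?_, ?_⟩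
          · intro c d
            induction c using QuotientGroup.induction_on
            induction d using QuotientGroup.induction_on
            intro h
            simp only [Quotient.liftOn'_mk''] at h
            exact QuotientGroup.eq.mpr (QuotientGroup.eq.mp h :)
          · intro c
            obtain ⟨k, hk⟩ := hsurj c
            exact ⟨(k : K ⧸ N.subgroupOf K), hk⟩
        rw [← h1]
        refine Subgroup.index_dvd_of_le ?_
        intro a ha
        exact Subgroup.le_normalizer (Subgroup.mem_map_of_mem _ ha)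
      exact hA.2 q hq hqπ (hd.trans hdvd)
    obtain ⟨B, hB, -⟩ := hall_subgroup ih hχ hfaith hn hπ hNtop
    exact ⟨_, isPiHall_of_subgroup hNπ hB⟩
  push Not at hNtop
  have hA'n : A'.Normal := Subgroup.normalizer_eq_top_iff.mp hNtop
  -- split the quotient by the normal Hall subgroup
  let Kb := K.map (QuotientGroup.mk' A')
  have hKb : Kb.Normal := Subgroup.Normal.map inferInstance _ (QuotientGroup.mk'_surjective A')
  have hKbidx : Kb.index = K.index := Subgroup.index_map_eq K (QuotientGroup.mk'_surjective A')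
    ((QuotientGroup.ker_mk' A').le.trans hA'K)
  have hKbcard : Nat.card Kb = A.index := by
    have h1 : Nat.card Kb * Kb.index = A'.index := Kb.card_mul_index
    have h2 : A'.index = A.index * K.index := Subgroup.index_map_subtype A
    rw [hKbidx, h2] at h1
    exact Nat.eq_of_mul_eq_mul_right (Nat.pos_of_ne_zero Subgroup.index_ne_zero_of_finite) h1
  obtain ⟨H₀, hH₀⟩ := Subgroup.exists_right_complement'_of_coprime (N := Kb) (by
    rw [hKbcard, hKbidx]
    exact Nat.coprime_of_dvd fun q hq h1 h2 => hA.2 q hq (hKπ q hq h2) h1)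
  refine ⟨H₀.comap (QuotientGroup.mk' A'), fun q hq hd => ?_, fun q hq hqπ hd => ?_⟩
  · have h1 := (H₀.comap (QuotientGroup.mk' A')).card_mul_index
    rw [Subgroup.index_comap_of_surjective H₀ (QuotientGroup.mk'_surjective A')] at h1
    have h2 : Nat.card G = Nat.card A' * (Nat.card H₀ * H₀.index) := by
      rw [H₀.card_mul_index, ← A'.card_mul_index]; rfl
    rw [h2, ← mul_assoc] at h1
    rw [Nat.eq_of_mul_eq_mul_right (Nat.pos_of_ne_zero Subgroup.index_ne_zero_of_finite) h1] at hd
    rcases hq.dvd_mul.mp hd with h | h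
    · rw [Subgroup.card_map_of_injective K.subtype_injective] at h
      exact hA.1 q hq h
    · refine hKπ q hq ?_
      rw [← hKbidx, hH₀.symm.index_eq_card]
      exact h
  · rw [Subgroup.index_comap_of_surjective H₀ (QuotientGroup.mk'_surjective A'),
      hH₀.index_eq_card, hKbcard] at hd
    exact hA.2 q hq hqπ hd

/-- The inductive step. -/
theorem hall_step (ih : HallBelow.{u} (Nat.card G)) {χ : G → ℂ} (hχ : Cfsg.IsCharacter G χ)
    (hfaith : ∀ g : G, χ g = χ 1 → g = 1) {n : ℕ} (hn : χ 1 = n) {π : Set ℕ}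
    (hπ : ∀ q : ℕ, q.Prime → q ∈ π → n + 1 < q) : ∃ A : Subgroup G, Cfsg.IsPiHall π A := by
  classical
  have := Fintype.ofFinite G
  by_cases hnone : ∀ q : ℕ, q.Prime → q ∈ π → ¬ q ∣ Nat.card G
  · exact ⟨⊥, fun q hq hd => absurd (Nat.dvd_one.mp (Subgroup.card_bot (G := G) ▸ hd)) hq.one_lt.ne',
      fun q hq hqπ hd => hnone q hq hqπ (by rwa [Subgroup.index_bot] at hd)⟩
  push Not at hnone
  obtain ⟨p, hp, hpπ, hpG⟩ := hnone
  have := Fact.mk hp
  -- a proper nontrivial kernel of a constituent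
  by_cases hred : ∃ ψ : Cfsg.IrrCharacter G, Cfsg.classInner χ ψ ≠ 0 ∧
      charKer (isCharacter_of_isIrr ψ.2) ≠ ⊤ ∧ charKer (isCharacter_of_isIrr ψ.2) ≠ ⊥
  · obtain ⟨ψ, hψ, hKtop, hKbot⟩ := hred
    have hc := isCharacter_of_isIrr ψ.2
    set K := charKer hc with hKdef
    have hKn : K.Normal := charKer_normal hc
    obtain ⟨d, hd0, hd⟩ := exists_degree_pos ψ.2
    have hdle : d ≤ n := by
      have h := constituent_degree_le hχ ψ.2 hψ
      rw [hn, hd, Complex.natCast_re, Complex.natCast_re] at h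
      exact_mod_cast h
    obtain ⟨φ, hφ, hφe⟩ := exists_eq_comp_mk' K hc fun k hk => mem_charKer.mp hk
    have hlt : Nat.card (G ⧸ K) < Nat.card G := by
      rw [← K.index_mul_card]
      exact lt_mul_of_one_lt_right (Nat.pos_of_ne_zero Subgroup.index_ne_zero_of_finite)
        (by
          by_contra h
          push Not at h
          exact hKbot (Subgroup.card_eq_one.mp (le_antisymm h Nat.card_pos)))
    refine hall_of_quotient ih hχ hfaith hn hπ K hKtop
      (ih (G ⧸ K) hlt φ d hφ (fun c hc' => ?_) ?_ π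
        fun q hq hqπ => lt_of_le_of_lt (by omega) (hπ q hq hqπ))
    · obtain ⟨g, rfl⟩ := QuotientGroup.mk_surjective c
      rw [QuotientGroup.eq_one_iff]
      refine mem_charKer.mpr ?_
      rw [← hφe]
      exact hc'
    · rw [← hd, ← hφe]
      rfl
  push Not at hred
  obtain ⟨ψ, hψ, hψf⟩ : ∃ ψ : Cfsg.IrrCharacter G, Cfsg.classInner χ ψ ≠ 0 ∧
      ∀ g : G, (ψ : G → ℂ) g = (ψ : G → ℂ) 1 → g = 1 := by
    by_contra hall
    push Not at hall
    obtain ⟨g, hg⟩ := exists_prime_orderOf_dvd_card' p hpG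
    have hg1 : g = 1 := by
      refine hfaith g ?_
      rw [classFun_eq_sum (isClassFunction_of_isCharacter hχ)]
      simp only [Finset.sum_apply, Pi.smul_apply, smul_eq_mul]
      refine Finset.sum_congr rfl fun ψ _ => ?_
      by_cases h0 : Cfsg.classInner χ ψ = 0
      · rw [h0, zero_mul, zero_mul]
      obtain ⟨a, ha, ha1⟩ := hall ψ h0
      have htop : charKer (isCharacter_of_isIrr ψ.2) = ⊤ := by
        by_contra h
        have := hred ψ h0 h
        exact ha1 (Subgroup.mem_bot.mp (this ▸ mem_charKer.mpr ha))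
      rw [mem_charKer.mp (htop ▸ Subgroup.mem_top g : g ∈ charKer (isCharacter_of_isIrr ψ.2))]
    rw [hg1, orderOf_one] at hg
    exact hp.one_lt.ne hg
  obtain ⟨d, hd0, hd⟩ := exists_degree_pos ψ.2
  have hdle : d ≤ n := by
    have h := constituent_degree_le hχ ψ.2 hψ
    rw [hn, hd, Complex.natCast_re, Complex.natCast_re] at h
    exact_mod_cast h
  have hdπ : ∀ q : ℕ, q.Prime → q ∈ π → d + 1 < q := fun q hq hqπ =>
    lt_of_le_of_lt (by omega) (hπ q hq hqπ)
  by_cases hcent : ∃ z : G, ∃ q : ℕ, q.Prime ∧ q ∈ π ∧ orderOf z = q ∧ z ∈ Subgroup.center G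
  · obtain ⟨z, q, hq, hqπ, hz, hzc⟩ := hcent
    obtain ⟨r, σ, hσ, hσψ⟩ := ψ.2
    obtain rfl : r = d := by
      have h := congrFun hσψ 1
      rw [Representation.char_one, hd] at h
      simpa using h
    obtain ⟨ω, hω⟩ := exists_eq_smul_id σ (σ z) fun g => by
      rw [← Module.End.mul_eq_comp, ← Module.End.mul_eq_comp, ← map_mul, ← map_mul,
        Subgroup.mem_center_iff.mp hzc g]
    have hdet : (detHom σ z : ℂ) = ω ^ r := by
      rw [detHom_apply, hω, LinearMap.det_smul, LinearMap.det_id, mul_one,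
        Module.finrank_fin_fun]
    have hzne : detHom σ z ≠ 1 := by
      intro e
      have h1 : ω ^ r = 1 := by rw [← hdet, e, Units.val_one]
      have hne : ω ≠ 1 := by
        intro e1
        refine hp.one_lt.ne ?_
        exfalso
        have : z = 1 := hψf z (by rw [← hσψ]; simp [Representation.character, hω, e1])
        rw [this, orderOf_one] at hz
        exact hq.one_lt.ne hz
      have hid : σ (z ^ q) = ω ^ q • LinearMap.id := by
        rw [map_pow, hω, smul_pow, ← Module.End.one_eq_id, one_pow]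
      rw [← hz, pow_orderOf_eq_one, map_one, hz] at hid
      have h2 : ω ^ q = 1 := by
        have h3 := congrArg (LinearMap.trace ℂ _) hid
        rw [← Module.End.one_eq_id, map_smul, LinearMap.trace_one, smul_eq_mul,
          Module.finrank_fin_fun] at h3
        have hr : (r : ℂ) ≠ 0 := by exact_mod_cast hd0.ne'
        exact (mul_eq_right₀ hr).mp h3.symm
      refine hne ((pow_one ω).symm.trans ?_)
      rw [← (show Nat.gcd r q = 1 from Nat.Coprime.gcd_eq_one
        ((Nat.Prime.coprime_iff_not_dvd hq).mpr fun h => by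
          have := Nat.le_of_dvd hd0 h
          have := hdπ q hq hqπ
          omega).symm), pow_gcd_eq_one.mpr ⟨h1, h2⟩]
    refine hall_of_quotient ih hχ hfaith hn hπ (detHom σ).ker
      (fun e => hzne (MonoidHom.mem_ker.mp (e ▸ Subgroup.mem_top z))) ?_
    have hcomm : ∀ a b : G ⧸ (detHom σ).ker, a * b = b * a := by
      intro a b
      obtain ⟨a, rfl⟩ := QuotientGroup.mk_surjective a
      obtain ⟨b, rfl⟩ := QuotientGroup.mk_surjective b
      rw [← QuotientGroup.mk_mul, ← QuotientGroup.mk_mul, QuotientGroup.eq, MonoidHom.mem_ker,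
        map_mul, map_inv, map_mul, map_mul, mul_comm (detHom σ b), inv_mul_cancel]
    let : CommGroup (G ⧸ (detHom σ).ker) :=
      { (inferInstance : Group (G ⧸ (detHom σ).ker)) with mul_comm := hcomm }
    set c := Nat.card (G ⧸ (detHom σ).ker) with hc'
    set S := c.primeFactors.filter (· ∈ π) with hS
    set m := ∏ r ∈ S, r ^ c.factorization r with hm
    have hc0 : c ≠ 0 := Nat.card_pos.ne'
    have hmdvd : m ∣ c := by
      conv_rhs => rw [← Nat.prod_factorization_pow_eq_self hc0]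
      exact Finset.prod_dvd_prod_of_subset _ _ _ fun r hr => (Finset.mem_filter.mp hr).1
    obtain ⟨k, hk⟩ := hmdvd
    have hfull : ∀ r : ℕ, r.Prime → r ∈ π → ¬ r ∣ k := by
      intro r hr hrπ hrk
      have hrc : r ∣ c := hk ▸ Dvd.dvd.mul_left hrk m
      have hrS : r ∈ S := Finset.mem_filter.mpr ⟨Nat.mem_primeFactors.mpr ⟨hr, hrc, hc0⟩, hrπ⟩
      refine Nat.pow_succ_factorization_not_dvd hc0 hr ?_
      rw [pow_succ, hk]
      conv_lhs => rw [← hk]
      exact Nat.mul_dvd_mul (Finset.dvd_prod_of_mem (fun r => r ^ c.factorization r) hrS) hrk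
    have hmk : m.Coprime k := Nat.Coprime.prod_left fun r hr => by
      obtain ⟨hr1, hr2⟩ := Finset.mem_filter.mp hr
      exact Nat.Coprime.pow_left _ (((Nat.prime_of_mem_primeFactors hr1).coprime_iff_not_dvd).mpr
        (hfull r (Nat.prime_of_mem_primeFactors hr1) hr2))
    obtain ⟨H, hH⟩ := CfsgLib.Solvable.exists_hall hk hmk
    refine ⟨H, fun r hr hrH => ?_, fun r hr hrπ hrH => ?_⟩
    · rw [hH] at hrH
      obtain ⟨s, hs, hrs⟩ := (Prime.dvd_finsetProd_iff hr.prime _).mp hrH
      obtain ⟨hs1, hs2⟩ := Finset.mem_filter.mp hs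
      rwa [(Nat.prime_dvd_prime_iff_eq hr (Nat.prime_of_mem_primeFactors hs1)).mp
        (hr.dvd_of_dvd_pow hrs)]
    · have h1 := H.card_mul_index
      rw [hH, ← hc', hk] at h1
      rw [Nat.eq_of_mul_eq_mul_left (Nat.pos_of_ne_zero fun h0 => hc0 (by rw [hk, h0, zero_mul]))
        h1] at hrH
      exact hfull r hr hrπ hrH
  push Not at hcent
  have hproper : ∀ (z : G) (q : ℕ), q.Prime → q ∈ π → orderOf z = q →
      Subgroup.centralizer ({z} : Set G) ≠ ⊤ := by
    intro z q hq hqπ hz e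
    refine hcent z q hq hqπ hz (Subgroup.mem_center_iff.mpr fun g => ?_)
    exact Subgroup.mem_centralizer_singleton_iff.mp (e ▸ Subgroup.mem_top g)
  -- Sylow subgroups for primes in `π` are abelian
  have habel : ∀ (r : ℕ), r ∈ π → r.Prime → ∀ R : Sylow r G, ∀ a ∈ (R : Subgroup G),
      ∀ b ∈ (R : Subgroup G), a * b = b * a := by
    intro r hrπ hr R a ha b hb
    have := Fact.mk hr
    have h := comm_of_faithful_small (G := (R : Subgroup G)) (isCharacter_res _ hχ)
      (fun g hg => Subtype.ext (hfaith _ hg)) (n := n) hn (fun q hq hqd => by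
        obtain ⟨i, hi⟩ := IsPGroup.iff_card.mp R.isPGroup'
        rw [hi] at hqd
        rw [(Nat.prime_dvd_prime_iff_eq hq hr).mp (hq.dvd_of_dvd_pow hqd)]
        have := hπ r hr hrπ
        omega) ⟨a, ha⟩ ⟨b, hb⟩
    exact congrArg Subtype.val h
  -- a Sylow subgroup containing a given element lies in its centralizer
  have hfullC : ∀ (z : G) (r : ℕ), r.Prime → r ∈ π → orderOf z = r →
      ¬ r ∣ (Subgroup.centralizer ({z} : Set G)).index := by
    intro z r hr hrπ hz
    have := Fact.mk hr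
    have hzp : IsPGroup r (Subgroup.zpowers z) :=
      IsPGroup.of_card (n := 1) (by rw [Nat.card_zpowers, hz, pow_one])
    obtain ⟨R, hR⟩ := hzp.exists_le_sylow
    have hle : (R : Subgroup G) ≤ Subgroup.centralizer ({z} : Set G) := fun a ha =>
      Subgroup.mem_centralizer_singleton_iff.mpr
        (habel r hrπ hr R a ha z (hR (Subgroup.mem_zpowers z)))
    exact fun h => R.not_dvd_index (h.trans (Subgroup.index_dvd_of_le hle))
  have hproj : ∀ (q : ℕ) (B : Subgroup G), q.Prime → ¬ q ∣ B.index →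
      q ^ (Nat.card G).factorization q ∣ Nat.card B := fun q B hq hB => by
    have h := Nat.ordProj_dvd (Nat.card G) q
    conv_rhs at h => rw [← B.card_mul_index]
    exact ((Nat.Prime.coprime_iff_not_dvd hq).mpr hB |>.pow_left _).dvd_of_dvd_mul_right h
  obtain ⟨P⟩ := (inferInstance : Nonempty (Sylow p G))
  set CP := Subgroup.centralizer ((P : Subgroup G) : Set G) with hCP
  have hCPfull : ∀ q : ℕ, q.Prime → q ∈ π → ¬ q ∣ CP.index := by
    intro q hq hqπ hdvd
    have := Fact.mk hq
    by_cases hqp : q = p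
    · subst hqp
      refine P.not_dvd_index (hdvd.trans (Subgroup.index_dvd_of_le fun a ha => ?_))
      exact Subgroup.mem_centralizer_iff.mpr fun b hb => habel q hpπ hp P b hb a ha
    have hqG : q ∣ Nat.card G := hdvd.trans CP.index_dvd_card
    obtain ⟨x, y, hx, hy, hxy⟩ :=
      exists_commuting ψ.2 hψf hd hp hq (hdπ p hp hpπ) (hdπ q hq hqπ) hpG hqG
    -- Hall subgroups of centralizers keep the full parts
    obtain ⟨A, hA, hAc⟩ := hall_subgroup ih hχ hfaith hn hπ (hproper x p hp hpπ hx)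
    obtain ⟨⟨⟨y', hy'C⟩, hy'A⟩, hy'⟩ := exists_prime_orderOf_dvd_card' (G := A) q (by
      have h : q ∣ Nat.card A * A.index := by
        rw [A.card_mul_index, ← hy]
        exact Subgroup.orderOf_dvd_natCard _ (Subgroup.mem_centralizer_singleton_iff.mpr hxy.symm.eq)
      exact (hq.dvd_mul.mp h).resolve_right (hA.2 q hq hqπ))
    rw [Subgroup.orderOf_mk, Subgroup.orderOf_mk] at hy'
    have hpA : ¬ p ∣ (A.map (Subgroup.centralizer ({x} : Set G)).subtype).index := by
      rw [Subgroup.index_map_subtype]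
      exact fun h => (hp.dvd_mul.mp h).elim (hA.2 p hp hpπ) (hfullC x p hp hpπ hx)
    have hpy : ¬ p ∣ (Subgroup.centralizer ({y'} : Set G)).index := fun h =>
      hpA (h.trans (Subgroup.index_dvd_of_le (by
        rintro _ ⟨a, ha, rfl⟩
        exact Subgroup.mem_centralizer_singleton_iff.mpr
          (congrArg (fun c : A => ((c : Subgroup.centralizer ({x} : Set G)) : G))
            (hAc ⟨a, ha⟩ ⟨⟨y', hy'C⟩, hy'A⟩)))))
    obtain ⟨B, hB, hBc⟩ := hall_subgroup ih hχ hfaith hn hπ (hproper y' q hq hqπ hy')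
    set B' := B.map (Subgroup.centralizer ({y'} : Set G)).subtype with hB'
    have hB'i : ∀ r : ℕ, r.Prime → r ∈ π → ¬ r ∣ (Subgroup.centralizer ({y'} : Set G)).index →
        ¬ r ∣ B'.index := fun r hr hrπ hr' h => by
      rw [hB', Subgroup.index_map_subtype] at h
      exact (hr.dvd_mul.mp h).elim (hB.2 r hr hrπ) hr'
    have hpB := hB'i p hp hpπ hpy
    have hqB := hB'i q hq hqπ (hfullC y' q hq hqπ hy')
    -- a Sylow subgroup inside the second Hall subgroup
    obtain ⟨R, hR⟩ := Sylow.exists_subgroup_card_pow_prime p (hproj p B' hp hpB)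
    let P₂ : Sylow p G := Sylow.ofCard (R.map B'.subtype) (by
      rw [Subgroup.card_map_of_injective B'.subtype_injective]; exact hR)
    obtain ⟨g, hg⟩ := MulAction.exists_smul_eq G P₂ P
    refine hqB (dvd_trans hdvd ?_)
    rw [← Subgroup.index_map_equiv B' (MulAut.conj g : G ≃* G)]
    refine Subgroup.index_dvd_of_le ?_
    rintro _ ⟨b, hb, rfl⟩
    refine Subgroup.mem_centralizer_iff.mpr fun u hu => ?_
    rw [← hg, Sylow.coe_subgroup_smul] at hu
    obtain ⟨w, ⟨w', hw', rfl⟩, rfl⟩ := hu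
    obtain ⟨b₀, hb₀, rfl⟩ := hb
    obtain ⟨w₀, hw₀, hww⟩ := w'.2
    have h1 : (w₀ : G) * (b₀ : G) = (b₀ : G) * (w₀ : G) :=
      congrArg (fun c : B => ((c : Subgroup.centralizer ({y'} : Set G)) : G))
        (hBc ⟨w₀, hw₀⟩ ⟨b₀, hb₀⟩)
    have h2 : (w₀ : G) = (w' : G) := hww
    rw [h2] at h1
    show (MulAut.conj g) (w' : G) * (MulAut.conj g) (b₀ : G) =
      (MulAut.conj g) (b₀ : G) * (MulAut.conj g) (w' : G)
    rw [← map_mul, ← map_mul, h1]
  obtain ⟨u, hu⟩ := exists_prime_orderOf_dvd_card' (G := (P : Subgroup G)) p (by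
    obtain ⟨i, hi⟩ := IsPGroup.iff_card.mp P.isPGroup'
    rw [P.card_eq_multiplicity] at hi ⊢
    exact dvd_pow_self p (Nat.one_le_iff_ne_zero.mp
      ((hp.dvd_iff_one_le_factorization Nat.card_pos.ne').mp hpG)))
  have hu' : orderOf (u : G) = p := by rw [Subgroup.orderOf_coe, hu]
  obtain ⟨A, hA, -⟩ := hall_subgroup ih hχ hfaith hn hπ (hproper _ p hp hpπ hu')
  refine ⟨_, isPiHall_of_subgroup (fun q hq hqπ h => hCPfull q hq hqπ
    (h.trans (Subgroup.index_dvd_of_le fun a ha => ?_))) hA⟩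
  exact Subgroup.mem_centralizer_singleton_iff.mpr
    (Subgroup.mem_centralizer_iff.mp ha (u : G) u.2).symm

theorem hallBelow : ∀ m : ℕ, HallBelow.{u} m := by
  intro m
  induction m with
  | zero => intro H _ _ h; exact absurd h (Nat.not_lt_zero _)
  | succ m ih =>
    intro H _ _ hlt χ n hχ hfaith hn π hπ
    rcases Nat.lt_succ_iff_lt_or_eq.mp hlt with h | h
    · exact ih H h χ n hχ hfaith hn π hπ
    · exact hall_step (h ▸ ih) hχ hfaith hn hπ

/-- Blichfeldt: an abelian Hall subgroup for the primes above `n + 1`. -/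
theorem exists_abelian_hall {χ : G → ℂ} (hχ : Cfsg.IsCharacter G χ)
    (hfaith : ∀ g : G, χ g = χ 1 → g = 1) {n : ℕ} (hn : χ 1 = n) {π : Set ℕ}
    (hπ : ∀ q : ℕ, q.Prime → q ∈ π → n + 1 < q) :
    ∃ A : Subgroup G, Cfsg.IsPiHall π A ∧ ∀ a ∈ A, ∀ b ∈ A, a * b = b * a := by
  obtain ⟨A, hA⟩ := hall_step (hallBelow _) hχ hfaith hn hπ
  refine ⟨A, hA, fun a ha b hb => ?_⟩
  exact congrArg Subtype.val (comm_of_faithful_small (isCharacter_res A hχ)
    (fun g h => Subtype.ext (hfaith _ h)) (n := n) hn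
    (fun q hq hd => by have := hπ q hq (hA.1 q hq hd); omega) ⟨a, ha⟩ ⟨b, hb⟩)

end CfsgLib.CharNormal
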