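import Cfsg.Agent.Lib.Blocks.CyclicPrincipal
import Cfsg.Agent.Lib.Blocks.GaloisInv
import Cfsg.Agent.Lib.SmallGroups.BrauerFew.Large
import Cfsg.Agent.Lib.SmallGroups.Basic
import Cfsg.Agent.Lib.CharNormal.BlichfeldtHall
import Cfsg.Agent.Lib.FGS.Covering
import Cfsg.Agent.Lib.Solvable.CoprimeAction
import Cfsg.Agent.S0898

/-!
# Groups all of whose character degrees are below a prime

Ingredients for: if all degrees are less than `p`, the Sylow `p`-subgroup is normal and abelian.
-/

namespace CfsgLib.CharNormal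

open CfsgLib.Char CfsgLib.InvolChar CfsgLib.Blocks

universe u

variable {G : Type u} [Group G] [Finite G] {p : ℕ} [hp : Fact p.Prime]

/-- The hypothesis of the Feit–Thompson degree bound for an abelian Sylow subgroup. -/
theorem meets_one_conjugate (P : Sylow p G) (hZ : (P : Subgroup G) ⊓ Subgroup.center G = ⊥)
    (hab : ∀ S : Sylow p G, ∀ a ∈ (S : Subgroup G), ∀ b ∈ (S : Subgroup G), a * b = b * a)
    (hsub : ∀ L : Subgroup G, L ≠ ⊤ → ∀ Q : Sylow p L, (Q : Subgroup L).Normal) :
    ∀ g : G, g ∉ Subgroup.center G → ∀ a b : G,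
      Subgroup.centralizer ({g} : Set G) ⊓ (P : Subgroup G).map (MulAut.conj a).toMonoidHom ≠ ⊥ →
      Subgroup.centralizer ({g} : Set G) ⊓ (P : Subgroup G).map (MulAut.conj b).toMonoidHom ≠ ⊥ →
      (P : Subgroup G).map (MulAut.conj a).toMonoidHom =
        (P : Subgroup G).map (MulAut.conj b).toMonoidHom := by
  intro g hg a b ha hb
  set C := Subgroup.centralizer ({g} : Set G) with hC
  have hCtop : C ≠ ⊤ := fun e => hg (Subgroup.mem_center_iff.mpr fun x =>
    Subgroup.mem_centralizer_singleton_iff.mp (e.ge (Subgroup.mem_top x)))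
  obtain ⟨R⟩ := (inferInstance : Nonempty (Sylow p C))
  have hR := hsub _ hCtop R
  obtain ⟨S, hS⟩ := (R.isPGroup'.map C.subtype).exists_le_sylow
  have huniq : ∀ a : G, C ⊓ (P : Subgroup G).map (MulAut.conj a).toMonoidHom ≠ ⊥ →
      (P : Subgroup G).map (MulAut.conj a).toMonoidHom = (S : Subgroup G) := by
    intro a ha
    obtain ⟨⟨u, hu⟩, hu1'⟩ := (Subgroup.ne_bot_iff_exists_ne_one).mp ha
    have hu1 : u ≠ 1 := fun h => hu1' (Subtype.ext h)
    obtain ⟨huC, w, hw, hwu⟩ := Subgroup.mem_inf.mp hu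
    have huS : u ∈ (S : Subgroup G) := by
      refine hS ⟨⟨u, huC⟩, ?_, rfl⟩
      have hup : IsPGroup p (Subgroup.zpowers (⟨u, huC⟩ : C)) := by
        obtain ⟨k, hk⟩ := IsPGroup.iff_orderOf.mp P.isPGroup' ⟨w, hw⟩
        refine IsPGroup.of_card (n := k) ?_
        rw [Nat.card_zpowers, Subgroup.orderOf_mk, ← hwu]
        rw [Subgroup.orderOf_mk] at hk
        rw [← hk]
        exact orderOf_injective _ (MulEquiv.injective _) w
      obtain ⟨R₁, hR₁⟩ := hup.exists_le_sylow
      have := Sylow.unique_of_normal R hR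
      rw [Subsingleton.elim R R₁]
      exact hR₁ (Subgroup.mem_zpowers _)
    set U := Subgroup.centralizer ({u} : Set G) with hU
    have hUtop : U ≠ ⊤ := by
      intro e
      refine hu1 ?_
      have huz : u ∈ Subgroup.center G := Subgroup.mem_center_iff.mpr fun x =>
        Subgroup.mem_centralizer_singleton_iff.mp (e.ge (Subgroup.mem_top x))
      have hw' : w = u := by
        have e1 : a * w * a⁻¹ = u := hwu
        calc w = a⁻¹ * (a * w * a⁻¹) * a := by group
          _ = a⁻¹ * u * a := by rw [e1]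
          _ = u := by rw [mul_assoc, ← Subgroup.mem_center_iff.mp huz a, inv_mul_cancel_left]
      have hw1 : w = 1 :=
        (Subgroup.eq_bot_iff_forall _).mp hZ w (Subgroup.mem_inf.mpr ⟨hw, hw' ▸ huz⟩)
      rw [← hwu, hw1, map_one]
    have hPU' : ((a • P : Sylow p G) : Subgroup G) ≤ U := by
      rw [Sylow.coe_subgroup_smul]
      rintro _ ⟨x, hx, rfl⟩
      refine Subgroup.mem_centralizer_singleton_iff.mpr ?_
      rw [← hwu]
      show a * x * a⁻¹ * (a * w * a⁻¹) = a * w * a⁻¹ * (a * x * a⁻¹)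
      calc a * x * a⁻¹ * (a * w * a⁻¹) = a * (x * w) * a⁻¹ := by group
        _ = a * (w * x) * a⁻¹ := by rw [hab P x hx w hw]
        _ = a * w * a⁻¹ * (a * x * a⁻¹) := by group
    have hSU : (S : Subgroup G) ≤ U := fun x hx =>
      Subgroup.mem_centralizer_singleton_iff.mpr (hab S x hx u huS)
    have := Sylow.unique_of_normal ((a • P).subtype hPU') (hsub _ hUtop _)
    have heq := congrArg (fun T : Sylow p U => (T : Subgroup U).map U.subtype)
      (Subsingleton.elim ((a • P).subtype hPU') (S.subtype hSU))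
    simp only [Sylow.coe_subtype] at heq
    rw [Subgroup.map_subgroupOf_eq_of_le hPU', Subgroup.map_subgroupOf_eq_of_le hSU,
      Sylow.coe_subgroup_smul] at heq
    exact heq
  rw [huniq a ha, huniq b hb]

/-- If all conjugates under a coprime element fix every character, it centralizes. -/
theorem commute_of_fixes_irr {M : Subgroup G} [M.Normal] (hM : ¬ p ∣ Nat.card M) {x : G}
    (hx : ∃ k, orderOf x = p ^ k)
    (hfix : ∀ (θ : Cfsg.IrrCharacter M) (a : M), (θ : M → ℂ) ((MulAut.conjNormal x : MulAut M) a) =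
      (θ : M → ℂ) a) : ∀ a ∈ M, x * a = a * x := by
  classical
  have := Fintype.ofFinite M
  letI : MulAction G G := MulAction.compHom G (MulAut.conj : G →* MulAut G)
  set A := Subgroup.zpowers x
  have hAM : A ≤ Subgroup.normalizer (M : Set G) :=
    (le_top : A ≤ ⊤).trans (Subgroup.normalizer_eq_top_iff.mpr inferInstance).ge
  have hcop : (Nat.card A).Coprime (Nat.card M) := by
    obtain ⟨k, hk⟩ := hx
    rw [Nat.card_zpowers, hk]
    exact Nat.Coprime.pow_left _ (hp.out.coprime_iff_not_dvd.mpr hM)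
  have hsame : ∀ a : M, ∀ g ∈ A, ∃ c : M, (c : G) * a * (c : G)⁻¹ = g * a * g⁻¹ := by
    intro a g hg
    let K : Subgroup G :=
      { carrier := {g | ∀ (θ : Cfsg.IrrCharacter M) (a : M),
          (θ : M → ℂ) ((MulAut.conjNormal g : MulAut M) a) = (θ : M → ℂ) a}
        one_mem' := fun θ a => by rw [map_one, MulAut.one_apply]
        mul_mem' := fun {g h} hg hh θ a => by rw [map_mul, MulAut.mul_apply, hg, hh]
        inv_mem' := fun {g} hg θ a => by
          conv_rhs => rw [← MulEquiv.apply_symm_apply (MulAut.conjNormal g : MulAut M) a]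
          rw [hg, map_inv]
          rfl }
    have hgK : g ∈ K := (Subgroup.zpowers_le.mpr (show x ∈ K from hfix) : A ≤ K) hg
    obtain ⟨c, hc⟩ := isConj_iff.mp ((isConj_iff_forall_irr a
      ((MulAut.conjNormal g : MulAut M) a)).mpr fun θ => (hgK θ a).symm)
    exact ⟨c, by rw [← MulAut.conjNormal_apply g a, ← hc]; rfl⟩
  set H := (Subgroup.centralizer ({x} : Set G)).subgroupOf M
  have htop : H = ⊤ := by
    refine FGS.eq_top_of_forall_exists_conj fun a => ?_
    obtain ⟨c, hc, hfx⟩ := Solvable.exists_fixed_point (Ω := G) A M hAM hcop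
      (Or.inl inferInstance) (a : G) (fun g hg => by
        obtain ⟨c, hc⟩ := hsame a g hg
        exact ⟨c, c.2, hc.symm⟩)
    refine ⟨⟨c, hc⟩, Subgroup.mem_centralizer_singleton_iff.mpr ?_⟩
    have h : x * (c * a * c⁻¹) * x⁻¹ = c * a * c⁻¹ := hfx x (Subgroup.mem_zpowers x)
    exact (mul_inv_eq_iff_eq_mul.mp h).symm
  intro a ha
  exact (Subgroup.mem_centralizer_singleton_iff.mp
    (htop ▸ Subgroup.mem_top (⟨a, ha⟩ : M) : (⟨a, ha⟩ : M) ∈ H)).symm

/-- A character without fixed points on `H` sums to zero on cosets of `H`. -/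
theorem sum_coset_eq_zero {H : Subgroup G} [Fintype H] (hH : Nat.card H = p) {χ : G → ℂ}
    (hχ : Cfsg.IsCharacter G χ) (hd : χ 1 = (p : ℂ) - 1) (h1 : ∀ u ∈ H, u ≠ 1 → χ u = -1) (g : G) :
    ∑ u : H, χ (u * g) = 0 := by
  classical
  obtain ⟨m, ρ, rfl⟩ := hχ
  have hp0 : (p : ℂ) ≠ 0 := by exact_mod_cast hp.out.ne_zero
  set E : (Fin m → ℂ) →ₗ[ℂ] (Fin m → ℂ) := ∑ u : H, ρ u with hE
  have hEE : E * E = (p : ℂ) • E := by
    have h : ∀ v : H, ρ v * E = E := fun v => by
      rw [hE, Finset.mul_sum]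
      refine Fintype.sum_equiv (Equiv.mulLeft v) _ _ fun u => ?_
      rw [← map_mul]; rfl
    calc E * E = ∑ v : H, ρ v * E := by
          conv_lhs => arg 1; rw [hE]
          rw [Finset.sum_mul]
      _ = ∑ _v : H, E := Finset.sum_congr rfl fun v _ => h v
      _ = _ := by rw [Finset.sum_const, Finset.card_univ, ← Nat.card_eq_fintype_card, hH,
        ← Nat.cast_smul_eq_nsmul ℂ]
  have htr : LinearMap.trace ℂ _ E = 0 := by
    rw [hE, map_sum, ← Finset.add_sum_erase _ _ (Finset.mem_univ (1 : H))]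
    rw [Finset.sum_congr rfl fun (u : H) hu => show LinearMap.trace ℂ _ (ρ u) = -1 from
      h1 u u.2 fun e => Finset.ne_of_mem_erase hu (Subtype.ext e),
      Finset.sum_const, Finset.card_erase_of_mem (Finset.mem_univ _), Finset.card_univ,
      ← Nat.card_eq_fintype_card, hH, OneMemClass.coe_one, nsmul_eq_mul,
      Nat.cast_sub hp.out.one_le, Nat.cast_one, mul_neg_one]
    rw [show LinearMap.trace ℂ _ (ρ 1) = (p : ℂ) - 1 from hd]
    ring
  set f := (p : ℂ)⁻¹ • E with hf
  have hff : f * f = f := by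
    rw [hf, smul_mul_assoc, mul_smul_comm, hEE, smul_smul, smul_smul]
    congr 1
    field_simp
  have hproj : LinearMap.IsProj (LinearMap.range f) f :=
    ⟨fun v => LinearMap.mem_range_self f v, fun v hv => by
      obtain ⟨w, rfl⟩ := hv
      exact LinearMap.congr_fun hff w⟩
  have h0 := LinearMap.IsProj.trace hproj
  rw [hf, map_smul, htr, smul_zero] at h0
  have hrange : LinearMap.range f = ⊥ := Submodule.finrank_eq_zero.mp (by exact_mod_cast h0.symm)
  have hE0 : E = 0 := by
    have hf0 : f = 0 := LinearMap.range_eq_bot.mp hrange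
    rw [hf, smul_eq_zero] at hf0
    exact hf0.resolve_left (inv_ne_zero hp0)
  calc ∑ u : H, ρ.character (u * g) = LinearMap.trace ℂ _ (E * ρ g) := by
        rw [hE, Finset.sum_mul, map_sum]
        exact Finset.sum_congr rfl fun u _ => by rw [← map_mul]; rfl
    _ = 0 := by rw [hE0, zero_mul, map_zero]

set_option maxHeartbeats 800000 in
/-- No simple group with a Sylow subgroup of order `p` has all degrees below `p`. -/
theorem no_simple_small_degrees [Fintype G] [IsSimpleGroup G] (hna : ¬ IsMulCommutative G)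
    (hp2 : p ≠ 2) (P : Sylow p G) (hP : Nat.card P = p)
    (hb : ∀ χ : Cfsg.IrrCharacter G, deg χ < p) : False := by
  classical
  obtain ⟨M, hM⟩ := exists_isPModular hp.out
  have : M.IsMaximal := hM.2.1
  have : NeZero p := ⟨hp.out.ne_zero⟩
  have hpG : p ∣ Nat.card G := hP ▸ Subgroup.card_subgroup_dvd_card _
  have hperf : commutator G = ⊤ := by
    refine (IsSimpleGroup.eq_bot_or_eq_top_of_normal (commutator G) inferInstance).resolve_left fun h => ?_
    refine hna ⟨⟨fun a b => commutatorElement_eq_one_iff_mul_comm.mp ?_⟩⟩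
    exact Subgroup.mem_bot.mp (h ▸ Subgroup.commutator_mem_commutator (Subgroup.mem_top a)
      (Subgroup.mem_top b))
  set N := Subgroup.normalizer ((P : Subgroup G) : Set G) with hN
  set C := Subgroup.centralizer ((P : Subgroup G) : Set G) with hC
  set e := C.relIndex N with he
  have he1 : e ≠ 1 := fun h =>
    CfsgLib.SmallGroups.not_normalizer_le_centralizer hna hpG P (Subgroup.relIndex_eq_one.mp h)
  obtain ⟨X, Y, hB, hdisj, hXcard, hYcard, -, εX, ε, hX, hε, hY, hYeq, hrel⟩ :=
    principal_block_prime_sylow P hM hP e he.symm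
  have he0 : 0 < e := Nat.pos_of_ne_zero (Subgroup.index_ne_zero_of_finite (H := C.subgroupOf N))
  have hp3 : 3 ≤ p := by have := hp.out.two_le; omega
  have hdegC : ∀ χ : Cfsg.IrrCharacter G, Cfsg.charDegree (χ : G → ℂ) = deg χ :=
    fun χ => CfsgLib.SmallGroups.BrauerFew.deg_eq_charDegree χ
  have hone : deg (irrOne : Cfsg.IrrCharacter G) = 1 := deg_irrOne
  -- the degrees in `X`
  have hXdeg : ∀ χ ∈ X, χ ≠ irrOne → deg χ = p - 1 ∧ εX χ = -1 := by
    intro χ hχ hne
    obtain ⟨hsgn, hcong, -⟩ := hX χ hχ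
    have h2 := hb χ
    have h3 := CfsgLib.SmallGroups.BrauerFew.one_lt_deg hperf hne
    rw [hdegC, Int.modEq_iff_dvd] at hcong
    rcases hsgn with h | h <;> rw [h] at hcong
    · have := Int.le_of_dvd (by omega) (dvd_neg.mpr hcong)
      omega
    · refine ⟨?_, h⟩
      have := Int.le_of_dvd (by omega) (dvd_neg.mpr hcong)
      omega
  have hXone : (irrOne : Cfsg.IrrCharacter G) ∈ X → εX irrOne = 1 := by
    intro h
    obtain ⟨hsgn, hcong, -⟩ := hX _ h
    rcases hsgn with h' | h'
    · exact h'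
    · exfalso
      rw [hdegC, hone, h', Int.modEq_iff_dvd] at hcong
      have := Int.le_of_dvd (by norm_num) (dvd_neg.mpr hcong)
      omega
  -- the relation at `1`
  have hne_Y : ∃ θ, θ ∈ Y := by
    by_contra hcon
    push Not at hcon
    have : Nat.card Y = 0 := by
      rw [Nat.card_coe_set_eq, Set.ncard_eq_zero]
      exact Set.eq_empty_iff_forall_notMem.mpr hcon
    rw [hYcard] at this
    have hdvd := Nat.div_mul_cancel (PrimeSylow.relIndex_dvd P hP)
    rw [← he, this, zero_mul] at hdvd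
    omega
  have hsum : ∀ θ ∈ Y, ε * (deg θ : ℤ) = ∑ χ ∈ X.toFinset, εX χ * (deg χ : ℤ) := by
    intro θ hθ
    have h := hrel θ hθ 1 (by rw [orderOf_one]; exact hp.out.not_dvd_one)
    rw [deg_spec, finsum_mem_eq_toFinset_sum] at h
    simp only [deg_spec] at h
    exact_mod_cast h
  obtain ⟨θ₀, hθ₀⟩ := hne_Y
  have hrel₀ := hsum θ₀ hθ₀
  have hX1 : (irrOne : Cfsg.IrrCharacter G) ∈ X := by
    by_contra hnot
    have hY1 : (irrOne : Cfsg.IrrCharacter G) ∈ Y := by
      have h : (irrOne : Cfsg.IrrCharacter G) ∈ Cfsg.principalBlock M G :=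
        irrOne_mem_principalBlock
      rw [hB] at h
      exact h.resolve_left hnot
    have h := hsum _ hY1
    rw [hone, Nat.cast_one, mul_one, Finset.sum_congr rfl fun χ hχ => by
      obtain ⟨h1, h2⟩ := hXdeg χ (Set.mem_toFinset.mp hχ) (fun e' => hnot (e' ▸ Set.mem_toFinset.mp hχ))
      rw [h1, h2], Finset.sum_const, nsmul_eq_mul] at h
    have hc : X.toFinset.card = e := by rw [← Nat.card_eq_card_toFinset, hXcard]
    rw [hc] at h
    have h2 : (2 : ℤ) ≤ e * ((p - 1 : ℕ) : ℤ) := by
      have : 2 ≤ e * (p - 1) := le_trans (by omega) (Nat.le_mul_of_pos_left _ he0)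
      exact_mod_cast this
    rcases hε with rfl | rfl <;> linarith
  rw [← Finset.add_sum_erase _ _ (Set.mem_toFinset.mpr hX1), hXone hX1, hone, Nat.cast_one,
    mul_one, Finset.sum_congr rfl fun χ hχ => by
      obtain ⟨h1, h2⟩ := hXdeg χ (Set.mem_toFinset.mp (Finset.mem_of_mem_erase hχ))
        (Finset.ne_of_mem_erase hχ)
      rw [h1, h2], Finset.sum_const, nsmul_eq_mul,
    Finset.card_erase_of_mem (Set.mem_toFinset.mpr hX1), ← Nat.card_eq_card_toFinset, hXcard] at hrel₀
  have hd0 : 1 ≤ deg θ₀ := deg_pos θ₀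
  have hd1 := hb θ₀
  have he2 : e = 2 ∧ deg θ₀ = p - 2 := by
    rcases Nat.lt_or_ge e 3 with h | h
    · have he' : e = 2 := by omega
      refine ⟨he', ?_⟩
      rw [he'] at hrel₀
      push_cast [Nat.cast_sub hp.out.one_le] at hrel₀
      rcases hε with rfl | rfl <;> omega
    · exfalso
      have h2 : 2 * (p - 1) ≤ (e - 1) * (p - 1) := Nat.mul_le_mul_right _ (by omega)
      have h2' : (2 : ℤ) * ((p - 1 : ℕ) : ℤ) ≤ ((e - 1 : ℕ) : ℤ) * ((p - 1 : ℕ) : ℤ) := by
        exact_mod_cast h2
      have hd1' : (deg θ₀ : ℤ) < p := by exact_mod_cast hd1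
      have hd0' : (1 : ℤ) ≤ deg θ₀ := by exact_mod_cast hd0
      have hp3' : (3 : ℤ) ≤ p := by exact_mod_cast hp3
      have hp1 : ((p - 1 : ℕ) : ℤ) = (p : ℤ) - 1 := by omega
      rw [neg_one_mul, mul_neg] at hrel₀
      rcases hε with rfl | rfl <;> linarith
  obtain ⟨he2, hdθ⟩ := he2
  rw [he2] at hXcard hYcard
  obtain ⟨ξ, hξX, hξ1⟩ : ∃ ξ ∈ X, ξ ≠ irrOne := by
    by_contra hcon
    push Not at hcon
    have := Nat.card_mono (Set.finite_singleton (irrOne : Cfsg.IrrCharacter G)) (s := X) hcon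
    rw [hXcard, Nat.card_coe_set_eq, Set.ncard_singleton] at this
    omega
  obtain ⟨hdξ, hεξ⟩ := hXdeg ξ hξX hξ1
  have hdξ' : (ξ : G → ℂ) 1 = (p : ℂ) - 1 := by
    rw [deg_spec, hdξ, Nat.cast_sub hp.out.one_le, Nat.cast_one]
  have hξval : ∀ u ∈ (P : Subgroup G), u ≠ 1 → ∀ y ∈ C, ¬ p ∣ orderOf y →
      (ξ : G → ℂ) (u * y) = -1 := by
    intro u hu hu1 y hy hreg
    rw [(hX ξ hξX).2.2 u hu hu1 y hy hreg, hεξ, Int.cast_neg, Int.cast_one]
  have hξP : ∀ u ∈ (P : Subgroup G), u ≠ 1 → (ξ : G → ℂ) u = -1 := fun u hu hu1 => by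
    have := hξval u hu hu1 1 (one_mem _) (by rw [orderOf_one]; exact hp.out.not_dvd_one)
    rwa [mul_one] at this
  have hξc := isCharacter_of_isIrr ξ.2
  have hker : charKer hξc = ⊥ := by
    refine (IsSimpleGroup.eq_bot_or_eq_top_of_normal _ (charKer_normal hξc)).resolve_right fun h => ?_
    obtain ⟨u, hu⟩ := exists_prime_orderOf_dvd_card' (G := G) p hpG
    have : Nontrivial (P : Subgroup G) := Finite.one_lt_card_iff_nontrivial.mp (by
      rw [show Nat.card (P : Subgroup G) = p from hP]; exact hp.out.one_lt)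
    obtain ⟨v, hv⟩ := exists_ne (1 : (P : Subgroup G))
    have h1 := mem_charKer.mp (h.ge (Subgroup.mem_top (v : G)))
    rw [hξP v v.2 (fun e' => hv (Subtype.ext e')), hdξ'] at h1
    have : (p : ℂ) = 0 := by linear_combination -h1
    exact hp.out.ne_zero (by exact_mod_cast this)
  -- the centralizer of `P`
  have hCP : C = (P : Subgroup G) := by
    have := Fintype.ofFinite (P : Subgroup G)
    refine le_antisymm (fun y hy => ?_) (PrimeSylow.le_centralizer P hP)
    refine PrimeSylow.mem_of_pElement_centralizer P hy ?_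
    set f := (orderOf y).factorization p
    have hy0 := (orderOf_pos y).ne'
    have hreg : ¬ p ∣ orderOf (y ^ p ^ f) := by
      rw [orderOf_pow' _ (pow_pos hp.out.pos f).ne', Nat.gcd_eq_right (Nat.ordProj_dvd _ p)]
      exact Nat.not_dvd_ordCompl hp.out hy0
    have hk : y ^ p ^ f ∈ charKer hξc := mem_charKer.mpr
      (CfsgLib.SmallGroups.BrauerFew.mem_kernel_of_no_fixed (H := (P : Subgroup G)) hP hξc hdξ' hξP
        fun u hu hu1 => hξval u hu hu1 _ (C.pow_mem hy _) hreg)
    rw [hker, Subgroup.mem_bot] at hk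
    obtain ⟨k, -, hk⟩ := (Nat.dvd_prime_pow hp.out).mp (orderOf_dvd_of_pow_eq_one hk)
    exact ⟨k, hk⟩
  -- every irreducible character is in the principal block
  have hall : ∀ χ : Cfsg.IrrCharacter G, χ ∈ Cfsg.principalBlock M G := by
    intro χ
    by_contra hχ
    have hzero : ∀ i : ZMod p, i ≠ 0 → (χ : G → ℂ) (PrimeSylow.pw P hP i) = 0 := by
      intro i hi
      have h1 := column_inner P hM hP hi hi
      rw [if_pos (IsConj.refl _)] at h1
      have h2 := second_orthogonality (PrimeSylow.pw P hP i) (PrimeSylow.pw P hP i)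
      rw [if_pos (IsConj.refl _), PrimeSylow.centralizer_pw P hP hi, ← hC, hCP, hP] at h2
      have h3 : ∑ ψ : Cfsg.IrrCharacter G, (if ψ ∈ Cfsg.principalBlock M G then 0 else
          Complex.normSq ((ψ : G → ℂ) (PrimeSylow.pw P hP i))) = 0 := by
        refine Complex.ofReal_injective ?_
        rw [Complex.ofReal_sum, Complex.ofReal_zero]
        have h4 := congrArg₂ (· - ·) h2 h1
        rw [← Finset.sum_sub_distrib, sub_self] at h4
        refine Eq.trans (Finset.sum_congr rfl fun ψ _ => ?_) h4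
        split_ifs
        · simp
        · rw [sub_zero, Complex.mul_conj]
      have h4 := (Finset.sum_eq_zero_iff_of_nonneg fun ψ _ => by
        split_ifs
        · exact le_rfl
        · exact Complex.normSq_nonneg _).mp h3 χ (Finset.mem_univ χ)
      rwa [if_neg hχ, Complex.normSq_eq_zero] at h4
    -- the degree would be divisible by `p`
    have := Fintype.ofFinite (P : Subgroup G)
    obtain ⟨m, hm⟩ := classInner_char_nat (isCharacter_res (P : Subgroup G) (isCharacter_of_isIrr χ.2))
      (isCharacter_one (G := (P : Subgroup G)))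
    have h5 := card_mul_classInner (fun u : (P : Subgroup G) => (χ : G → ℂ) u) (fun _ => 1)
    rw [hm, Finset.sum_eq_single (1 : (P : Subgroup G)), OneMemClass.coe_one, map_one, mul_one,
      deg_spec, hP] at h5
    · have h6 : p * m = deg χ := by exact_mod_cast h5
      have := deg_pos χ
      have := hb χ
      rcases Nat.eq_zero_or_pos m with h | h
      · subst h; omega
      · have := Nat.le_mul_of_pos_right p h
        omega
    · intro u _ hu
      obtain ⟨i, hi⟩ := PrimeSylow.pw_surjOn P hP u.2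
      have hi0 : i ≠ 0 := fun h => hu (Subtype.ext (by rw [← hi, h, PrimeSylow.pw_zero, OneMemClass.coe_one]))
      rw [← hi, hzero i hi0, zero_mul]
    · simp
  -- the order of `G`
  have hYdeg : ∀ θ ∈ Y, deg θ = p - 2 := by
    intro θ hθ
    have h := hYeq θ hθ θ₀ hθ₀ 1 (by rw [orderOf_one]; exact hp.out.not_dvd_one)
    rw [deg_spec, deg_spec, hdθ] at h
    exact_mod_cast h
  have hcardG : Nat.card G = 1 + (p - 1) ^ 2 + (p - 1) / 2 * (p - 2) ^ 2 := by
    rw [← CfsgLib.SmallGroups.BrauerFew.sum_deg_sq_nat (G := G)]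
    have hu : (Finset.univ : Finset (Cfsg.IrrCharacter G)) = X.toFinset ∪ Y.toFinset := by
      ext χ
      simpa [hB] using hall χ
    rw [hu, Finset.sum_union (Set.disjoint_toFinset.mpr hdisj)]
    have hXe : X.toFinset = {irrOne, ξ} := by
      symm
      refine Finset.eq_of_subset_of_card_le ?_ ?_
      · intro χ hχ
        rcases Finset.mem_insert.mp hχ with rfl | h
        · exact Set.mem_toFinset.mpr hX1
        · rw [Finset.mem_singleton.mp h]
          exact Set.mem_toFinset.mpr hξX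
      · rw [← Nat.card_eq_card_toFinset, hXcard, Finset.card_pair hξ1.symm]
    rw [hXe, Finset.sum_pair hξ1.symm, hone, hdξ,
      Finset.sum_congr rfl fun θ hθ => by rw [hYdeg θ (Set.mem_toFinset.mp hθ)],
      Finset.sum_const, ← Nat.card_eq_card_toFinset, hYcard, smul_eq_mul, one_pow]
  have hcardN : Nat.card N = 2 * p := by
    have h := Subgroup.card_mul_index (C.subgroupOf N)
    rw [← Subgroup.relIndex, ← he, he2,
      Nat.card_congr (Subgroup.subgroupOfEquivOfLe (show C ≤ N from Subgroup.centralizer_le_normalizer _)).toEquiv,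
      hCP, hP] at h
    rw [← h, mul_comm]
  obtain ⟨k, hk⟩ : ∃ k, p = 2 * k + 1 := hp.out.odd_of_ne_two hp2
  -- `(p - 1) / 2` is odd
  have hkodd : Odd k := by
    have hcS := CfsgLib.SmallGroups.card_sylow_mul_card_normalizer P
    have hmod := CfsgLib.SmallGroups.mod_eq_one_card_sylow (p := p) (G := G)
    rw [← hN, hcardN, hcardG] at hcS
    set S := Nat.card (Sylow p G)
    obtain ⟨m, hm⟩ : ∃ m, S = m * p + 1 := ⟨S / p, by
      conv_lhs => rw [← Nat.div_add_mod S p, hmod, mul_comm]⟩
    rw [hm, hk, show 2 * k + 1 - 1 = 2 * k by omega, Nat.mul_div_cancel_left k two_pos] at hcS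
    have hk0 : 1 ≤ k := by omega
    obtain ⟨j, rfl⟩ : ∃ j, k = j + 1 := ⟨k - 1, by omega⟩
    rw [show 2 * (j + 1) + 1 - 2 = 2 * j + 1 by omega] at hcS
    have hZ : ((m : ℤ) * (2 * (j + 1) + 1) + 1) * (2 * (2 * (j + 1) + 1)) =
        1 + (2 * ((j : ℤ) + 1)) ^ 2 + ((j : ℤ) + 1) * (2 * j + 1) ^ 2 := by exact_mod_cast hcS
    have hfac : (2 * ((j : ℤ) + 1) + 1) * (2 * (j + 1) + 1) * (2 * m) =
        (2 * ((j : ℤ) + 1) + 1) * (2 * (j + 1) + 1) * j := by
      linear_combination hZ
    have : (2 * m : ℤ) = j := mul_left_cancel₀ (by positivity) hfac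
    exact ⟨m, by omega⟩
  -- an involution in the normalizer
  obtain ⟨⟨s, hsN⟩, hs⟩ := exists_prime_orderOf_dvd_card' (G := N) 2 (hcardN ▸ dvd_mul_right 2 p)
  rw [Subgroup.orderOf_mk] at hs
  have := Fintype.ofFinite (P : Subgroup G)
  have := Fact.mk Nat.prime_two
  have hsP : s ∉ (P : Subgroup G) := fun h => by
    have h' := (P : Subgroup G).orderOf_dvd_natCard h
    rw [hs, hP] at h'
    exact hp2 ((Nat.prime_dvd_prime_iff_eq Nat.prime_two hp.out).mp h').symm
  have hconj : ∀ u ∈ (P : Subgroup G), (ξ : G → ℂ) (u * s) = (ξ : G → ℂ) s := by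
    intro u hu
    have hno : ∀ g ∈ N, g ∉ (P : Subgroup G) → orderOf g = 2 := by
      intro g hg hgP
      have hd : orderOf g ∣ 2 * p := hcardN ▸ N.orderOf_dvd_natCard hg
      have hnp : ¬ p ∣ orderOf g := fun hpd => hgP (by
        set r := g ^ (orderOf g / p) with hr
        have hro : orderOf r = p := orderOf_pow_orderOf_div (orderOf_pos g).ne' hpd
        have hrP : r ∈ (P : Subgroup G) :=
          CfsgLib.FGS.mem_of_mem_normalizer P ⟨1, by rw [hro, pow_one]⟩ (N.pow_mem hg _)
        obtain ⟨a, ha⟩ := PrimeSylow.pw_surjOn P hP hrP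
        have ha0 : a ≠ 0 := fun h => by
          rw [← ha, h, PrimeSylow.pw_zero, orderOf_one] at hro
          exact hp.out.one_lt.ne hro
        rw [← hCP, hC, ← PrimeSylow.centralizer_pw P hP ha0, ha]
        exact Subgroup.mem_centralizer_singleton_iff.mpr (Commute.self_pow g _).eq)
      have hd2 : orderOf g ∣ 2 :=
        (Nat.Coprime.symm (hp.out.coprime_iff_not_dvd.mpr hnp)).dvd_of_dvd_mul_right hd
      rcases (Nat.dvd_prime Nat.prime_two).mp hd2 with h | h
      · exact absurd (orderOf_eq_one_iff.mp h ▸ one_mem (P : Subgroup G)) hgP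
      · exact h
    have hus : u * s ∈ N := N.mul_mem (Subgroup.le_normalizer hu) hsN
    have h2 : orderOf (u * s) = 2 := hno _ hus fun h => hsP (by
      simpa using (P : Subgroup G).mul_mem ((P : Subgroup G).inv_mem hu) h)
    have hsyl : ∀ (g : N), orderOf g = 2 →
        Nat.card (Subgroup.zpowers g) = 2 ^ (Nat.card N).factorization 2 := by
      intro g hg
      rw [Nat.card_zpowers, hg, hcardN, Nat.factorization_mul two_ne_zero hp.out.ne_zero]
      simp [Nat.Prime.factorization Nat.prime_two, Nat.Prime.factorization hp.out, hp2]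
    set a : N := ⟨s, hsN⟩
    set b : N := ⟨u * s, hus⟩
    obtain ⟨g, hg⟩ := MulAction.exists_smul_eq N
      (Sylow.ofCard _ (hsyl a (by rw [Subgroup.orderOf_mk, hs])))
      (Sylow.ofCard _ (hsyl b (by rw [Subgroup.orderOf_mk, h2])))
    have hmem : g * a * g⁻¹ ∈ Subgroup.zpowers b := by
      have h := congrArg (fun T : Sylow 2 N => (T : Subgroup N)) hg
      simp only [Sylow.coe_subgroup_smul, Sylow.coe_ofCard] at h
      rw [← h]
      exact ⟨a, Subgroup.mem_zpowers a, rfl⟩
    obtain ⟨i, hi⟩ := Subgroup.mem_zpowers_iff.mp hmem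
    rcases Int.even_or_odd i with ⟨c, rfl⟩ | ⟨c, rfl⟩
    · exfalso
      have hb2 : b ^ (c + c) = 1 := by
        rw [← two_mul, zpow_mul, zpow_ofNat, show b ^ 2 = 1 from
          (show orderOf b = 2 by rw [Subgroup.orderOf_mk, h2]) ▸ pow_orderOf_eq_one b, one_zpow]
      rw [hb2, eq_comm, conj_eq_one_iff] at hi
      have : s = 1 := congrArg Subtype.val hi
      rw [this, orderOf_one] at hs
      norm_num at hs
    · rw [zpow_add, zpow_mul, zpow_ofNat, show b ^ 2 = 1 from
        (show orderOf b = 2 by rw [Subgroup.orderOf_mk, h2]) ▸ pow_orderOf_eq_one b, one_zpow,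
        one_mul, zpow_one] at hi
      rw [show u * s = (g : G) * s * (g : G)⁻¹ from congrArg (fun z : N => (z : G)) hi,
        isClassFunction_of_isCharacter hξc]
  have hξs : (ξ : G → ℂ) s = 0 := by
    have h := sum_coset_eq_zero hP hξc hdξ' hξP s
    rw [Finset.sum_congr rfl fun (u : (P : Subgroup G)) _ => hconj u u.2, Finset.sum_const, Finset.card_univ,
      ← Nat.card_eq_fintype_card, hP, nsmul_eq_mul] at h
    exact (mul_eq_zero.mp h).resolve_left (by exact_mod_cast hp.out.ne_zero)
  -- the determinant at `s` is `-1`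
  obtain ⟨r, ρ, -, hρ⟩ := ξ.2
  obtain ⟨bas, z, hz⟩ := exists_eigenbasis ρ s
  have hfin : Module.finrank ℂ (Fin r → ℂ) = p - 1 := by
    have h := hdξ'
    rw [← hρ, Representation.char_one] at h
    have : ((Module.finrank ℂ (Fin r → ℂ) : ℕ) : ℂ) = ((p - 1 : ℕ) : ℂ) := by
      rw [h, Nat.cast_sub hp.out.one_le, Nat.cast_one]
    exact_mod_cast this
  have hpm : ∀ i, z i = 1 ∨ z i = -1 := fun i => by
    have h := (hz i).1
    rw [hs] at h
    exact sq_eq_one_iff.mp h
  have htr : ∑ i, z i = 0 := by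
    rw [← trace_eq_sum_eigen bas (ρ s) z fun i => (hz i).2, ← hξs, ← hρ]
    rfl
  set A := Finset.univ.filter fun i => z i = -1
  have hAc : A.card + A.card = p - 1 := by
    have h1 : ∀ i, z i = 1 - 2 * (if z i = -1 then 1 else 0) := fun i => by
      rcases hpm i with h | h <;> rw [h] <;> norm_num
    rw [Finset.sum_congr rfl fun i _ => h1 i, Finset.sum_sub_distrib, Finset.sum_const,
      Finset.card_univ, Fintype.card_fin, ← Finset.mul_sum, Finset.sum_boole, nsmul_eq_mul,
      mul_one, sub_eq_zero, show ((Module.finrank ℂ (Fin r → ℂ) : ℕ) : ℂ) = ((p - 1 : ℕ) : ℂ) by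
        rw [hfin]] at htr
    have : ((p - 1 : ℕ) : ℂ) = ((2 * A.card : ℕ) : ℂ) := by rw [htr, Nat.cast_mul, Nat.cast_ofNat]
    have := Nat.cast_injective this
    omega
  have hdet : LinearMap.det (ρ s) = ∏ i, z i := by
    rw [← LinearMap.det_toMatrix bas]
    have hdiag : LinearMap.toMatrix bas bas (ρ s) = Matrix.diagonal z := by
      ext i j
      rw [LinearMap.toMatrix_apply, (hz j).2, map_smul, Module.Basis.repr_self, Matrix.diagonal_apply]
      by_cases h : i = j
      · subst h; simp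
      · simp [Finsupp.single_apply, h, Ne.symm h]
    rw [hdiag, Matrix.det_diagonal]
  have hone' : LinearMap.det (ρ s) = 1 := by
    rw [← detHom_apply, CfsgLib.SmallGroups.BrauerFew.linear_trivial_of_perfect hperf (detHom ρ)]
    rfl
  rw [hdet, Finset.prod_congr rfl fun i _ => show z i = if z i = -1 then -1 else 1 by
    rcases hpm i with h | h <;> rw [h] <;> norm_num, Finset.prod_ite, Finset.prod_const_one,
    Finset.prod_const, mul_one] at hone'
  rw [(show Odd A.card by rwa [show A.card = k by omega]).neg_one_pow] at hone'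
  norm_num at hone'

end CfsgLib.CharNormal
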