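import Cfsg.Agent.Lib.CharNormal.SmallLinearModular
import Cfsg.Agent.Lib.CharNormal.SmallDegrees
import Cfsg.Agent.Lib.CharNormal.ItoCoprime

/-!
# Faithful characters of small degree and a Sylow subgroup of prime order

Feit–Thompson: with a Sylow subgroup `P` of order `p` and no proper normal subgroup containing it,
a faithful irreducible character has degree at least `(p - 1) / 2`. The centralizer of `P` is central by
reduction modulo `p`; then the square of the absolute value of the character is decomposed along the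
principal block.
-/

namespace CfsgLib.CharNormal.SmallPrime

open CfsgLib.Char CfsgLib.InvolChar CfsgLib.Blocks CfsgLib.Modular
open scoped ComplexConjugate

universe u

variable {G : Type u} [Group G] [Finite G] {p : ℕ} [hp : Fact p.Prime]

attribute [local instance] CfsgLib.Blocks.resField

/-- In small degree the `p'`-elements centralizing the Sylow subgroup are central. -/
theorem centralizer_central (P : Sylow p G) (hP : Nat.card P = p)
    (hgen : ∀ M : Subgroup G, M.Normal → (P : Subgroup G) ≤ M → M = ⊤)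
    (hcore : ∀ K : Subgroup G, K.Normal → IsPGroup p K → K = ⊥)
    (χ : Cfsg.IrrCharacter G) (hfaith : ∀ g, (χ : G → ℂ) g = (χ : G → ℂ) 1 → g = 1)
    (hdim : 2 * deg χ ≤ p) {y : G}
    (hy : y ∈ Subgroup.centralizer ((P : Subgroup G) : Set G)) (hreg : ¬ p ∣ orderOf y) :
    y ∈ Subgroup.center G := by
  classical
  have := Fintype.ofFinite G
  obtain ⟨M, hM⟩ := CfsgLib.Blocks.exists_isPModular hp.out
  have : M.IsMaximal := hM.2.1
  have := res_isAlgClosed M
  have : CharP (Res M) p := res_charP M hM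
  obtain ⟨d, A, hA⟩ := exists_integral_rep hM χ
  have hd : d = deg χ := by
    have h := hA 1
    rw [map_one, Matrix.trace_one, Fintype.card_fin, deg_spec] at h
    exact_mod_cast h
  set σ := redRep A
  have hker : ∀ g, σ g = 1 → ¬ p ∣ orderOf g → g = 1 := by
    intro g hg hreg
    have h1 : ¬ p ∣ orderOf (1 : G) := by rw [orderOf_one]; exact hp.out.not_dvd_one
    refine hfaith g ?_
    rw [← hA, ← hA, ← brauerFun_redRep hM A hreg, ← brauerFun_redRep hM A h1, brauerFun_regular _ hreg,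
      brauerFun_regular _ h1, map_one]
    exact congrArg (fun e : Module.End (Res M) _ =>
      ((e.charpoly.roots.map (liftRoot M (pm p G))).sum)) hg
  have hK : IsPGroup p σ.ker := by
    intro g
    set f := (orderOf (g : G)).factorization p
    refine ⟨f, Subtype.ext (hker _ (g ^ p ^ f : σ.ker).2 ?_)⟩
    rw [SubmonoidClass.coe_pow, orderOf_pow' _ (pow_pos hp.out.pos f).ne',
      Nat.gcd_eq_right (Nat.ordProj_dvd _ p)]
    exact Nat.not_dvd_ordCompl hp.out (orderOf_pos _).ne'
  have hbot := hcore σ.ker inferInstance hK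
  obtain ⟨x, hxP, hox, hx⟩ := PrimeSylow.exists_gen P hP
  refine SmallModular.mem_center_of_faithful (p := p) σ ((MonoidHom.ker_eq_bot_iff σ).mp hbot) ?_ P hx
    hox hgen hcore (Subgroup.mem_centralizer_iff.mp hy x hxP) hreg
  rw [Module.finrank_fintype_fun_eq_card, Fintype.card_fin, hd]
  exact hdim

/-- The integral form of the final estimate. -/
theorem arith {P₁ e t n F₀ N K S T D ε : ℤ} (hPe : P₁ = e * t) (ht : 2 ≤ t) (he : 1 ≤ e)
    (hn : 2 ≤ n) (hsmall : 2 * n < P₁) (hF : n ≤ F₀) (hN : N = n * n) (hF0 : F₀ = 1 + D + K)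
    (hD : D ≤ S) (hT : 0 ≤ T) (hK : S ≤ K) (hε : ε = 1 ∨ ε = -1) (hKT : ε = -1 → S + T ≤ K)
    (hdiff : N - F₀ = P₁ * K + ε * e * T) : False := by
  have hkey : P₁ * (F₀ - 1) ≤ 2 * (N - F₀) := by
    have h1 : P₁ * (F₀ - 1) ≤ P₁ * (S + K) := mul_le_mul_of_nonneg_left (by omega) (by omega)
    rcases hε with h | h <;> subst h
    · nlinarith [mul_nonneg (show (0 : ℤ) ≤ P₁ by omega) (show (0 : ℤ) ≤ K - S by omega),
        mul_nonneg (show (0 : ℤ) ≤ e by omega) hT]
    · have h2 := hKT rfl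
      nlinarith [mul_nonneg (mul_nonneg (show (0 : ℤ) ≤ e by omega) (show (0 : ℤ) ≤ t - 2 by omega))
          (show (0 : ℤ) ≤ K - S by omega),
        mul_nonneg (show (0 : ℤ) ≤ e by omega) (show (0 : ℤ) ≤ K - S - T by omega)]
  nlinarith [mul_le_mul_of_nonneg_left (show n - 1 ≤ F₀ - 1 by omega) (show (0 : ℤ) ≤ P₁ by omega),
    mul_pos (show (0 : ℤ) < P₁ - 2 * n by omega) (show (0 : ℤ) < n - 1 by omega)]

/-- The sum of a character over the nontrivial elements of `P`, with the multiplicity of one. -/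
theorem sum_sylow (P : Sylow p G) (hP : Nat.card P = p) {f : G → ℂ} (hf : Cfsg.IsCharacter G f)
    {d : ℕ} (hd : f 1 = d) :
    ∃ m : ℕ, ∑ i ∈ Finset.univ.erase (0 : ZMod p), f (PrimeSylow.pw P hP i) = (p : ℂ) * m - d := by
  classical
  have := Fintype.ofFinite G
  have := Fintype.ofFinite (P : Subgroup G)
  obtain ⟨m, hm⟩ := classInner_char_nat (isCharacter_res (P : Subgroup G) hf)
    (isCharacter_one (G := (P : Subgroup G)))
  refine ⟨m, ?_⟩
  have h := card_mul_classInner (fun u : (P : Subgroup G) => f u) (fun _ => 1)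
  rw [hm, show (Nat.card (P : Subgroup G) : ℂ) = p by rw [show Nat.card (P : Subgroup G) = p from hP]] at h
  have hbij : ∑ i : ZMod p, f (PrimeSylow.pw P hP i) = (p : ℂ) * m := by
    rw [h]
    refine Fintype.sum_bijective (fun i => (⟨_, PrimeSylow.pw_mem P hP i⟩ : (P : Subgroup G)))
      ⟨fun a b e => PrimeSylow.pw_injective P hP (congrArg Subtype.val e), fun u => ?_⟩ _ _
      fun i => by simp
    obtain ⟨i, hi⟩ := PrimeSylow.pw_surjOn P hP u.2
    exact ⟨i, Subtype.ext hi⟩
  rw [← hbij, ← Finset.add_sum_erase _ _ (Finset.mem_univ (0 : ZMod p)), PrimeSylow.pw_zero, hd,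
    add_sub_cancel_left]

/-- A sum over a character of a central subgroup. -/
theorem sum_center [Fintype (Subgroup.center G)] {φ : G → ℂ} (hφ : Cfsg.IsIrrCharacter G φ)
    {z₀ : G} (hz₀ : z₀ ∈ Subgroup.center G) (hne : φ z₀ ≠ φ 1) :
    ∑ z : Subgroup.center G, φ z = 0 := by
  have h1 : φ z₀ / φ 1 * ∑ z : Subgroup.center G, φ z = ∑ z : Subgroup.center G, φ z := by
    rw [Finset.mul_sum]
    refine Fintype.sum_equiv (Equiv.mulLeft (⟨z₀, hz₀⟩ : Subgroup.center G)) _ _ fun z => ?_
    show _ = φ (z₀ * z)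
    rw [apply_central_mul' hφ hz₀]
    ring
  have h2 : (φ z₀ / φ 1 - 1) * ∑ z : Subgroup.center G, φ z = 0 := by
    rw [sub_mul, one_mul, h1, sub_self]
  refine (mul_eq_zero.mp h2).resolve_left fun h => hne ?_
  rwa [sub_eq_zero, div_eq_one_iff_eq (irr_one_ne_zero hφ)] at h

theorem normSq_central {φ : G → ℂ} (hφ : Cfsg.IsIrrCharacter G φ) {z : G}
    (hz : z ∈ Subgroup.center G) : φ z * conj (φ z) = φ 1 * φ 1 := by
  have h := apply_central_mul' hφ hz z⁻¹
  rw [mul_inv_cancel, char_inv (isCharacter_of_isIrr hφ), eq_div_iff (irr_one_ne_zero hφ)] at h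
  exact h.symm

set_option maxHeartbeats 800000 in
/-- **The degree bound**, for a central centralizer. -/
theorem bound (P : Sylow p G) (hP : Nat.card P = p) (hperf : commutator G = ⊤)
    (hcore : ∀ K : Subgroup G, K.Normal → IsPGroup p K → K = ⊥)
    (hC : ∀ y ∈ Subgroup.centralizer ((P : Subgroup G) : Set G), ¬ p ∣ orderOf y →
      y ∈ Subgroup.center G)
    (χ : Cfsg.IrrCharacter G) (hfaith : ∀ g, (χ : G → ℂ) g = (χ : G → ℂ) 1 → g = 1) :
    p ≤ 2 * deg χ + 1 := by
  classical
  by_contra hcon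
  push Not at hcon
  have := Fintype.ofFinite G
  have : NeZero p := ⟨hp.out.ne_zero⟩
  set n := deg χ with hn
  have hn0 := deg_pos χ
  have hp0 : (p : ℂ) ≠ 0 := Nat.cast_ne_zero.mpr hp.out.ne_zero
  have hZP : ∀ z ∈ Subgroup.center G, (∃ k : ℕ, orderOf z = p ^ k) → z = 1 := by
    rintro z hz ⟨k, hk⟩
    have hn' : (Subgroup.zpowers z).Normal := ⟨fun a ha g => by
      have hac : a ∈ Subgroup.center G := Subgroup.zpowers_le.mpr hz ha
      rwa [Subgroup.mem_center_iff.mp hac g, mul_inv_cancel_right]⟩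
    have := hcore _ hn' (IsPGroup.of_card (n := k) (by rw [Nat.card_zpowers, hk]))
    exact Subgroup.mem_bot.mp (this ▸ Subgroup.mem_zpowers z)
  have hlin : ∀ φ : Cfsg.IrrCharacter G, (φ : G → ℂ) 1 = 1 → φ = irrOne := by
    intro φ h1
    refine Subtype.ext (funext fun g => ?_)
    rw [irrOne_apply, ← h1]
    have hle : commutator G ≤ charKer (isCharacter_of_isIrr φ.2) := by
      rw [commutator_eq_closure, Subgroup.closure_le]
      rintro _ ⟨a, b, rfl⟩
      have hm := linear_map_mul (isCharacter_of_isIrr φ.2) h1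
      refine mem_charKer.mpr ?_
      rw [commutatorElement_def, hm (a * b * a⁻¹), isClassFunction_of_isIrr φ.2, ← hm, mul_inv_cancel]
    exact mem_charKer.mp (hle (hperf.ge (Subgroup.mem_top g)))
  obtain ⟨x₀, hx₀P, hox₀, -⟩ := PrimeSylow.exists_gen P hP
  have hx₀1 : x₀ ≠ 1 := fun h => hp.out.one_lt.ne' (by rw [← hox₀, h, orderOf_one])
  have hn2 : 2 ≤ n := by
    by_contra hlt
    refine hx₀1 (hfaith x₀ ?_)
    rw [hlin χ (by rw [deg_spec, show deg χ = 1 by omega, Nat.cast_one]), irrOne_apply, irrOne_apply]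
  set e := (Subgroup.centralizer ((P : Subgroup G) : Set G)).relIndex
    (Subgroup.normalizer ((P : Subgroup G) : Set G)) with he
  have hedvd : e ∣ p - 1 := PrimeSylow.relIndex_dvd P hP
  have he0 : 0 < e := Nat.pos_of_ne_zero fun h => by
    rw [h] at hedvd
    have := hp.out.two_le
    have := Nat.eq_zero_of_zero_dvd hedvd
    omega
  have hordp : ∀ {i : ZMod p}, i ≠ 0 → orderOf (PrimeSylow.pw P hP i) = p := fun hi => by
    rw [← Nat.card_zpowers, PrimeSylow.zpowers_pw P hP hi]; exact hP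
  -- the index is a proper divisor
  have hep : e ≠ p - 1 := by
    intro heq
    have htop : (PrimeSylow.rhoU P hP).range = ⊤ := by
      refine Subgroup.eq_top_of_card_eq _ ?_
      rw [PrimeSylow.card_range_rhoU P hP, ← he, heq, Nat.card_eq_fintype_card (α := (ZMod p)ˣ),
        ZMod.card_units]
    set c := (χ : G → ℂ) (PrimeSylow.pw P hP 1) with hc
    have hval : ∀ i : ZMod p, i ≠ 0 → (χ : G → ℂ) (PrimeSylow.pw P hP i) = c := fun i hi =>
      ((isClassFunction_iff.mp (isClassFunction_of_isIrr χ.2)) _ _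
        ((PrimeSylow.isConj_pw_iff P hP one_ne_zero).mpr
          ⟨Units.mk0 i hi, htop ▸ Subgroup.mem_top _, mul_one i⟩)).symm
    obtain ⟨m, hm⟩ := sum_sylow P hP (isCharacter_of_isIrr χ.2) (deg_spec χ)
    rw [Finset.sum_congr rfl fun i hi => hval i (Finset.mem_erase.mp hi).1, Finset.sum_const,
      Finset.card_erase_of_mem (Finset.mem_univ _), Finset.card_univ, ZMod.card, nsmul_eq_mul] at hm
    have hp1 : ((p - 1 : ℕ) : ℂ) ≠ 0 := Nat.cast_ne_zero.mpr (by have := hp.out.two_le; omega)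
    obtain ⟨z, hz⟩ := exists_int_of_isIntegral_rat
      (q := (((p : ℚ) * m - n) / ((p - 1 : ℕ) : ℚ))) (by
        have : ((((p : ℚ) * m - n) / ((p - 1 : ℕ) : ℚ) : ℚ) : ℂ) = c := by
          push_cast
          rw [div_eq_iff hp1, ← hm, mul_comm]
        rw [this]
        exact char_isIntegral (isCharacter_of_isIrr χ.2) _)
    have hcz : c = (z : ℂ) := by
      have h1 := congrArg (fun q : ℚ => (q : ℂ)) hz
      push_cast at h1
      rw [← h1, eq_div_iff hp1, ← hm, mul_comm]
    have h1 : ((p : ℤ) - 1) * z = (p : ℤ) * m - n := by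
      rw [hcz, Nat.cast_sub hp.out.one_le, Nat.cast_one] at hm
      exact_mod_cast hm
    have h2 : |z| ≤ (n : ℤ) := by
      have h := norm_char_le (isCharacter_of_isIrr χ.2) (PrimeSylow.pw P hP 1)
      rw [← hc, hcz, deg_spec, Complex.natCast_re, Complex.norm_intCast] at h
      exact_mod_cast h
    obtain ⟨hz1, hz2⟩ := abs_le.mp h2
    have h3 : (p : ℤ) ∣ (n : ℤ) - z := ⟨m - z, by linarith⟩
    have h4 : (n : ℤ) - z = 0 := Int.eq_zero_of_abs_lt_dvd h3 (by
      rw [abs_of_nonneg (by omega)]; omega)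
    have h5 := hfaith _ (show (χ : G → ℂ) (PrimeSylow.pw P hP 1) = (χ : G → ℂ) 1 by
      rw [← hc, hcz, deg_spec, show z = ((n : ℕ) : ℤ) by omega, Int.cast_natCast])
    exact one_ne_zero ((PrimeSylow.pw_eq_one_iff P hP).mp h5)
  set t := (p - 1) / e
  have het : e * t = p - 1 := Nat.mul_div_cancel' hedvd
  have ht2 : 2 ≤ t := by
    by_contra h
    have := hp.out.two_le
    interval_cases ht' : t <;> omega
  -- the principal block
  obtain ⟨M, hM⟩ := CfsgLib.Blocks.exists_isPModular hp.out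
  have : M.IsMaximal := hM.2.1
  obtain ⟨X, Y, hB, hdisj, hXcard, hYcard, -, εX, ε, hX, hε, hYdeg, -, hrel⟩ :=
    principal_block_prime_sylow P hM hP e rfl
  let F : Cfsg.IrrCharacter G → Finset (ZMod p) → ℂ := fun φ s =>
    ∑ i ∈ s, (φ : G → ℂ) (PrimeSylow.pw P hP i)
  set I := Finset.univ.erase (0 : ZMod p) with hI
  have hIcard : I.card = p - 1 := by
    rw [hI, Finset.card_erase_of_mem (Finset.mem_univ _), Finset.card_univ, ZMod.card]
  choose m hm using fun φ : Cfsg.IrrCharacter G =>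
    sum_sylow P hP (isCharacter_of_isIrr φ.2) (deg_spec φ)
  have hXval : ∀ φ ∈ X, ∀ i : ZMod p, i ≠ 0 → ∀ z ∈ Subgroup.center G, ¬ p ∣ orderOf z →
      (φ : G → ℂ) (PrimeSylow.pw P hP i * z) = (εX φ : ℂ) := fun φ hφ i hi z hz hr =>
    (hX φ hφ).2.2 _ (PrimeSylow.pw_mem P hP i) (fun h => hi ((PrimeSylow.pw_eq_one_iff P hP).mp h)) z
      (Subgroup.center_le_centralizer _ hz) hr
  have hXone : ∀ φ ∈ X, ∀ i : ZMod p, i ≠ 0 → (φ : G → ℂ) (PrimeSylow.pw P hP i) = (εX φ : ℂ) :=
    fun φ hφ i hi => by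
      have h := hXval φ hφ i hi 1 (Subgroup.one_mem _) (by rw [orderOf_one]; exact hp.out.not_dvd_one)
      rwa [mul_one] at h
  have hZreg : ∀ z ∈ Subgroup.center G, ¬ p ∣ orderOf z := by
    intro z hz hdvd
    have h1 := hZP (z ^ (orderOf z / p)) (Subgroup.pow_mem _ hz _)
      ⟨1, by rw [pow_one, orderOf_pow_orderOf_div (orderOf_pos z).ne' hdvd]⟩
    have h2 := orderOf_pow_orderOf_div (orderOf_pos z).ne' hdvd
    rw [h1, orderOf_one] at h2
    exact hp.out.one_lt.ne h2
  have hone1 : (1 : ZMod p) ≠ 0 := one_ne_zero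
  -- the center is in the kernel of the principal block
  have hXker : ∀ φ ∈ X, ∀ z ∈ Subgroup.center G, (φ : G → ℂ) z = (φ : G → ℂ) 1 := by
    intro φ hφ z hz
    have h1 := hXval φ hφ 1 hone1 z hz (hZreg z hz)
    rw [Subgroup.mem_center_iff.mp hz, apply_central_mul' φ.2 hz, hXone φ hφ 1 hone1,
      div_eq_iff (irr_one_ne_zero φ.2), mul_comm] at h1
    refine mul_left_cancel₀ (fun h0 => ?_) h1
    rcases (hX φ hφ).1 with h | h <;> rw [h] at h0 <;> simp at h0
  have hBker : ∀ φ ∈ Cfsg.principalBlock M G, ∀ z ∈ Subgroup.center G,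
      (φ : G → ℂ) z = (φ : G → ℂ) 1 := by
    intro φ hφ z hz
    rw [hB] at hφ
    rcases hφ with h | h
    · exact hXker φ h z hz
    have h1 := hrel φ h z (hZreg z hz)
    have h2 := hrel φ h 1 (by rw [orderOf_one]; exact hp.out.not_dvd_one)
    rw [finsum_mem_congr rfl fun ξ (hξ : ξ ∈ X) => by rw [hXker ξ hξ z hz], ← h2] at h1
    refine mul_left_cancel₀ (fun h0 => ?_) h1
    rcases hε with h' | h' <;> rw [h'] at h0 <;> simp at h0
  -- the other characters vanish on `P`
  have hcent : ∀ {i : ZMod p}, i ≠ 0 →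
      Nat.card (Subgroup.centralizer ({PrimeSylow.pw P hP i} : Set G)) =
        p * Nat.card (Subgroup.center G) := by
    intro i hi
    rw [PrimeSylow.centralizer_pw P hP hi]
    conv_rhs => rw [← hP, ← Nat.card_prod]
    refine (Nat.card_eq_of_bijective
      (fun q : ↥(P : Subgroup G) × ↥(Subgroup.center G) => (⟨(q.1 : G) * (q.2 : G), mul_mem
        (PrimeSylow.le_centralizer P hP q.1.2) (Subgroup.center_le_centralizer _ q.2.2)⟩ :
          Subgroup.centralizer ((P : Subgroup G) : Set G))) ⟨?_, ?_⟩).symm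
    · intro a b hab
      have h : (a.1 : G) * (a.2 : G) = (b.1 : G) * (b.2 : G) := congrArg Subtype.val hab
      have h2 : (b.1 : G)⁻¹ * (a.1 : G) = (b.2 : G) * (a.2 : G)⁻¹ := by
        rw [eq_mul_inv_iff_mul_eq, mul_assoc, h, inv_mul_cancel_left]
      have h3 : (b.1 : G)⁻¹ * (a.1 : G) = 1 := by
        refine hZP _ (h2 ▸ mul_mem b.2.2 (inv_mem a.2.2)) ?_
        obtain ⟨k, hk⟩ := IsPGroup.iff_orderOf.mp P.isPGroup' (b.1⁻¹ * a.1)
        exact ⟨k, by rw [← hk, ← Subgroup.orderOf_coe]; rfl⟩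
      have h4 := inv_mul_eq_one.mp h3
      refine Prod.ext (Subtype.ext h4.symm) (Subtype.ext ?_)
      rwa [h4, mul_left_cancel_iff] at h
    · rintro ⟨y, hy⟩
      obtain ⟨u, hu⟩ := exists_isPPart (p := p) y
      have huy := isPPart_mem_zpowers hu
      obtain ⟨v, huv, -, ⟨k, hk⟩, hv⟩ := hu
      have hu' : u ∈ Subgroup.centralizer ((P : Subgroup G) : Set G) :=
        Subgroup.zpowers_le.mpr hy huy
      have hv' : v ∈ Subgroup.centralizer ((P : Subgroup G) : Set G) := by
        rw [show v = u⁻¹ * y by rw [← huv, inv_mul_cancel_left]]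
        exact mul_mem (inv_mem hu') hy
      exact ⟨(⟨u, PrimeSylow.mem_of_pElement_centralizer P hu' ⟨k, hk⟩⟩, ⟨v, hC v hv' hv⟩),
        Subtype.ext huv⟩
  let _ := Fintype.ofFinite (Subgroup.center G)
  have hother : ∀ φ : Cfsg.IrrCharacter G, φ ∉ Cfsg.principalBlock M G →
      (∀ z ∈ Subgroup.center G, (φ : G → ℂ) z = (φ : G → ℂ) 1) →
      ∀ i : ZMod p, i ≠ 0 → (φ : G → ℂ) (PrimeSylow.pw P hP i) = 0 := by
    intro φ hφ hker i hi
    set x := PrimeSylow.pw P hP i
    let K : Cfsg.IrrCharacter G → Prop := fun ψ =>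
      ∀ z ∈ Subgroup.center G, (ψ : G → ℂ) z = (ψ : G → ℂ) 1
    have h1 : ∑ ψ : Cfsg.IrrCharacter G,
        (if K ψ then (ψ : G → ℂ) x * conj ((ψ : G → ℂ) x) else 0) = p := by
      have hz : ∀ z : Subgroup.center G, ∑ ψ : Cfsg.IrrCharacter G,
          (ψ : G → ℂ) (z * x) * conj ((ψ : G → ℂ) x) =
          if z = 1 then ((p * Nat.card (Subgroup.center G) : ℕ) : ℂ) else 0 := by
        intro z
        rw [second_orthogonality]
        by_cases hz1 : z = 1
        · subst hz1
          rw [OneMemClass.coe_one, one_mul, if_pos (IsConj.refl _), if_pos rfl, hcent hi]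
        · rw [if_neg hz1, if_neg]
          intro hcj
          refine hz1 (Subtype.ext (hZP z z.2 ⟨0, ?_⟩))
          obtain ⟨g, hg⟩ := isConj_iff.mp hcj
          have h2 : ((z : G) * x) ^ p = 1 := by
            have h3 := congrArg (· ^ p) hg
            simp only [conj_pow] at h3
            rw [← hordp hi] at h3 ⊢
            rw [pow_orderOf_eq_one, conj_eq_one_iff] at h3
            exact h3
          have hcz : Commute (z : G) x := (Subgroup.mem_center_iff.mp z.2 x).symm
          rw [hcz.mul_pow, ← hordp hi, pow_orderOf_eq_one, mul_one, hordp hi] at h2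
          have hd := orderOf_dvd_of_pow_eq_one h2
          rcases hp.out.eq_one_or_self_of_dvd _ hd with h | h
          · rw [pow_zero, h]
          · exact absurd (dvd_of_eq h.symm) (hZreg _ z.2)
      have hsum : ∑ z : Subgroup.center G, ∑ ψ : Cfsg.IrrCharacter G,
          (ψ : G → ℂ) (z * x) * conj ((ψ : G → ℂ) x) =
          (Nat.card (Subgroup.center G) : ℂ) * p := by
        rw [Finset.sum_congr rfl fun z _ => hz z, Finset.sum_ite_eq' Finset.univ, if_pos (Finset.mem_univ _)]
        push_cast; ring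
      have hK : ∑ z : Subgroup.center G, ∑ ψ : Cfsg.IrrCharacter G,
          (ψ : G → ℂ) (z * x) * conj ((ψ : G → ℂ) x) =
          (Nat.card (Subgroup.center G) : ℂ) * ∑ ψ : Cfsg.IrrCharacter G,
            (if K ψ then (ψ : G → ℂ) x * conj ((ψ : G → ℂ) x) else 0) := by
        rw [Finset.sum_comm, Finset.mul_sum]
        refine Finset.sum_congr rfl fun ψ _ => ?_
        rw [Finset.sum_congr rfl fun (z : Subgroup.center G) _ =>
            show (ψ : G → ℂ) (z * x) * conj ((ψ : G → ℂ) x) =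
              (ψ : G → ℂ) z * ((ψ : G → ℂ) x * conj ((ψ : G → ℂ) x) / (ψ : G → ℂ) 1) by
              rw [apply_central_mul' ψ.2 z.2]; ring, ← Finset.sum_mul]
        split_ifs with h
        · rw [Finset.sum_congr rfl fun (z : Subgroup.center G) _ => h z z.2, Finset.sum_const,
            Finset.card_univ, Nat.card_eq_fintype_card, nsmul_eq_mul]
          field_simp [irr_one_ne_zero ψ.2]
        · simp only [K, not_forall] at h
          obtain ⟨z₀, hz₀, hne⟩ := h
          rw [sum_center ψ.2 hz₀ hne, zero_mul, mul_zero]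
      exact mul_left_cancel₀ (Nat.cast_ne_zero.mpr Nat.card_pos.ne') (hK.symm.trans hsum)
    have h2 := column_inner P hM hP hi hi
    rw [if_pos (IsConj.refl _)] at h2
    have h3 : ∑ ψ : Cfsg.IrrCharacter G, (if K ψ ∧ ψ ∉ Cfsg.principalBlock M G then
        Complex.normSq ((ψ : G → ℂ) x) else 0) = 0 := by
      refine Complex.ofReal_injective ?_
      rw [Complex.ofReal_sum, Complex.ofReal_zero]
      have h4 := congrArg₂ (· - ·) h1 h2
      rw [← Finset.sum_sub_distrib, sub_self] at h4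
      refine Eq.trans (Finset.sum_congr rfl fun ψ _ => ?_) h4
      by_cases hψ : ψ ∈ Cfsg.principalBlock M G
      · rw [if_neg (fun h => h.2 hψ), if_pos hψ, if_pos (hBker ψ hψ), Complex.ofReal_zero, sub_self]
      · rw [if_neg hψ, sub_zero]
        by_cases hψK : K ψ
        · rw [if_pos ⟨hψK, hψ⟩, if_pos hψK, Complex.mul_conj]
        · rw [if_neg (fun h => hψK h.1), if_neg hψK, Complex.ofReal_zero]
    have h4 := (Finset.sum_eq_zero_iff_of_nonneg fun ψ _ => by
      split_ifs
      · exact Complex.normSq_nonneg _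
      · exact le_rfl).mp h3 φ (Finset.mem_univ φ)
    rwa [if_pos ⟨hker, hφ⟩, Complex.normSq_eq_zero] at h4
  -- the sums over `P`
  let S : Cfsg.IrrCharacter G → ℤ := fun φ => (p : ℤ) * m φ - deg φ
  have hS : ∀ φ, F φ I = (S φ : ℂ) := fun φ => by
    simp only [F, S]; push_cast; exact hm φ
  have hSX : ∀ φ ∈ X, S φ = ((p : ℤ) - 1) * εX φ := by
    intro φ hφ
    have h := hS φ
    rw [show F φ I = ∑ _i ∈ I, (εX φ : ℂ) from Finset.sum_congr rfl fun i hi =>
      hXone φ hφ i (Finset.mem_erase.mp hi).1, Finset.sum_const, hIcard, nsmul_eq_mul,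
      Nat.cast_sub hp.out.one_le, Nat.cast_one] at h
    exact_mod_cast h.symm
  have hXY : ∀ φ ∈ X, φ ∉ Y := fun φ h h' => Set.disjoint_left.mp hdisj h h'
  have hsq : ∑ φ ∈ Y.toFinset, S φ * S φ = (t : ℤ) * (e * e) := by
    have h1 : ∑ φ : Cfsg.IrrCharacter G, (if φ ∈ Cfsg.principalBlock M G then
        F φ I * conj (F φ I) else 0) = (p : ℂ) * ((p - 1 : ℕ) : ℂ) * e := by
      have hrw : ∀ φ : Cfsg.IrrCharacter G, (if φ ∈ Cfsg.principalBlock M G then
          F φ I * conj (F φ I) else 0) = ∑ i ∈ I, ∑ l ∈ I, (if φ ∈ Cfsg.principalBlock M G then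
            (φ : G → ℂ) (PrimeSylow.pw P hP i) * conj ((φ : G → ℂ) (PrimeSylow.pw P hP l)) else 0) := by
        intro φ
        split_ifs
        · simp only [F, map_sum, Finset.sum_mul, Finset.mul_sum]
          exact Finset.sum_comm
        · simp
      rw [Finset.sum_congr rfl fun φ _ => hrw φ, Finset.sum_comm]
      rw [Finset.sum_congr rfl fun i _ => Finset.sum_comm]
      have hrow : ∀ i ∈ I, ∑ l ∈ I, ∑ φ : Cfsg.IrrCharacter G, (if φ ∈ Cfsg.principalBlock M G then
          (φ : G → ℂ) (PrimeSylow.pw P hP i) * conj ((φ : G → ℂ) (PrimeSylow.pw P hP l)) else 0) =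
          (p : ℂ) * e := by
        intro i hi
        have hi0 := (Finset.mem_erase.mp hi).1
        rw [Finset.sum_congr rfl fun l hl =>
          column_inner P hM hP hi0 (Finset.mem_erase.mp hl).1, ← Finset.sum_filter, Finset.sum_const,
          nsmul_eq_mul, mul_comm]
        congr 2
        let _ := Fintype.ofFinite (PrimeSylow.rhoU P hP).range
        rw [he, ← PrimeSylow.card_range_rhoU P hP, Nat.card_eq_fintype_card, ← Finset.card_univ]
        refine (Finset.card_bij (fun (u : (PrimeSylow.rhoU P hP).range) _ => ((u : (ZMod p)ˣ) : ZMod p) * i)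
          (fun u _ => ?_) (fun u _ u' _ h => ?_) (fun b hb => ?_)).symm
        · exact Finset.mem_filter.mpr ⟨Finset.mem_erase.mpr ⟨mul_ne_zero (Units.ne_zero _) hi0,
            Finset.mem_univ _⟩, (PrimeSylow.isConj_pw_iff P hP hi0).mpr ⟨u, u.2, rfl⟩⟩
        · exact Subtype.ext (Units.ext (mul_right_cancel₀ hi0 h))
        · obtain ⟨u, hu, hu'⟩ := (PrimeSylow.isConj_pw_iff P hP hi0).mp (Finset.mem_filter.mp hb).2
          exact ⟨⟨u, hu⟩, Finset.mem_univ _, hu'⟩
      rw [Finset.sum_congr rfl hrow, Finset.sum_const, hIcard, nsmul_eq_mul]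
      ring
    have h2 : ∑ φ ∈ (X ∪ Y).toFinset, S φ * S φ = (p : ℤ) * ((p - 1 : ℕ) : ℤ) * e := by
      refine Int.cast_injective (α := ℂ) ?_
      push_cast
      rw [← h1, ← Finset.sum_filter]
      refine Finset.sum_congr (by ext φ; simp [hB]) fun φ _ => ?_
      rw [hS, map_intCast]
    rw [Set.toFinset_union, Finset.sum_union (Set.disjoint_toFinset.mpr hdisj),
      Finset.sum_congr rfl fun φ (hφ : φ ∈ X.toFinset) => show S φ * S φ =
        ((p : ℤ) - 1) * ((p : ℤ) - 1) by
        rw [Set.mem_toFinset] at hφ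
        rw [hSX φ hφ]
        rcases (hX φ hφ).1 with h | h <;> rw [h] <;> ring,
      Finset.sum_const, ← Nat.card_eq_card_toFinset, hXcard, nsmul_eq_mul] at h2
    have h3 : ((p - 1 : ℕ) : ℤ) = (p : ℤ) - 1 := by
      have := hp.out.two_le; omega
    have h4 : (p : ℤ) - 1 = e * t := by rw [← h3, ← het]; push_cast; rfl
    rw [h3] at h2
    nlinarith
  have hSY : ∀ φ ∈ Y, S φ = -(ε * e) := by
    have hcg : ∀ φ ∈ Y, (p : ℤ) ∣ S φ + ε * e := fun φ hφ => by
      have h := (hYdeg φ hφ).dvd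
      rw [CfsgLib.CharBlocks.charDegree_eq (deg_spec φ)] at h
      have h' := dvd_add h (dvd_mul_right (p : ℤ) (m φ))
      rwa [show S φ + ε * e = ε * (e : ℤ) - (deg φ : ℤ) + (p : ℤ) * (m φ : ℤ) by simp only [S]; ring]
    have h2e : 2 * e < p := by
      have := Nat.mul_le_mul_left e ht2
      have := hp.out.two_le
      omega
    have hge : ∀ φ ∈ Y.toFinset, (e : ℤ) * e ≤ S φ * S φ := by
      intro φ hφ
      rw [Set.mem_toFinset] at hφ
      by_contra hlt
      push Not at hlt
      have h1 : |S φ| < (e : ℤ) := by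
        by_contra h'
        push Not at h'
        nlinarith [abs_nonneg (S φ), abs_mul_abs_self (S φ)]
      obtain ⟨h1a, h1b⟩ := abs_lt.mp h1
      have h0 := Int.eq_zero_of_abs_lt_dvd (hcg φ hφ) (by
        rw [abs_lt]; rcases hε with h | h <;> rw [h] <;> constructor <;> omega)
      rcases hε with h | h <;> rw [h] at h0 <;> omega
    have heq := (Finset.sum_eq_sum_iff_of_le hge).mp (by
      rw [hsq, Finset.sum_const, ← Nat.card_eq_card_toFinset, hYcard, nsmul_eq_mul])
    intro φ hφ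
    rcases mul_self_eq_mul_self_iff.mp (heq φ (Set.mem_toFinset.mpr hφ)).symm with h | h <;>
      rcases hε with h' | h'
    · exfalso
      have h0 := Int.eq_zero_of_abs_lt_dvd (hcg φ hφ) (by rw [h, h', abs_lt]; omega)
      rw [h, h'] at h0; omega
    · rw [h, h']; ring
    · rw [h, h']; ring
    · exfalso
      have h0 := Int.eq_zero_of_abs_lt_dvd (hcg φ hφ) (by rw [h, h', abs_lt]; omega)
      rw [h, h'] at h0; omega
  have hoB : (irrOne : Cfsg.IrrCharacter G) ∈ X ∪ Y := hB ▸ irrOne_mem_principalBlock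
  have hSone : S irrOne = (p : ℤ) - 1 := by
    have h := hS irrOne
    rw [show F irrOne I = ∑ _i ∈ I, (1 : ℂ) from rfl, Finset.sum_const, hIcard, nsmul_eq_mul, mul_one,
      Nat.cast_sub hp.out.one_le, Nat.cast_one] at h
    exact_mod_cast h.symm
  have honeX : (irrOne : Cfsg.IrrCharacter G) ∈ X ∧ εX irrOne = 1 := by
    rcases hoB with h | h
    · exact ⟨h, by
        have h1 := hXone _ h 1 hone1
        rw [irrOne_apply] at h1
        exact_mod_cast h1.symm⟩
    · exfalso
      have h1 := hSY _ h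
      rw [hSone] at h1
      have h2e : e * 2 ≤ p - 1 := het ▸ Nat.mul_le_mul_left e ht2
      have := hp.out.two_le
      rcases hε with h' | h' <;> rw [h'] at h1 <;> omega
  -- the square of the absolute value
  set A : G → ℂ := fun g => (χ : G → ℂ) g * conj ((χ : G → ℂ) g) with hA
  have hAc : Cfsg.IsCharacter G A :=
    isCharacter_mul (isCharacter_of_isIrr χ.2) (isCharacter_conj (isCharacter_of_isIrr χ.2))
  obtain ⟨a, ha, hai⟩ := char_decomp hAc
  have hAapp : ∀ g, A g = ∑ φ : Cfsg.IrrCharacter G, (a φ : ℂ) * (φ : G → ℂ) g := fun g => by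
    rw [ha]; simp [Finset.sum_apply]
  have hAker : ∀ φ : Cfsg.IrrCharacter G, a φ ≠ 0 → ∀ z ∈ Subgroup.center G,
      (φ : G → ℂ) z = (φ : G → ℂ) 1 := by
    intro φ hφ z hz
    by_contra hne
    refine hφ ?_
    have hmul : ∀ g, A (z * g) = A g := fun g => by
      simp only [hA]
      rw [apply_central_mul' χ.2 hz, map_div₀, map_mul, char_conj_one (isCharacter_of_isIrr χ.2),
        div_mul_div_comm, mul_mul_mul_comm, normSq_central χ.2 hz,
        mul_div_cancel_left₀ _ (mul_ne_zero (irr_one_ne_zero χ.2) (irr_one_ne_zero χ.2))]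
    have h1 : ∑ g : G, A g * conj ((φ : G → ℂ) g) =
        conj ((φ : G → ℂ) z / (φ : G → ℂ) 1) * ∑ g : G, A g * conj ((φ : G → ℂ) g) := by
      conv_lhs => rw [← Fintype.sum_equiv (Equiv.mulLeft z) (fun g => A (z * g) * conj ((φ : G → ℂ) (z * g)))
        (fun g => A g * conj ((φ : G → ℂ) g)) fun g => rfl]
      rw [Finset.mul_sum]
      refine Finset.sum_congr rfl fun g _ => ?_
      rw [hmul, apply_central_mul' φ.2 hz, map_div₀, map_mul, map_div₀]
      ring
    rw [← card_mul_classInner, hai] at h1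
    have h2 : (conj ((φ : G → ℂ) z / (φ : G → ℂ) 1) - 1) * ((Nat.card G : ℂ) * (a φ : ℂ)) = 0 := by
      rw [sub_mul, one_mul, ← h1, sub_self]
    rcases mul_eq_zero.mp h2 with h | h
    · refine absurd ?_ hne
      have h' := congrArg conj (sub_eq_zero.mp h)
      rw [Complex.conj_conj, map_one, div_eq_one_iff_eq (irr_one_ne_zero φ.2)] at h'
      exact h'
    · exact_mod_cast (mul_eq_zero.mp h).resolve_left card_ne_zero'
  have hSother : ∀ φ : Cfsg.IrrCharacter G, a φ ≠ 0 → φ ∉ X → φ ∉ Y → S φ = 0 := by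
    intro φ h0 hX' hY'
    have h := hS φ
    rw [show F φ I = 0 from Finset.sum_eq_zero fun i hi => hother φ (by
      rw [hB]; exact fun h => h.elim hX' hY') (hAker φ h0) i (Finset.mem_erase.mp hi).1] at h
    exact_mod_cast h.symm
  have ha1 : a irrOne = 1 := by
    have h := hai irrOne
    rw [classInner_def] at h
    have h1 := classInner_irr_self χ.2
    rw [classInner_def] at h1
    have : ((a irrOne : ℕ) : ℂ) = 1 := by
      rw [← h, ← h1]
      congr 1
      refine Finset.sum_congr rfl fun g _ => ?_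
      rw [irrOne_apply, map_one, mul_one]
    exact_mod_cast this
  -- the multiplicity of one in the restriction
  set F₀ : ℤ := ∑ φ : Cfsg.IrrCharacter G, (a φ : ℤ) * (m φ : ℤ) with hF₀
  have hN : (n : ℤ) * n = ∑ φ : Cfsg.IrrCharacter G, (a φ : ℤ) * (deg φ : ℤ) := by
    refine Int.cast_injective (α := ℂ) ?_
    push_cast
    have h := hAapp 1
    simp only [hA, deg_spec] at h
    rw [Complex.conj_natCast] at h
    exact h
  have hF₀n : (n : ℤ) ≤ F₀ := by
    let _ := Fintype.ofFinite (P : Subgroup G)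
    obtain ⟨c, hc, -⟩ := char_decomp (isCharacter_res (P : Subgroup G) (isCharacter_of_isIrr χ.2))
    have hbij : ∑ i : ZMod p, A (PrimeSylow.pw P hP i) = ∑ u : (P : Subgroup G), A u := by
      refine Fintype.sum_bijective (fun i => (⟨_, PrimeSylow.pw_mem P hP i⟩ : (P : Subgroup G)))
        ⟨fun a b e => PrimeSylow.pw_injective P hP (congrArg Subtype.val e), fun u => ?_⟩ _ _
        fun i => rfl
      obtain ⟨i, hi⟩ := PrimeSylow.pw_surjOn P hP u.2
      exact ⟨i, Subtype.ext hi⟩
    have h1 : ∑ i : ZMod p, A (PrimeSylow.pw P hP i) = (p : ℂ) * (F₀ : ℂ) := by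
      rw [← Finset.add_sum_erase _ _ (Finset.mem_univ (0 : ZMod p)), PrimeSylow.pw_zero,
        Finset.sum_congr rfl fun i _ => hAapp _, Finset.sum_comm, hAapp 1, ← Finset.sum_add_distrib,
        hF₀, Int.cast_sum, Finset.mul_sum]
      refine Finset.sum_congr rfl fun φ _ => ?_
      rw [← Finset.mul_sum, hm φ, deg_spec]
      push_cast; ring
    have h2 : Cfsg.classInner (fun u : (P : Subgroup G) => (χ : G → ℂ) u)
        (fun u : (P : Subgroup G) => (χ : G → ℂ) u) = (F₀ : ℂ) := by
      rw [classInner_def, show Nat.card (P : Subgroup G) = p from hP,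
        show ∑ u : (P : Subgroup G), (χ : G → ℂ) u * conj ((χ : G → ℂ) u) = (p : ℂ) * (F₀ : ℂ) from
          hbij.symm.trans h1, ← mul_assoc, inv_mul_cancel₀ hp0, one_mul]
    have h3 : Cfsg.classInner (fun u : (P : Subgroup G) => (χ : G → ℂ) u)
        (fun u : (P : Subgroup G) => (χ : G → ℂ) u) = ((∑ ψ, c ψ * c ψ : ℕ) : ℂ) := by
      rw [hc, classInner_sum_left, Nat.cast_sum]
      refine Finset.sum_congr rfl fun ψ _ => ?_
      rw [classInner_smul_left, classInner_sum_right, Finset.sum_eq_single ψ]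
      · rw [classInner_smul_right, classInner_irr_self ψ.2, Complex.conj_natCast, mul_one, Nat.cast_mul]
      · intro ψ' _ hne
        rw [classInner_smul_right, classInner_irr_ne ψ.2 ψ'.2 (fun h => hne (Subtype.ext h).symm),
          mul_zero]
      · simp
    have h4 : n = ∑ ψ, c ψ := by
      have h := congrFun hc 1
      simp only [OneMemClass.coe_one, deg_spec, Finset.sum_apply, Pi.smul_apply, smul_eq_mul] at h
      have hab : ∀ u v : (P : Subgroup G), u * v = v * u := by
        have : IsCyclic (P : Subgroup G) := isCyclic_of_prime_card (p := p) hP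
        exact fun u v => (IsCyclic.commutative (α := (P : Subgroup G))).is_comm.comm u v
      rw [Finset.sum_congr rfl fun ψ _ => by rw [← deg_spec ψ, irr_one_eq_one_of_comm hab ψ.2, mul_one]] at h
      exact_mod_cast h
    have h5 : (((∑ ψ, c ψ * c ψ : ℕ) : ℤ)) = F₀ := by exact_mod_cast h3.symm.trans h2
    rw [← h5]
    exact_mod_cast h4.le.trans (Finset.sum_le_sum fun ψ _ => Nat.le_mul_self _)
  -- bookkeeping
  let δ : Cfsg.IrrCharacter G → ℤ := fun φ => if φ ∈ X ∧ φ ≠ irrOne then εX φ else 0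
  let σ : Cfsg.IrrCharacter G → ℤ := fun φ => if φ ∈ X ∧ φ ≠ irrOne then 1 else 0
  let τ : Cfsg.IrrCharacter G → ℤ := fun φ => if φ ∈ Y then 1 else 0
  let o : Cfsg.IrrCharacter G → ℤ := fun φ => if φ = irrOne then 1 else 0
  let r : Cfsg.IrrCharacter G → ℤ := fun φ => (m φ : ℤ) - o φ - δ φ
  have hpoint : ∀ φ : Cfsg.IrrCharacter G, a φ ≠ 0 →
      (deg φ : ℤ) - m φ = ((p : ℤ) - 1) * r φ + ε * e * τ φ ∧ σ φ ≤ r φ ∧
        (ε = -1 → σ φ + τ φ ≤ r φ) := by
    intro φ h0
    have hdpos : (1 : ℤ) ≤ deg φ := by exact_mod_cast deg_pos φ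
    have hp2 : (2 : ℤ) ≤ p := by exact_mod_cast hp.out.two_le
    have hSdef : S φ = (p : ℤ) * m φ - deg φ := rfl
    by_cases hX' : φ ∈ X
    · have hY' := hXY φ hX'
      have hdeg : (deg φ : ℤ) = (p : ℤ) * ((m φ : ℤ) - εX φ) + εX φ := by
        have := hSX φ hX'
        linarith
      by_cases ho : φ = irrOne
      · subst ho
        simp only [r, o, δ, σ, τ, if_true, honeX, hY', ne_eq, not_true_eq_false, and_false, if_false]
        rw [honeX.2] at hdeg
        have hd1 : deg (irrOne : Cfsg.IrrCharacter G) = 1 := by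
          have h := deg_spec (irrOne : Cfsg.IrrCharacter G)
          rw [irrOne_apply] at h; exact_mod_cast h.symm
        rw [hd1] at hdeg ⊢
        have hm1 : (m irrOne : ℤ) - 1 = 0 := by
          have h : (p : ℤ) * ((m irrOne : ℤ) - 1) = 0 := by push_cast at hdeg; linarith
          exact (mul_eq_zero.mp h).resolve_left (by omega)
        push_cast
        exact ⟨by linarith [show ((p : ℤ) - 1) * ((m irrOne : ℤ) - 1 - 0) = 0 by rw [sub_zero, hm1, mul_zero]],
          by omega, fun _ => by omega⟩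
      · simp only [r, o, δ, σ, τ, if_neg ho, hX', hY', ne_eq, ho, not_false_eq_true, and_self, if_true,
          if_false, sub_zero, mul_zero, add_zero]
        refine ⟨by linarith, ?_, fun _ => ?_⟩ <;>
        · by_contra hlt
          push Not at hlt
          rcases (hX φ hX').1 with h | h <;> rw [h] at hdeg hlt
          · rcases (show (m φ : ℤ) = 0 ∨ (m φ : ℤ) = 1 by omega) with h' | h' <;> rw [h'] at hdeg
            · nlinarith
            · exact ho (hlin φ (by rw [deg_spec, show deg φ = 1 by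
                have : (deg φ : ℤ) = 1 := by rw [hdeg]; ring
                omega, Nat.cast_one]))
          · nlinarith [Int.natCast_nonneg (m φ)]
    · have ho : φ ≠ irrOne := fun h => hX' (h ▸ honeX.1)
      by_cases hY' : φ ∈ Y
      · simp only [r, o, δ, σ, τ, if_neg ho, hX', hY', false_and, if_true, if_false, sub_zero, mul_one]
        have h := hSY φ hY'
        refine ⟨by linarith, by omega, fun h' => ?_⟩
        rw [h'] at h
        by_contra hlt
        rw [show (m φ : ℤ) = 0 by omega] at hSdef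
        omega
      · simp only [r, o, δ, σ, τ, if_neg ho, hX', hY', false_and, if_false, sub_zero, mul_zero, add_zero]
        have h := hSother φ h0 hX' hY'
        exact ⟨by linarith, by omega, fun _ => by omega⟩
  have hmul : ∀ (f g : Cfsg.IrrCharacter G → ℤ), (∀ φ, a φ ≠ 0 → f φ ≤ g φ) →
      ∑ φ, (a φ : ℤ) * f φ ≤ ∑ φ, (a φ : ℤ) * g φ := fun f g hfg =>
    Finset.sum_le_sum fun φ _ => by
      rcases eq_or_ne (a φ) 0 with h | h
      · simp [h]
      · exact mul_le_mul_of_nonneg_left (hfg φ h) (Int.natCast_nonneg _)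
  refine arith (P₁ := (p : ℤ) - 1) (e := e) (t := t) (n := n) (F₀ := F₀) (N := (n : ℤ) * n)
    (K := ∑ φ, (a φ : ℤ) * r φ) (S := ∑ φ, (a φ : ℤ) * σ φ) (T := ∑ φ, (a φ : ℤ) * τ φ)
    (D := ∑ φ, (a φ : ℤ) * δ φ) (ε := ε) ?_ (by exact_mod_cast ht2) (by exact_mod_cast he0)
    (by exact_mod_cast hn2) (by omega) hF₀n rfl ?_ ?_ ?_ (hmul _ _ fun φ h => (hpoint φ h).2.1) hε
    (fun hm' => ?_) ?_
  · have h : ((p - 1 : ℕ) : ℤ) = (p : ℤ) - 1 := by have := hp.out.two_le; omega
    rw [← h, ← het]; push_cast; rfl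
  · have h1 : ∑ φ, (a φ : ℤ) * o φ = 1 := by
      rw [Finset.sum_eq_single irrOne (fun φ _ hne => by simp [o, hne]) (by simp)]
      simp [o, ha1]
    rw [← h1, hF₀, ← Finset.sum_add_distrib, ← Finset.sum_add_distrib]
    exact Finset.sum_congr rfl fun φ _ => by simp only [r]; ring
  · refine hmul _ _ fun φ _ => ?_
    simp only [δ, σ]
    split_ifs with h
    · rcases (hX φ h.1).1 with h' | h' <;> omega
    · exact le_rfl
  · refine Finset.sum_nonneg fun φ _ => mul_nonneg (Int.natCast_nonneg _) ?_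
    simp only [τ]; split_ifs <;> norm_num
  · rw [← Finset.sum_add_distrib]
    refine (Finset.sum_congr rfl fun φ _ => (mul_add _ _ _).symm).trans_le
      (hmul _ _ fun φ h => (hpoint φ h).2.2 hm')
  · rw [hN, hF₀, ← Finset.sum_sub_distrib, Finset.mul_sum, Finset.mul_sum, ← Finset.sum_add_distrib]
    refine Finset.sum_congr rfl fun φ _ => ?_
    rcases eq_or_ne (a φ) 0 with h | h
    · simp [h]
    · rw [← mul_sub, (hpoint φ h).1]; ring

end CfsgLib.CharNormal.SmallPrime
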