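import Cfsg.Agent.Lib.CharNormal.Linear
import Cfsg.Agent.Lib.Char.Ito
import Mathlib.GroupTheory.QuotientGroup.Basic
import Mathlib.LinearAlgebra.Dimension.Constructions

/-!
# Characters over a faithful character of a central subgroup

* `char_center_mul`: irreducible characters on cosets of the centre;
* `card_over_eq_card_special`: the count by special classes.
-/

namespace CfsgLib.CharNormal

open CfsgLib.Char
open scoped ComplexConjugate

variable {G : Type*} [Group G]

/-- An irreducible character is multiplicative against central elements. -/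
theorem char_center_mul [Finite G] {χ : G → ℂ} (hχ : Cfsg.IsIrrCharacter G χ) {a : G}
    (ha : a ∈ Subgroup.center G) (g : G) : χ (a * g) * χ 1 = χ a * χ g := by
  obtain ⟨n, ρ, hirr, rfl⟩ := hχ
  haveI : ρ.IsIrreducible := hirr
  obtain ⟨c, hc⟩ := exists_eq_smul_id ρ (ρ a) fun g => by
    rw [← Module.End.mul_eq_comp, ← Module.End.mul_eq_comp, ← map_mul, ← map_mul,
      Subgroup.mem_center_iff.mp ha g]
  have h : ∀ g : G, ρ.character (a * g) = c * ρ.character g := fun g => by
    simp [Representation.character, map_mul, hc, Module.End.mul_eq_comp]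
  have h1 := h 1
  rw [mul_one] at h1
  rw [h g, h1]
  ring

/-- For central `N` and faithful `ψ`, characters over `ψ` are counted by special classes. -/
theorem card_over_eq_card_special [Fintype G] (N : Subgroup G) [N.Normal] [Fintype N]
    (hN : N ≤ Subgroup.center G) (ψ : Cfsg.IrrCharacter ↥N)
    (hfaith : ∀ n : ↥N, (ψ : ↥N → ℂ) n = (ψ : ↥N → ℂ) 1 → n = 1) :
    Nat.card {χ : Cfsg.IrrCharacter G //
        Cfsg.classInner (fun n : ↥N => (χ : G → ℂ) n) (ψ : ↥N → ℂ) ≠ 0} =
      Nat.card {C : ConjClasses (G ⧸ N) // ∃ g : G, ConjClasses.mk (g : G ⧸ N) = C ∧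
        ∀ x : G, x⁻¹ * g⁻¹ * x * g ∈ N → x * g = g * x} := by
  classical
  have hcomm : ∀ a b : N, a * b = b * a := fun a b =>
    Subtype.ext (Subgroup.mem_center_iff.mp (hN b.2) a)
  have hψ1 : (ψ : N → ℂ) 1 = 1 := irr_one_of_comm hcomm ψ.2
  have hψc := isCharacter_of_isIrr ψ.2
  have hψmul : ∀ a b : N, (ψ : N → ℂ) (a * b) = (ψ : N → ℂ) a * (ψ : N → ℂ) b := fun a b =>
    linear_map_mul hψc hψ1 a b
  have hψinv : ∀ a : N, (ψ : N → ℂ) a * conj ((ψ : N → ℂ) a) = 1 := fun a => by
    rw [← char_inv hψc, ← hψmul, mul_inv_cancel, hψ1]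
  -- lying over `ψ` means transforming by `ψ`
  have hS : ∀ χ : Cfsg.IrrCharacter G,
      Cfsg.classInner (fun n : ↥N => (χ : G → ℂ) n) (ψ : ↥N → ℂ) ≠ 0 ↔
        ∀ (g : G) (n : N), (χ : G → ℂ) (g * n) = (χ : G → ℂ) g * (ψ : N → ℂ) n := by
    intro χ
    have hd := irr_one_ne_zero χ.2
    have key : ∀ (g : G) (n : N), (χ : G → ℂ) (g * n) * (χ : G → ℂ) 1 =
        (χ : G → ℂ) n * (χ : G → ℂ) g := fun g n => by
      rw [Subgroup.mem_center_iff.mp (hN n.2) g, char_center_mul χ.2 (hN n.2) g]
    constructor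
    · intro h g n
      have hsum : (∑ m : N, (χ : G → ℂ) m * conj ((ψ : N → ℂ) m)) ≠ 0 := fun h0 => h (by
        rw [classInner_def, h0, mul_zero])
      have e : (χ : G → ℂ) n * conj ((ψ : N → ℂ) n) *
          (∑ m : N, (χ : G → ℂ) m * conj ((ψ : N → ℂ) m)) =
          (χ : G → ℂ) 1 * (∑ m : N, (χ : G → ℂ) m * conj ((ψ : N → ℂ) m)) := by
        conv_rhs => rw [← Equiv.sum_comp (Equiv.mulRight n)
          (fun m : N => (χ : G → ℂ) m * conj ((ψ : N → ℂ) m))]
        rw [Finset.mul_sum, Finset.mul_sum]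
        refine Finset.sum_congr rfl fun m _ => ?_
        rw [Equiv.coe_mulRight, hψmul, map_mul, Subgroup.coe_mul]
        linear_combination -(conj ((ψ : N → ℂ) m) * conj ((ψ : N → ℂ) n)) * key m n
      have e2 := mul_right_cancel₀ hsum e
      refine mul_right_cancel₀ hd ?_
      linear_combination key g n - ((χ : G → ℂ) g * (χ : G → ℂ) n) * hψinv n +
        ((χ : G → ℂ) g * (ψ : N → ℂ) n) * e2
    · intro h
      have hval : ∀ n : N, (χ : G → ℂ) n = (χ : G → ℂ) 1 * (ψ : N → ℂ) n := fun n => by
        simpa using h 1 n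
      rw [classInner_def]
      simp only [hval, mul_assoc, hψinv, mul_one]
      exact mul_ne_zero (inv_ne_zero card_ne_zero')
        (by simpa [Finset.sum_const, hd] using Fintype.card_ne_zero)
  set S := {χ : Cfsg.IrrCharacter G //
    Cfsg.classInner (fun n : ↥N => (χ : G → ℂ) n) (ψ : ↥N → ℂ) ≠ 0}
  set T := {C : ConjClasses (G ⧸ N) // ∃ g : G, ConjClasses.mk (g : G ⧸ N) = C ∧
    ∀ x : G, x⁻¹ * g⁻¹ * x * g ∈ N → x * g = g * x}
  choose r hr hrs using fun C : T => C.2
  have : Finite (ConjClasses (G ⧸ N)) := Finite.of_surjective _ ConjClasses.mk_surjective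
  have := Fintype.ofFinite T
  let Φ : (S → ℂ) →ₗ[ℂ] (T → ℂ) :=
    { toFun := fun a C => ∑ χ : S, a χ * (χ.1 : G → ℂ) (r C)
      map_add' := fun a b => funext fun C => by simp [add_mul, Finset.sum_add_distrib]
      map_smul' := fun c a => funext fun C => by simp [Finset.mul_sum, mul_assoc] }
  have hinj : Function.Injective Φ := by
    rw [← LinearMap.ker_eq_bot, LinearMap.ker_eq_bot']
    intro a ha
    let F : G → ℂ := ∑ χ : S, a χ • (χ.1 : G → ℂ)
    have hFN : ∀ (g : G) (n : N), F (g * n) = F g * (ψ : N → ℂ) n := fun g n => by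
      simp only [F, Finset.sum_apply, Pi.smul_apply, smul_eq_mul, Finset.sum_mul]
      exact Finset.sum_congr rfl fun χ _ => by rw [(hS χ.1).mp χ.2 g n, mul_assoc]
    have hFc : Cfsg.IsClassFunction G F :=
      isClassFunction_sum _ fun χ _ => isClassFunction_smul (isClassFunction_of_isIrr χ.1.2) _
    have hF0 : F = 0 := by
      funext y
      by_cases hy : ∀ x : G, x⁻¹ * y⁻¹ * x * y ∈ N → x * y = y * x
      · let C : T := ⟨ConjClasses.mk (y : G ⧸ N), y, rfl, hy⟩
        obtain ⟨c, hc⟩ := isConj_iff.mp (ConjClasses.mk_eq_mk_iff_isConj.mp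
          (hr C : ConjClasses.mk (r C : G ⧸ N) = ConjClasses.mk (y : G ⧸ N)))
        obtain ⟨x, rfl⟩ := QuotientGroup.mk_surjective c
        have hm : (x * r C * x⁻¹)⁻¹ * y ∈ N := QuotientGroup.eq.mp (by
          rw [QuotientGroup.mk_mul, QuotientGroup.mk_mul, QuotientGroup.mk_inv]; exact hc)
        have h0 : F (r C) = 0 := by
          simpa [F, Finset.sum_apply, Φ] using congrFun ha C
        have e := hFN (x * r C * x⁻¹) ⟨_, hm⟩
        rw [mul_inv_cancel_left, isClassFunction_iff.mp hFc (x * r C * x⁻¹) (r C)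
          (isConj_iff.mpr ⟨x⁻¹, by group⟩), h0, zero_mul] at e
        exact e
      · push Not at hy
        obtain ⟨x, hx, hne⟩ := hy
        set m : N := ⟨_, hx⟩ with hm
        have hm1 : (ψ : N → ℂ) m⁻¹ ≠ 1 := fun h1 => hne (by
          have h2 : m = 1 := inv_eq_one.mp (hfaith _ (by rw [h1, hψ1]))
          have h3 : x⁻¹ * y⁻¹ * x * y = 1 := congrArg Subtype.val h2
          calc x * y = y * x * (x⁻¹ * y⁻¹ * x * y) := by group
            _ = y * x := by rw [h3, mul_one])
        have hcc : ∀ z : G, (m : G) * z = z * m := fun z =>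
          (Subgroup.mem_center_iff.mp (hN m.2) z).symm
        have e1 : x⁻¹ * y * x = y * ((m⁻¹ : N) : G) := by
          have e0 : x⁻¹ * y⁻¹ * x = y⁻¹ * m := by
            rw [← hcc]; simp [hm, mul_assoc]
          calc x⁻¹ * y * x = (x⁻¹ * y⁻¹ * x)⁻¹ := by group
            _ = _ := by rw [e0, mul_inv_rev, inv_inv, InvMemClass.coe_inv,
                  show (m : G)⁻¹ * y = y * (m : G)⁻¹ from (Commute.inv_left (hcc y)).eq]
        have e := hFN y m⁻¹
        rw [← e1, isClassFunction_iff.mp hFc (x⁻¹ * y * x) y (isConj_iff.mpr ⟨x, by group⟩)] at e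
        have : F y * ((ψ : N → ℂ) m⁻¹ - 1) = 0 := by linear_combination -e
        rcases mul_eq_zero.mp this with h | h
        · exact h
        · exact absurd (sub_eq_zero.mp h) hm1
    funext χ
    have h := congrArg (fun f => Cfsg.classInner f (χ.1 : G → ℂ)) hF0
    simp only [F, classInner_sum_left, classInner_smul_left, classInner_zero_left] at h
    rw [Finset.sum_eq_single χ (fun η _ hη => by
      rw [classInner_irr_ne η.1.2 χ.1.2 (fun e => hη (Subtype.ext (Subtype.ext e))), mul_zero])
      (by simp), classInner_irr_self χ.1.2, mul_one] at h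
    exact h
  have hsurj : Function.Surjective Φ := by
    have hsingle : ∀ C : T, Pi.single C (1 : ℂ) ∈ LinearMap.range Φ := fun C => by
      let f : G → ℂ := fun y =>
        ∑ x : G, if h : (r C)⁻¹ * (x⁻¹ * y * x) ∈ N then (ψ : N → ℂ) ⟨_, h⟩ else 0
      have hfc : Cfsg.IsClassFunction G f := by
        refine isClassFunction_iff.mpr fun a b hab => ?_
        obtain ⟨c, rfl⟩ := isConj_iff.mp hab
        simp only [f]
        refine Fintype.sum_equiv (Equiv.mulLeft c) _ _ fun x => ?_
        have e : (c * x)⁻¹ * (c * a * c⁻¹) * (c * x) = x⁻¹ * a * x := by group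
        simp only [Equiv.coe_mulLeft, e]
      have hfN : ∀ (y : G) (n : N), f (y * n) = f y * (ψ : N → ℂ) n := fun y n => by
        simp only [f, Finset.sum_mul]
        refine Finset.sum_congr rfl fun x _ => ?_
        have e : (r C)⁻¹ * (x⁻¹ * (y * n) * x) = (r C)⁻¹ * (x⁻¹ * y * x) * n := by
          simp only [mul_assoc, Subgroup.mem_center_iff.mp (hN n.2) x]
        by_cases h : (r C)⁻¹ * (x⁻¹ * y * x) ∈ N
        · have h' : (r C)⁻¹ * (x⁻¹ * (y * n) * x) ∈ N := e ▸ N.mul_mem h n.2
          rw [dif_pos h, dif_pos h', ← hψmul]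
          exact congrArg _ (Subtype.ext e)
        · rw [dif_neg h, dif_neg (fun h' => h (by
            have h2 := N.mul_mem (e ▸ h') (N.inv_mem n.2)
            rwa [mul_inv_cancel_right] at h2)), zero_mul]
      have hoff : ∀ χ : Cfsg.IrrCharacter G,
          ¬ (∀ (g : G) (n : N), (χ : G → ℂ) (g * n) = (χ : G → ℂ) g * (ψ : N → ℂ) n) →
          Cfsg.classInner f χ = 0 := by
        intro χ hne
        by_contra h0
        have hsum : (∑ y : G, f y * conj ((χ : G → ℂ) y)) ≠ 0 := fun h => h0 (by
          rw [classInner_def, h, mul_zero])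
        refine hne fun g n => ?_
        have key : ∀ z : G, (χ : G → ℂ) (z * n) * (χ : G → ℂ) 1 =
            (χ : G → ℂ) n * (χ : G → ℂ) z := fun z => by
          rw [Subgroup.mem_center_iff.mp (hN n.2) z, char_center_mul χ.2 (hN n.2) z]
        have hd := irr_one_ne_zero χ.2
        have hc1 := char_conj_one (isCharacter_of_isIrr χ.2)
        have e : (ψ : N → ℂ) n * conj ((χ : G → ℂ) n) *
            (∑ y : G, f y * conj ((χ : G → ℂ) y)) =
            (χ : G → ℂ) 1 * (∑ y : G, f y * conj ((χ : G → ℂ) y)) := by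
          conv_rhs => rw [← Equiv.sum_comp (Equiv.mulRight (n : G))
            (fun y : G => f y * conj ((χ : G → ℂ) y))]
          rw [Finset.mul_sum, Finset.mul_sum]
          refine Finset.sum_congr rfl fun y _ => ?_
          have k := congrArg conj (key y)
          rw [map_mul, map_mul, hc1] at k
          rw [Equiv.coe_mulRight, hfN]
          linear_combination -(f y * (ψ : N → ℂ) n) * k
        have e2 := congrArg conj (mul_right_cancel₀ hsum e)
        rw [map_mul, hc1, Complex.conj_conj] at e2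
        refine mul_right_cancel₀ hd ?_
        linear_combination key g - ((χ : G → ℂ) g * (χ : G → ℂ) n) * hψinv n +
          ((χ : G → ℂ) g * (ψ : N → ℂ) n) * e2
      have hexp : ∀ D : T, Φ (fun χ => Cfsg.classInner f χ.1) D = f (r D) := fun D => by
        have h := congrFun (classFun_eq_sum hfc) (r D)
        simp only [Finset.sum_apply, Pi.smul_apply, smul_eq_mul] at h
        rw [h]
        show ∑ χ : S, Cfsg.classInner f χ.1 * (χ.1 : G → ℂ) (r D) = _
        rw [← Finset.sum_subtype (Finset.univ.filter fun χ : Cfsg.IrrCharacter G =>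
          Cfsg.classInner (fun n : ↥N => (χ : G → ℂ) n) (ψ : ↥N → ℂ) ≠ 0) (fun χ => by simp)
          (fun χ => Cfsg.classInner f χ * (χ : G → ℂ) (r D))]
        refine Finset.sum_filter_of_ne fun χ _ hne => ?_
        by_contra h2
        exact hne (by rw [hoff χ fun hh => (hS χ).mpr hh h2, zero_mul])
      have hoffD : ∀ D : T, D ≠ C → f (r D) = 0 := fun D hD => Finset.sum_eq_zero fun x _ => by
        rw [dif_neg]
        intro h
        refine hD (Subtype.ext ?_)
        rw [← hr D, ← hr C, ConjClasses.mk_eq_mk_iff_isConj, isConj_iff]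
        refine ⟨(x⁻¹ : G), ?_⟩
        rw [← QuotientGroup.mk_inv, ← QuotientGroup.mk_mul, ← QuotientGroup.mk_mul, inv_inv]
        exact (QuotientGroup.eq.mpr h).symm
      have hC : f (r C) ≠ 0 := by
        have e : f (r C) = ∑ x : G, if (r C)⁻¹ * (x⁻¹ * r C * x) ∈ N then (1 : ℂ) else 0 := by
          refine Finset.sum_congr rfl fun x _ => ?_
          by_cases h : (r C)⁻¹ * (x⁻¹ * r C * x) ∈ N
          · rw [dif_pos h, if_pos h]
            have hc := hrs C x (by
              have h2 := N.inv_mem h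
              simp only [mul_inv_rev, inv_inv] at h2
              simpa [mul_assoc] using h2)
            have h1 : (r C)⁻¹ * (x⁻¹ * r C * x) = 1 := by
              rw [mul_assoc x⁻¹, ← hc]; simp
            rw [show (⟨_, h⟩ : N) = 1 from Subtype.ext h1, hψ1]
          · rw [dif_neg h, if_neg h]
        rw [e, Finset.sum_boole]
        exact_mod_cast (Finset.card_pos.mpr ⟨1, by simp [N.one_mem]⟩).ne'
      refine ⟨(f (r C))⁻¹ • fun χ => Cfsg.classInner f χ.1, ?_⟩
      funext D
      rw [map_smul, Pi.smul_apply, hexp, smul_eq_mul]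
      by_cases hD : D = C
      · rw [hD, Pi.single_eq_same, inv_mul_cancel₀ hC]
      · rw [Pi.single_eq_of_ne hD, hoffD D hD, mul_zero]
    refine LinearMap.range_eq_top.mp (eq_top_iff.mpr fun v _ => ?_)
    rw [pi_eq_sum_univ v]
    refine Submodule.sum_mem _ fun C _ => Submodule.smul_mem _ _ ?_
    convert hsingle C using 1
    funext D
    simp [Pi.single_apply, eq_comm]
  have h := (LinearEquiv.ofBijective Φ ⟨hinj, hsurj⟩).finrank_eq
  rw [Module.finrank_fintype_fun_eq_card, Module.finrank_fintype_fun_eq_card] at h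
  rw [Nat.card_eq_fintype_card, Nat.card_eq_fintype_card]
  exact h

end CfsgLib.CharNormal
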