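import Cfsg.Agent.Lib.CharNormal.CentralCount
import Cfsg.Agent.Lib.CharNormal.Kernel
import Cfsg.Agent.Lib.Char.Linear
import Cfsg.Agent.Lib.Char.Ito
import Cfsg.Agent.Lib.PGroup.Basic
import Mathlib.RingTheory.RootsOfUnity.Complex

/-!
# Groups whose character degrees are at most a prime

* `orbit_lemma`: an abelian normal subgroup all of whose linear characters have stabilizers of
  index at most `p`;
* `pGroup_two_degrees`: `p`-groups with degrees at most `p`;
* `two_degrees`: the general case with a normal `p`-complement.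
-/

namespace CfsgLib.CharNormal

open CfsgLib.Char
open scoped ComplexConjugate

universe u

/-- All irreducible degrees are at most `p`. -/
def DegLe (G : Type u) [Group G] (p : ℕ) : Prop :=
  ∀ χ : G → ℂ, Cfsg.IsIrrCharacter G χ → ∀ d : ℕ, χ 1 = d → d ≤ p

variable {G : Type u} [Group G]

section Conj

variable {A : Subgroup G} [hAn : A.Normal]

/-- Conjugation of linear characters. -/
noncomputable def conjHom (g : G) (lam : A →* ℂˣ) : A →* ℂˣ :=
  lam.comp ((MulAut.conjNormal g : MulAut A)).toMonoidHom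

theorem conjHom_apply (g : G) (lam : A →* ℂˣ) (a : A) :
    conjHom g lam a = lam ⟨g * a * g⁻¹, hAn.conj_mem a a.2 g⟩ :=
  congrArg lam (Subtype.ext (MulAut.conjNormal_apply g a))

theorem conjHom_one (lam : A →* ℂˣ) : conjHom 1 lam = lam := MonoidHom.ext fun a => by
  rw [conjHom_apply]; exact congrArg lam (Subtype.ext (by simp))

theorem conjHom_conjHom (g h : G) (lam : A →* ℂˣ) :
    conjHom h (conjHom g lam) = conjHom (g * h) lam := MonoidHom.ext fun a => by
  simp only [conjHom_apply]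
  exact congrArg lam (Subtype.ext (by simp [mul_assoc]))

theorem conjHom_mul (g : G) (l m : A →* ℂˣ) : conjHom g (l * m) = conjHom g l * conjHom g m :=
  rfl

theorem conjHom_inv (g : G) (l : A →* ℂˣ) : conjHom g l⁻¹ = (conjHom g l)⁻¹ :=
  rfl

/-- The stabilizer of a linear character. -/
noncomputable def stab (lam : A →* ℂˣ) : Subgroup G where
  carrier := {g | conjHom g lam = lam}
  one_mem' := conjHom_one lam
  mul_mem' := fun {a b} (ha : conjHom a lam = lam) (hb : conjHom b lam = lam) => by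
    show conjHom (a * b) lam = lam
    rw [← conjHom_conjHom, ha, hb]
  inv_mem' := fun {a} (ha : conjHom a lam = lam) => by
    show conjHom a⁻¹ lam = lam
    conv_lhs => rw [← ha]
    rw [conjHom_conjHom, mul_inv_cancel, conjHom_one]

theorem mem_stab {lam : A →* ℂˣ} {g : G} : g ∈ stab lam ↔ conjHom g lam = lam := Iff.rfl

/-- The displacement of a linear character. -/
noncomputable def disp (lam : A →* ℂˣ) (g : G) : A →* ℂˣ := conjHom g lam * lam⁻¹

theorem disp_apply (lam : A →* ℂˣ) (g : G) (a : A) :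
    disp lam g a = conjHom g lam a * (lam a)⁻¹ := rfl

theorem disp_eq_one {lam : A →* ℂˣ} {g : G} : disp lam g = 1 ↔ g ∈ stab lam := by
  rw [mem_stab]
  constructor
  · exact fun h => MonoidHom.ext fun a => mul_inv_eq_one.mp (DFunLike.congr_fun h a)
  · exact fun h => MonoidHom.ext fun a => mul_inv_eq_one.mpr (DFunLike.congr_fun h a)

theorem hom_inv_inv (w : A →* ℂˣ) : (w⁻¹)⁻¹ = w := MonoidHom.ext fun a => inv_inv (w a)

theorem disp_mul (lam : A →* ℂˣ) (g h : G) :
    disp lam (g * h) = conjHom h (disp lam g) * disp lam h := by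
  refine MonoidHom.ext fun a => ?_
  simp only [disp, MonoidHom.mul_apply, MonoidHom.inv_apply, conjHom_mul, conjHom_inv,
    conjHom_conjHom]
  rw [mul_assoc, inv_mul_cancel_left]

theorem stab_maximal {p : ℕ} (hp : p.Prime) {S K : Subgroup G} (hS : S.index = p) (hSK : S ≤ K) :
    K = S ∨ K = ⊤ := by
  have h := Subgroup.relIndex_mul_index hSK
  rw [hS] at h
  rcases hp.eq_one_or_self_of_dvd _ (Dvd.intro_left _ h) with h1 | h1
  · exact Or.inr (Subgroup.index_eq_one.mp h1)
  · refine Or.inl (le_antisymm ?_ hSK)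
    rw [h1] at h
    exact Subgroup.relIndex_eq_one.mp (by
      have := hp.pos
      nlinarith)

theorem pair_lemma {p : ℕ} (hp : p.Prime)
    (hst : ∀ lam : A →* ℂˣ, stab lam = ⊤ ∨ (stab lam).Normal ∧ (stab lam).index = p)
    {v u : A →* ℂˣ} (hv : stab v ≠ ⊤) (hu : stab u ≠ ⊤) (hne : stab v ≠ stab u) :
    ∃ (w : A →* ℂˣ) (r : G), w ^ p = 1 ∧ (∀ g, disp v g ∈ Subgroup.zpowers w) ∧
      disp u r = w⁻¹ := by
  obtain ⟨hSn, hSi⟩ := (hst v).resolve_left hv
  obtain ⟨hTn, hTi⟩ := (hst u).resolve_left hu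
  have hRS : ¬ stab (v * u) ≤ stab v := by
    intro hle
    have hR : stab (v * u) = stab v := by
      rcases hst (v * u) with h | ⟨-, hi⟩
      · exact absurd (eq_top_iff.mpr (h ▸ hle)) hv
      · rcases stab_maximal hp hi hle with e | e
        · exact e.symm
        · exact absurd e hv
    refine hne (((stab_maximal hp hSi (K := stab u) fun g hg => ?_).resolve_right hu).symm)
    have h1 : conjHom g (v * u) = v * u := mem_stab.mp (hR ▸ hg)
    rw [conjHom_mul, mem_stab.mp hg] at h1
    exact mem_stab.mpr (mul_left_cancel h1)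
  have hRT : ¬ stab (v * u) ≤ stab u := by
    intro hle
    have hR : stab (v * u) = stab u := by
      rcases hst (v * u) with h | ⟨-, hi⟩
      · exact absurd (eq_top_iff.mpr (h ▸ hle)) hu
      · rcases stab_maximal hp hi hle with e | e
        · exact e.symm
        · exact absurd e hu
    refine hne ((stab_maximal hp hTi (K := stab v) fun g hg => ?_).resolve_right hv)
    have h1 : conjHom g (v * u) = v * u := mem_stab.mp (hR ▸ hg)
    rw [conjHom_mul, mem_stab.mp hg] at h1
    exact mem_stab.mpr (mul_right_cancel h1)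
  obtain ⟨r, hr, hrS, hrT⟩ : ∃ r ∈ stab (v * u), r ∉ stab v ∧ r ∉ stab u := by
    obtain ⟨a, ha, haS⟩ := SetLike.not_le_iff_exists.mp hRS
    obtain ⟨b, hb, hbT⟩ := SetLike.not_le_iff_exists.mp hRT
    by_cases haT : a ∈ stab u
    · by_cases hbS : b ∈ stab v
      · exact ⟨a * b, mul_mem ha hb, fun h => haS (by simpa using mul_mem h (inv_mem hbS)),
          fun h => hbT (by simpa using mul_mem (inv_mem haT) h)⟩
      · exact ⟨b, hb, hbS, hbT⟩
    · exact ⟨a, ha, haS, haT⟩
  have hfixdisp : ∀ {z : A →* ℂˣ} (hzn : (stab z).Normal) {s : G}, s ∈ stab z →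
      conjHom s (disp z r) = disp z r := by
    intro z hzn s hs
    have e : conjHom (r * s) z = conjHom r z := by
      rw [show r * s = (r * s * r⁻¹) * r by group, ← conjHom_conjHom,
        mem_stab.mp (hzn.conj_mem s hs r)]
    rw [disp, conjHom_mul, conjHom_inv, conjHom_conjHom, e, mem_stab.mp hs]
  set w := disp v r with hw
  have huw : disp u r = w⁻¹ := by
    have h1 := mem_stab.mp hr
    rw [conjHom_mul] at h1
    refine MonoidHom.ext fun a => ?_
    have h2 : conjHom r v a * conjHom r u a = v a * u a := DFunLike.congr_fun h1 a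
    show conjHom r u a * (u a)⁻¹ = (conjHom r v a * (v a)⁻¹)⁻¹
    rw [eq_inv_iff_mul_eq_one, mul_mul_mul_comm, mul_comm (conjHom r u a), h2, ← mul_inv,
      mul_comm (v a), mul_inv_cancel]
  have hwfix : ∀ g, conjHom g w = w := by
    have h1 : stab v ≤ stab w := fun s hs => mem_stab.mpr (hfixdisp hSn hs)
    have h2 : stab u ≤ stab w := fun s hs => by
      have e := hfixdisp hTn hs
      rw [huw, conjHom_inv] at e
      exact mem_stab.mpr (MonoidHom.ext fun a => inv_inj.mp (DFunLike.congr_fun e a))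
    rcases stab_maximal hp hSi h1 with e | e
    · rcases stab_maximal hp hTi h2 with e' | e'
      · exact absurd (e.symm.trans e') hne
      · exact fun g => mem_stab.mp (e'.symm ▸ Subgroup.mem_top g)
    · exact fun g => mem_stab.mp (e.symm ▸ Subgroup.mem_top g)
  let L : Subgroup G :=
    { carrier := {g | disp v g ∈ Subgroup.zpowers w}
      one_mem' := by
        show disp v 1 ∈ Subgroup.zpowers w
        rw [disp_eq_one.mpr (one_mem _)]
        exact one_mem _
      mul_mem' := fun {a b} (ha : disp v a ∈ Subgroup.zpowers w) (hb : disp v b ∈ Subgroup.zpowers w) => by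
        show disp v (a * b) ∈ Subgroup.zpowers w
        obtain ⟨i, hi⟩ := ha
        rw [disp_mul, ← hi]
        refine mul_mem ?_ hb
        have e : conjHom b (w ^ i) = (conjHom b w) ^ i := MonoidHom.ext fun a => rfl
        show conjHom b (w ^ i) ∈ _
        rw [e, hwfix]
        exact ⟨i, rfl⟩
      inv_mem' := fun {a} (ha : disp v a ∈ Subgroup.zpowers w) => by
        show disp v a⁻¹ ∈ Subgroup.zpowers w
        obtain ⟨i, hi⟩ := ha
        have e : conjHom a⁻¹ (w ^ i) = (conjHom a⁻¹ w) ^ i := MonoidHom.ext fun a => rfl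
        have h := disp_mul v a a⁻¹
        rw [mul_inv_cancel, disp_eq_one.mpr (one_mem _), ← hi] at h
        change 1 = conjHom a⁻¹ (w ^ i) * disp v a⁻¹ at h
        rw [e, hwfix, eq_comm] at h
        have h3 : disp v a⁻¹ = (w ^ i)⁻¹ := MonoidHom.ext fun x =>
          eq_inv_of_mul_eq_one_right (DFunLike.congr_fun h x)
        rw [h3]
        exact inv_mem ⟨i, rfl⟩ }
  have hL : L = ⊤ := by
    refine (stab_maximal hp hSi (K := L) fun s hs => ?_).resolve_left fun e => hrS ?_
    · show disp v s ∈ Subgroup.zpowers w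
      rw [disp_eq_one.mpr hs]
      exact one_mem _
    · rw [← e]
      exact Subgroup.mem_zpowers _
  refine ⟨w, r, ?_, fun g => (hL ▸ Subgroup.mem_top g : g ∈ L), huw⟩
  have hpow : ∀ j : ℕ, disp v (r ^ j) = w ^ j := by
    intro j
    induction j with
    | zero =>
      rw [pow_zero]
      exact (disp_eq_one.mpr (one_mem _)).trans (MonoidHom.ext fun a => (pow_zero (w a)).symm)
    | succ j ih =>
      rw [pow_succ, disp_mul, ih, show conjHom r (w ^ j) = (conjHom r w) ^ j from
        MonoidHom.ext fun a => rfl, hwfix, ← hw]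
      exact MonoidHom.ext fun a => (pow_succ (w a) j).symm
  rw [← hpow, disp_eq_one]
  have := hSn
  have := (hSi ▸ Subgroup.pow_index_mem (stab v) r : r ^ p ∈ stab v)
  exact this

theorem orbit_lemma [Finite G] {p : ℕ} (hp : p.Prime)
    (hA : ∀ a ∈ A, ∀ b ∈ A, a * b = b * a)
    (hst : ∀ lam : A →* ℂˣ, stab lam = ⊤ ∨ (stab lam).Normal ∧ (stab lam).index = p) :
    (∃ S : Subgroup G, S ≤ Subgroup.centralizer (A : Set G) ∧ (S = ⊤ ∨ S.Normal ∧ S.index = p)) ∨
      ∃ μ : A →* ℂˣ, μ ^ p = 1 ∧ ∀ a : A, μ a = 1 → (a : G) ∈ Subgroup.center G := by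
  classical
  haveI : IsMulCommutative A := ⟨⟨fun a b => Subtype.ext (hA a a.2 b b.2)⟩⟩
  letI : CommGroup A := { (inferInstance : Group A) with mul_comm := mul_comm' }
  have hsep : ∀ a b : A, (∀ lam : A →* ℂˣ, lam a = lam b) → a = b := by
    intro a b h
    by_contra hne
    have : NeZero (Monoid.exponent A : ℂ) :=
      ⟨by exact_mod_cast Monoid.exponent_ne_zero_of_finite⟩
    obtain ⟨φ, hφ⟩ := CommGroup.exists_apply_ne_one_of_hasEnoughRootsOfUnity A ℂ
      (a := a / b) (div_ne_one.mpr hne)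
    exact hφ (by rw [map_div, h φ, div_self'])
  have hfix : ∀ (g : G), (∀ lam : A →* ℂˣ, g ∈ stab lam) → g ∈ Subgroup.centralizer (A : Set G) := by
    intro g hg a ha
    have h := hsep ⟨g * a * g⁻¹, hAn.conj_mem a ha g⟩ ⟨a, ha⟩ fun lam => by
      rw [← conjHom_apply g lam ⟨a, ha⟩, mem_stab.mp (hg lam)]
    have h2 : g * a * g⁻¹ = a := congrArg Subtype.val h
    calc a * g = (g * a * g⁻¹) * g := by rw [h2]
      _ = g * a := by group
  by_cases hall : ∀ v u : A →* ℂˣ, stab v ≠ ⊤ → stab u ≠ ⊤ → stab v = stab u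
  · by_cases hex : ∃ v : A →* ℂˣ, stab v ≠ ⊤
    · obtain ⟨v, hv⟩ := hex
      refine Or.inl ⟨stab v, fun g hg => hfix g fun lam => ?_, hst v⟩
      by_cases h : stab lam = ⊤
      · rw [h]; exact Subgroup.mem_top g
      · rwa [← hall v lam hv h]
    · push Not at hex
      exact Or.inl ⟨⊤, fun g _ => hfix g fun lam => by rw [hex lam]; exact Subgroup.mem_top g,
        Or.inl rfl⟩
  push Not at hall
  obtain ⟨v₀, u₀, hv₀, hu₀, hne₀⟩ := hall
  obtain ⟨w₀, r₀, hw₀, hv₀d, hur₀⟩ := pair_lemma hp hst hv₀ hu₀ hne₀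
  obtain ⟨w₁, r₁, -, hu₀d, hvr₁⟩ := pair_lemma hp hst hu₀ hv₀ hne₀.symm
  have hW : ∀ g, disp u₀ g ∈ Subgroup.zpowers w₀ := fun g => by
    refine (Subgroup.zpowers_le.mpr ?_) (hu₀d g)
    have := inv_mem (hv₀d r₁)
    rw [hvr₁, hom_inv_inv] at this
    exact this
  refine Or.inr ⟨w₀, hw₀, fun a ha => ?_⟩
  have hall' : ∀ (v : A →* ℂˣ) (g : G), disp v g ∈ Subgroup.zpowers w₀ := by
    intro v g
    by_cases hv : stab v = ⊤
    · rw [disp_eq_one.mpr (by rw [hv]; exact Subgroup.mem_top g)]
      exact one_mem _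
    · by_cases hvu : stab v = stab u₀
      · obtain ⟨w, r, -, hd, hr⟩ := pair_lemma hp hst hv hv₀ (hvu ▸ hne₀.symm)
        refine (Subgroup.zpowers_le.mpr ?_) (hd g)
        have := inv_mem (hv₀d r)
        rw [hr, hom_inv_inv] at this
        exact this
      · obtain ⟨w, r, -, hd, hr⟩ := pair_lemma hp hst hv hu₀ hvu
        refine (Subgroup.zpowers_le.mpr ?_) (hd g)
        have := inv_mem (hW r)
        rw [hr, hom_inv_inv] at this
        exact this
  rw [Subgroup.mem_center_iff]
  intro g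
  have h := hsep ⟨g * a * g⁻¹, hAn.conj_mem a a.2 g⟩ a fun lam => by
    obtain ⟨i, hi⟩ := hall' lam g
    have h1 := DFunLike.congr_fun hi a
    change (w₀ a) ^ i = disp lam g a at h1
    rw [ha, one_zpow, disp_apply, eq_comm, mul_inv_eq_one, conjHom_apply] at h1
    exact h1
  have h2 : g * a * g⁻¹ = (a : G) := congrArg Subtype.val h
  calc g * a = (g * a * g⁻¹) * g := by group
    _ = a * g := by rw [h2]

end Conj

variable [Finite G] {p : ℕ}

theorem stab_index_le (hD : DegLe G p) (A : Subgroup G) [A.Normal] (lam : A →* ℂˣ) :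
    (stab lam).index ≤ p := by
  classical
  have := Fintype.ofFinite G
  have := Fintype.ofFinite A
  let θ : Cfsg.IrrCharacter A := ⟨fun a => (lam a : ℂ), isIrrCharacter_units_hom lam⟩
  have hi : stab lam = inertia A (θ : A → ℂ) := by
    ext g
    rw [mem_stab, mem_inertia]
    constructor
    · intro h
      funext a
      rw [conjFun_apply]
      show ((lam _ : ℂˣ) : ℂ) = lam a
      rw [← conjHom_apply, h]
    · intro h
      refine MonoidHom.ext fun a => Units.ext ?_
      rw [conjHom_apply]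
      exact congrFun h a
  obtain ⟨χ, hχ⟩ := exists_irr_over A θ.2
  obtain ⟨d, -, hd⟩ := exists_degree_pos χ.2
  obtain ⟨m, hm⟩ := classInner_char_nat (isCharacter_res A (isCharacter_of_isIrr χ.2))
    (isCharacter_of_isIrr θ.2)
  have h := degree_eq_mul_card_orbit A χ.2 θ hχ
  rw [hd, hm, show (θ : A → ℂ) 1 = 1 by simp [θ], mul_one] at h
  have h' : d = m * (orbit A θ).card := by exact_mod_cast h
  have hm0 : 0 < m := Nat.pos_of_ne_zero fun h0 => hχ (by rw [hm, h0, Nat.cast_zero])
  rw [hi, ← card_orbit_eq_index]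
  exact le_trans (h' ▸ Nat.le_mul_of_pos_left _ hm0) (hD χ χ.2 d hd)

theorem degLe_subgroup (hD : DegLe G p) (H : Subgroup G) : DegLe H p := by
  classical
  have := Fintype.ofFinite G
  have := Fintype.ofFinite H
  intro θ hθ d hd
  obtain ⟨η, hη, hne⟩ := exists_constituent (isCharacter_indFun H (isCharacter_of_isIrr hθ))
    fun h => by
      have h1 := congrFun h 1
      rw [indFun_one, Pi.zero_apply] at h1
      exact mul_ne_zero (Nat.cast_ne_zero.mpr Subgroup.index_ne_zero_of_finite)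
        (irr_one_ne_zero hθ) h1
  rw [frobenius_reciprocity H θ (isClassFunction_of_isIrr hη), ← classInner_conj_symm] at hne
  have h1 := constituent_degree_le (isCharacter_res H (isCharacter_of_isIrr hη)) hθ
    (fun h => hne (by rw [h, map_zero]))
  obtain ⟨e, -, he⟩ := exists_degree_pos hη
  simp only [hd, OneMemClass.coe_one, he] at h1
  exact le_trans (by exact_mod_cast (by simpa using h1 : (d : ℝ) ≤ e)) (hD η hη e he)

theorem degLe_quotient (hD : DegLe G p) (N : Subgroup G) [N.Normal] : DegLe (G ⧸ N) p :=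
  fun _ hψ d hd => hD _ (isIrr_comp_mk' N hψ) d (by simpa using hd)

theorem normal_index_eq_of_le [hp : Fact p.Prime] (hP : IsPGroup p G) {S : Subgroup G}
    (hS : S.index ≤ p) : S = ⊤ ∨ S.Normal ∧ S.index = p := by
  by_cases ht : S = ⊤
  · exact Or.inl ht
  obtain ⟨k, hk⟩ := hP.index S
  have hk0 : k ≠ 0 := fun h => ht (Subgroup.index_eq_one.mp (by rw [hk, h, pow_zero]))
  have hk1 : k = 1 := by
    have : p ^ k ≤ p ^ 1 := by rw [pow_one, ← hk]; exact hS
    have := (Nat.pow_le_pow_iff_right hp.out.one_lt).mp this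
    omega
  have hi : S.index = p := by rw [hk, hk1, pow_one]
  refine Or.inr ⟨CfsgLib.PGroup.normal_of_isCoatom hP ⟨ht, fun K hK => ?_⟩, hi⟩
  exact (stab_maximal hp.out hi hK.le).resolve_left fun e => hK.ne e.symm

/-- Enlarge a normal subgroup central in `M` by one step. -/
theorem exists_abelian_step [hp : Fact p.Prime] (hP : IsPGroup p G) (Z M : Subgroup G) [Z.Normal]
    [hM : M.Normal] (hZM : Z < M) (hc : ∀ z ∈ Z, ∀ m ∈ M, z * m = m * z) :
    ∃ A : Subgroup G, A.Normal ∧ (∀ a ∈ A, ∀ b ∈ A, a * b = b * a) ∧ Z < A ∧ A ≤ M ∧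
      A.index * p = Z.index := by
  let Mb := M.map (QuotientGroup.mk' Z)
  have : Mb.Normal := hM.map _ (QuotientGroup.mk'_surjective Z)
  have hne : Mb ≠ ⊥ := fun h => by
    rw [Subgroup.map_eq_bot_iff, QuotientGroup.ker_mk'] at h
    exact hZM.not_ge h
  have hq : IsPGroup p (G ⧸ Z) := hP.to_quotient Z
  obtain ⟨z, hz, hzo⟩ := CfsgLib.PGroup.exists_orderOf_eq hq
    (CfsgLib.PGroup.inf_center_ne_bot hq Mb hne)
  obtain ⟨hzM, hzC⟩ := Subgroup.mem_inf.mp hz
  obtain ⟨y, hy, rfl⟩ := hzM
  have hKn : (Subgroup.zpowers (y : G ⧸ Z)).Normal := ⟨fun w hw g => by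
    rw [Subgroup.mem_center_iff.mp (Subgroup.zpowers_le.mpr hzC hw) g, mul_inv_cancel_right]
    exact hw⟩
  refine ⟨(Subgroup.zpowers (y : G ⧸ Z)).comap (QuotientGroup.mk' Z), hKn.comap _, ?_, ?_, ?_, ?_⟩
  · intro a ha b hb
    obtain ⟨i, hi⟩ := ha
    obtain ⟨j, hj⟩ := hb
    have hi' : (y ^ i)⁻¹ * a ∈ Z := QuotientGroup.eq.mp (by rw [QuotientGroup.mk_zpow]; exact hi)
    have hj' : (y ^ j)⁻¹ * b ∈ Z := QuotientGroup.eq.mp (by rw [QuotientGroup.mk_zpow]; exact hj)
    set a' := (y ^ i)⁻¹ * a with ha'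
    set b' := (y ^ j)⁻¹ * b with hb'
    have hbM : b' ∈ M := hZM.le hj'
    have h1 : Commute a' (y ^ j) := hc a' hi' _ (M.zpow_mem hy j)
    have h2 : Commute b' (y ^ i) := hc b' hj' _ (M.zpow_mem hy i)
    have h3 : Commute a' b' := hc a' hi' b' hbM
    have h4 : Commute (y ^ i) (y ^ j) := (Commute.refl y).zpow_zpow i j
    have : Commute (y ^ i * a') (y ^ j * b') :=
      ((h4.mul_right h2.symm).mul_left (h1.mul_right h3))
    simpa [ha', hb'] using this.eq
  · refine lt_of_le_of_ne (fun x hx => ?_) fun e => ?_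
    · show (x : G ⧸ Z) ∈ Subgroup.zpowers (y : G ⧸ Z)
      rw [(QuotientGroup.eq_one_iff x).mpr hx]
      exact one_mem _
    · have h1 : y ∈ Z := by rw [e]; exact Subgroup.mem_zpowers (y : G ⧸ Z)
      have h2 := hzo
      rw [show QuotientGroup.mk' Z y = 1 from (QuotientGroup.eq_one_iff y).mpr h1, orderOf_one] at h2
      exact hp.out.one_lt.ne h2
  · intro a ha
    obtain ⟨i, hi⟩ := ha
    have hi' : (y ^ i)⁻¹ * a ∈ Z := QuotientGroup.eq.mp (by rw [QuotientGroup.mk_zpow]; exact hi)
    have := M.mul_mem (M.zpow_mem hy i) (hZM.le hi')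
    simpa using this
  · rw [Subgroup.index_comap_of_surjective _ (QuotientGroup.mk'_surjective Z),
      show p = Nat.card (Subgroup.zpowers (y : G ⧸ Z)) from hzo.symm.trans (Nat.card_zpowers _).symm,
      Subgroup.index_mul_card, Subgroup.index]

/-- Small commutator subgroup bounds the index of the centre. -/
theorem center_index_le_sq (hp : p.Prime) (hD : DegLe G p) {z : G} (hzc : z ∈ Subgroup.center G)
    (hzo : orderOf z = p) (hder : ∀ a b : G, a * b * a⁻¹ * b⁻¹ ∈ Subgroup.zpowers z) :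
    (Subgroup.center G).index ≤ p ^ 2 := by
  classical
  have := Fintype.ofFinite G
  obtain ⟨χ, hχz⟩ : ∃ χ : Cfsg.IrrCharacter G, (χ : G → ℂ) z ≠ (χ : G → ℂ) 1 := by
    by_contra hall
    push Not at hall
    have hz1 : z ≠ 1 := fun h => hp.one_lt.ne (by rw [← hzo, h, orderOf_one])
    have hs := sum_degree_mul_apply z
    have hs1 := sum_degree_mul_apply (1 : G)
    simp only [hall] at hs
    rw [if_pos rfl] at hs1
    rw [if_neg hz1] at hs
    rw [hs] at hs1
    exact card_ne_zero' hs1.symm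
  have hd0 := irr_one_ne_zero χ.2
  have hvan : ∀ g ∉ Subgroup.center G, (χ : G → ℂ) g = 0 := by
    intro g hg
    rw [Subgroup.mem_center_iff] at hg
    push Not at hg
    obtain ⟨x, hx⟩ := hg
    set c := x * g * x⁻¹ * g⁻¹ with hc
    have hc1 : c ≠ 1 := fun h => hx (by
      have h2 : c * (g * x) = g * x := by rw [h, one_mul]
      calc x * g = c * (g * x) := by rw [hc]; group
        _ = g * x := h2)
    obtain ⟨i, hi⟩ := hder x g
    have hcz : c ∈ Subgroup.center G := by
      rw [hc, ← hi]; exact Subgroup.zpow_mem _ hzc i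
    have hcg : (χ : G → ℂ) (c * g) = (χ : G → ℂ) g :=
      isClassFunction_iff.mp (isClassFunction_of_isIrr χ.2) _ _
        (isConj_iff.mpr ⟨x⁻¹, by rw [hc]; group⟩)
    have h := char_center_mul χ.2 hcz g
    rw [hcg] at h
    have h2 : (χ : G → ℂ) g * ((χ : G → ℂ) c - (χ : G → ℂ) 1) = 0 := by linear_combination -h
    rcases mul_eq_zero.mp h2 with h3 | h3
    · exact h3
    · refine absurd ?_ hχz
      have hker : Subgroup.zpowers c ≤ charKer (isCharacter_of_isIrr χ.2) :=
        Subgroup.zpowers_le.mpr (mem_charKer.mpr (sub_eq_zero.mp h3))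
      refine mem_charKer.mp (hker ?_)
      have hle : Subgroup.zpowers c ≤ Subgroup.zpowers z := Subgroup.zpowers_le.mpr ⟨i, hi⟩
      have hcard : Nat.card (Subgroup.zpowers c) = p := by
        rcases hp.eq_one_or_self_of_dvd _ (hzo ▸ Nat.card_zpowers z ▸ Subgroup.card_dvd_of_le hle)
          with e | e
        · rw [Nat.card_zpowers, orderOf_eq_one_iff] at e
          exact absurd e hc1
        · exact e
      rw [Subgroup.eq_of_le_of_card_ge hle (by rw [hcard, Nat.card_zpowers, hzo])]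
      exact Subgroup.mem_zpowers z
  obtain ⟨d, -, hd⟩ := exists_degree_pos χ.2
  have hcen : ∀ a ∈ Subgroup.center G,
      (χ : G → ℂ) a * conj ((χ : G → ℂ) a) = (d : ℂ) * d := fun a ha => by
    rw [← char_inv (isCharacter_of_isIrr χ.2), ← char_center_mul χ.2 ha a⁻¹, mul_inv_cancel, hd]
  have h := card_mul_classInner (χ : G → ℂ) χ
  rw [classInner_irr_self χ.2, mul_one,
    ← Finset.sum_subset (Finset.subset_univ (Finset.univ.filter (· ∈ Subgroup.center G)))
      (fun g _ hg => by rw [hvan g (by simpa using hg), zero_mul]),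
    Finset.sum_subtype _ (p := (· ∈ Subgroup.center G)) (fun g => by simp),
    Finset.sum_congr rfl fun (a : Subgroup.center G) _ => hcen (a : G) a.2, Finset.sum_const, Finset.card_univ, nsmul_eq_mul,
    ← Nat.card_eq_fintype_card, ← (Subgroup.center G).index_mul_card, Nat.cast_mul, mul_comm] at h
  have h2 := mul_left_cancel₀ (card_ne_zero' (G := Subgroup.center G)) h
  have h3 : (Subgroup.center G).index = d * d := by exact_mod_cast h2
  rw [h3, pow_two]
  exact Nat.mul_le_mul (hD χ χ.2 d hd) (hD χ χ.2 d hd)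

theorem center_index_ne [hp : Fact p.Prime] (hna : ∃ a b : G, a * b ≠ b * a) :
    (Subgroup.center G).index ≠ 1 ∧ (Subgroup.center G).index ≠ p := by
  obtain ⟨a, b, hab⟩ := hna
  constructor
  · intro h
    exact hab (Subgroup.mem_center_iff.mp ((Subgroup.index_eq_one.mp h).symm ▸ Subgroup.mem_top b) a)
  · intro h
    refine hab ?_
    have : IsCyclic (G ⧸ Subgroup.center G) := isCyclic_of_prime_card (p := p) h
    exact commutative_of_cyclic_center_quotient (QuotientGroup.mk' (Subgroup.center G))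
      (by rw [QuotientGroup.ker_mk']) a b

/-- A group with centre of index at most `p²` has an abelian normal subgroup of index `p`. -/
theorem abelian_index_of_center_le [hp : Fact p.Prime] (hP : IsPGroup p G)
    (hna : ∃ a b : G, a * b ≠ b * a) (h : (Subgroup.center G).index ≤ p ^ 2) :
    ∃ A : Subgroup G, A.Normal ∧ (∀ a ∈ A, ∀ b ∈ A, a * b = b * a) ∧ A.index = p := by
  obtain ⟨h1, h2⟩ := center_index_ne (p := p) hna
  obtain ⟨k, hk⟩ := hP.index (Subgroup.center G)
  have hk2 : k ≤ 2 := (Nat.pow_le_pow_iff_right hp.out.one_lt).mp (hk ▸ h)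
  have hk' : k = 2 := by
    have e0 : k ≠ 0 := fun e => h1 (by rw [hk, e, pow_zero])
    have e1 : k ≠ 1 := fun e => h2 (by rw [hk, e, pow_one])
    omega
  have hlt : Subgroup.center G < ⊤ := lt_top_iff_ne_top.mpr fun e => h1 (by rw [e, Subgroup.index_top])
  obtain ⟨A, hA, hAc, -, -, hAi⟩ := exists_abelian_step hP (Subgroup.center G) ⊤ hlt
    fun z hz m _ => (Subgroup.mem_center_iff.mp hz m).symm
  refine ⟨A, hA, hAc, ?_⟩
  rw [hk, hk', pow_two] at hAi
  exact Nat.eq_of_mul_eq_mul_right hp.out.pos hAi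

/-- An abelian normal subgroup of index at most `p²` suffices. -/
theorem two_degrees_of_abelian [hp : Fact p.Prime] (hP : IsPGroup p G) (hD : DegLe G p)
    (hna : ∃ a b : G, a * b ≠ b * a) (A : Subgroup G) [hAn : A.Normal]
    (hA : ∀ a ∈ A, ∀ b ∈ A, a * b = b * a) (hi : A.index ≤ p ^ 2) :
    (∃ B : Subgroup G, B.Normal ∧ (∀ a ∈ B, ∀ b ∈ B, a * b = b * a) ∧ B.index = p) ∨
      (Subgroup.center G).index = p ^ 3 := by
  obtain ⟨a0, b0, hab⟩ := hna
  obtain ⟨k, hk⟩ := hP.index A
  have hk2 : k ≤ 2 := (Nat.pow_le_pow_iff_right hp.out.one_lt).mp (hk ▸ hi)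
  have hk0 : k ≠ 0 := fun e => by
    rw [e, pow_zero, Subgroup.index_eq_one] at hk
    exact hab (hA a0 (hk ▸ Subgroup.mem_top a0) b0 (hk ▸ Subgroup.mem_top b0))
  by_cases hk1 : k = 1
  · exact Or.inl ⟨A, hAn, hA, by rw [hk, hk1, pow_one]⟩
  have hk' : A.index = p ^ 2 := by
    have : k = 2 := by omega
    rw [hk, this]
  by_cases hcent : Subgroup.centralizer (A : Set G) ≤ A
  swap
  · have hlt : A < A ⊔ Subgroup.centralizer (A : Set G) :=
      lt_of_le_of_ne le_sup_left fun e => hcent (le_sup_right.trans e.ge)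
    have hcm : ∀ z ∈ A, ∀ m ∈ A ⊔ Subgroup.centralizer (A : Set G), z * m = m * z := by
      intro z hz m hm
      have hle : A ⊔ Subgroup.centralizer (A : Set G) ≤ Subgroup.centralizer ({z} : Set G) := by
        refine sup_le (fun a ha => ?_) fun c hc => ?_
        · exact Subgroup.mem_centralizer_singleton_iff.mpr (hA a ha z hz)
        · exact Subgroup.mem_centralizer_singleton_iff.mpr
            (Subgroup.mem_centralizer_iff.mp hc z hz).symm
      exact (Subgroup.mem_centralizer_singleton_iff.mp (hle hm)).symm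
    have hCn : (Subgroup.centralizer (A : Set G)).Normal := inferInstance
    have hMn : (A ⊔ Subgroup.centralizer (A : Set G)).Normal := Subgroup.sup_normal _ _
    obtain ⟨B, hB, hBc, -, -, hBi⟩ :=
      exists_abelian_step (hM := hMn) hP A (A ⊔ Subgroup.centralizer (A : Set G)) hlt hcm
    refine Or.inl ⟨B, hB, hBc, ?_⟩
    rw [hk', pow_two] at hBi
    exact Nat.eq_of_mul_eq_mul_right hp.out.pos hBi
  rcases orbit_lemma (A := A) hp.out hA fun lam => normal_index_eq_of_le hP (stab_index_le hD A lam)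
    with ⟨S, hS, hS'⟩ | ⟨μ, hμ, hμZ⟩
  · have h1 := Subgroup.index_dvd_of_le (hS.trans hcent)
    rw [hk'] at h1
    rcases hS' with e | ⟨-, e⟩
    · rw [e, Subgroup.index_top] at h1
      have := Nat.le_of_dvd one_pos h1
      nlinarith [hp.out.two_le]
    · rw [e] at h1
      have := Nat.le_of_dvd hp.out.pos h1
      nlinarith [hp.out.two_le]
  · have hker : μ.ker.index ≤ p := by
      rw [Subgroup.index_ker]
      have hle : μ.range ≤ rootsOfUnity p ℂ := by
        rintro _ ⟨a, rfl⟩
        exact DFunLike.congr_fun hμ a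
      have : NeZero p := ⟨hp.out.ne_zero⟩
      exact (Subgroup.card_le_of_le hle).trans_eq (Complex.card_rootsOfUnity p)
    have h3 : μ.ker.map A.subtype ≤ Subgroup.center G := by
      rintro _ ⟨a, ha, rfl⟩
      exact hμZ a ha
    have h4 : (Subgroup.center G).index ≤ p ^ 3 := by
      refine (Nat.le_of_dvd (Nat.pos_of_ne_zero Subgroup.index_ne_zero_of_finite)
        (Subgroup.index_dvd_of_le h3)).trans ?_
      rw [Subgroup.index_map_subtype, hk', pow_succ' p 2]
      exact Nat.mul_le_mul_right _ hker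
    by_cases h5 : (Subgroup.center G).index ≤ p ^ 2
    · exact Or.inl (abelian_index_of_center_le hP ⟨a0, b0, hab⟩ h5)
    · refine Or.inr ?_
      obtain ⟨j, hj⟩ := hP.index (Subgroup.center G)
      rw [hj] at h4 h5 ⊢
      have := (Nat.pow_le_pow_iff_right hp.out.one_lt).mp h4
      have : ¬ j ≤ 2 := fun h => h5 ((Nat.pow_le_pow_iff_right hp.out.one_lt).mpr h)
      congr 1
      omega

theorem pGroup_two_degrees : ∀ (n : ℕ) (G : Type u) [Group G] [Finite G] (p : ℕ)
    [Fact p.Prime], Nat.card G = n → IsPGroup p G → DegLe G p → (∃ a b : G, a * b ≠ b * a) →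
    (∃ B : Subgroup G, B.Normal ∧ (∀ a ∈ B, ∀ b ∈ B, a * b = b * a) ∧ B.index = p) ∨
      (Subgroup.center G).index = p ^ 3 := by
  intro n
  induction n using Nat.strong_induction_on with
  | _ n ih =>
  intro G _ _ p hp hn hP hD hna
  classical
  have : Nontrivial G := by
    obtain ⟨a, b, hab⟩ := hna
    exact ⟨⟨a * b, b * a, hab⟩⟩
  have := hP.center_nontrivial
  obtain ⟨z, hzc, hzo⟩ := CfsgLib.PGroup.exists_orderOf_eq hP
    ((Subgroup.nontrivial_iff_ne_bot _).mp this)
  set Zc := Subgroup.zpowers z with hZc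
  have hZcc : Zc ≤ Subgroup.center G := Subgroup.zpowers_le.mpr hzc
  have hZn : Zc.Normal := ⟨fun w hw g => by
    rw [Subgroup.mem_center_iff.mp (hZcc hw) g, mul_inv_cancel_right]; exact hw⟩
  have hcardZ : Nat.card Zc = p := by rw [hZc, Nat.card_zpowers, hzo]
  -- commutators modulo `Zc`
  have hmod : ∀ a b : G, (a : G ⧸ Zc) * b = b * a → a * b * a⁻¹ * b⁻¹ ∈ Zc := fun a b h => by
    rw [← QuotientGroup.eq_one_iff]
    simp only [QuotientGroup.mk_mul, QuotientGroup.mk_inv]
    rw [h]
    group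
  by_cases hqa : ∀ a b : G ⧸ Zc, a * b = b * a
  · exact Or.inl (abelian_index_of_center_le hP hna
      (center_index_le_sq hp.out hD hzc hzo fun a b => hmod a b (hqa _ _)))
  push Not at hqa
  have hlt : Nat.card (G ⧸ Zc) < n := by
    have e := Subgroup.card_eq_card_quotient_mul_card_subgroup Zc
    rw [hn, hcardZ] at e
    rw [e]
    exact (lt_mul_iff_one_lt_right Nat.card_pos).mpr hp.out.one_lt
  rcases ih _ hlt (G ⧸ Zc) p rfl (hP.to_quotient Zc) (degLe_quotient hD Zc) hqa with
    ⟨Mb, hMbn, hMbc, hMbi⟩ | hK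
  · -- an abelian subgroup of index `p` in the quotient
    set M := Mb.comap (QuotientGroup.mk' Zc) with hMdef
    have hMn : M.Normal := hMbn.comap _
    have hMi : M.index = p := by
      rw [hMdef, Subgroup.index_comap_of_surjective _ (QuotientGroup.mk'_surjective Zc), hMbi]
    by_cases hMa : ∀ a ∈ M, ∀ b ∈ M, a * b = b * a
    · exact Or.inl ⟨M, hMn, hMa, hMi⟩
    push Not at hMa
    obtain ⟨a, ha, b, hb, hab⟩ := hMa
    have hzM : Zc ≤ M := fun w hw => by
      show (w : G ⧸ Zc) ∈ Mb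
      rw [(QuotientGroup.eq_one_iff w).mpr hw]
      exact one_mem _
    let zM : M := ⟨z, hzM (Subgroup.mem_zpowers z)⟩
    have hle := center_index_le_sq (G := M) hp.out (degLe_subgroup hD M) (z := zM)
      (Subgroup.mem_center_iff.mpr fun m => Subtype.ext (Subgroup.mem_center_iff.mp hzc m))
      (by rw [← Subgroup.orderOf_coe]; exact hzo)
      (fun u v => by
        obtain ⟨i, hi⟩ := hmod u v (hMbc _ u.2 _ v.2)
        exact ⟨i, Subtype.ext (by show ((zM ^ i : M) : G) = _; rw [Subgroup.coe_zpow]; simpa [zM] using hi)⟩)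
    set Z0 := (Subgroup.center M).map M.subtype with hZ0
    have hZ0n : Z0.Normal := ⟨by
      rintro _ ⟨w, hw, rfl⟩ g
      refine ⟨⟨g * w * g⁻¹, hMn.conj_mem _ w.2 g⟩, Subgroup.mem_center_iff.mpr fun m => ?_, rfl⟩
      have hm' : g⁻¹ * m * g ∈ M := by simpa using hMn.conj_mem _ m.2 g⁻¹
      have h1 : g⁻¹ * (m : G) * g * w = w * (g⁻¹ * m * g) :=
        congrArg Subtype.val (Subgroup.mem_center_iff.mp hw ⟨_, hm'⟩)
      refine Subtype.ext ?_
      show (m : G) * (g * w * g⁻¹) = g * w * g⁻¹ * m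
      calc (m : G) * (g * w * g⁻¹) = g * (g⁻¹ * m * g * w) * g⁻¹ := by group
        _ = g * (w * (g⁻¹ * m * g)) * g⁻¹ := by rw [h1]
        _ = _ := by group⟩
    have hZ0M : Z0 < M := lt_of_le_of_ne (Subgroup.map_subtype_le _) fun e => hab (by
      obtain ⟨w, hw, rfl⟩ := e.symm ▸ ha
      exact congrArg Subtype.val (Subgroup.mem_center_iff.mp hw ⟨b, hb⟩).symm)
    obtain ⟨A, hAn, hAc, -, -, hAi⟩ := exists_abelian_step hP Z0 M hZ0M fun w hw m hm => by
      obtain ⟨w', hw', rfl⟩ := hw
      exact congrArg Subtype.val (Subgroup.mem_center_iff.mp hw' ⟨m, hm⟩).symm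
    rw [hZ0, Subgroup.index_map_subtype, hMi] at hAi
    exact two_degrees_of_abelian hP hD hna A hAc
      ((Nat.eq_of_mul_eq_mul_right hp.out.pos hAi).trans_le hle)
  -- the centre of the quotient has index `p³`
  set K := (Subgroup.center (G ⧸ Zc)).comap (QuotientGroup.mk' Zc) with hKdef
  have hKi : K.index = p ^ 3 := by
    rw [hKdef, Subgroup.index_comap_of_surjective _ (QuotientGroup.mk'_surjective Zc), hK]
  have hKcomm : ∀ k ∈ K, ∀ g : G, g * k * g⁻¹ * k⁻¹ ∈ Zc := fun k hk g =>
    hmod g k (Subgroup.mem_center_iff.mp (show (k : G ⧸ Zc) ∈ Subgroup.center _ from hk) g)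
  by_cases hKc : K ≤ Subgroup.center G
  · obtain ⟨j, hj⟩ := hP.index (Subgroup.center G)
    have hj3 : p ^ j ≤ p ^ 3 := by
      rw [← hj, ← hKi]
      exact Nat.le_of_dvd (Nat.pos_of_ne_zero Subgroup.index_ne_zero_of_finite)
        (Subgroup.index_dvd_of_le hKc)
    rcases Nat.lt_or_ge j 3 with h | h
    · exact Or.inl (abelian_index_of_center_le hP hna (by
        rw [hj]; exact Nat.pow_le_pow_right hp.out.pos (by omega)))
    · exact Or.inr (le_antisymm (hj ▸ hj3) (hj ▸ Nat.pow_le_pow_right hp.out.pos h))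
  have hKn : K.Normal := (inferInstance : (Subgroup.center (G ⧸ Zc)).Normal).comap _
  have hzK : Zc ≤ K := fun w hw => by
    show (w : G ⧸ Zc) ∈ Subgroup.center _
    rw [(QuotientGroup.eq_one_iff w).mpr hw]
    exact one_mem _
  -- a linear character nontrivial on `z` has stabilizer the centralizer
  have hstab : ∀ (A : Subgroup G) [A.Normal], (∀ a ∈ A, ∀ b ∈ A, a * b = b * a) → A ≤ K →
      (hzA : z ∈ A) → (Subgroup.centralizer (A : Set G)).index ≤ p := by
    intro A _ hA hAK hzA
    haveI : IsMulCommutative A := ⟨⟨fun a b => Subtype.ext (hA a a.2 b b.2)⟩⟩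
    letI : CommGroup A := { (inferInstance : Group A) with mul_comm := mul_comm' }
    have : NeZero (Monoid.exponent A : ℂ) :=
      ⟨by exact_mod_cast Monoid.exponent_ne_zero_of_finite⟩
    obtain ⟨φ, hφ⟩ := CommGroup.exists_apply_ne_one_of_hasEnoughRootsOfUnity A ℂ
      (a := ⟨z, hzA⟩) (fun h => hp.out.one_lt.ne (by
        rw [← hzo, show z = 1 from congrArg Subtype.val h, orderOf_one]))
    refine le_trans (Nat.le_of_dvd (Nat.pos_of_ne_zero Subgroup.index_ne_zero_of_finite)
      (Subgroup.index_dvd_of_le fun g hg a ha => ?_)) (stab_index_le hD A φ)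
    have h1 := DFunLike.congr_fun (mem_stab.mp hg) ⟨a, ha⟩
    rw [conjHom_apply] at h1
    obtain ⟨i, hi⟩ := hKcomm a (hAK ha) g
    have h2 : (⟨g * a * g⁻¹, (inferInstance : A.Normal).conj_mem a ha g⟩ : A) =
        ⟨z, hzA⟩ ^ i * ⟨a, ha⟩ := Subtype.ext (by
      show g * a * g⁻¹ = ((⟨z, hzA⟩ ^ i : A) : G) * a
      rw [Subgroup.coe_zpow, show z ^ i = g * a * g⁻¹ * a⁻¹ from hi, inv_mul_cancel_right])
    rw [h2, map_mul, map_zpow, mul_eq_right] at h1
    have h3 : orderOf (φ ⟨z, hzA⟩) = p := by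
      refine orderOf_eq_prime ?_ hφ
      rw [← map_pow, show (⟨z, hzA⟩ : A) ^ p = 1 from Subtype.ext (by
        show z ^ p = 1
        rw [← hzo, pow_orderOf_eq_one]), map_one]
    have h4 : (p : ℤ) ∣ i := h3 ▸ orderOf_dvd_iff_zpow_eq_one.mpr h1
    have h5 : z ^ i = 1 := orderOf_dvd_iff_zpow_eq_one.mp (hzo.symm ▸ h4)
    rw [show z ^ i = g * a * g⁻¹ * a⁻¹ from hi, mul_inv_eq_one] at h5
    calc a * g = (g * a * g⁻¹) * g := by rw [h5]
      _ = g * a := by group
  by_cases hKa : ∀ a ∈ K, ∀ b ∈ K, a * b = b * a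
  · have hC := hstab K hKa le_rfl (hzK (Subgroup.mem_zpowers z))
    set C := Subgroup.centralizer (K : Set G) with hCdef
    rcases normal_index_eq_of_le hP hC with hC' | ⟨hCn, hCi⟩
    · exact absurd (fun k hk => Subgroup.mem_center_iff.mpr fun g =>
        ((hC' ▸ Subgroup.mem_top g : g ∈ C) k hk).symm) hKc
    have hKC : K < C := by
      refine lt_of_le_of_ne (fun k hk a ha => hKa a ha k hk) fun e => ?_
      rw [← e, hKi] at hCi
      nlinarith [hp.out.two_le, Nat.le_self_pow (show 2 ≠ 0 by norm_num) p]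
    obtain ⟨A, hAn, hAc, -, -, hAi⟩ := exists_abelian_step hP K C hKC fun k hk m hm => hm k hk
    rw [hKi, pow_succ] at hAi
    exact two_degrees_of_abelian hP hD hna A hAc (Nat.eq_of_mul_eq_mul_right hp.out.pos hAi).le
  push Not at hKa
  obtain ⟨x0, hx0, y0, hy0, hxy⟩ := hKa
  -- for noncentral elements of `K` the centralizer has index at most `p`
  have hcx : ∀ x ∈ K, (Subgroup.centralizer ({x} : Set G)).index ≤ p := by
    intro x hx
    let Ax := Subgroup.zpowers z ⊔ Subgroup.zpowers x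
    have hxA : x ∈ Ax := Subgroup.mem_sup_right (Subgroup.mem_zpowers x)
    have hAxK : Ax ≤ K := sup_le hzK (Subgroup.zpowers_le.mpr hx)
    have hA : ∀ a ∈ Ax, ∀ b ∈ Ax, a * b = b * a := by
      have hle : Ax ≤ Subgroup.centralizer (Ax : Set G) := by
        refine sup_le (Subgroup.zpowers_le.mpr fun w _ => Subgroup.mem_center_iff.mp hzc w)
          (Subgroup.zpowers_le.mpr ?_)
        have h2 : Ax ≤ Subgroup.centralizer ({x} : Set G) := sup_le
          (Subgroup.zpowers_le.mpr (Subgroup.mem_centralizer_singleton_iff.mpr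
            (Subgroup.mem_center_iff.mp hzc x).symm))
          (Subgroup.zpowers_le.mpr (Subgroup.mem_centralizer_singleton_iff.mpr rfl))
        exact fun w hw => Subgroup.mem_centralizer_singleton_iff.mp (h2 hw)
      exact fun a ha b hb => hle hb a ha
    have hAn : Ax.Normal := ⟨fun w hw g => by
      have := Ax.mul_mem ((le_sup_left : Zc ≤ Ax) (hKcomm w (hAxK hw) g)) hw
      rwa [inv_mul_cancel_right] at this⟩
    refine le_trans (Nat.le_of_dvd (Nat.pos_of_ne_zero Subgroup.index_ne_zero_of_finite)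
      (Subgroup.index_dvd_of_le fun g hg => ?_))
      (hstab Ax hA hAxK (Subgroup.mem_sup_left (Subgroup.mem_zpowers z)))
    exact Subgroup.mem_centralizer_singleton_iff.mpr (hg x hxA).symm
  set C := Subgroup.centralizer (K : Set G) with hCdef
  -- characters nontrivial on `z` restrict to `C` as multiples of linear characters
  have := Fintype.ofFinite G
  have := Fintype.ofFinite C
  have hCn : C.Normal := inferInstance
  -- the index of `C` is at least `p ^ 2`
  have hidx2 : p ^ 2 ≤ C.index := by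
    obtain ⟨j, hj⟩ := hP.index C
    have h1 : C ≤ Subgroup.centralizer ({x0} : Set G) :=
      fun g hg => Subgroup.mem_centralizer_singleton_iff.mpr
        (Subgroup.mem_centralizer_iff.mp hg x0 hx0).symm
    have h2 : C ≤ Subgroup.centralizer ({y0} : Set G) :=
      fun g hg => Subgroup.mem_centralizer_singleton_iff.mpr
        (Subgroup.mem_centralizer_iff.mp hg y0 hy0).symm
    have hx' : x0 ∈ Subgroup.centralizer ({x0} : Set G) :=
      Subgroup.mem_centralizer_singleton_iff.mpr rfl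
    have hy' : y0 ∉ Subgroup.centralizer ({x0} : Set G) := fun h =>
      hxy (Subgroup.mem_centralizer_singleton_iff.mp h).symm
    rcases normal_index_eq_of_le hP (hcx x0 hx0) with e | ⟨-, e⟩
    · exact absurd (e ▸ Subgroup.mem_top y0) hy'
    have hne : C ≠ Subgroup.centralizer ({x0} : Set G) := fun e' => hxy
      (Subgroup.mem_centralizer_singleton_iff.mp (h2 (e' ▸ hx')))
    have h3 := Subgroup.index_dvd_of_le h1
    rw [e, hj] at h3
    have hj2 : 2 ≤ j := by
      by_contra hlt
      interval_cases j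
      · rw [pow_zero] at h3
        exact hp.out.one_lt.ne' (Nat.dvd_one.mp h3)
      · rw [pow_one] at hj
        rcases stab_maximal hp.out hj h1 with e' | e'
        · exact hne e'.symm
        · exact hy' (e' ▸ Subgroup.mem_top y0)
    rw [hj]
    exact Nat.pow_le_pow_right hp.out.pos hj2
  have hchar : ∀ χ : Cfsg.IrrCharacter G, (χ : G → ℂ) z ≠ (χ : G → ℂ) 1 →
      C.index ≤ p ^ 2 ∧ ∀ u ∈ C, ∀ v ∈ C, (χ : G → ℂ) (u * v * u⁻¹ * v⁻¹) = (χ : G → ℂ) 1 := by
    intro χ hχz
    have hd0 := irr_one_ne_zero χ.2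
    have hvan : ∀ g ∉ C, (χ : G → ℂ) g = 0 := by
      intro g hg
      rw [hCdef, Subgroup.mem_centralizer_iff] at hg
      push Not at hg
      obtain ⟨x, hx, hxg⟩ := hg
      obtain ⟨i, hi⟩ := hKcomm x hx g
      have e : x⁻¹ * g * x = z ^ i * g := by
        have h1 : g * x * g⁻¹ = z ^ i * x := by
          rw [show z ^ i = g * x * g⁻¹ * x⁻¹ from hi, inv_mul_cancel_right]
        have h2 : Commute (z ^ i) x :=
          ((Subgroup.mem_center_iff.mp (Subgroup.zpow_mem _ hzc i) x)).symm
        calc x⁻¹ * g * x = x⁻¹ * (g * x * g⁻¹) * g := by group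
          _ = x⁻¹ * (x * z ^ i) * g := by rw [h1, h2.eq]
          _ = z ^ i * g := by group
      have h := char_center_mul χ.2 (Subgroup.zpow_mem _ hzc i) g
      rw [← e, isClassFunction_iff.mp (isClassFunction_of_isIrr χ.2) (x⁻¹ * g * x) g
        (isConj_iff.mpr ⟨x, by group⟩)] at h
      have h2 : (χ : G → ℂ) g * ((χ : G → ℂ) (z ^ i) - (χ : G → ℂ) 1) = 0 := by
        linear_combination -h
      refine (mul_eq_zero.mp h2).resolve_right fun h3 => hχz ?_
      have hker : z ^ i ∈ charKer (isCharacter_of_isIrr χ.2) :=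
        mem_charKer.mpr (sub_eq_zero.mp h3)
      refine mem_charKer.mp ((?_ : z ∈ charKer (isCharacter_of_isIrr χ.2)))
      have hzi : z ^ i ≠ 1 := fun e1 => by
        rw [e1, one_mul] at e
        refine hxg ?_
        calc x * g = x * (x⁻¹ * g * x) := by rw [e]
          _ = g * x := by group
      have hdvd : ¬ (p : ℤ) ∣ i := fun hd => hzi (orderOf_dvd_iff_zpow_eq_one.mp (by rwa [hzo]))
      obtain ⟨a, b, hab⟩ : IsCoprime i (p : ℤ) :=
        ((Nat.prime_iff_prime_int.mp hp.out).coprime_iff_not_dvd.mpr hdvd).symm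
      have h4 : z = (z ^ i) ^ a * (z ^ (p : ℤ)) ^ b := by
        rw [← zpow_mul, ← zpow_mul, ← zpow_add, mul_comm i a, mul_comm (p : ℤ) b, hab, zpow_one]
      rw [show z ^ (p : ℤ) = 1 by rw [zpow_natCast, ← hzo, pow_orderOf_eq_one], one_zpow,
        mul_one] at h4
      rw [h4]
      exact zpow_mem hker a
    obtain ⟨d, -, hd⟩ := exists_degree_pos χ.2
    have hdp := hD χ χ.2 d hd
    obtain ⟨m, hm, hmi⟩ := char_decomp (isCharacter_res C (isCharacter_of_isIrr χ.2))
    choose e he hev using fun c : Cfsg.IrrCharacter C => exists_degree_pos c.2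
    have hnorm : C.index = ∑ c, m c ^ 2 := by
      have h := card_mul_classInner (χ : G → ℂ) χ
      rw [classInner_irr_self χ.2, mul_one,
        ← Finset.sum_subset (Finset.subset_univ (Finset.univ.filter (· ∈ C)))
          (fun g _ hg => by rw [hvan g (by simpa using hg), zero_mul]),
        Finset.sum_subtype _ (p := (· ∈ C)) (fun g => by simp),
        ← card_mul_classInner (fun c : C => (χ : G → ℂ) c) (fun c : C => (χ : G → ℂ) c)] at h
      have h2 : Cfsg.classInner (fun c : C => (χ : G → ℂ) c) (fun c : C => (χ : G → ℂ) c) =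
          ∑ c, (m c : ℂ) ^ 2 := by
        conv_lhs => arg 1; rw [hm]
        rw [classInner_sum_left]
        refine Finset.sum_congr rfl fun c _ => ?_
        rw [classInner_smul_left, ← classInner_conj_symm, hmi c, map_natCast, sq]
      rw [h2, ← C.index_mul_card, Nat.cast_mul, mul_comm] at h
      have h3 := mul_left_cancel₀ (card_ne_zero' (G := C)) h
      exact_mod_cast h3
    have hdeg : d = ∑ c, m c * e c := by
      have h := congrFun hm 1
      simp only [Finset.sum_apply, Pi.smul_apply, smul_eq_mul, OneMemClass.coe_one, hd, hev] at h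
      exact_mod_cast h
    have hterm : ∀ c, m c ^ 2 ≤ d * (m c * e c) := fun c => by
      rw [sq]
      exact Nat.mul_le_mul (le_trans (Nat.le_mul_of_pos_right _ (he c))
        (hdeg ▸ Finset.single_le_sum (f := fun c => m c * e c) (fun c _ => Nat.zero_le _) (Finset.mem_univ c)))
        (Nat.le_mul_of_pos_right _ (he c))
    have hle : ∑ c, m c ^ 2 ≤ d * d := by
      refine (Finset.sum_le_sum fun c _ => hterm c).trans_eq ?_
      rw [← Finset.mul_sum, ← hdeg]
    refine ⟨hnorm ▸ hle.trans (by rw [pow_two]; exact Nat.mul_le_mul hdp hdp), fun u hu v hv => ?_⟩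
    -- every constituent is linear
    have hlin : ∀ c, m c ≠ 0 → e c = 1 := by
      intro c hc
      by_contra he1
      have hc2 : m c ^ 2 < d * (m c * e c) := by
        rw [sq]
        have h1 : m c ≤ d := le_trans (Nat.le_mul_of_pos_right _ (he c))
          (hdeg ▸ Finset.single_le_sum (f := fun c => m c * e c) (fun c _ => Nat.zero_le _) (Finset.mem_univ c))
        have h2 : 2 ≤ e c := by have := he c; omega
        have h3 : 0 < m c := Nat.pos_of_ne_zero hc
        calc m c * m c ≤ d * m c := Nat.mul_le_mul_right _ h1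
          _ < d * (m c * e c) := Nat.mul_lt_mul_of_pos_left (by nlinarith) (by omega)
      have h4 : ∑ c, m c ^ 2 < d * d := by
        refine lt_of_lt_of_eq (Finset.sum_lt_sum (fun c _ => hterm c)
          ⟨c, Finset.mem_univ c, hc2⟩) ?_
        rw [← Finset.mul_sum, ← hdeg]
      rw [← hnorm] at h4
      have := Nat.mul_le_mul hdp hdp
      rw [pow_two] at hidx2
      omega
    have hcomm1 : ∀ c, m c ≠ 0 → (c : C → ℂ) (⟨u, hu⟩ * ⟨v, hv⟩ * ⟨u, hu⟩⁻¹ * ⟨v, hv⟩⁻¹) = 1 :=
      fun c hc => by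
        have h1 : (c : C → ℂ) 1 = 1 := by rw [hev c, hlin c hc, Nat.cast_one]
        have hcc := isCharacter_of_isIrr c.2
        rw [linear_map_mul hcc h1, linear_map_mul hcc h1, linear_map_mul hcc h1]
        have hi : ∀ w : C, (c : C → ℂ) w * (c : C → ℂ) w⁻¹ = 1 := fun w => by
          rw [← linear_map_mul hcc h1, mul_inv_cancel, h1]
        linear_combination (c : C → ℂ) ⟨v, hv⟩ * (c : C → ℂ) ⟨v, hv⟩⁻¹ * hi ⟨u, hu⟩ + hi ⟨v, hv⟩
    have h := congrFun hm (⟨u, hu⟩ * ⟨v, hv⟩ * ⟨u, hu⟩⁻¹ * ⟨v, hv⟩⁻¹)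
    simp only [Finset.sum_apply, Pi.smul_apply, smul_eq_mul] at h
    refine h.trans ?_
    rw [hd, hdeg, Nat.cast_sum]
    refine Finset.sum_congr rfl fun c _ => ?_
    by_cases hc : m c = 0
    · simp [hc]
    · rw [hcomm1 c hc, hlin c hc]; simp
  have hz1 : z ≠ 1 := fun h => hp.out.one_lt.ne (by rw [← hzo, h, orderOf_one])
  obtain ⟨χ0, hχ0⟩ : ∃ χ : Cfsg.IrrCharacter G, (χ : G → ℂ) z ≠ (χ : G → ℂ) 1 := by
    by_contra hall
    push Not at hall
    have hs := sum_degree_mul_apply z
    have hs1 := sum_degree_mul_apply (1 : G)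
    simp only [hall] at hs
    rw [if_pos rfl] at hs1
    rw [if_neg hz1] at hs
    rw [hs] at hs1
    exact card_ne_zero' hs1.symm
  have hCab : ∀ a ∈ C, ∀ b ∈ C, a * b = b * a := by
    intro a ha b hb
    set c := a * b * a⁻¹ * b⁻¹ with hc
    have hdiff : ∀ χ : Cfsg.IrrCharacter G,
        (χ : G → ℂ) 1 * (χ : G → ℂ) c - (χ : G → ℂ) 1 * (χ : G → ℂ) (z * c) =
        (χ : G → ℂ) 1 * (χ : G → ℂ) 1 - (χ : G → ℂ) 1 * (χ : G → ℂ) z := by
      intro χ
      by_cases hχ : (χ : G → ℂ) z = (χ : G → ℂ) 1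
      · rw [apply_eq_one_mul (isCharacter_of_isIrr χ.2) hχ, hχ]
        ring
      · have h1 := (hchar χ hχ).2 a ha b hb
        rw [apply_mul_eq_one (isCharacter_of_isIrr χ.2) h1, h1]
    have h := Finset.sum_congr rfl fun χ (_ : χ ∈ (Finset.univ : Finset (Cfsg.IrrCharacter G))) =>
      hdiff χ
    rw [Finset.sum_sub_distrib, Finset.sum_sub_distrib, sum_degree_mul_apply, sum_degree_mul_apply,
      sum_degree_mul_apply, sum_degree_mul_apply, if_pos rfl, if_neg hz1] at h
    have hc1 : c = 1 := by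
      by_contra hne
      rw [if_neg hne] at h
      split_ifs at h
      · have h2 : (2 : ℂ) * (Nat.card G : ℂ) = 0 := by linear_combination -h
        exact card_ne_zero' ((mul_eq_zero.mp h2).resolve_left two_ne_zero)
      · exact card_ne_zero' (G := G) (by linear_combination -h)
    calc a * b = c * (b * a) := by rw [hc]; group
      _ = b * a := by rw [hc1, one_mul]
  exact two_degrees_of_abelian hP hD hna C hCab (hchar χ0 hχ0).1

/-- The square of a degree is at most the index of the centre. -/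
theorem degree_sq_le_center {χ : G → ℂ} (hχ : Cfsg.IsIrrCharacter G χ) {d : ℕ} (hd : χ 1 = d) :
    d * d ≤ (Subgroup.center G).index := by
  classical
  have := Fintype.ofFinite G
  have hnorm : ∑ g : G, Complex.normSq (χ g) = (Nat.card G : ℝ) := by
    have h1 := card_mul_classInner χ χ
    rw [classInner_irr_self hχ, mul_one, Finset.sum_congr rfl fun g _ => Complex.mul_conj _] at h1
    exact_mod_cast h1.symm
  have hcen : ∀ a ∈ Subgroup.center G, Complex.normSq (χ a) = (d : ℝ) * d := fun a ha => by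
    have h1 : χ a * conj (χ a) = (d : ℂ) * d := by
      rw [← char_inv (isCharacter_of_isIrr hχ), ← char_center_mul hχ ha a⁻¹, mul_inv_cancel, hd]
    rw [Complex.mul_conj] at h1
    exact_mod_cast h1
  have h2 : ∑ g ∈ Finset.univ.filter (· ∈ Subgroup.center G), Complex.normSq (χ g) ≤
      ∑ g : G, Complex.normSq (χ g) :=
    Finset.sum_le_sum_of_subset_of_nonneg (Finset.subset_univ _)
      fun g _ _ => Complex.normSq_nonneg _
  rw [hnorm, Finset.sum_subtype _ (p := (· ∈ Subgroup.center G)) (fun g => by simp),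
    Finset.sum_congr rfl fun (a : Subgroup.center G) _ => hcen (a : G) a.2, Finset.sum_const,
    Finset.card_univ, nsmul_eq_mul, ← Nat.card_eq_fintype_card,
    ← (Subgroup.center G).card_mul_index, Nat.cast_mul] at h2
  have h3 := le_of_mul_le_mul_left h2 (by exact_mod_cast Nat.card_pos)
  exact_mod_cast h3

/-- The structure of a group with degrees `1` and `p` and a normal `p`-complement. -/
theorem two_degrees_structure [hp : Fact p.Prime]
    (hcd : ∀ χ : G → ℂ, Cfsg.IsIrrCharacter G χ → χ 1 = 1 ∨ χ 1 = p)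
    (hna : ∃ a b : G, a * b ≠ b * a) (N : Subgroup G) [hNn : N.Normal]
    (hNc : (Nat.card N).Coprime p) {k : ℕ} (hk : N.index = p ^ k) :
    (∃ B : Subgroup G, B.Normal ∧ (∀ a ∈ B, ∀ b ∈ B, a * b = b * a) ∧ B.index = p) ∨
      (Subgroup.center G).index = p ^ 3 := by
  classical
  have := Fintype.ofFinite G
  have hD : DegLe G p := fun χ hχ d hd => by
    rcases hcd χ hχ with h | h
    · rw [hd] at h
      have : d = 1 := by exact_mod_cast h
      exact this ▸ hp.out.one_le
    · rw [hd] at h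
      exact (by exact_mod_cast h : d = p).le
  -- degrees below a character divide `p`
  have hdvd : ∀ (H : Subgroup G) [H.Normal] (θ : Cfsg.IrrCharacter H) (t : ℕ),
      (θ : H → ℂ) 1 = t → t ∣ p ∧ ((orbit H θ).card * t ≤ p) := by
    intro H _ θ t ht
    have := Fintype.ofFinite H
    obtain ⟨χ, hχ⟩ := exists_irr_over H θ.2
    obtain ⟨m, hm⟩ := classInner_char_nat (isCharacter_res H (isCharacter_of_isIrr χ.2))
      (isCharacter_of_isIrr θ.2)
    have h := degree_eq_mul_card_orbit H χ.2 θ hχ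
    rw [hm, ht] at h
    have hm0 : 0 < m := Nat.pos_of_ne_zero fun h0 => hχ (by rw [hm, h0, Nat.cast_zero])
    rcases hcd χ χ.2 with e | e <;> rw [e] at h
    · have h' : 1 = m * (orbit H θ).card * t := by exact_mod_cast h
      refine ⟨(Dvd.intro_left _ h'.symm).trans (one_dvd p), le_trans ?_ hp.out.one_le⟩
      rw [h', mul_assoc]
      exact Nat.le_mul_of_pos_left _ hm0
    · have h' : p = m * (orbit H θ).card * t := by exact_mod_cast h
      refine ⟨Dvd.intro_left _ h'.symm, le_of_le_of_eq ?_ h'.symm⟩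
      rw [mul_assoc]
      exact Nat.le_mul_of_pos_left _ hm0
  -- the complement is abelian
  have := Fintype.ofFinite N
  have hN : ∀ a ∈ N, ∀ b ∈ N, a * b = b * a := by
    have h1 : ∀ θ : Cfsg.IrrCharacter N, (θ : N → ℂ) 1 = 1 := fun θ => by
      obtain ⟨t, -, ht⟩ := exists_degree_pos θ.2
      have h2 := degree_dvd_card θ.2 ht
      have h3 : t = 1 := Nat.eq_one_of_dvd_coprimes hNc h2 (hdvd N θ t ht).1
      rw [ht, h3, Nat.cast_one]
    exact fun a ha b hb => congrArg Subtype.val (comm_iff_forall_linear.mpr h1 ⟨a, ha⟩ ⟨b, hb⟩)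
  have hq : IsPGroup p (G ⧸ N) := IsPGroup.of_card (n := k) (by rw [← hk]; rfl)
  -- subgroups of small index above the complement
  have hnorm : ∀ S : Subgroup G, N ≤ S → S.index ≤ p → S = ⊤ ∨ S.Normal ∧ S.index = p := by
    intro S hNS hS
    have hcm : (S.map (QuotientGroup.mk' N)).comap (QuotientGroup.mk' N) = S := by
      rw [Subgroup.comap_map_eq, QuotientGroup.ker_mk', sup_eq_left.mpr hNS]
    have hi : (S.map (QuotientGroup.mk' N)).index = S.index := by
      rw [← Subgroup.index_comap_of_surjective _ (QuotientGroup.mk'_surjective N), hcm]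
    rcases normal_index_eq_of_le hq (hi.trans_le hS) with e | ⟨e1, e2⟩
    · refine Or.inl ?_
      rw [← hcm, e, Subgroup.comap_top]
    · exact Or.inr ⟨hcm ▸ e1.comap _, hi ▸ e2⟩
  -- commuting modulo a central complement
  have hlift : N ≤ Subgroup.center G → ∀ a b : G, (a : G ⧸ N) * b = b * a → a * b = b * a := by
    intro hNZ a b hab
    set c := a * b * a⁻¹ * b⁻¹ with hc
    have hcN : c ∈ N := by
      rw [← QuotientGroup.eq_one_iff, hc]
      simp only [QuotientGroup.mk_mul, QuotientGroup.mk_inv]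
      rw [hab]
      group
    have hcZ := Subgroup.mem_center_iff.mp (hNZ hcN)
    have hpow : ∀ j : ℕ, a ^ j * b * (a ^ j)⁻¹ = c ^ j * b := by
      intro j
      induction j with
      | zero => simp
      | succ j ih =>
        have h1 : a * c ^ j = c ^ j * a :=
          (Commute.pow_right (hcZ a : Commute a c) j).eq
        calc a ^ (j + 1) * b * (a ^ (j + 1))⁻¹ = a * (a ^ j * b * (a ^ j)⁻¹) * a⁻¹ := by
              rw [pow_succ']; group
          _ = a * c ^ j * b * a⁻¹ := by rw [ih]; group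
          _ = c ^ j * (a * b * a⁻¹) := by rw [h1]; group
          _ = c ^ j * (c * b) := by rw [hc]; group
          _ = c ^ (j + 1) * b := by rw [pow_succ]; group
    have hcj : c ^ N.index = 1 := by
      have h1 := hpow N.index
      rw [show a ^ N.index * b = b * a ^ N.index from
        (Subgroup.mem_center_iff.mp (hNZ (Subgroup.pow_index_mem N a)) b).symm,
        mul_inv_cancel_right] at h1
      exact mul_eq_right.mp h1.symm
    have hc2 : c ^ Nat.card N = 1 := congrArg Subtype.val (pow_card_eq_one' (x := (⟨c, hcN⟩ : N)))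
    have h3 := pow_gcd_eq_one.mpr ⟨hcj, hc2⟩
    rw [hk, (Nat.Coprime.pow_left k hNc.symm : Nat.Coprime (p ^ k) (Nat.card N)), pow_one] at h3
    calc a * b = c * (b * a) := by rw [hc]; group
      _ = b * a := by rw [h3, one_mul]
  have hcentral : N ≤ Subgroup.center G →
      (∃ B : Subgroup G, B.Normal ∧ (∀ a ∈ B, ∀ b ∈ B, a * b = b * a) ∧ B.index = p) ∨
        (Subgroup.center G).index = p ^ 3 := by
    intro hNZ
    obtain ⟨a, b, hab⟩ := hna
    rcases pGroup_two_degrees _ (G ⧸ N) p rfl hq (degLe_quotient hD N)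
      ⟨a, b, fun h => hab (hlift hNZ a b h)⟩ with ⟨B, hB, hBc, hBi⟩ | h
    · refine Or.inl ⟨B.comap (QuotientGroup.mk' N), hB.comap _,
        fun x hx y hy => hlift hNZ x y (hBc _ hx _ hy), ?_⟩
      rw [Subgroup.index_comap_of_surjective _ (QuotientGroup.mk'_surjective N), hBi]
    · refine Or.inr ?_
      have e : (Subgroup.center (G ⧸ N)).comap (QuotientGroup.mk' N) = Subgroup.center G := by
        ext x
        rw [Subgroup.mem_comap, Subgroup.mem_center_iff, Subgroup.mem_center_iff]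
        constructor
        · exact fun hx g => hlift hNZ g x (hx g)
        · intro hx q
          obtain ⟨g, rfl⟩ := QuotientGroup.mk'_surjective N q
          rw [← map_mul, ← map_mul, hx g]
      rw [← e, Subgroup.index_comap_of_surjective _ (QuotientGroup.mk'_surjective N), h]
  haveI : IsMulCommutative N := ⟨⟨fun a b => Subtype.ext (hN a a.2 b b.2)⟩⟩
  letI : CommGroup N := { (inferInstance : Group N) with mul_comm := mul_comm' }
  have hNstab : ∀ lam : N →* ℂˣ, N ≤ stab lam := fun lam n hn => MonoidHom.ext fun a => by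
    rw [conjHom_apply]
    exact congrArg lam (Subtype.ext (by
      show n * a * n⁻¹ = (a : G)
      rw [hN n hn a a.2, mul_inv_cancel_right]))
  rcases orbit_lemma (A := N) hp.out hN fun lam => hnorm _ (hNstab lam) (stab_index_le hD N lam) with
    ⟨S, hS, hS'⟩ | ⟨μ, hμ, hμZ⟩
  swap
  · refine hcentral fun n hn => hμZ ⟨n, hn⟩ ?_
    have h1 : μ ⟨n, hn⟩ ^ p = 1 := DFunLike.congr_fun hμ _
    have h2 : μ ⟨n, hn⟩ ^ Nat.card N = 1 := by rw [← map_pow, pow_card_eq_one', map_one]
    have h3 := pow_gcd_eq_one.mpr ⟨h1, h2⟩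
    rwa [(hNc.symm : Nat.Coprime p (Nat.card N)), pow_one] at h3
  set C := Subgroup.centralizer (N : Set G) with hC
  have hNC : N ≤ C := fun n hn a ha => hN a ha n hn
  by_cases hCtop : C = ⊤
  · exact hcentral fun n hn => Subgroup.mem_center_iff.mpr fun g =>
      ((Subgroup.mem_centralizer_iff.mp (hCtop ▸ Subgroup.mem_top g : g ∈ C)) n hn).symm
  obtain ⟨hCn, hCi⟩ : C.Normal ∧ C.index = p := by
    refine (hnorm C hNC ?_).resolve_left hCtop
    refine le_trans (Nat.le_of_dvd (Nat.pos_of_ne_zero Subgroup.index_ne_zero_of_finite)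
      (Subgroup.index_dvd_of_le hS)) ?_
    rcases hS' with e | ⟨-, e⟩
    · rw [e, Subgroup.index_top]; exact hp.out.one_le
    · exact e.le
  refine Or.inl ⟨C, hCn, ?_, hCi⟩
  have := Fintype.ofFinite C
  by_contra hCab
  obtain ⟨ψ, hψ⟩ : ∃ ψ : Cfsg.IrrCharacter C, (ψ : C → ℂ) 1 ≠ 1 := by
    by_contra hall
    push Not at hall
    exact hCab fun a ha b hb =>
      congrArg Subtype.val (comm_iff_forall_linear.mpr hall ⟨a, ha⟩ ⟨b, hb⟩)
  -- some nonlinear character of `C` is moved
  obtain ⟨t, htpos, ht⟩ := exists_degree_pos ψ.2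
  have ht2 : t = p := ((Nat.dvd_prime hp.out).mp (hdvd C ψ t ht).1).resolve_left fun e =>
    hψ (by rw [ht, e, Nat.cast_one])
  suffices hmove : ∃ ψ' : Cfsg.IrrCharacter C, (ψ' : C → ℂ) 1 = (t : ℂ) ∧ orbit C ψ' ≠ {ψ'} by
    obtain ⟨ψ', h1, h2⟩ := hmove
    have h3 := (hdvd C ψ' t h1).2
    have h4 : 2 ≤ (orbit C ψ').card := by
      by_contra hlt
      exact h2 (Finset.eq_singleton_iff_unique_mem.mpr ⟨self_mem_orbit C ψ', fun x hx =>
        Finset.card_le_one.mp (by omega) x hx ψ' (self_mem_orbit C ψ')⟩)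
    rw [ht2] at h3
    have h5 := (Nat.mul_le_mul_right p h4).trans h3
    have h6 := hp.out.pos
    omega
  by_contra hmove
  push Not at hmove
  have hfix : ∀ ψ' : Cfsg.IrrCharacter C, (ψ' : C → ℂ) 1 = (t : ℂ) → ∀ g : G,
      conjFun C g (ψ' : C → ℂ) = ψ' := by
    intro ψ' h1 g
    have h2 : conjIrr C g ψ' ∈ orbit C ψ' := (mem_orbit C).mpr ⟨g, rfl⟩
    rw [hmove ψ' h1, Finset.mem_singleton] at h2
    exact congrArg Subtype.val h2
  -- a linear character of `C` moved on `N`
  obtain ⟨g, hg⟩ : ∃ g : G, g ∉ C := by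
    by_contra h
    push Not at h
    exact hCtop (eq_top_iff.mpr fun x _ => h x)
  rw [hC, Subgroup.mem_centralizer_iff] at hg
  push Not at hg
  obtain ⟨n, hn, hng⟩ := hg
  have hcenC : ∀ m : N, (⟨(m : G), hNC m.2⟩ : C) ∈ Subgroup.center C := fun m =>
    Subgroup.mem_center_iff.mpr fun c => Subtype.ext
      ((Subgroup.mem_centralizer_iff.mp c.2 m m.2).symm)
  set e := (Subgroup.center C).index * (N.subgroupOf C).index with he
  have hmem : ∀ c : C, (((MonoidHom.transferCenterPow C c : C) ^ (N.subgroupOf C).index : C) : G) ∈ N :=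
    fun c => (Subgroup.pow_index_mem (N.subgroupOf C) _ : _ ∈ N.subgroupOf C)
  let π : C →* N :=
    { toFun := fun c => ⟨_, hmem c⟩
      map_one' := Subtype.ext (by simp)
      map_mul' := fun a b => Subtype.ext (by
        simp only [map_mul, Subgroup.coe_mul]
        rw [Commute.mul_pow (Subgroup.mem_center_iff.mp (MonoidHom.transferCenterPow C b).2 _),
          Subgroup.coe_mul]) }
  have hπ : ∀ m : N, π ⟨(m : G), hNC m.2⟩ = m ^ e := fun m => Subtype.ext (by
    show (((MonoidHom.transferCenterPow C ⟨(m : G), hNC m.2⟩ : C) ^ (N.subgroupOf C).index : C) : G) = _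
    rw [MonoidHom.transferCenterPow_apply, Subgroup.coe_pow, Subgroup.coe_pow, Subgroup.coe_pow,
      ← pow_mul, he])
  have hecop : (Nat.card N).Coprime e := by
    have h1 : (N.subgroupOf C).index ∣ N.index := Subgroup.relIndex_dvd_index_of_normal N C
    have h2 : (Subgroup.center C).index ∣ (N.subgroupOf C).index :=
      Subgroup.index_dvd_of_le fun c hc => hcenC ⟨(c : G), hc⟩
    refine Nat.Coprime.coprime_dvd_right (mul_dvd_mul (h2.trans h1) h1) ?_
    rw [hk]
    exact Nat.Coprime.mul_right (hNc.pow_right k) (hNc.pow_right k)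
  obtain ⟨φ, hφ⟩ : ∃ φ : N →* ℂˣ,
      φ ((⟨g * n * g⁻¹, hNn.conj_mem n hn g⟩ : N) ^ e) ≠ φ ((⟨n, hn⟩ : N) ^ e) := by
    have : NeZero (Monoid.exponent N : ℂ) :=
      ⟨by exact_mod_cast Monoid.exponent_ne_zero_of_finite⟩
    obtain ⟨φ, hφ⟩ := CommGroup.exists_apply_ne_one_of_hasEnoughRootsOfUnity N ℂ
      (a := ((⟨g * n * g⁻¹, hNn.conj_mem n hn g⟩ : N) ^ e) / ((⟨n, hn⟩ : N) ^ e))
      (div_ne_one.mpr fun h => by
        have h2 : g * n * g⁻¹ = n :=
          congrArg Subtype.val ((powCoprime (G := N) hecop).injective h)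
        exact hng (by
          calc n * g = (g * n * g⁻¹) * g := by rw [h2]
            _ = g * n := by group))
    exact ⟨φ, fun h => hφ (by rw [map_div, h, div_self'])⟩
  set Λ : C → ℂ := fun c => ((φ.comp π) c : ℂ) with hΛ
  have hΛc : Cfsg.IsIrrCharacter C Λ := isIrrCharacter_units_hom (φ.comp π)
  have hΛ1 : Λ 1 = 1 := by simp [hΛ]
  let ψ' : Cfsg.IrrCharacter C :=
    ⟨(ψ : C → ℂ) * Λ, isIrr_mul_linear ψ.2 (isCharacter_of_isIrr hΛc) hΛ1⟩
  have h1 := congrFun (hfix ψ ht g) ⟨n, hNC hn⟩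
  have h2 := congrFun (hfix ψ' (by show (ψ : C → ℂ) 1 * Λ 1 = _; rw [hΛ1, mul_one, ht]) g)
    ⟨n, hNC hn⟩
  rw [conjFun_apply] at h1 h2
  change (ψ : C → ℂ) _ * Λ _ = (ψ : C → ℂ) _ * Λ _ at h2
  rw [h1] at h2
  have hne : (ψ : C → ℂ) ⟨n, hNC hn⟩ ≠ 0 := fun h0 => by
    have h3 := char_center_mul ψ.2 (hcenC ⟨n, hn⟩) (⟨n, hNC hn⟩ : C)⁻¹
    rw [mul_inv_cancel, h0, zero_mul] at h3
    exact irr_one_ne_zero ψ.2 (mul_self_eq_zero.mp h3)
  refine hφ (Units.ext ?_)
  have h3 := mul_left_cancel₀ hne h2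
  rw [hΛ] at h3
  simp only [MonoidHom.comp_apply] at h3
  rw [← hπ, ← hπ]
  exact h3

end CfsgLib.CharNormal
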