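import Cfsg.Agent.S0867
import Cfsg.Agent.Lib.Char.Integral
import Cfsg.Agent.Lib.Char.Linear
import Cfsg.Agent.Lib.Char.Product
import Cfsg.Agent.Lib.Char.Generalized
import Cfsg.Agent.Lib.CharNormal.Galois
import Cfsg.Agent.Lib.CharNormal.Gallagher
import Mathlib.GroupTheory.NoncommCoprod
import Mathlib.GroupTheory.Complement

/-!
# The Glauberman correspondence for a cyclic group of operators

`Γ = G S` with `G` normal, `S = ⟨s⟩` of order prime to `|G|` and `C = C_G(s)`: every element of the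
coset `G s` is conjugate under `G` to some `c s` with `c ∈ C`, and the restriction to `C s` of the
canonical extension of an invariant character of `G` is `±` an irreducible character of `C`.
-/

set_option autoImplicit false

open scoped ComplexConjugate

namespace CfsgLib.CharNormal.CyclicGlauberman

open Cfsg CfsgLib.Char

universe u

variable {Γ : Type u} [Group Γ] [Fintype Γ]

/-- An exponent that isolates the `s`-part of `c * s`. -/
theorem exists_part_exponent {G : Subgroup Γ} {s : Γ} (hcop : (Nat.card G).Coprime (orderOf s)) :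
    ∃ k : ℕ, s ^ k = s ∧ ∀ c ∈ G, c * s = s * c → (c * s) ^ k = s := by
  obtain ⟨k, hk1, hk2⟩ := Nat.chineseRemainder hcop 0 1
  have hs : s ^ k = s := by rw [pow_eq_pow_iff_modEq.2 hk2, pow_one]
  refine ⟨k, hs, fun c hc hcs => ?_⟩
  have h0 : c ^ k = 1 := by
    obtain ⟨l, hl⟩ := (Subgroup.orderOf_dvd_natCard G hc).trans (Nat.modEq_zero_iff_dvd.1 hk1)
    rw [hl, pow_mul, pow_orderOf_eq_one, one_pow]
  rw [Commute.mul_pow hcs, h0, hs, one_mul]

/-- If `g (c s) g⁻¹ = g' (c' s) g'⁻¹` then `g'⁻¹ g` commutes with `s`. -/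
theorem commute_of_conj_eq {G : Subgroup Γ} {s : Γ} (hcop : (Nat.card G).Coprime (orderOf s))
    {g g' c c' : Γ} (hc : c ∈ G) (hc' : c' ∈ G) (h1 : c * s = s * c) (h2 : c' * s = s * c')
    (h : g * (c * s) * g⁻¹ = g' * (c' * s) * g'⁻¹) : g'⁻¹ * g * s = s * (g'⁻¹ * g) := by
  obtain ⟨k, -, hk⟩ := exists_part_exponent hcop
  have h3 : g * s * g⁻¹ = g' * s * g'⁻¹ := by
    have := congrArg (· ^ k) h
    simp only [conj_pow, hk c hc h1, hk c' hc' h2] at this
    exact this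
  calc g'⁻¹ * g * s = g'⁻¹ * (g * s * g⁻¹) * g := by group
    _ = s * (g'⁻¹ * g) := by rw [h3]; group

/-- The fixed points of `s` in `H`. -/
abbrev fix (H : Subgroup Γ) (s : Γ) : Subgroup Γ := H ⊓ Subgroup.centralizer ({s} : Set Γ)

theorem mem_fix {H : Subgroup Γ} {s c : Γ} : c ∈ fix H s ↔ c ∈ H ∧ c * s = s * c := by
  simp [Subgroup.mem_centralizer_singleton_iff]

section Coset

variable {H : Subgroup Γ} {s : Γ} (hcop : (Nat.card H).Coprime (orderOf s))
  (hn : ∀ g ∈ H, s * g * s⁻¹ ∈ H)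

/-- `(g, c) ↦ g c (s g⁻¹ s⁻¹)`. -/
def conjMap (x : H × fix H s) : H :=
  ⟨(x.1 : Γ) * (x.2 : Γ) * (s * (x.1 : Γ)⁻¹ * s⁻¹),
    H.mul_mem (H.mul_mem x.1.2 (mem_fix.1 x.2.2).1) (hn _ (H.inv_mem x.1.2))⟩

theorem coe_conjMap_mul (x : H × fix H s) :
    (conjMap hn x : Γ) * s = (x.1 : Γ) * ((x.2 : Γ) * s) * (x.1 : Γ)⁻¹ := by
  show (x.1 : Γ) * (x.2 : Γ) * (s * (x.1 : Γ)⁻¹ * s⁻¹) * s = _
  group

include hcop

theorem card_fiber [DecidableEq H] [Fintype H] [Fintype (fix H s)] (y : H) :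
    (Finset.univ.filter fun x => conjMap hn x = y).card = Nat.card (fix H s) := by
  classical
  have hle : ∀ z : H, (Finset.univ.filter fun x => conjMap hn x = z).card ≤ Fintype.card (fix H s) := by
    intro z
    rcases (Finset.univ.filter fun x => conjMap hn x = z).eq_empty_or_nonempty with h | ⟨x₀, hx₀⟩
    · simp [h]
    have hmem : ∀ x ∈ (Finset.univ.filter fun x => conjMap hn x = z),
        (x₀.1 : Γ)⁻¹ * x.1 ∈ fix H s := fun x hx => by
      have e : (x.1 : Γ) * ((x.2 : Γ) * s) * (x.1 : Γ)⁻¹ = x₀.1 * ((x₀.2 : Γ) * s) * (x₀.1 : Γ)⁻¹ := by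
        rw [← coe_conjMap_mul hn, ← coe_conjMap_mul hn, (Finset.mem_filter.1 hx).2,
          (Finset.mem_filter.1 hx₀).2]
      exact mem_fix.2 ⟨H.mul_mem (H.inv_mem x₀.1.2) x.1.2,
        commute_of_conj_eq hcop (mem_fix.1 x.2.2).1 (mem_fix.1 x₀.2.2).1 (mem_fix.1 x.2.2).2
          (mem_fix.1 x₀.2.2).2 e⟩
    calc _ = (Finset.univ.filter fun x => conjMap hn x = z).attach.card := Finset.card_attach.symm
      _ ≤ (Finset.univ : Finset (fix H s)).card := by
        refine Finset.card_le_card_of_injOn (fun x => ⟨_, hmem x.1 x.2⟩) (fun _ _ => Finset.mem_univ _) ?_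
        intro a _ b _ hab
        have h1 : a.1.1 = b.1.1 := Subtype.ext (mul_left_cancel (congrArg Subtype.val hab))
        have h2 : conjMap hn a.1 = conjMap hn b.1 :=
          (Finset.mem_filter.1 a.2).2.trans (Finset.mem_filter.1 b.2).2.symm
        have h3 := congrArg (fun v : H => (v : Γ)) h2
        simp only [conjMap, h1, mul_left_inj, mul_right_inj] at h3
        exact Subtype.ext (Prod.ext h1 (Subtype.ext h3))
      _ = _ := Finset.card_univ
  have htot : ∑ z : H, (Finset.univ.filter fun x => conjMap hn x = z).card =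
      Fintype.card H * Fintype.card (fix H s) := by
    rw [← Finset.card_eq_sum_card_fiberwise (fun _ _ => Finset.mem_univ _), Finset.card_univ, Fintype.card_prod]
  rw [Nat.card_eq_fintype_card]
  refine le_antisymm (hle y) (not_lt.1 fun hlt => ?_)
  have := Finset.sum_lt_sum (s := Finset.univ) (fun z _ => hle z) ⟨y, Finset.mem_univ _, hlt⟩
  rw [htot, Finset.sum_const, Finset.card_univ, smul_eq_mul] at this
  exact lt_irrefl _ this

include hn in
/-- A function invariant under conjugation by `H`, summed over the coset `H s`. -/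
theorem sum_coset [Fintype H] [Fintype (fix H s)] {F : Γ → ℂ}
    (hF : ∀ g ∈ H, ∀ x, F (g * x * g⁻¹) = F x) :
    (Nat.card (fix H s) : ℂ) * ∑ g : H, F (g * s) = (Nat.card H : ℂ) * ∑ c : fix H s, F (c * s) := by
  classical
  have h1 : ∑ x : H × fix H s, F (conjMap hn x * s) = (Nat.card H : ℂ) * ∑ c : fix H s, F (c * s) := by
    simp only [coe_conjMap_mul, fun x : H × fix H s => hF x.1 x.1.2, Fintype.sum_prod_type]
    rw [Finset.sum_const, Finset.card_univ, Nat.card_eq_fintype_card, nsmul_eq_mul]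
  rw [← h1, ← Finset.sum_fiberwise Finset.univ (conjMap hn) fun x => F (conjMap hn x * s), Finset.mul_sum]
  refine Finset.sum_congr rfl fun y _ => ?_
  rw [Finset.sum_congr rfl (fun x hx => by rw [(Finset.mem_filter.1 hx).2]) (g := fun _ => F (y * s)),
    Finset.sum_const, card_fiber hcop hn, nsmul_eq_mul]

include hn

/-- Every element of `H s` is conjugate under `H` to some `c s`. -/
theorem exists_conj_coset (y : Γ) (hy : y ∈ H) :
    ∃ g ∈ H, ∃ c ∈ fix H s, y * s = g * (c * s) * g⁻¹ := by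
  classical
  haveI := Fintype.ofFinite H
  haveI := Fintype.ofFinite (fix H s)
  have h := card_fiber hcop hn ⟨y, hy⟩
  obtain ⟨x, hx⟩ := Finset.card_pos.1 (h ▸ Nat.card_pos : 0 < (Finset.univ.filter fun x => conjMap hn x = ⟨y, hy⟩).card)
  refine ⟨x.1, x.1.2, x.2, x.2.2, ?_⟩
  rw [← coe_conjMap_mul hn, (Finset.mem_filter.1 hx).2]

end Coset

/-- `Γ`-conjugation invariance of a product of two class functions. -/
theorem mul_conj_invariant {f f' : Γ → ℂ} (hf : Cfsg.IsClassFunction Γ f) (hf' : Cfsg.IsClassFunction Γ f')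
    (g x : Γ) : f (g * x * g⁻¹) * conj (f' (g * x * g⁻¹)) = f x * conj (f' x) := by
  rw [hf, hf']

/-- Characters extending distinct irreducible characters of `N` are orthogonal on each coset. -/
theorem sum_coset_eq_zero {N : Subgroup Γ} [N.Normal] [Fintype N] (hcomm : ∀ a b : Γ ⧸ N, a * b = b * a)
    {χ χ' : Γ → ℂ} (hχ : Cfsg.IsCharacter Γ χ) (hres : Cfsg.IsIrrCharacter N (fun n : N => χ n))
    (hχ' : Cfsg.IsIrrCharacter Γ χ') (hne : (fun n : N => χ n) ≠ fun n : N => χ' n) (x : Γ) :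
    ∑ n : N, χ (x * n) * conj (χ' (x * n)) = 0 := by
  classical
  haveI := Fintype.ofFinite (Γ ⧸ N)
  set F : Γ → ℂ := fun g => χ g * conj (χ' g) with hF
  have hzero : cosetAvg N F = 0 := by
    refine classFun_eq_zero (fun g h => by rw [hcomm h g, mul_inv_cancel_right]) fun β hβ => ?_
    rw [← classInner_conj_symm, ← classInner_mul_comp_mk' N F β]
    have hirr : Cfsg.IsIrrCharacter Γ (χ * ((fun q => conj (β q)) ∘ QuotientGroup.mk)) :=
      isIrr_mul_comp_mk' N hχ hres (isIrr_of_linear (isCharacter_conj (isCharacter_of_isIrr hβ))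
        (by rw [irr_one_eq_one_of_comm hcomm hβ, map_one]))
    have e : Cfsg.classInner F (β ∘ QuotientGroup.mk) =
        Cfsg.classInner (χ * ((fun q => conj (β q)) ∘ QuotientGroup.mk)) χ' := by
      simp only [classInner_def, hF, Pi.mul_apply, Function.comp_apply]
      congr 1
      exact Finset.sum_congr rfl fun g _ => by ring
    rw [e, classInner_irr_ne hirr hχ' fun he => hne (funext fun n => ?_), map_zero]
    have h := congrFun he n
    simp only [Pi.mul_apply, Function.comp_apply, (QuotientGroup.eq_one_iff (n : Γ)).2 n.2,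
      irr_one_eq_one_of_comm hcomm hβ, map_one, mul_one] at h
    exact h
  have h := congrFun hzero (x : Γ ⧸ N)
  rw [cosetAvg_mk, Pi.zero_apply, mul_eq_zero] at h
  exact h.resolve_left (inv_ne_zero card_ne_zero')

theorem detOrder_ringEquiv (σ : ℂ ≃+* ℂ) {χ : Γ → ℂ} (hχ : Cfsg.IsCharacter Γ χ) :
    Cfsg.detOrder (σ ∘ χ) = Cfsg.detOrder χ := by
  obtain ⟨d, ρ, rfl⟩ := hχ
  let ρ' : Representation ℂ Γ (Fin d → ℂ) :=
    (Matrix.toLinAlgEquiv' : Matrix (Fin d) (Fin d) ℂ ≃ₐ[ℂ] _).toRingEquiv.toMonoidHom.comp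
      ((σ : ℂ →+* ℂ).mapMatrix.toMonoidHom.comp
        ((LinearMap.toMatrixAlgEquiv' : _ ≃ₐ[ℂ] Matrix (Fin d) (Fin d) ℂ).toRingEquiv.toMonoidHom.comp ρ))
  have hchar : ρ'.character = σ ∘ ρ.character := funext fun g => by
    symm
    show σ (LinearMap.trace ℂ _ (ρ g)) = LinearMap.trace ℂ _ (ρ' g)
    rw [LinearMap.trace_eq_matrix_trace ℂ (Pi.basisFun ℂ (Fin d)) (ρ g),
      LinearMap.trace_eq_matrix_trace ℂ (Pi.basisFun ℂ (Fin d)) (ρ' g), LinearMap.toMatrix_eq_toMatrix']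
    show σ (Matrix.trace (LinearMap.toMatrix' (ρ g))) =
      Matrix.trace (LinearMap.toMatrix' (Matrix.toLin' ((LinearMap.toMatrix' (ρ g)).map σ)))
    rw [LinearMap.toMatrix'_toLin', Matrix.trace, Matrix.trace, map_sum]
    rfl
  have hdet : ∀ g, Cfsg.detChar ρ'.character g = σ (Cfsg.detChar ρ.character g) := fun g => by
    rw [detChar_eq, detChar_eq, ← LinearMap.det_toMatrix' (f := ρ' g), ← LinearMap.det_toMatrix' (f := ρ g)]
    show (LinearMap.toMatrix' (Matrix.toLin' ((LinearMap.toMatrix' (ρ g)).map σ))).det = _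
    rw [LinearMap.toMatrix'_toLin']
    exact ((σ : ℂ →+* ℂ).map_det _).symm
  rw [← hchar, Cfsg.detOrder, Cfsg.detOrder, funext hdet]
  exact orderOf_injective ((σ : ℂ →+* ℂ).toMonoidHom.compLeft Γ)
    (fun a b h => funext fun g => σ.injective (congrFun h g)) _

/-- The canonical extension is characterised by the coprimality of its determinantal order. -/
theorem ext_unique {N : Subgroup Γ} [hN : N.Normal] {ϑ : N → ℂ} (hϑ : Cfsg.IsIrrCharacter N ϑ)
    (hcop : (Nat.card N).Coprime N.index) {χ χ' : Γ → ℂ} (hχ : Cfsg.IsIrrCharacter Γ χ)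
    (hχ' : Cfsg.IsIrrCharacter Γ χ') (h : ∀ n : N, χ n = ϑ n) (h' : ∀ n : N, χ' n = ϑ n)
    (hd : (Cfsg.detOrder χ).Coprime N.index) (hd' : (Cfsg.detOrder χ').Coprime N.index) : χ = χ' := by
  haveI := Fintype.ofFinite N
  obtain ⟨d, hd1⟩ := exists_degree (isCharacter_of_isIrr hϑ)
  obtain ⟨k, ρ, -, hρ⟩ := id hϑ
  have hinv : ∀ (g : Γ) (n : N), ϑ ⟨g * n * g⁻¹, hN.conj_mem (n : Γ) n.2 g⟩ = ϑ n := fun g n => by
    rw [← h, ← h]; exact isClassFunction_of_isIrr hχ (n : Γ) g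
  have hdvd : Cfsg.detOrder ϑ ∣ Nat.card N := by
    rw [Cfsg.detOrder, ← hρ, detChar_eq_detHom]
    show orderOf (linFun (detHom ρ)) ∣ _
    rw [orderOf_linFun]
    exact orderOf_dvd_of_pow_eq_one (MonoidHom.ext fun x => by
      rw [MonoidHom.pow_apply, ← map_pow, pow_card_eq_one', map_one, MonoidHom.one_apply])
  obtain ⟨χ₀, -, huniq⟩ := Cfsg.Agent.S0867.result N ϑ hϑ hinv d hd1
    (Nat.Coprime.mul_right (hcop.symm.coprime_dvd_right hdvd)
      (hcop.symm.coprime_dvd_right (degree_dvd_card hϑ hd1)))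
  rw [huniq χ hχ h hd.symm, huniq χ' hχ' h' hd'.symm]

theorem exists_ext {N : Subgroup Γ} [hN : N.Normal] {ϑ : N → ℂ} (hϑ : Cfsg.IsIrrCharacter N ϑ)
    (hcop : (Nat.card N).Coprime N.index)
    (hinv : ∀ (g : Γ) (n : N), ϑ ⟨g * n * g⁻¹, hN.conj_mem (n : Γ) n.2 g⟩ = ϑ n) :
    ∃ χ : Γ → ℂ, Cfsg.IsIrrCharacter Γ χ ∧ (∀ n : N, χ n = ϑ n) ∧ (Cfsg.detOrder χ).Coprime N.index := by
  haveI := Fintype.ofFinite N
  obtain ⟨d, hd1⟩ := exists_degree (isCharacter_of_isIrr hϑ)
  obtain ⟨k, ρ, -, hρ⟩ := id hϑ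
  have hdvd : Cfsg.detOrder ϑ ∣ Nat.card N := by
    rw [Cfsg.detOrder, ← hρ, detChar_eq_detHom]
    show orderOf (linFun (detHom ρ)) ∣ _
    rw [orderOf_linFun]
    exact orderOf_dvd_of_pow_eq_one (MonoidHom.ext fun x => by
      rw [MonoidHom.pow_apply, ← map_pow, pow_card_eq_one', map_one, MonoidHom.one_apply])
  obtain ⟨χ₀, ⟨h1, h2, h3⟩, -⟩ := Cfsg.Agent.S0867.result N ϑ hϑ hinv d hd1
    (Nat.Coprime.mul_right (hcop.symm.coprime_dvd_right hdvd)
      (hcop.symm.coprime_dvd_right (degree_dvd_card hϑ hd1)))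
  exact ⟨χ₀, h1, h2, h3 ▸ hcop.coprime_dvd_left hdvd⟩

section Setting

variable (G : Subgroup Γ) [G.Normal] [Fintype G] (s : Γ)

/-- `χ` extends an irreducible character of `G` and has determinantal order prime to the index. -/
structure IsCanonical (χ : Γ → ℂ) : Prop where
  irr : Cfsg.IsIrrCharacter Γ χ
  res : Cfsg.IsIrrCharacter G (fun g : G => χ g)
  det : (Cfsg.detOrder χ).Coprime G.index

/-- The restriction to the coset of `s`. -/
def twisted (C : Subgroup Γ) (χ : Γ → ℂ) : C → ℂ := fun c => χ (c * s)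

variable {G s} (hcop : (Nat.card G).Coprime G.index) (hord : orderOf s = G.index)

include hcop hord

theorem galois_invariant {χ : Γ → ℂ} (hχ : IsCanonical G χ) {k : ℕ} (hk : k.Coprime (orderOf s)) :
    ∃ σ : ℂ ≃+* ℂ, σ ∘ χ = χ ∧
      ∀ c ∈ G, c * s = s * c → σ (χ (c * s)) = χ (c * s ^ k) := by
  obtain ⟨k', hk1, hk2⟩ := Nat.chineseRemainder hcop 1 k
  have hcard : Nat.card Γ = Nat.card G * G.index := (Subgroup.card_mul_index G).symm
  have hco : k'.Coprime (Nat.card Γ) := by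
    rw [hcard]
    refine Nat.Coprime.mul_right ?_ ?_
    · rw [Nat.Coprime, hk1.gcd_eq, Nat.gcd_one_left]
    · rw [Nat.Coprime, hk2.gcd_eq]; exact hord ▸ hk
  obtain ⟨σ, hσ⟩ := exists_ringEquiv_root_pow (Nat.card_pos (α := Γ)).ne' hco
  have hval : ∀ x, σ (χ x) = χ (x ^ k') := fun x =>
    ringEquiv_char_apply hσ (isCharacter_of_isIrr hχ.irr) (orderOf_dvd_natCard x)
  have hfix : ∀ g ∈ G, g ^ k' = g := fun g hg => by
    conv_rhs => rw [← pow_one g]
    exact pow_eq_pow_iff_modEq.2 (hk1.of_dvd (Subgroup.orderOf_dvd_natCard G hg))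
  refine ⟨σ, ?_, fun c hc hcs => ?_⟩
  · refine ext_unique hχ.res hcop (isIrr_ringEquiv σ hχ.irr) hχ.irr (fun g => ?_) (fun g => rfl) ?_ hχ.det
    · rw [Function.comp_apply, hval, hfix g g.2]
    · rw [detOrder_ringEquiv σ (isCharacter_of_isIrr hχ.irr)]; exact hχ.det
  · rw [hval, Commute.mul_pow hcs, hfix c hc, pow_eq_pow_iff_modEq.2 (hord ▸ hk2)]

theorem apply_coprime_pow {χ : Γ → ℂ} (hχ : IsCanonical G χ) {k : ℕ} (hk : k.Coprime (orderOf s))
    {c : Γ} (hc : c ∈ G) (hcs : c * s = s * c) : ∃ σ : ℂ ≃+* ℂ, σ ∘ χ = χ ∧ χ (c * s ^ k) = σ (χ (c * s)) := by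
  obtain ⟨σ, h1, h2⟩ := galois_invariant hcop hord hχ hk
  exact ⟨σ, h1, (h2 c hc hcs).symm⟩

theorem value_pow {χ : Γ → ℂ} (hχ : IsCanonical G χ) {k : ℕ} (hk : k.Coprime (orderOf s))
    {c : Γ} (hc : c ∈ G) (hcs : c * s = s * c) : χ (c * s ^ k) = χ (c * s) := by
  obtain ⟨σ, h1, h2⟩ := apply_coprime_pow hcop hord hχ hk hc hcs
  rw [h2]; exact congrFun h1 (c * s)

variable (hsup : G ⊔ Subgroup.zpowers s = ⊤)

include hsup

omit hcop hord [Fintype G] in
theorem quotient_comm (a b : Γ ⧸ G) : a * b = b * a := by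
  have hgen : ∀ q : Γ ⧸ G, q ∈ Subgroup.zpowers (s : Γ ⧸ G) := fun q => by
    obtain ⟨x, rfl⟩ := QuotientGroup.mk_surjective q
    have hle : G ⊔ Subgroup.zpowers s ≤ (Subgroup.zpowers (s : Γ ⧸ G)).comap (QuotientGroup.mk' G) := by
      refine sup_le (fun g hg => ?_) ((Subgroup.zpowers_le).2 (Subgroup.mem_zpowers _))
      rw [Subgroup.mem_comap, QuotientGroup.mk'_apply, (QuotientGroup.eq_one_iff g).2 hg]
      exact Subgroup.one_mem _
    exact hle (hsup ▸ Subgroup.mem_top x)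
  obtain ⟨i, rfl⟩ := hgen a
  obtain ⟨j, rfl⟩ := hgen b
  exact (Commute.zpow_zpow_self _ i j).eq

theorem classInner_twisted [Fintype (fix G s)] {χ χ' : Γ → ℂ} (hχ : IsCanonical G χ) (hχ' : IsCanonical G χ') :
    Cfsg.classInner (twisted s (fix G s) χ) (twisted s (fix G s) χ') =
      (Nat.card G : ℂ)⁻¹ * ∑ g : G, χ (s * g) * conj (χ' (s * g)) := by
  have h := sum_coset (hord.symm ▸ hcop : (Nat.card G).Coprime (orderOf s))
    (fun g hg => (inferInstance : G.Normal).conj_mem g hg s) (F := fun x => χ x * conj (χ' x))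
    (fun g _ x => mul_conj_invariant (isClassFunction_of_isIrr hχ.irr) (isClassFunction_of_isIrr hχ'.irr) g x)
  have e : ∀ g : G, χ (s * g) * conj (χ' (s * g)) = χ (g * s) * conj (χ' (g * s)) := fun g => by
    rw [char_mul_comm' (isCharacter_of_isIrr hχ.irr), char_mul_comm' (isCharacter_of_isIrr hχ'.irr)]
  simp only [e, classInner_def, twisted]
  rw [eq_inv_mul_iff_mul_eq₀ card_ne_zero', ← mul_assoc, mul_comm (Nat.card G : ℂ), mul_assoc, ← h,
    inv_mul_cancel_left₀ card_ne_zero']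

theorem classInner_twisted_ne [Fintype (fix G s)] {χ χ' : Γ → ℂ} (hχ : IsCanonical G χ)
    (hχ' : IsCanonical G χ') (hne : (fun g : G => χ g) ≠ fun g : G => χ' g) :
    Cfsg.classInner (twisted s (fix G s) χ) (twisted s (fix G s) χ') = 0 := by
  rw [classInner_twisted hcop hord hsup hχ hχ',
    sum_coset_eq_zero (quotient_comm hsup) (isCharacter_of_isIrr hχ.irr) hχ.res hχ'.irr hne, mul_zero]

theorem classInner_twisted_self [Fintype (fix G s)] {χ : Γ → ℂ} (hχ : IsCanonical G χ) :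
    Cfsg.classInner (twisted s (fix G s) χ) (twisted s (fix G s) χ) = 1 := by
  rw [classInner_twisted hcop hord hsup hχ hχ, sum_normSq_coset G (isCharacter_of_isIrr hχ.irr) hχ.res,
    inv_mul_cancel₀ card_ne_zero']

omit hsup

theorem exists_intersection_character [Fintype (fix G s)] {χ : Γ → ℂ} (hχ : IsCanonical G χ)
    {β : fix G s → ℂ} (hβ : Cfsg.IsIrrCharacter (fix G s) β) :
    Cfsg.IsCharacter (Subgroup.zpowers s) fun x => Cfsg.classInner (fun c : fix G s => χ (c * x)) β := by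
  haveI := Fintype.ofFinite (Subgroup.zpowers s)
  have hcomm : ∀ a b : Subgroup.zpowers s, a * b = b * a := fun a b => by
    obtain ⟨i, hi⟩ := a.2
    obtain ⟨j, hj⟩ := b.2
    exact Subtype.ext (show (a : Γ) * b = b * a by rw [← hi, ← hj]; exact (Commute.zpow_zpow_self s i j).eq)
  refine isCharacter_of_classInner_nat (fun g h => ?_) fun l hl => ?_
  · rw [hcomm h g, mul_inv_cancel_right]
  · let f : fix G s × Subgroup.zpowers s →* Γ :=
      MonoidHom.noncommCoprod (fix G s).subtype (Subgroup.zpowers s).subtype fun c x => by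
        obtain ⟨i, hi⟩ := x.2
        show Commute (c : Γ) (x : Γ)
        rw [← hi]
        exact Commute.zpow_right ((mem_fix.1 c.2).2 : Commute (c : Γ) s) i
    obtain ⟨m, hm⟩ := classInner_char_nat (isCharacter_comp (isCharacter_of_isIrr hχ.irr) f)
      (isCharacter_of_isIrr (isIrr_prod hβ hl))
    refine ⟨m, ?_⟩
    rw [← hm]
    simp only [classInner_def, Nat.card_prod, Nat.cast_mul, mul_inv, Fintype.sum_prod_type, Function.comp_apply]
    rw [Finset.sum_comm, Finset.mul_sum, Finset.mul_sum]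
    refine Finset.sum_congr rfl fun x _ => ?_
    rw [Finset.mul_sum, Finset.sum_mul, Finset.mul_sum, Finset.mul_sum]
    refine Finset.sum_congr rfl fun c _ => ?_
    simp only [map_mul, f, MonoidHom.noncommCoprod_apply, Subgroup.coe_subtype]
    ring

theorem isGen_twisted [Fintype (fix G s)] {χ : Γ → ℂ} (hχ : IsCanonical G χ) :
    Cfsg.IsGeneralizedCharacter (fix G s) (twisted s (fix G s) χ) := by
  refine isGen_of_classInner_int (fun g h => ?_) fun β hβ => ?_
  · show χ ((h * g * h⁻¹ : fix G s) * s) = χ (g * s)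
    rw [← isClassFunction_of_isIrr hχ.irr ((g : Γ) * s) (h : Γ)]
    refine congrArg χ ?_
    push_cast
    have h1 : ((h : Γ))⁻¹ * s = s * (h : Γ)⁻¹ := (Commute.inv_left (mem_fix.1 h.2).2).eq
    rw [mul_assoc ((h : Γ) * g), h1]
    group
  · have hΦ := exists_intersection_character hcop hord hχ hβ
    obtain ⟨m, hm⟩ := exists_int_of_forall_coprime hΦ ⟨s, Subgroup.mem_zpowers s⟩ fun k hk => by
      refine congrArg (fun f : fix G s → ℂ => Cfsg.classInner f β) (funext fun c => ?_)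
      show χ ((c : Γ) * ((⟨s, _⟩ : Subgroup.zpowers s) ^ k : Subgroup.zpowers s)) = χ (c * s)
      rw [SubmonoidClass.coe_pow]
      exact value_pow hcop hord hχ (Subgroup.orderOf_mk s _ ▸ hk) (mem_fix.1 c.2).1 (mem_fix.1 c.2).2
    exact ⟨m, hm⟩

theorem classInner_res_ne_zero [Fintype (fix G s)] {χ : Γ → ℂ} (hχ : IsCanonical G χ)
    {β : fix G s → ℂ} (hβ : Cfsg.IsIrrCharacter (fix G s) β)
    (h : Cfsg.classInner (twisted s (fix G s) χ) β ≠ 0) :
    Cfsg.classInner (fun c : fix G s => χ c) β ≠ 0 := by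
  intro h0
  have hΦ := exists_intersection_character hcop hord hχ hβ
  refine h ?_
  have := norm_char_le hΦ ⟨s, Subgroup.mem_zpowers s⟩
  simp only [OneMemClass.coe_one, mul_one, h0, Complex.zero_re, norm_le_zero_iff] at this
  exact this

include hsup

theorem exists_pm [Fintype (fix G s)] {χ : Γ → ℂ} (hχ : IsCanonical G χ) :
    ∃ (β : Cfsg.IrrCharacter (fix G s)) (ε : ℤ), (ε = 1 ∨ ε = -1) ∧
      ∀ c : fix G s, χ (c * s) = (ε : ℂ) * (β : fix G s → ℂ) c := by
  rcases gen_norm_one (isGen_twisted hcop hord hχ) (classInner_twisted_self hcop hord hsup hχ) with h | h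
  · exact ⟨⟨_, h⟩, 1, Or.inl rfl, fun c => by simp [twisted]⟩
  · exact ⟨⟨_, h⟩, -1, Or.inr rfl, fun c => by simp [twisted]⟩

omit hsup

theorem card_invariant_classes {S : Subgroup Γ} (hS : S = Subgroup.zpowers s) :
    Nat.card {K : ConjClasses G // ∀ t ∈ S, ∀ g g' : G, (g' : Γ) = t * g * t⁻¹ →
        ConjClasses.mk g = K → ConjClasses.mk g' = K} = Nat.card (ConjClasses (fix G s)) := by
  classical
  have hcop' : ∀ H : Subgroup Γ, H ≤ G → (Nat.card H).Coprime (orderOf s) := fun H hH =>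
    (hord.symm ▸ hcop : (Nat.card G).Coprime (orderOf s)).coprime_dvd_left (Subgroup.card_dvd_of_le hH)
  let ι : fix G s →* G := Subgroup.inclusion inf_le_left
  have hcomm : ∀ (c : fix G s), ∀ t ∈ S, t * (c : Γ) * t⁻¹ = c := fun c t ht => by
    rw [hS] at ht
    obtain ⟨i, rfl⟩ := ht
    rw [(Commute.zpow_right (mem_fix.1 c.2).2 i).symm.eq, mul_inv_cancel_right]
  have hmem : ∀ K : ConjClasses (fix G s), ∀ t ∈ S, ∀ g g' : G, (g' : Γ) = t * g * t⁻¹ →
      ConjClasses.mk g = ConjClasses.map ι K → ConjClasses.mk g' = ConjClasses.map ι K := by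
    intro K t ht g g' hg' hg
    obtain ⟨c, rfl⟩ := ConjClasses.mk_surjective K
    obtain ⟨a, ha⟩ := isConj_iff.1 (ConjClasses.mk_eq_mk_iff_isConj.1 hg)
    refine ConjClasses.mk_eq_mk_iff_isConj.2 (isConj_iff.2
      ⟨⟨t * a * t⁻¹, (inferInstance : G.Normal).conj_mem a a.2 t⟩, Subtype.ext ?_⟩)
    have ha' : (a : Γ) * g * (a : Γ)⁻¹ = c := congrArg Subtype.val ha
    show t * a * t⁻¹ * (g' : Γ) * (t * a * t⁻¹)⁻¹ = c
    rw [hg']
    calc _ = t * ((a : Γ) * g * (a : Γ)⁻¹) * t⁻¹ := by group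
      _ = _ := by rw [ha']; exact hcomm c t ht
  refine (Nat.card_congr (Equiv.ofBijective (fun K => ⟨_, hmem K⟩) ⟨fun K K' hKK => ?_, fun K => ?_⟩)).symm
  · obtain ⟨x, rfl⟩ := ConjClasses.mk_surjective K
    obtain ⟨y, rfl⟩ := ConjClasses.mk_surjective K'
    obtain ⟨a, ha⟩ := isConj_iff.1 (ConjClasses.mk_eq_mk_iff_isConj.1 (congrArg Subtype.val hKK))
    have ha' : (a : Γ) * x * (a : Γ)⁻¹ = y := congrArg Subtype.val ha
    set H : Subgroup Γ := G ⊓ Subgroup.centralizer ({(x : Γ)} : Set Γ) with hH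
    have hmemH : ∀ z : Γ, z ∈ H ↔ z ∈ G ∧ Commute z (x : Γ) := fun z => by
      simp only [hH, Subgroup.mem_inf, Subgroup.mem_centralizer_singleton_iff]; rfl
    have hsx : Commute s (x : Γ) := ((mem_fix.1 x.2).2 : Commute (x : Γ) s).symm
    have hnH : ∀ z ∈ H, s * z * s⁻¹ ∈ H := fun z hz => by
      rw [hmemH] at hz ⊢
      exact ⟨(inferInstance : G.Normal).conj_mem z hz.1 s, (hsx.mul_left hz.2).mul_left hsx.inv_left⟩
    have hy : (a : Γ)⁻¹ * s * a * s⁻¹ ∈ H := by
      rw [hmemH]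
      refine ⟨?_, ?_⟩
      · rw [mul_assoc, mul_assoc, ← mul_assoc s]
        exact G.mul_mem (G.inv_mem a.2) ((inferInstance : G.Normal).conj_mem a a.2 s)
      · have h1 : Commute ((a : Γ)⁻¹ * s * a) (x : Γ) := by
          show (a : Γ)⁻¹ * s * a * x = x * ((a : Γ)⁻¹ * s * a)
          have hys : (y : Γ) * s = s * y := (mem_fix.1 y.2).2
          calc (a : Γ)⁻¹ * s * a * x = (a : Γ)⁻¹ * (s * ((a : Γ) * x * (a : Γ)⁻¹)) * a := by group
            _ = (a : Γ)⁻¹ * (((a : Γ) * x * (a : Γ)⁻¹) * s) * a := by rw [ha', hys]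
            _ = _ := by group
        exact h1.mul_left hsx.inv_left
    obtain ⟨h, hh, c, hc, e⟩ := exists_conj_coset (hcop' H inf_le_left) hnH _ hy
    rw [inv_mul_cancel_right] at e
    have e' : (a : Γ)⁻¹ * ((1 : Γ) * s) * ((a : Γ)⁻¹)⁻¹ = h * (c * s) * h⁻¹ := by
      rw [one_mul, inv_inv]; exact e
    have h1 := commute_of_conj_eq (hcop' G le_rfl) G.one_mem ((hmemH c).1 (mem_fix.1 hc).1).1
      (by rw [one_mul, mul_one]) (mem_fix.1 hc).2 e'
    have h2 : Commute ((a : Γ) * h) s := by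
      have := (show Commute (h⁻¹ * (a : Γ)⁻¹) s from h1).inv_left
      simpa using this
    obtain ⟨hhG, hhx⟩ := (hmemH h).1 hh
    refine ConjClasses.mk_eq_mk_iff_isConj.2 (isConj_iff.2
      ⟨⟨(a : Γ) * h, mem_fix.2 ⟨G.mul_mem a.2 hhG, h2.eq⟩⟩, Subtype.ext ?_⟩)
    show (a : Γ) * h * x * ((a : Γ) * h)⁻¹ = y
    rw [mul_assoc (a : Γ), hhx.eq, ← ha']
    group
  · obtain ⟨g, hg⟩ := ConjClasses.mk_surjective K.1
    have hsS : s ∈ S := hS ▸ Subgroup.mem_zpowers s
    have h1 := K.2 s hsS g ⟨s * g * s⁻¹, (inferInstance : G.Normal).conj_mem g g.2 s⟩ rfl hg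
    rw [← hg, ConjClasses.mk_eq_mk_iff_isConj, isConj_iff] at h1
    obtain ⟨a, ha⟩ := h1
    have ha' : (a : Γ) * (s * g * s⁻¹) * (a : Γ)⁻¹ = g := congrArg Subtype.val ha
    obtain ⟨h, hh, c, hc, e⟩ := exists_conj_coset (hcop' G le_rfl)
      (fun z hz => (inferInstance : G.Normal).conj_mem z hz s) (a : Γ) a.2
    obtain ⟨k, -, hk⟩ := exists_part_exponent (hcop' G le_rfl)
    have h2 : Commute ((a : Γ) * s) (g : Γ) := by
      show (a : Γ) * s * g = g * (a * s)
      calc (a : Γ) * s * g = ((a : Γ) * (s * g * s⁻¹) * (a : Γ)⁻¹) * (a * s) := by group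
        _ = _ := by rw [ha']
    have h3 : Commute (h * s * h⁻¹) (g : Γ) := by
      have := h2.pow_left k
      rwa [e, conj_pow, hk c (mem_fix.1 hc).1 (mem_fix.1 hc).2] at this
    have h4 : h⁻¹ * g * h ∈ fix G s := mem_fix.2 ⟨by
      simpa using (inferInstance : G.Normal).conj_mem g g.2 h⁻¹, by
      calc h⁻¹ * g * h * s = h⁻¹ * (g * (h * s * h⁻¹)) * h := by group
        _ = h⁻¹ * ((h * s * h⁻¹) * g) * h := by rw [h3.eq]
        _ = _ := by group⟩
    refine ⟨ConjClasses.mk ⟨_, h4⟩, Subtype.ext ?_⟩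
    rw [← hg]
    exact ConjClasses.mk_eq_mk_iff_isConj.2 (isConj_iff.2 ⟨⟨h, hh⟩, Subtype.ext (by
      show h * (h⁻¹ * (g : Γ) * h) * h⁻¹ = g
      group)⟩)

end Setting

end CfsgLib.CharNormal.CyclicGlauberman
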