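import Cfsg.Agent.Lib.Char.Hyperelementary
import Cfsg.Agent.Lib.Char.Ito

/-!
# Taketa with the number of degrees

In a monomial group the derived length is at most the number of irreducible character degrees.
-/

namespace CfsgLib.CharNormal

open CfsgLib.Char
open scoped commutatorElement

/-- Taketa's bound: the derived series reaches the bottom after as many steps as there are degrees. -/
theorem derivedSeries_eq_bot_of_monomial {G : Type*} [Group G] [Fintype G]
    (hM : ∀ χ : G → ℂ, Cfsg.IsIrrCharacter G χ →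
      ∃ (H : Subgroup G) (lam : H →* ℂˣ), χ = Cfsg.indFun H (fun h => (lam h : ℂ)))
    (s : Finset ℕ) (hs : ∀ χ : Cfsg.IrrCharacter G, ∃ n ∈ s, (χ : G → ℂ) 1 = (n : ℂ)) :
    derivedSeries G s.card = ⊥ := by
  classical
  choose d hd0 hd using fun χ : Cfsg.IrrCharacter G => exists_degree_pos χ.2
  set S : Finset ℕ := Finset.univ.image d with hS
  let rk : ℕ → ℕ := fun n => (S.filter (· ≤ n)).card
  have key : ∀ (n : ℕ) (χ : Cfsg.IrrCharacter G), d χ = n →
      ∀ g ∈ derivedSeries G (rk n), (χ : G → ℂ) g = (χ : G → ℂ) 1 := by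
    intro n
    induction n using Nat.strong_induction_on with
    | _ n ih =>
    intro χ hn
    obtain ⟨H, lam, hlam⟩ := hM χ χ.2
    have := Fintype.ofFinite H
    have hidx : H.index = n := by
      have h1 := congrFun hlam 1
      rw [hd, hn, indFun_one, map_one, Units.val_one, mul_one] at h1
      exact_mod_cast h1.symm
    obtain ⟨m, rfl⟩ : ∃ m, n = m + 1 := ⟨n - 1, by have := hn ▸ hd0 χ; omega⟩
    obtain ⟨r, hr⟩ : ∃ r, rk (m + 1) = r + 1 := ⟨rk (m + 1) - 1, by
      have : 0 < rk (m + 1) := Finset.card_pos.mpr ⟨d χ, Finset.mem_filter.mpr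
        ⟨Finset.mem_image_of_mem _ (Finset.mem_univ _), hn.le⟩⟩
      omega⟩
    have hH : derivedSeries G r ≤ H := by
      intro g hg
      obtain ⟨a, ha, hai⟩ := char_decomp (isCharacter_indFun H (isCharacter_one (G := H)))
      let o : Cfsg.IrrCharacter G := ⟨fun _ => 1, isIrrCharacter_one⟩
      have hao : a o = 1 := by exact_mod_cast (hai o).symm.trans (classInner_indFun_one_one H)
      have hdeg : ∑ ψ, a ψ * d ψ = m + 1 := by
        have h1 := congrFun ha 1
        rw [indFun_one, hidx, mul_one, Finset.sum_apply] at h1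
        simp only [Pi.smul_apply, smul_eq_mul, hd] at h1
        exact_mod_cast h1.symm
      have hfix : Cfsg.indFun H (fun _ => 1) g = Cfsg.indFun H (fun _ => 1) 1 := by
        rw [ha, Finset.sum_apply, Finset.sum_apply]
        refine Finset.sum_congr rfl fun ψ _ => ?_
        rcases eq_or_ne (a ψ) 0 with h | h
        · simp [h]
        rcases eq_or_ne ψ o with rfl | hne
        · rfl
        have hle : d ψ ≤ m := by
          rw [← Finset.add_sum_erase _ _ (Finset.mem_univ o), hao, one_mul] at hdeg
          have h2 : a ψ * d ψ ≤ ∑ φ ∈ Finset.univ.erase o, a φ * d φ :=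
            Finset.single_le_sum (f := fun φ => a φ * d φ) (fun _ _ => Nat.zero_le _)
              (Finset.mem_erase.mpr ⟨hne, Finset.mem_univ _⟩)
          have := Nat.le_mul_of_pos_left (d ψ) (Nat.pos_of_ne_zero h)
          have := hd0 o
          omega
        simp only [Pi.smul_apply]
        rw [ih (d ψ) (by omega) ψ rfl g (derivedSeries_antitone G ?_ hg)]
        have hlt : rk (d ψ) < rk (m + 1) := Finset.card_lt_card (Finset.ssubset_iff_subset_ne.mpr
          ⟨Finset.monotone_filter_right _ fun _ _ h => le_trans h (by omega), fun e => by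
            have h0 : d χ ∈ S.filter (· ≤ m + 1) := Finset.mem_filter.mpr
              ⟨Finset.mem_image_of_mem _ (Finset.mem_univ _), hn.le⟩
            rw [← e] at h0
            have := (Finset.mem_filter.mp h0).2
            omega⟩)
        omega
      rw [indFun_one_eq_fixedBy] at hfix
      simp only [Nat.cast_inj] at hfix
      have h1 : MulAction.fixedBy (G ⧸ H) g = Set.univ := by
        refine Set.eq_of_subset_of_ncard_le (Set.subset_univ _) ?_ Set.finite_univ
        rw [← Nat.card_coe_set_eq, ← Nat.card_coe_set_eq, hfix]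
        exact le_of_eq (congrArg Nat.card (congrArg (fun s : Set (G ⧸ H) => (s : Type _))
          (Set.eq_univ_of_forall fun q => one_smul G q))).symm
      have h2 : g • ((1 : G) : G ⧸ H) = ((1 : G) : G ⧸ H) := (h1 ▸ Set.mem_univ _ : _ ∈ MulAction.fixedBy (G ⧸ H) g)
      rw [MulAction.Quotient.smul_mk, smul_eq_mul, mul_one, QuotientGroup.eq, mul_one] at h2
      simpa using H.inv_mem h2
    let K : Subgroup G := lam.ker.map H.subtype
    have hK : derivedSeries G (r + 1) ≤ K := by
      rw [derivedSeries_succ, Subgroup.commutator_le]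
      intro x hx y hy
      refine ⟨⁅(⟨x, hH hx⟩ : H), ⟨y, hH hy⟩⁆, ?_, rfl⟩
      rw [SetLike.mem_coe, MonoidHom.mem_ker, map_commutatorElement]
      exact commutatorElement_eq_one_iff_mul_comm.mpr (mul_comm _ _)
    rw [hr]
    intro g hg
    rw [hlam, indFun_apply, indFun_apply]
    congr 1
    refine Finset.sum_congr rfl fun x _ => ?_
    obtain ⟨k, hk, hke⟩ := hK ((derivedSeries_normal G (r + 1)).conj_mem' g hg x)
    rw [← hke, mul_one, inv_mul_cancel, Subgroup.coe_subtype, extendByZero_coe,
      extendByZero_of_mem _ H.one_mem, show lam k = 1 from hk]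
    simp [show (⟨1, H.one_mem⟩ : H) = 1 from rfl]
  have hle : ∀ χ : Cfsg.IrrCharacter G, rk (d χ) ≤ s.card := fun χ => by
    refine Finset.card_le_card fun n hn => ?_
    obtain ⟨ψ, -, rfl⟩ := Finset.mem_image.mp (Finset.mem_filter.mp hn).1
    obtain ⟨k, hk, hk'⟩ := hs ψ
    rw [hd] at hk'
    exact (by exact_mod_cast hk' : d ψ = k) ▸ hk
  rw [Subgroup.eq_bot_iff_forall]
  intro g hg
  have hall : ∀ χ : Cfsg.IrrCharacter G, (χ : G → ℂ) g = (χ : G → ℂ) 1 := fun χ =>
    key _ χ rfl g (derivedSeries_antitone G (hle χ) hg)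
  by_contra hne
  have h := sum_degree_mul_apply g
  have h1 := sum_degree_mul_apply (1 : G)
  rw [if_pos rfl] at h1
  rw [if_neg hne] at h
  simp only [hall, h1] at h
  exact card_ne_zero' h

end CfsgLib.CharNormal
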