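import Cfsg.Agent.Lib.CharNormal.TwoDegrees
import Cfsg.Agent.Lib.CharNormal.Gallagher
import Cfsg.Agent.Lib.Char.PResidualSum
import Cfsg.Agent.Lib.Char.Induced
import Mathlib.GroupTheory.Transfer

/-!
# Groups with two character degrees `1` and `m`

* `complement_data`: an abelian normal subgroup `M` of order prime to `m` with nilpotent quotient,
  every prime divisor of whose index divides `m`;
* `two_degrees_general`: an abelian normal subgroup of index `m`, or `m` is a prime power and the
  group is the product of a `p`-group and an abelian group.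
-/

namespace CfsgLib.CharNormal

open CfsgLib.Char

universe u

variable {G : Type u} [Group G] [Finite G] {m : ℕ}

/-- All irreducible degrees are `1` or `m`. -/
def CdTwo (G : Type u) [Group G] (m : ℕ) : Prop :=
  ∀ χ : G → ℂ, Cfsg.IsIrrCharacter G χ → χ 1 = 1 ∨ χ 1 = (m : ℂ)

theorem CdTwo.quotient (hG : CdTwo G m) (N : Subgroup G) [N.Normal] : CdTwo (G ⧸ N) m :=
  fun ψ hψ => by simpa using hG _ (isIrr_comp_mk' N hψ)

theorem comm_of_index_le (hG : CdTwo G m) (A : Subgroup G) (hA : ∀ a ∈ A, ∀ b ∈ A, a * b = b * a)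
    (hlt : A.index < m) : ∀ a b : G, a * b = b * a := by
  classical
  have := Fintype.ofFinite G
  refine comm_iff_forall_linear.mpr fun χ => (hG χ χ.2).resolve_right fun h => ?_
  have h1 := degree_le_index_of_comm χ.2 A hA
  rw [h, Complex.natCast_re] at h1
  exact absurd (by exact_mod_cast h1 : m ≤ A.index) (not_le.mpr hlt)

/-- A central subgroup of order prime to the index with abelian quotient. -/
theorem comm_of_comm_mod_central {M : Subgroup G} [M.Normal] (hMZ : M ≤ Subgroup.center G)
    (hco : (Nat.card M).Coprime M.index) {a b : G}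
    (hab : (a : G ⧸ M) * b = b * a) : a * b = b * a := by
  set c := a * b * a⁻¹ * b⁻¹ with hc
  have hcN : c ∈ M := by
    rw [← QuotientGroup.eq_one_iff, hc]
    simp only [QuotientGroup.mk_mul, QuotientGroup.mk_inv]
    rw [hab]
    group
  have hcZ := Subgroup.mem_center_iff.mp (hMZ hcN)
  have hpow : ∀ j : ℕ, a ^ j * b * (a ^ j)⁻¹ = c ^ j * b := by
    intro j
    induction j with
    | zero => simp
    | succ j ih =>
      have h1 : a * c ^ j = c ^ j * a :=
        (Commute.pow_right (hcZ a : Commute a c) j).eq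
      calc a ^ (j + 1) * b * (a ^ (j + 1))⁻¹ = a * (a ^ j * b * (a ^ j)⁻¹) * a⁻¹ := by
            rw [pow_succ']; group
        _ = a * c ^ j * b * a⁻¹ := by rw [ih]; group
        _ = c ^ j * (a * b * a⁻¹) := by rw [h1]; group
        _ = c ^ j * (c * b) := by rw [hc]; group
        _ = c ^ (j + 1) * b := by rw [pow_succ]; group
  have hcj : c ^ M.index = 1 := by
    have h1 := hpow M.index
    rw [show a ^ M.index * b = b * a ^ M.index from
      (Subgroup.mem_center_iff.mp (hMZ (Subgroup.pow_index_mem M a)) b).symm,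
      mul_inv_cancel_right] at h1
    exact mul_eq_right.mp h1.symm
  have hc2 : c ^ Nat.card M = 1 :=
    congrArg Subtype.val (pow_card_eq_one' (x := (⟨c, hcN⟩ : M)))
  have h3 := pow_gcd_eq_one.mpr ⟨hcj, hc2⟩
  rw [(hco.symm : Nat.Coprime M.index (Nat.card M)), pow_one] at h3
  calc a * b = c * (b * a) := by rw [hc]; group
    _ = b * a := by rw [h3, one_mul]

/-- An invariant linear character of a normal Hall subgroup extends. -/
theorem exists_extension_coprime {T : Type u} [Group T] [Finite T] (M : Subgroup T) [M.Normal]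
    (hco : (Nat.card M).Coprime M.index) (lam : M →* ℂˣ) (hinv : ∀ g : T, conjHom g lam = lam) :
    ∃ f : T →* ℂˣ, ∀ x : M, f x = lam x := by
  classical
  let _ := Fintype.ofFinite (T ⧸ M)
  have : M.FiniteIndex := ⟨Subgroup.index_ne_zero_of_finite⟩
  let F := MonoidHom.transfer lam
  have hF : ∀ x : M, F x = lam x ^ M.index := by
    intro x
    let S : M.LeftTransversal := default
    rw [show F x = MonoidHom.transfer lam (x : T) from rfl, MonoidHom.transfer_def lam S]
    unfold Subgroup.leftTransversals.diff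
    show ∏ q : T ⧸ M, lam _ = _
    rw [Finset.prod_eq_pow_card (b := lam x), Finset.card_univ, ← Nat.card_eq_fintype_card]
    · rfl
    intro q _
    set t : T := (S.2.leftQuotientEquiv q : T) with ht
    have hq : ((x : T) • q) = q := by
      obtain ⟨y, rfl⟩ := QuotientGroup.mk_surjective q
      rw [MulAction.Quotient.smul_mk, QuotientGroup.eq, smul_eq_mul]
      have e : ((x : T) * y)⁻¹ * y = y⁻¹ * (x : T)⁻¹ * y⁻¹⁻¹ := by group
      rw [e]
      exact ‹M.Normal›.conj_mem _ (M.inv_mem x.2) _
    refine Eq.trans ?_ (DFunLike.congr_fun (hinv t⁻¹) x)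
    rw [conjHom_apply]
    refine congrArg lam (Subtype.ext ?_)
    have e := Subgroup.smul_leftQuotientEquiv (H := M) (f := (x : T)) (S := S) q
    rw [hq] at e
    show t⁻¹ * (_ : T) = t⁻¹ * (x : T) * t⁻¹⁻¹
    rw [← e, smul_eq_mul, inv_inv, mul_assoc]
  obtain ⟨j, hj⟩ : ∃ j : ℤ, ∀ x : M, (lam x ^ M.index) ^ j = lam x := by
    refine ⟨Nat.gcdA M.index (Nat.card M), fun x => ?_⟩
    have h1 : (lam x) ^ (Nat.card M : ℤ) = 1 := by
      rw [zpow_natCast, ← map_pow, pow_card_eq_one', map_one]
    have h2 := Nat.gcd_eq_gcd_ab M.index (Nat.card M)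
    rw [(hco.symm : Nat.gcd M.index (Nat.card M) = 1), Nat.cast_one] at h2
    rw [← zpow_natCast, ← zpow_mul]
    conv_rhs => rw [← zpow_one (lam x), h2, zpow_add, zpow_mul _ (Nat.card M : ℤ), h1, one_zpow,
      mul_one]
  refine ⟨(zpowGroupHom j).comp F, fun x => ?_⟩
  show F x ^ j = lam x
  rw [hF, hj]

section Structure

variable (hG : CdTwo G m) (M : Subgroup G) [hMn : M.Normal]

include hG in
theorem stab_data (hM : ∀ a ∈ M, ∀ b ∈ M, a * b = b * a) (hco : (Nat.card M).Coprime M.index)
    (lam : M →* ℂˣ) :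
    M ≤ stab lam ∧ (stab lam = ⊤ ∨ ((stab lam).index = m ∧
      ∀ a ∈ stab lam, ∀ b ∈ stab lam, (a : G ⧸ M) * b = b * a)) := by
  classical
  have := Fintype.ofFinite G
  have := Fintype.ofFinite M
  have hle : M ≤ stab lam := fun n hn => MonoidHom.ext fun a => by
    rw [conjHom_apply]
    exact congrArg lam (Subtype.ext (by
      show n * a * n⁻¹ = (a : G)
      rw [hM n hn a a.2, mul_inv_cancel_right]))
  refine ⟨hle, ?_⟩
  by_cases ht : stab lam = ⊤
  · exact Or.inl ht
  let θ : Cfsg.IrrCharacter M := ⟨fun a => (lam a : ℂ), isIrrCharacter_units_hom lam⟩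
  have hi : stab lam = inertia M (θ : M → ℂ) := by
    ext g
    rw [mem_stab, mem_inertia]
    constructor
    · intro h
      funext a
      rw [conjFun_apply]
      show ((lam _ : ℂˣ) : ℂ) = lam a
      rw [← conjHom_apply, h]
    · intro h
      refine MonoidHom.ext fun a => Units.ext ?_
      rw [conjHom_apply]
      exact congrFun h a
  have hk2 : 2 ≤ (stab lam).index := by
    have h0 : (stab lam).index ≠ 0 := Subgroup.index_ne_zero_of_finite
    have h1 : (stab lam).index ≠ 1 := fun h => ht (Subgroup.index_eq_one.mp h)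
    omega
  have hover : ∀ (χ : G → ℂ) (e : ℕ), Cfsg.IsIrrCharacter G χ →
      Cfsg.classInner (fun n : M => χ n) (θ : M → ℂ) = e → 0 < e →
      e * (stab lam).index = m := by
    intro χ e hχ he he0
    have h := degree_eq_mul_card_orbit M hχ θ (by rw [he]; exact_mod_cast he0.ne')
    rw [he, show (θ : M → ℂ) 1 = 1 by simp [θ], mul_one, card_orbit_eq_index, ← hi] at h
    rcases hG χ hχ with e1 | e1 <;> rw [e1] at h
    · have h' : 1 = e * (stab lam).index := by exact_mod_cast h
      exact absurd (Nat.eq_one_of_mul_eq_one_left h'.symm) (by omega)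
    · exact_mod_cast h.symm
  -- every character of the stabilizer over `lam` has multiplicity `1`
  let T := stab lam
  have := Fintype.ofFinite T
  let incl : M →* T := Subgroup.inclusion hle
  have key : ∀ (ψ : T → ℂ) (k : ℕ), Cfsg.IsIrrCharacter T ψ →
      Cfsg.classInner (fun n : M => ψ (incl n)) (θ : M → ℂ) = k → 0 < k →
      ∃ e, k ≤ e ∧ e * (stab lam).index = m := by
    intro ψ k hψ hk hk0
    obtain ⟨χ, hχ, hne⟩ := exists_constituent (isCharacter_indFun T (isCharacter_of_isIrr hψ))
      fun h => by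
        have h1 := congrFun h 1
        rw [indFun_one, Pi.zero_apply] at h1
        exact mul_ne_zero (Nat.cast_ne_zero.mpr Subgroup.index_ne_zero_of_finite)
          (irr_one_ne_zero hψ) h1
    rw [frobenius_reciprocity T ψ (isClassFunction_of_isIrr hχ), ← classInner_conj_symm] at hne
    have hne' : Cfsg.classInner (fun t : T => χ t) ψ ≠ 0 := fun h => hne (by rw [h, map_zero])
    obtain ⟨a, ha, hai⟩ := char_decomp (isCharacter_res T (isCharacter_of_isIrr hχ))
    choose c hc using fun φ : Cfsg.IrrCharacter T => classInner_char_nat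
      (isCharacter_comp (isCharacter_of_isIrr φ.2) incl) (isCharacter_of_isIrr θ.2)
    obtain ⟨e, he⟩ := classInner_char_nat (isCharacter_res M (isCharacter_of_isIrr hχ))
      (isCharacter_of_isIrr θ.2)
    have hsum : e = ∑ φ, a φ * c φ := by
      have h1 : Cfsg.classInner (fun n : M => χ n) (θ : M → ℂ) = ∑ φ, (a φ : ℂ) * c φ := by
        have : (fun n : M => χ n) =
            ∑ φ : Cfsg.IrrCharacter T, (a φ : ℂ) • fun n : M => (φ : T → ℂ) (incl n) :=
          funext fun n => by
            simpa [Finset.sum_apply, incl] using congrFun ha (incl n)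
        rw [this, classInner_sum_left]
        exact Finset.sum_congr rfl fun φ _ => by
          rw [classInner_smul_left]; exact congrArg _ (hc φ)
      rw [he] at h1
      exact_mod_cast h1
    have h0 : a ⟨ψ, hψ⟩ ≠ 0 := fun h => hne' (by
      have := hai ⟨ψ, hψ⟩
      rw [h, Nat.cast_zero] at this
      exact this)
    have hck : c ⟨ψ, hψ⟩ = k := by
      have := (hc ⟨ψ, hψ⟩).symm.trans hk
      exact_mod_cast this
    have hke : k ≤ e := by
      rw [hsum]
      refine le_trans ?_ (Finset.single_le_sum (f := fun φ => a φ * c φ)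
        (fun _ _ => Nat.zero_le _) (Finset.mem_univ ⟨ψ, hψ⟩))
      rw [hck]
      exact Nat.le_mul_of_pos_left _ (Nat.pos_of_ne_zero h0)
    exact ⟨e, hke, hover χ e hχ he (lt_of_lt_of_le hk0 hke)⟩
  -- an extension of `lam` to the stabilizer
  have hco' : (Nat.card (M.subgroupOf T)).Coprime (M.subgroupOf T).index := by
    rw [Nat.card_congr (Subgroup.subgroupOfEquivOfLe hle).toEquiv]
    exact hco.coprime_dvd_right (Subgroup.relIndex_dvd_index_of_normal M T)
  obtain ⟨f, hf⟩ := exists_extension_coprime (M.subgroupOf T) hco'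
    (lam.comp (Subgroup.subgroupOfEquivOfLe hle).toMonoidHom) fun g => MonoidHom.ext fun a => by
      have h1 := DFunLike.congr_fun (mem_stab.mp g.2) (Subgroup.subgroupOfEquivOfLe hle a)
      rw [conjHom_apply] at h1
      rw [conjHom_apply]
      exact h1
  have hf' : ∀ n : M, (f (incl n) : ℂ) = (θ : M → ℂ) n := fun n => by
    rw [show incl n = ((⟨incl n, n.2⟩ : M.subgroupOf T) : T) from rfl, hf]
    rfl
  have hall : ∀ β : Cfsg.IrrCharacter (T ⧸ M.subgroupOf T), ∀ d : ℕ,
      (β : T ⧸ M.subgroupOf T → ℂ) 1 = d → 0 < d → d * (stab lam).index ≤ m := by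
    intro β d hd hd0
    let lt : T → ℂ := fun t => (f t : ℂ)
    have hlt : Cfsg.IsCharacter T lt := isCharacter_of_isIrr (isIrrCharacter_units_hom f)
    have hψ := isIrr_mul_linear (isIrr_comp_mk' (M.subgroupOf T) β.2) hlt (by simp [lt])
    have hres : (fun n : M => (((β : T ⧸ M.subgroupOf T → ℂ) ∘ QuotientGroup.mk) * lt) (incl n)) =
        (d : ℂ) • (θ : M → ℂ) := funext fun n => by
      simp only [Pi.mul_apply, Function.comp_apply, Pi.smul_apply, smul_eq_mul, lt]
      rw [(QuotientGroup.eq_one_iff (incl n)).mpr n.2, hd, hf']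
    obtain ⟨e, hde, he⟩ := key _ d hψ (by
      rw [hres, classInner_smul_left, classInner_irr_self θ.2, mul_one]) hd0
    exact le_trans (Nat.mul_le_mul_right _ hde) he.le
  obtain ⟨e1, he1, hem⟩ : ∃ e, 1 ≤ e ∧ e * (stab lam).index = m := by
    refine key _ 1 (isIrrCharacter_units_hom f) ?_ one_pos
    rw [show (fun n : M => ((f (incl n) : ℂˣ) : ℂ)) = (θ : M → ℂ) from funext hf',
      classInner_irr_self θ.2, Nat.cast_one]
  have hm0 : 0 < m := hem ▸ Nat.mul_pos he1 (by omega)
  -- the multiplicity of the extension is exactly one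
  have hidx : (stab lam).index = m := by
    let lt : T → ℂ := fun t => (f t : ℂ)
    have hlt : Cfsg.IsCharacter T lt := isCharacter_of_isIrr (isIrrCharacter_units_hom f)
    obtain ⟨χ, hχ, hne⟩ := exists_constituent (isCharacter_indFun T hlt)
      fun h => by
        have h1 := congrFun h 1
        rw [indFun_one, Pi.zero_apply] at h1
        exact mul_ne_zero (Nat.cast_ne_zero.mpr Subgroup.index_ne_zero_of_finite)
          (by simp [lt]) h1
    have hle1 := constituent_degree_le (isCharacter_indFun T hlt) hχ hne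
    rw [indFun_one, show lt 1 = 1 by simp [lt], mul_one, Complex.natCast_re] at hle1
    refine le_antisymm (hem ▸ Nat.le_mul_of_pos_left _ he1) ?_
    rcases hG χ hχ with e | e
    · -- a linear constituent would be invariant
      exfalso
      rw [frobenius_reciprocity T lt (isClassFunction_of_isIrr hχ)] at hne
      have hχl : Cfsg.IsIrrCharacter T fun t : T => χ t := by
        have := isIrr_mul_linear (isIrrCharacter_one (G := T))
          (isCharacter_res T (isCharacter_of_isIrr hχ)) (by simpa using e)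
        simpa [Pi.mul_def] using this
      have heq : lt = fun t : T => χ t := by
        by_contra h
        exact hne (classInner_irr_ne (isIrrCharacter_units_hom f) hχl h)
      refine ht (eq_top_iff.mpr fun g _ => ?_)
      rw [hi, mem_inertia]
      have : (θ : M → ℂ) = fun n : M => χ n := funext fun n => by
        rw [← hf' n]; exact congrFun heq (incl n)
      rw [this]
      exact conjFun_res M (isClassFunction_of_isIrr hχ) g
    · rw [e, Complex.natCast_re] at hle1
      exact_mod_cast hle1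
  refine Or.inr ⟨hidx, ?_⟩
  have hcomm := (comm_iff_forall_linear (G := T ⧸ M.subgroupOf T)).mpr fun β => by
    obtain ⟨d, hd0, hd⟩ := exists_degree_pos β.2
    have h1 := hall β d hd hd0
    rw [hidx] at h1
    have : d = 1 := by
      have := Nat.le_of_mul_le_mul_right (h1.trans (one_mul m).ge) hm0
      omega
    rw [hd, this, Nat.cast_one]
  intro a ha b hb
  have h1 := hcomm ((⟨a, ha⟩ : T) : T ⧸ M.subgroupOf T) ((⟨b, hb⟩ : T) : T ⧸ M.subgroupOf T)
  rw [← QuotientGroup.mk_mul, ← QuotientGroup.mk_mul, QuotientGroup.eq, Subgroup.mem_subgroupOf]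
    at h1
  rw [← QuotientGroup.mk_mul, ← QuotientGroup.mk_mul, QuotientGroup.eq]
  exact h1

include hG in
/-- If some linear character of `M` moves, the centralizer of `M` is abelian of index `m`. -/
theorem abelian_index_of_moved (hM : ∀ a ∈ M, ∀ b ∈ M, a * b = b * a)
    (hco : (Nat.card M).Coprime M.index) [Group.IsNilpotent (G ⧸ M)]
    {lam : M →* ℂˣ} (hlam : stab lam ≠ ⊤) :
    ∃ A : Subgroup G, A.Normal ∧ (∀ a ∈ A, ∀ b ∈ A, a * b = b * a) ∧ A.index = m := by
  classical
  set C := Subgroup.centralizer (M : Set G) with hC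
  have : C.Normal := by rw [hC]; infer_instance
  haveI : IsMulCommutative M := ⟨⟨fun a b => Subtype.ext (hM a a.2 b b.2)⟩⟩
  letI : CommGroup M := { (inferInstance : Group M) with mul_comm := mul_comm' }
  have hsd := fun l : M →* ℂˣ => stab_data hG M hM hco l
  have hMC : M ≤ C := fun n hn a ha => hM a ha n hn
  have hCstab : ∀ l : M →* ℂˣ, C ≤ stab l := fun l g hg => MonoidHom.ext fun a => by
    rw [conjHom_apply]
    refine congrArg l (Subtype.ext ?_)
    show g * a * g⁻¹ = (a : G)
    rw [← (Subgroup.mem_centralizer_iff.mp hg a a.2), mul_inv_cancel_right]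
  have hfix : ∀ g : G, (∀ l : M →* ℂˣ, g ∈ stab l) → g ∈ C := by
    intro g hg a ha
    have h : (⟨g * a * g⁻¹, hMn.conj_mem a ha g⟩ : M) = ⟨a, ha⟩ := by
      by_contra hne
      have : NeZero (Monoid.exponent M : ℂ) :=
        ⟨by exact_mod_cast Monoid.exponent_ne_zero_of_finite⟩
      obtain ⟨φ, hφ⟩ := CommGroup.exists_apply_ne_one_of_hasEnoughRootsOfUnity M ℂ
        (div_ne_one.mpr hne)
      refine hφ ?_
      rw [map_div, ← conjHom_apply g φ ⟨a, ha⟩, mem_stab.mp (hg φ), div_self']
    have h2 : g * a * g⁻¹ = a := congrArg Subtype.val h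
    calc a * g = (g * a * g⁻¹) * g := by rw [h2]
      _ = g * a := by group
  have hm0 : 0 < m := by
    rw [← ((hsd lam).2.resolve_left hlam).1]
    exact Nat.pos_of_ne_zero Subgroup.index_ne_zero_of_finite
  -- the quotient by the centralizer is abelian
  have hab : ∀ a b : G ⧸ C, a * b = b * a := by
    by_contra hna
    have : Group.IsNilpotent (G ⧸ C) := Group.nilpotent_of_surjective
      (QuotientGroup.map M C (MonoidHom.id G) hMC) (fun q => by
        obtain ⟨g, rfl⟩ := QuotientGroup.mk_surjective q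
        exact ⟨g, rfl⟩)
    have : Nontrivial (G ⧸ C) := by
      by_contra h
      rw [not_nontrivial_iff_subsingleton] at h
      exact hna fun a b => Subsingleton.elim _ _
    refine Group.IsNilpotent.center_ne_bot (G ⧸ C) ((Subgroup.eq_bot_iff_forall _).mpr fun z hz => ?_)
    obtain ⟨g, rfl⟩ := QuotientGroup.mk_surjective z
    refine (QuotientGroup.eq_one_iff g).mpr (hfix g fun l => ?_)
    rcases (hsd l).2 with h | ⟨hi, hc⟩
    · rw [h]; exact Subgroup.mem_top g
    set D := (stab l).map (QuotientGroup.mk' C)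
    have hDi : D.index = m := by
      rw [← hi, ← Subgroup.index_comap_of_surjective D (QuotientGroup.mk'_surjective C),
        Subgroup.comap_map_eq, QuotientGroup.ker_mk', sup_eq_left.mpr (hCstab l)]
    have hDc : ∀ a ∈ D, ∀ b ∈ D, a * b = b * a := by
      rintro _ ⟨a, ha, rfl⟩ _ ⟨b, hb, rfl⟩
      have h1 := congrArg (QuotientGroup.map M C (MonoidHom.id G) hMC) (hc a ha b hb)
      rw [map_mul, map_mul] at h1
      exact h1
    set E := D ⊔ Subgroup.zpowers (g : G ⧸ C) with hE
    have hEc : ∀ a ∈ E, ∀ b ∈ E, a * b = b * a := by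
      intro a ha b hb
      rw [hE, ← Subgroup.closure_eq D, Subgroup.zpowers_eq_closure, ← Subgroup.closure_union] at ha hb
      refine (Subgroup.closure_induction₂ (p := fun x y _ _ => Commute x y) ?_
        (fun x _ => Commute.one_left x) (fun x _ => Commute.one_right x)
        (fun _ _ _ _ _ _ h1 h2 => h1.mul_left h2) (fun _ _ _ _ _ _ h1 h2 => h1.mul_right h2)
        (fun _ _ _ _ h => h.inv_left) (fun _ _ _ _ h => h.inv_right) ha hb).eq
      intro x y hx hy
      rcases hx with hx | hx
      · rcases hy with hy | hy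
        · exact hDc x hx y hy
        · rw [Set.mem_singleton_iff.mp hy]
          exact Subgroup.mem_center_iff.mp hz x
      · rw [Set.mem_singleton_iff.mp hx]
        exact (Subgroup.mem_center_iff.mp hz y).symm
    have hEi : ¬ E.index < m := fun h => hna (comm_of_index_le (hG.quotient C) E hEc h)
    have hDE : D = E := by
      by_contra h
      exact hEi (hDi ▸ Subgroup.index_strictAnti (lt_of_le_of_ne le_sup_left h))
    have hgD : (g : G ⧸ C) ∈ D :=
      hDE ▸ (le_sup_right : _ ≤ E) (Subgroup.mem_zpowers _)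
    obtain ⟨x, hx, hxe⟩ := hgD
    have h2 : x⁻¹ * g ∈ C := QuotientGroup.eq.mp hxe
    have h3 := mul_mem hx (hCstab l h2)
    rwa [mul_inv_cancel_left] at h3
  have hnormal : ∀ l : M →* ℂˣ, (stab l).Normal := fun l => ⟨fun x hx g => by
    have h1 : x⁻¹ * (g * x * g⁻¹) ∈ C := by
      rw [← QuotientGroup.eq]
      simp only [QuotientGroup.mk_mul, QuotientGroup.mk_inv]
      rw [hab (g : G ⧸ C) x, mul_inv_cancel_right]
    have h3 := mul_mem hx (hCstab l h1)
    rwa [mul_inv_cancel_left] at h3⟩
  -- conjugations commute on characters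
  have hcomm : ∀ (a b : G) (l : M →* ℂˣ), conjHom a (conjHom b l) = conjHom b (conjHom a l) := by
    intro a b l
    rw [conjHom_conjHom, conjHom_conjHom]
    have h1 : (b * a) * (a * b)⁻¹ ∈ C := by
      rw [← QuotientGroup.eq_one_iff]
      simp only [QuotientGroup.mk_mul, QuotientGroup.mk_inv]
      rw [hab (b : G ⧸ C) a]
      group
    calc conjHom (b * a) l = conjHom (((b * a) * (a * b)⁻¹) * (a * b)) l := by
          rw [inv_mul_cancel_right]
      _ = conjHom (a * b) l := by rw [← conjHom_conjHom, mem_stab.mp (hCstab l h1)]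
  obtain ⟨hTi, hTc⟩ := (hsd lam).2.resolve_left hlam
  set T := stab lam with hT
  -- the norm over `T / M`
  let R := T ⧸ M.subgroupOf T
  let _ := Fintype.ofFinite R
  let N : (M →* ℂˣ) → (M →* ℂˣ) := fun l => ∏ r : R, conjHom ((Quotient.out r : T) : G) l
  have hMfix : ∀ (l : M →* ℂˣ) (a b : T), (a : R) = b → conjHom (a : G) l = conjHom (b : G) l := by
    intro l a b hab'
    have h1 : (a : G)⁻¹ * b ∈ M := (QuotientGroup.eq.mp hab' : a⁻¹ * b ∈ M.subgroupOf T)
    have h2 := mem_stab.mp ((hsd (conjHom (a : G) l)).1 h1)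
    rw [conjHom_conjHom, mul_inv_cancel_left] at h2
    exact h2.symm
  have hconjprod : ∀ (g : G) (s : R → (M →* ℂˣ)), conjHom g (∏ r, s r) = ∏ r, conjHom g (s r) :=
    fun g s => map_prod (MonoidHom.mk' (conjHom g) (conjHom_mul g)) s Finset.univ
  have hNT : ∀ (l : M →* ℂˣ) (t : T), conjHom (t : G) (N l) = N l := by
    intro l t
    show conjHom (t : G) (∏ r : R, _) = ∏ r : R, _
    rw [hconjprod]
    refine Fintype.prod_equiv (Equiv.mulRight (t : R)) _ _ fun r => ?_
    rw [conjHom_conjHom]
    refine hMfix l (Quotient.out r * t) (Quotient.out (r * (t : R))) ?_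
    rw [QuotientGroup.mk_mul]
    simp only [QuotientGroup.out_eq']
  have hNcomm : ∀ (l : M →* ℂˣ) (g : G), conjHom g (N l) = N (conjHom g l) := by
    intro l g
    show conjHom g (∏ r : R, _) = ∏ r : R, _
    rw [hconjprod]
    exact Finset.prod_congr rfl fun r _ => hcomm _ _ _
  have hNmul : ∀ l l' : M →* ℂˣ, N (l * l') = N l * N l' := fun l l' => by
    show ∏ r : R, _ = (∏ r : R, _) * ∏ r : R, _
    rw [← Finset.prod_mul_distrib]
    exact Finset.prod_congr rfl fun r _ => conjHom_mul _ _ _
  have hNfixed : ∀ l : M →* ℂˣ, T ≤ stab l → N l = l ^ Fintype.card R := fun l hl => by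
    show ∏ r : R, _ = _
    refine (Finset.prod_eq_pow_card fun (r : R) _ => mem_stab.mp (hl (Quotient.out r : T).2)).trans ?_
    rw [Finset.card_univ]
  have hpowinj : Function.Injective fun l : M →* ℂˣ => l ^ Fintype.card R := by
    intro l l' h
    have hc : (Nat.card M).Coprime (Fintype.card R) := by
      rw [← Nat.card_eq_fintype_card]
      exact hco.coprime_dvd_right (Subgroup.relIndex_dvd_index_of_normal M T)
    refine MonoidHom.ext fun x => ?_
    obtain ⟨y, rfl⟩ := (powCoprime (G := M) hc).surjective x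
    show l (y ^ Fintype.card R) = l' (y ^ Fintype.card R)
    rw [map_pow, map_pow]
    exact DFunLike.congr_fun h y
  -- `T` fixes every character
  have hall : ∀ μ : M →* ℂˣ, T ≤ stab μ := by
    intro μ
    set μ₂ := μ ^ Fintype.card R * (N μ)⁻¹ with hμ₂
    have hN2 : N μ₂ = 1 := by
      have h1 : ∀ (l : M →* ℂˣ) (j : ℕ), N (l ^ j) = N l ^ j := fun l j =>
        map_pow (MonoidHom.mk' N hNmul) l j
      have h2 : N (N μ)⁻¹ = (N (N μ))⁻¹ := map_inv (MonoidHom.mk' N hNmul) (N μ)
      rw [hμ₂, hNmul, h1, h2, hNfixed (N μ) fun t ht => hNT μ ⟨t, ht⟩]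
      exact MonoidHom.ext fun x => mul_inv_cancel _
    have hsub : stab (lam * μ₂) ≤ T := by
      intro g hg
      have h1 := mem_stab.mp hg
      have h2 := congrArg N h1
      rw [← hNcomm, hNmul, hN2, show N lam * 1 = N lam from MonoidHom.ext fun x => mul_one _,
        hNfixed lam le_rfl] at h2
      have h3 : conjHom g lam ^ Fintype.card R = lam ^ Fintype.card R := by
        rw [← h2]
        exact (map_pow (MonoidHom.mk' (conjHom g) (conjHom_mul g)) lam _).symm
      exact hpowinj h3
    have hEq : stab (lam * μ₂) = T := by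
      rcases (hsd (lam * μ₂)).2 with h | ⟨hi, -⟩
      · exact absurd (eq_top_iff.mpr (h ▸ hsub)) hlam
      · exact Subgroup.eq_of_le_of_card_ge hsub (le_of_eq (by
          have h1 := T.card_mul_index
          rw [hTi] at h1
          have h2 := (stab (lam * μ₂)).card_mul_index
          rw [hi] at h2
          exact Nat.eq_of_mul_eq_mul_right hm0 (h1.trans h2.symm)))
    intro t ht
    have h4 : conjHom t μ₂ = μ₂ := by
      have h5 := mem_stab.mp (hEq.ge ht)
      rw [conjHom_mul, mem_stab.mp ht] at h5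
      exact mul_left_cancel h5
    rw [hμ₂, conjHom_mul, conjHom_inv, hNT μ ⟨t, ht⟩] at h4
    have h6 := mul_right_cancel h4
    refine hpowinj (?_ : conjHom t μ ^ Fintype.card R = μ ^ Fintype.card R)
    rw [← h6]
    exact (map_pow (MonoidHom.mk' (conjHom t) (conjHom_mul t)) μ _).symm
  have hTC : T ≤ C := fun t ht => hfix t fun l => hall l ht
  refine ⟨T, hnormal lam, fun a ha b hb => ?_, hTi⟩
  have hco' : (Nat.card (M.subgroupOf T)).Coprime (M.subgroupOf T).index := by
    rw [Nat.card_congr (Subgroup.subgroupOfEquivOfLe (hsd lam).1).toEquiv]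
    exact hco.coprime_dvd_right (Subgroup.relIndex_dvd_index_of_normal M T)
  refine congrArg Subtype.val (comm_of_comm_mod_central (M := M.subgroupOf T) ?_ hco'
    (a := (⟨a, ha⟩ : T)) (b := ⟨b, hb⟩) ?_)
  · intro x hx
    exact Subgroup.mem_center_iff.mpr fun y => Subtype.ext
      (Subgroup.mem_centralizer_iff.mp (hTC y.2) x hx).symm
  · rw [← QuotientGroup.mk_mul, ← QuotientGroup.mk_mul, QuotientGroup.eq, Subgroup.mem_subgroupOf]
    have h1 := hTc a ha b hb
    rw [← QuotientGroup.mk_mul, ← QuotientGroup.mk_mul, QuotientGroup.eq] at h1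
    exact h1

end Structure

/-- The intersection of the `p`-residuals for the primes `p` dividing `m`. -/
def hallCompl (G : Type u) [Group G] (m : ℕ) : Subgroup G :=
  ⨅ p ∈ m.primeFactors, Cfsg.pResidual p G

theorem hallCompl_le {p : ℕ} (hp : p ∈ m.primeFactors) : hallCompl G m ≤ Cfsg.pResidual p G :=
  iInf₂_le p hp

theorem mem_hallCompl {g : G} :
    g ∈ hallCompl G m ↔ ∀ p ∈ m.primeFactors, g ∈ Cfsg.pResidual p G := by
  simp only [hallCompl, Subgroup.mem_iInf]

/-- A normal abelian Hall subgroup with nilpotent quotient. -/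
theorem complement_data (hG : CdTwo G m) (hm : m ≠ 0) :
    ∃ _ : (hallCompl G m).Normal, (∀ a ∈ hallCompl G m, ∀ b ∈ hallCompl G m, a * b = b * a) ∧
      (Nat.card (hallCompl G m)).Coprime (hallCompl G m).index ∧
      Group.IsNilpotent (G ⧸ hallCompl G m) ∧ (Nat.card (hallCompl G m)).Coprime m := by
  classical
  set M := hallCompl G m with hM
  have := Fintype.ofFinite G
  have hcop : ∀ p : {p : ℕ // p ∈ m.primeFactors},
      (Nat.card (Cfsg.pResidual p.1 G)).Coprime p.1 := by
    rintro ⟨p, hp⟩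
    have := Fact.mk (Nat.prime_of_mem_primeFactors hp)
    refine pResidual_coprime_of_degrees fun χ hne => ?_
    have h := hG χ χ.2
    rw [charDegree_cast (isCharacter_of_isIrr χ.2)] at h
    rcases h with h | h
    · exact absurd (by exact_mod_cast h) hne
    · rw [(by exact_mod_cast h : Cfsg.charDegree (χ : G → ℂ) = m)]
      exact Nat.dvd_of_mem_primeFactors hp
  have hMn : M.Normal := Subgroup.normal_iInf_normal fun p => Subgroup.normal_iInf_normal fun _ => inferInstance
  have hcm : (Nat.card M).Coprime m := by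
    refine Nat.coprime_of_dvd fun q hq hqM hqm => ?_
    have hq' : q ∈ m.primeFactors := Nat.mem_primeFactors.mpr ⟨hq, hqm, hm⟩
    have h1 := hqM.trans (Subgroup.card_dvd_of_le (hallCompl_le (G := G) hq'))
    exact hq.ne_one (Nat.eq_one_of_dvd_coprimes (hcop ⟨q, hq'⟩) h1 dvd_rfl)
  let F : G →* ((p : {p : ℕ // p ∈ m.primeFactors}) → G ⧸ Cfsg.pResidual p.1 G) :=
    MonoidHom.mk' (fun g p => (g : G ⧸ Cfsg.pResidual p.1 G)) fun a b => funext fun p => rfl
  have hker : F.ker = M := by
    ext g
    simp only [MonoidHom.mem_ker, hM, mem_hallCompl, funext_iff, F]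
    exact ⟨fun h p hp => (QuotientGroup.eq_one_iff g).mp (h ⟨p, hp⟩),
      fun h p => (QuotientGroup.eq_one_iff g).mpr (h p.1 p.2)⟩
  have hidx : ∀ p : {p : ℕ // p ∈ m.primeFactors}, ∃ k, (Cfsg.pResidual p.1 G).index = p.1 ^ k := by
    rintro ⟨p, hp⟩
    have := Fact.mk (Nat.prime_of_mem_primeFactors hp)
    exact CfsgLib.Transfer.index_pResidual
  have : ∀ p : {p : ℕ // p ∈ m.primeFactors}, Group.IsNilpotent (G ⧸ Cfsg.pResidual p.1 G) := by
    intro p
    have := Fact.mk (Nat.prime_of_mem_primeFactors p.2)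
    obtain ⟨k, hk⟩ := hidx p
    exact (IsPGroup.of_card (G := G ⧸ Cfsg.pResidual p.1 G) (n := k) hk).isNilpotent
  have e : G ⧸ M ≃* F.range :=
    (QuotientGroup.quotientMulEquivOfEq hker.symm).trans (QuotientGroup.quotientKerEquivRange F)
  have hdvd : M.index ∣ ∏ p : {p : ℕ // p ∈ m.primeFactors}, (Cfsg.pResidual p.1 G).index := by
    have h1 := Subgroup.card_subgroup_dvd_card F.range
    rw [← Nat.card_congr e.toEquiv, Nat.card_pi] at h1
    exact h1
  refine ⟨hMn, ?_, ?_, Group.nilpotent_of_mulEquiv e.symm, hcm⟩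
  · have := Fintype.ofFinite M
    have h1 : ∀ θ : Cfsg.IrrCharacter M, (θ : M → ℂ) 1 = 1 := fun θ => by
      obtain ⟨t, -, ht⟩ := exists_degree_pos θ.2
      obtain ⟨χ, hχ⟩ := exists_irr_over M θ.2
      obtain ⟨c, hc⟩ := classInner_char_nat (isCharacter_res M (isCharacter_of_isIrr χ.2))
        (isCharacter_of_isIrr θ.2)
      have h := degree_eq_mul_card_orbit M χ.2 θ hχ
      rw [hc, ht] at h
      have h2 := degree_dvd_card θ.2 ht
      have h3 : t ∣ m := by
        rcases hG χ χ.2 with e | e <;> rw [e] at h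
        · have h' : 1 = c * (orbit M θ).card * t := by exact_mod_cast h
          exact (Dvd.intro_left _ h'.symm).trans (one_dvd m)
        · exact Dvd.intro_left _ (by exact_mod_cast h.symm)
      rw [ht, Nat.eq_one_of_dvd_coprimes hcm h2 h3, Nat.cast_one]
    exact fun a ha b hb => congrArg Subtype.val (comm_iff_forall_linear.mpr h1 ⟨a, ha⟩ ⟨b, hb⟩)
  · refine Nat.Coprime.coprime_dvd_right hdvd (Nat.Coprime.prod_right fun p _ => ?_)
    obtain ⟨k, hk⟩ := hidx p
    rw [hk]
    exact Nat.Coprime.pow_right k (hcm.coprime_dvd_right (Nat.dvd_of_mem_primeFactors p.2))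

/-- **Groups with two character degrees.** -/
theorem two_degrees_general (hG : CdTwo G m) (hm0 : m ≠ 0) (hm1 : m ≠ 1)
    (hex : ∃ χ : G → ℂ, Cfsg.IsIrrCharacter G χ ∧ χ 1 = (m : ℂ)) :
    (∃ A : Subgroup G, A.Normal ∧ (∀ a ∈ A, ∀ b ∈ A, a * b = b * a) ∧ A.index = m) ∨
      ∃ p e : ℕ, p.Prime ∧ m = p ^ e ∧ ∃ P A : Subgroup G, P.Normal ∧ A.Normal ∧ IsPGroup p P ∧
        (∀ a ∈ A, ∀ b ∈ A, a * b = b * a) ∧ P ⊓ A = ⊥ ∧ P ⊔ A = ⊤ := by
  classical
  have := Fintype.ofFinite G
  obtain ⟨hMn, hMc, hco, hnil, hcm⟩ := complement_data hG hm0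
  set M : Subgroup G := hallCompl G m with hM
  by_cases hmove : ∃ lam : M →* ℂˣ, stab lam ≠ ⊤
  · obtain ⟨lam, hlam⟩ := hmove
    exact Or.inl (abelian_index_of_moved hG M hMc hco hlam)
  refine Or.inr ?_
  push Not at hmove
  haveI : IsMulCommutative M := ⟨⟨fun a b => Subtype.ext (hMc a a.2 b b.2)⟩⟩
  letI : CommGroup M := { (inferInstance : Group M) with mul_comm := mul_comm' }
  have hMZ : M ≤ Subgroup.center G := by
    intro a ha
    refine Subgroup.mem_center_iff.mpr fun g => ?_
    have h : (⟨g * a * g⁻¹, hMn.conj_mem a ha g⟩ : M) = ⟨a, ha⟩ := by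
      by_contra hne
      have : NeZero (Monoid.exponent M : ℂ) :=
        ⟨by exact_mod_cast Monoid.exponent_ne_zero_of_finite⟩
      obtain ⟨φ, hφ⟩ := CommGroup.exists_apply_ne_one_of_hasEnoughRootsOfUnity M ℂ
        (div_ne_one.mpr hne)
      refine hφ ?_
      rw [map_div, ← conjHom_apply g φ ⟨a, ha⟩, mem_stab.mp (hmove φ ▸ Subgroup.mem_top g),
        div_self']
    have h2 : g * a * g⁻¹ = a := congrArg Subtype.val h
    calc g * a = (g * a * g⁻¹) * g := by group
      _ = a * g := by rw [h2]
  have hna : ¬ ∀ a b : G, a * b = b * a := fun h => by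
    obtain ⟨χ, hχ, hχm⟩ := hex
    rw [irr_one_eq_one_of_comm h hχ] at hχm
    exact hm1 (by exact_mod_cast hχm.symm)
  obtain ⟨p, hp⟩ : ∃ p : {p : ℕ // p ∈ m.primeFactors},
      ¬ ∀ a b : G ⧸ Cfsg.pResidual p.1 G, a * b = b * a := by
    by_contra h
    push Not at h
    refine hna fun a b => comm_of_comm_mod_central hMZ hco ?_
    rw [← QuotientGroup.mk_mul, ← QuotientGroup.mk_mul, QuotientGroup.eq, hM, mem_hallCompl]
    intro p hp
    rw [← QuotientGroup.eq, QuotientGroup.mk_mul, QuotientGroup.mk_mul]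
    exact h ⟨p, hp⟩ _ _
  obtain ⟨p, hpm⟩ := p
  have hpp := Nat.prime_of_mem_primeFactors hpm
  have := Fact.mk hpp
  obtain ⟨k, hk⟩ := CfsgLib.Transfer.index_pResidual (p := p) (G := G)
  have := Fintype.ofFinite (G ⧸ Cfsg.pResidual p G)
  obtain ⟨ψ, hψ⟩ : ∃ ψ : Cfsg.IrrCharacter (G ⧸ Cfsg.pResidual p G),
      (ψ : G ⧸ Cfsg.pResidual p G → ℂ) 1 ≠ 1 := by
    by_contra h
    push Not at h
    exact hp (comm_iff_forall_linear.mpr h)
  have hψm := ((hG.quotient (Cfsg.pResidual p G)) ψ ψ.2).resolve_left hψ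
  have hdm : m ∣ p ^ k := by
    have h := degree_dvd_card ψ.2 hψm
    rwa [show Nat.card (G ⧸ Cfsg.pResidual p G) = p ^ k from hk] at h
  obtain ⟨e, -, he⟩ := (Nat.dvd_prime_pow hpp).mp hdm
  have hMp : M = Cfsg.pResidual p G := le_antisymm (hallCompl_le hpm) (le_iInf₂ fun q hq => by
    have hqp : q = p := (Nat.prime_dvd_prime_iff_eq (Nat.prime_of_mem_primeFactors hq) hpp).mp
      ((Nat.prime_of_mem_primeFactors hq).dvd_of_dvd_pow (he ▸ Nat.dvd_of_mem_primeFactors hq))
    rw [hqp])
  have hMi : M.index = p ^ k := by rw [hMp, hk]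
  obtain ⟨P⟩ := (inferInstance : Nonempty (Sylow p G))
  have hinf : (P : Subgroup G) ⊓ M = ⊥ := by
    refine Subgroup.eq_bot_of_card_eq _ (Nat.eq_one_of_dvd_coprimes
      (hcm.coprime_dvd_right (Nat.dvd_of_mem_primeFactors hpm) |>.pow_right
        ((Nat.card G).factorization p)) (Subgroup.card_dvd_of_le inf_le_right) ?_)
    rw [← P.card_eq_multiplicity]
    exact Subgroup.card_dvd_of_le inf_le_left
  have hsup : (P : Subgroup G) ⊔ M = ⊤ := by
    rw [← Subgroup.index_eq_one]
    refine Nat.eq_one_of_dvd_coprimes (Nat.Coprime.pow_right k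
      ((hpp.coprime_iff_not_dvd.mpr P.not_dvd_index).symm))
      (Subgroup.index_dvd_of_le le_sup_left) ?_
    rw [← hMi]
    exact Subgroup.index_dvd_of_le le_sup_right
  have hPn : (P : Subgroup G).Normal := by
    rw [← Subgroup.normalizer_eq_top_iff]
    refine eq_top_iff.mpr (hsup ▸ sup_le Subgroup.le_normalizer fun a ha => ?_)
    rw [Subgroup.mem_normalizer_iff]
    intro x
    rw [← Subgroup.mem_center_iff.mp (hMZ ha) x, mul_inv_cancel_right]
  exact ⟨p, e, hpp, he, P, M, hPn, hMn, P.isPGroup', hMc, hinf, hsup⟩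

end CfsgLib.CharNormal
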