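import Cfsg.Agent.Lib.CharNormal.CongrP
import Cfsg.Agent.Lib.CharNormal.Basic
import Cfsg.Agent.Lib.Char.Generalized

/-!
# The Glauberman correspondence for a `p`-group of operators

`φ : S →* MulAut G` with `S` a `p`-group, `p ∤ |G|`, and `ι : C →* G` a monomorphism onto the fixed
points.  `mult ι χ β` is the multiplicity of `β` in `χ ∘ ι`.
-/

namespace CfsgLib.CharNormal

open CfsgLib.Char
open scoped ComplexConjugate

/-- `∑ χ, χ g · conj (χ h)` counts the elements conjugating `g` to `h`. -/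
theorem sum_irr_mul_conj_eq_card {G : Type*} [Group G] [Fintype G] [DecidableEq G] (g h : G) :
    ∑ χ : Cfsg.IrrCharacter G, (χ : G → ℂ) g * conj ((χ : G → ℂ) h) =
      ∑ x : G, if x * g * x⁻¹ = h then (1 : ℂ) else 0 := by
  classical
  rw [second_orthogonality g h, Finset.sum_boole]
  split_ifs with hc
  · obtain ⟨a, rfl⟩ := isConj_iff.mp hc
    rw [← Fintype.card_subtype, ← Nat.card_eq_fintype_card]
    refine congrArg Nat.cast (Nat.card_congr ((Equiv.mulLeft a).subtypeEquiv fun x => ?_))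
    simp only [Equiv.coe_mulLeft, Subgroup.mem_centralizer_singleton_iff]
    constructor
    · intro hx
      calc a * x * g * (a * x)⁻¹ = a * (x * g) * x⁻¹ * a⁻¹ := by group
        _ = a * g * a⁻¹ := by rw [hx]; group
    · intro hx
      have : x * g * x⁻¹ = g := by
        calc x * g * x⁻¹ = a⁻¹ * (a * x * g * (a * x)⁻¹) * a := by group
          _ = g := by rw [hx]; group
      exact mul_inv_eq_iff_eq_mul.mp this
  · rw [Finset.filter_false_of_mem fun x _ hx => hc (isConj_iff.mpr ⟨x, hx⟩)]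
    simp

variable {G C S : Type*} [Group G] [Group C] [Group S] [Fintype G] [Fintype C]
variable {p : ℕ} (φ : S →* MulAut G) (ι : C →* G)

/-- Invariance of an irreducible character under the operators. -/
def IsInvariant (χ : Cfsg.IrrCharacter G) : Prop :=
  ∀ (s : S) (g : G), (χ : G → ℂ) (φ s g) = (χ : G → ℂ) g

/-- The action of the operators on the irreducible characters. -/
@[reducible] def irrAction : MulAction S (Cfsg.IrrCharacter G) where
  smul s χ := ⟨(χ : G → ℂ) ∘ (φ s⁻¹ : G ≃* G), isIrr_comp_mulEquiv χ.2 _⟩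
  one_smul χ := Subtype.ext (funext fun g => by
    show (χ : G → ℂ) (φ (1 : S)⁻¹ g) = _
    simp)
  mul_smul s t χ := Subtype.ext (funext fun g => by
    show (χ : G → ℂ) (φ (s * t)⁻¹ g) = (χ : G → ℂ) (φ t⁻¹ (φ s⁻¹ g))
    simp [mul_inv_rev, MulAut.mul_apply])

/-- The multiplicity of `β` in `χ ∘ ι`. -/
noncomputable def mult (χ : Cfsg.IrrCharacter G) (β : Cfsg.IrrCharacter C) : ℕ :=
  (classInner_char_nat (isCharacter_comp (isCharacter_of_isIrr χ.2) ι)
    (isCharacter_of_isIrr β.2)).choose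

theorem classInner_eq_mult (χ : Cfsg.IrrCharacter G) (β : Cfsg.IrrCharacter C) :
    Cfsg.classInner ((χ : G → ℂ) ∘ ι) (β : C → ℂ) = mult ι χ β :=
  (classInner_char_nat (isCharacter_comp (isCharacter_of_isIrr χ.2) ι)
    (isCharacter_of_isIrr β.2)).choose_spec

theorem comp_eq_sum_mult (χ : Cfsg.IrrCharacter G) (c : C) :
    (χ : G → ℂ) (ι c) = ∑ β : Cfsg.IrrCharacter C, (mult ι χ β : ℂ) * (β : C → ℂ) c := by
  have h := congrFun (classFun_eq_sum (isClassFunction_of_isCharacter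
    (isCharacter_comp (isCharacter_of_isIrr χ.2) ι))) c
  simp only [classInner_eq_mult, Finset.sum_apply, Pi.smul_apply, smul_eq_mul] at h
  exact h

variable [Fact p.Prime]
variable {φ ι} (hS : IsPGroup p S) (hι : Function.Injective ι)
  (hfix : ∀ g, (∀ s, φ s g = g) ↔ g ∈ ι.range)

include hS hι hfix

/-- An invariant sum over `G` is congruent to the sum over the fixed points. -/
theorem congrP_sum_comp (F : G → ℂ) (hint : ∀ g, IsIntegral ℤ (F g))
    (hF : ∀ (s : S) (g : G), F (φ s g) = F g) : CongrP p (∑ g, F g) (∑ c, F (ι c)) := by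
  classical
  let _ : MulAction S G := MulAction.compHom G φ
  have h := congrP_sum_fixed hS F hint hF
  suffices he : (∑ g with g ∈ MulAction.fixedPoints S G, F g) = ∑ c, F (ι c) by rwa [he] at h
  refine (Finset.sum_nbij ι (fun c _ => ?_) hι.injOn (fun g hg => ?_) fun c _ => rfl).symm
  · simp only [Finset.mem_filter, Finset.mem_univ, true_and]
    exact (hfix (ι c)).mpr ⟨c, rfl⟩
  · simp only [Finset.coe_filter, Finset.mem_univ, true_and] at hg
    obtain ⟨c, hc⟩ := (hfix g).mp hg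
    exact ⟨c, Finset.mem_univ _, hc⟩

theorem card_modEq : (p : ℤ) ∣ (Nat.card G : ℤ) - Nat.card C := by
  apply CongrP.int_dvd
  simpa [Nat.card_eq_fintype_card] using
    congrP_sum_comp hS hι hfix (fun _ => (1 : ℂ)) (fun _ => isIntegral_one) (fun _ _ => rfl)

variable (hG : ¬ p ∣ Nat.card G)

include hG

theorem not_dvd_cardC : ¬ (p : ℤ) ∣ Nat.card C := fun h => by
  apply hG
  exact_mod_cast (dvd_sub_left h).mp (card_modEq hS hι hfix)

theorem fixed_eq {s : S} (c : C) : φ s (ι c) = ι c := (hfix (ι c)).mpr ⟨c, rfl⟩ s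

/-- Distinct invariant characters have no common constituent of multiplicity prime to `p`. -/
theorem dvd_mult_mul_of_ne {χ ψ : Cfsg.IrrCharacter G} (hχ : IsInvariant φ χ)
    (hψ : IsInvariant φ ψ) (hne : χ ≠ ψ) (γ : Cfsg.IrrCharacter C) :
    (p : ℤ) ∣ (mult ι χ γ : ℤ) * mult ι ψ γ := by
  classical
  obtain ⟨e, he, he1⟩ := exists_degree_pos γ.2
  obtain ⟨k, hk⟩ := degree_dvd_card γ.2 he1
  have hne' : (χ : G → ℂ) ≠ (ψ : G → ℂ) := fun h => hne (Subtype.ext h)
  have hint : ∀ (χ : Cfsg.IrrCharacter G) g, IsIntegral ℤ ((χ : G → ℂ) g) := fun χ g =>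
    char_isIntegral (isCharacter_of_isIrr χ.2) g
  have hintc : ∀ (χ : Cfsg.IrrCharacter G) g, IsIntegral ℤ (conj ((χ : G → ℂ) g)) := fun χ g => by
    rw [← char_inv (isCharacter_of_isIrr χ.2)]; exact hint χ _
  have key : ∀ c : C, CongrP p 0
      (∑ x : C, conj ((ψ : G → ℂ) (ι x)) * (χ : G → ℂ) (ι c * ι x)) := fun c => by
    have h1 := congrP_sum_comp hS hι hfix
      (fun g => conj ((ψ : G → ℂ) g) * (χ : G → ℂ) (ι c * g))
      (fun g => (hintc ψ g).mul (hint χ _)) (fun s g => by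
        have h2 : ι c * φ s g = φ s (ι c * g) := by rw [map_mul, fixed_eq hS hι hfix hG]
        rw [hψ s g, h2, hχ s])
    rwa [sum_conj_irr_mul_apply_mul χ.2 ψ.2, if_neg hne'] at h1
  have hexp : ∀ c : C, ∑ x : C, conj ((ψ : G → ℂ) (ι x)) * (χ : G → ℂ) (ι c * ι x) =
      ∑ β : Cfsg.IrrCharacter C, (mult ι ψ β : ℂ) * mult ι χ β *
        ((Nat.card C : ℂ) / (β : C → ℂ) 1 * (β : C → ℂ) c) := fun c => by
    have h1 : ∀ x : C, conj ((ψ : G → ℂ) (ι x)) * (χ : G → ℂ) (ι c * ι x) =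
        ∑ β : Cfsg.IrrCharacter C, ∑ δ : Cfsg.IrrCharacter C, (mult ι ψ δ : ℂ) * mult ι χ β *
          (conj ((δ : C → ℂ) x) * (β : C → ℂ) (c * x)) := fun x => by
      rw [← map_mul, comp_eq_sum_mult, comp_eq_sum_mult, map_sum, Finset.mul_sum]
      refine Finset.sum_congr rfl fun β _ => ?_
      rw [Finset.sum_mul]
      refine Finset.sum_congr rfl fun δ _ => ?_
      rw [map_mul, map_natCast]; ring
    rw [Finset.sum_congr rfl fun x _ => h1 x, Finset.sum_comm]
    refine Finset.sum_congr rfl fun β _ => ?_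
    rw [Finset.sum_comm, Finset.sum_eq_single β]
    · rw [← Finset.mul_sum, sum_conj_irr_mul_apply_mul β.2 β.2, if_pos rfl]
    · intro δ _ hδ
      rw [← Finset.mul_sum, sum_conj_irr_mul_apply_mul β.2 δ.2,
        if_neg (fun h => hδ (Subtype.ext h).symm), mul_zero]
    · simp
  have h2 : CongrP p 0 ((((mult ι ψ γ * mult ι χ γ * k * Nat.card C : ℕ) : ℤ)) : ℂ) := by
    have h3 := CongrP.sum (p := p) (s := Finset.univ) fun (c : C) _ =>
      (key c).mul_right (c := conj ((γ : C → ℂ) c)) (by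
        rw [← char_inv (isCharacter_of_isIrr γ.2)]
        exact char_isIntegral (isCharacter_of_isIrr γ.2) _)
    simp only [zero_mul, Finset.sum_const_zero, hexp, Finset.sum_mul] at h3
    rw [Finset.sum_comm, Finset.sum_eq_single γ] at h3
    · have hin : ∑ c : C, (γ : C → ℂ) c * conj ((γ : C → ℂ) c) = Nat.card C := by
        rw [← card_mul_classInner, classInner_irr_self γ.2, mul_one]
      have he0 : (e : ℂ) ≠ 0 := by exact_mod_cast he.ne'
      convert h3 using 1
      simp only [mul_assoc, ← Finset.mul_sum]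
      rw [hin, he1, show (Nat.card C : ℂ) = e * k from by exact_mod_cast hk]
      push_cast
      rw [show (Nat.card C : ℂ) = e * k from by exact_mod_cast hk]
      field_simp
    · intro β _ hβ
      simp only [mul_assoc, ← Finset.mul_sum]
      rw [← card_mul_classInner, classInner_irr_ne β.2 γ.2 (fun h => hβ (Subtype.ext h))]
      simp
    · simp
  rw [← Int.cast_zero] at h2
  have h4 := h2.int_dvd
  rw [zero_sub, dvd_neg] at h4
  push_cast at h4
  have hpk : ¬ (p : ℤ) ∣ k := fun h => not_dvd_cardC hS hι hfix hG (by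
    rw [hk]; push_cast; exact h.mul_left _)
  have hpp : Prime (p : ℤ) := (Nat.prime_iff_prime_int).mp Fact.out
  rcases hpp.dvd_or_dvd h4 with h5 | h5
  · rcases hpp.dvd_or_dvd h5 with h6 | h6
    · rwa [mul_comm]
    · exact absurd h6 hpk
  · exact absurd h5 (not_dvd_cardC hS hι hfix hG)

/-- The column relation. -/
theorem sum_invariant_mult_mul [DecidablePred (IsInvariant φ)]
    [DecidableEq (Cfsg.IrrCharacter C)] (β γ : Cfsg.IrrCharacter C) :
    (p : ℤ) ∣ (∑ χ with IsInvariant φ χ, (mult ι χ β : ℤ) * mult ι χ γ) -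
      if β = γ then 1 else 0 := by
  classical
  let _ : MulAction S (Cfsg.IrrCharacter G) := irrAction φ
  have hsm : ∀ (s : S) (χ : Cfsg.IrrCharacter G) g,
      ((s • χ : Cfsg.IrrCharacter G) : G → ℂ) g = (χ : G → ℂ) (φ s⁻¹ g) := fun _ _ _ => rfl
  have hm : ∀ (s : S) (χ : Cfsg.IrrCharacter G) β, mult ι (s • χ) β = mult ι χ β := fun s χ β => by
    have : ((s • χ : Cfsg.IrrCharacter G) : G → ℂ) ∘ ι = (χ : G → ℂ) ∘ ι := funext fun c => by
      rw [Function.comp_apply, hsm, fixed_eq hS hι hfix hG]; rfl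
    exact_mod_cast (classInner_eq_mult ι (s • χ) β).symm.trans
      (this ▸ classInner_eq_mult ι χ β)
  have hfp : ∀ χ : Cfsg.IrrCharacter G, χ ∈ MulAction.fixedPoints S _ ↔ IsInvariant φ χ := by
    refine fun χ => ⟨fun h s g => ?_, fun h s => Subtype.ext (funext fun g => ?_)⟩
    · have := congrArg (fun χ : Cfsg.IrrCharacter G => (χ : G → ℂ) g) (h s⁻¹)
      simpa [hsm] using this
    · rw [hsm, h]
  have h1 := dvd_sum_sub_fixed hS
    (fun χ : Cfsg.IrrCharacter G => (mult ι χ β : ℤ) * mult ι χ γ)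
    (fun s χ => by simp only [hm])
  rw [Finset.filter_congr fun χ _ => hfp χ] at h1
  have hcard : ∀ g h : C, CongrP p (∑ χ : Cfsg.IrrCharacter G,
      (χ : G → ℂ) (ι g) * conj ((χ : G → ℂ) (ι h)))
      (∑ δ : Cfsg.IrrCharacter C, (δ : C → ℂ) g * conj ((δ : C → ℂ) h)) := fun g h => by
    rw [sum_irr_mul_conj_eq_card, sum_irr_mul_conj_eq_card]
    have h2 := congrP_sum_comp hS hι hfix
      (fun x => if x * ι g * x⁻¹ = ι h then (1 : ℂ) else 0)
      (fun x => by split_ifs <;> [exact isIntegral_one; exact isIntegral_zero])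
      (fun s x => by
        refine if_congr ?_ rfl rfl
        rw [← (φ s).injective.eq_iff (a := x * ι g * x⁻¹)]
        simp [fixed_eq hS hι hfix hG])
    convert h2 using 2 with x
    refine if_congr ?_ rfl rfl
    rw [← map_inv, ← map_mul, ← map_mul, hι.eq_iff]
  have hintg : ∀ (δ : Cfsg.IrrCharacter C) c, IsIntegral ℤ ((δ : C → ℂ) c) := fun δ c =>
    char_isIntegral (isCharacter_of_isIrr δ.2) c
  have h3 : CongrP p
      (∑ c : C, ∑ d : C, conj ((β : C → ℂ) c) * (γ : C → ℂ) d *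
        (∑ χ : Cfsg.IrrCharacter G, (χ : G → ℂ) (ι c) * conj ((χ : G → ℂ) (ι d))))
      (∑ c : C, ∑ d : C, conj ((β : C → ℂ) c) * (γ : C → ℂ) d *
        (∑ δ : Cfsg.IrrCharacter C, (δ : C → ℂ) c * conj ((δ : C → ℂ) d))) :=
    CongrP.sum fun c _ => CongrP.sum fun d _ => (hcard c d).mul_left (.mul (by
      rw [← char_inv (isCharacter_of_isIrr β.2)]; exact hintg β _) (hintg γ d))
  have hL : (∑ c : C, ∑ d : C, conj ((β : C → ℂ) c) * (γ : C → ℂ) d *
        (∑ χ : Cfsg.IrrCharacter G, (χ : G → ℂ) (ι c) * conj ((χ : G → ℂ) (ι d)))) =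
      (((Nat.card C : ℤ) * Nat.card C * ∑ χ : Cfsg.IrrCharacter G,
        (mult ι χ β : ℤ) * mult ι χ γ : ℤ) : ℂ) := by
    push_cast
    simp only [Finset.mul_sum]
    rw [Finset.sum_congr rfl fun c _ => Finset.sum_comm, Finset.sum_comm]
    refine Finset.sum_congr rfl fun χ _ => ?_
    have e1 := card_mul_classInner ((χ : G → ℂ) ∘ ι) (β : C → ℂ)
    have e2 := congrArg conj (card_mul_classInner ((χ : G → ℂ) ∘ ι) (γ : C → ℂ))
    simp only [classInner_eq_mult, map_mul, map_natCast, map_sum, Complex.conj_conj,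
      Function.comp_apply] at e1 e2
    calc _ = (∑ c : C, (χ : G → ℂ) (ι c) * conj ((β : C → ℂ) c)) *
          ∑ d : C, conj ((χ : G → ℂ) (ι d)) * (γ : C → ℂ) d := by
            rw [Finset.sum_mul_sum]
            exact Finset.sum_congr rfl fun c _ => Finset.sum_congr rfl fun d _ => by ring
      _ = _ := by rw [← e1, ← e2]; ring
  have hR : (∑ c : C, ∑ d : C, conj ((β : C → ℂ) c) * (γ : C → ℂ) d *
        (∑ δ : Cfsg.IrrCharacter C, (δ : C → ℂ) c * conj ((δ : C → ℂ) d))) =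
      (((Nat.card C : ℤ) * Nat.card C * (if β = γ then 1 else 0) : ℤ) : ℂ) := by
    simp only [Finset.mul_sum]
    rw [Finset.sum_congr rfl fun c _ => Finset.sum_comm, Finset.sum_comm]
    have e : ∀ δ : Cfsg.IrrCharacter C,
        (∑ c : C, ∑ d : C, conj ((β : C → ℂ) c) * (γ : C → ℂ) d *
          ((δ : C → ℂ) c * conj ((δ : C → ℂ) d))) =
        ((Nat.card C : ℂ) * Cfsg.classInner (δ : C → ℂ) β) *
          ((Nat.card C : ℂ) * Cfsg.classInner (γ : C → ℂ) δ) := fun δ => by
      rw [card_mul_classInner, card_mul_classInner, Finset.sum_mul_sum]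
      exact Finset.sum_congr rfl fun c _ => Finset.sum_congr rfl fun d _ => by ring
    rw [Finset.sum_congr rfl fun δ _ => e δ, Finset.sum_eq_single β]
    · rw [classInner_irr_self β.2]
      split_ifs with hbg
      · subst hbg; rw [classInner_irr_self β.2]; push_cast; ring
      · rw [classInner_irr_ne γ.2 β.2 fun h => hbg (Subtype.ext h).symm]; simp
    · intro δ _ hδ
      rw [classInner_irr_ne δ.2 β.2 fun h => hδ (Subtype.ext h)]; simp
    · simp
  rw [hL, hR] at h3
  have h4 := h3.int_dvd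
  rw [← mul_sub] at h4
  have hpp : Prime (p : ℤ) := (Nat.prime_iff_prime_int).mp Fact.out
  have hC := not_dvd_cardC hS hι hfix hG
  have h5 := (hpp.dvd_or_dvd h4).resolve_left fun h => (hpp.dvd_or_dvd h).elim hC hC
  have h6 := dvd_sub h5 h1
  rw [sub_sub_sub_cancel_left] at h6
  exact h6

/-- The row relation. -/
theorem sum_mult_sq {χ : Cfsg.IrrCharacter G} (hχ : IsInvariant φ χ) :
    (p : ℤ) ∣ (∑ β : Cfsg.IrrCharacter C, (mult ι χ β : ℤ) ^ 2) - 1 := by
  classical
  have h1 := congrP_sum_comp hS hι hfix (fun g => (χ : G → ℂ) g * conj ((χ : G → ℂ) g))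
    (fun g => (char_isIntegral (isCharacter_of_isIrr χ.2) g).mul (by
      rw [← char_inv (isCharacter_of_isIrr χ.2)]
      exact char_isIntegral (isCharacter_of_isIrr χ.2) _))
    (fun s g => by simp only [hχ s g])
  have hin := classInner_eq_sum (isClassFunction_of_isCharacter
    (isCharacter_comp (isCharacter_of_isIrr χ.2) ι)) (f' := (χ : G → ℂ) ∘ ι)
  simp only [classInner_eq_mult, map_natCast] at hin
  rw [← card_mul_classInner, classInner_irr_self χ.2, mul_one,
    show (∑ c : C, (χ : G → ℂ) (ι c) * conj ((χ : G → ℂ) (ι c))) =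
      (Nat.card C : ℂ) * Cfsg.classInner ((χ : G → ℂ) ∘ ι) ((χ : G → ℂ) ∘ ι) from by
        rw [card_mul_classInner]; rfl, hin] at h1
  have h2 : (p : ℤ) ∣ (Nat.card G : ℤ) - Nat.card C * ∑ β : Cfsg.IrrCharacter C,
      (mult ι χ β : ℤ) ^ 2 := by
    apply CongrP.int_dvd
    push_cast
    simpa [pow_two] using h1
  have h3 := dvd_sub (card_modEq hS hι hfix) h2
  rw [sub_sub_sub_cancel_left, ← mul_sub_one] at h3
  exact (((Nat.prime_iff_prime_int).mp Fact.out).dvd_or_dvd h3).resolve_left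
    (not_dvd_cardC hS hι hfix hG)

theorem exists_mult_of_invariant {χ : Cfsg.IrrCharacter G} (hχ : IsInvariant φ χ) :
    ∃ β, ¬ p ∣ mult ι χ β := by
  by_contra h
  push Not at h
  have h1 : (p : ℤ) ∣ ∑ β : Cfsg.IrrCharacter C, (mult ι χ β : ℤ) ^ 2 :=
    Finset.dvd_sum fun β _ => dvd_pow (Int.natCast_dvd_natCast.mpr (h β)) two_ne_zero
  exact ((Nat.prime_iff_prime_int).mp Fact.out).not_dvd_one
    ((dvd_sub_right h1).mp (sum_mult_sq hS hι hfix hG hχ))

theorem exists_invariant_mult (β : Cfsg.IrrCharacter C) :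
    ∃ χ, IsInvariant φ χ ∧ ¬ p ∣ mult ι χ β := by
  classical
  by_contra h
  push Not at h
  have h1 := sum_invariant_mult_mul hS hι hfix hG β β
  rw [if_pos rfl, dvd_sub_right (Finset.dvd_sum fun χ hχ => Dvd.dvd.mul_right
    (Int.natCast_dvd_natCast.mpr (h χ (Finset.mem_filter.mp hχ).2)) _)] at h1
  exact ((Nat.prime_iff_prime_int).mp Fact.out).not_dvd_one h1

theorem invariant_unique {χ ψ : Cfsg.IrrCharacter G} (hχ : IsInvariant φ χ)
    (hψ : IsInvariant φ ψ) {β : Cfsg.IrrCharacter C} (h1 : ¬ p ∣ mult ι χ β)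
    (h2 : ¬ p ∣ mult ι ψ β) : χ = ψ := by
  by_contra hne
  rcases ((Nat.prime_iff_prime_int).mp (Fact.out : p.Prime)).dvd_or_dvd
    (dvd_mult_mul_of_ne hS hι hfix hG hχ hψ hne β) with h | h
  · exact h1 (Int.natCast_dvd_natCast.mp h)
  · exact h2 (Int.natCast_dvd_natCast.mp h)

theorem mult_unique {χ : Cfsg.IrrCharacter G} (hχ : IsInvariant φ χ)
    {β γ : Cfsg.IrrCharacter C} (h1 : ¬ p ∣ mult ι χ β) (h2 : ¬ p ∣ mult ι χ γ) : β = γ := by
  classical
  by_contra hne
  have h := sum_invariant_mult_mul hS hι hfix hG β γ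
  rw [if_neg hne, sub_zero, ← Finset.add_sum_erase _ _
    (Finset.mem_filter.mpr ⟨Finset.mem_univ χ, hχ⟩)] at h
  rw [dvd_add_left (Finset.dvd_sum fun ψ hψ => ?_)] at h
  · rcases ((Nat.prime_iff_prime_int).mp (Fact.out : p.Prime)).dvd_or_dvd h with h' | h'
    · exact h1 (Int.natCast_dvd_natCast.mp h')
    · exact h2 (Int.natCast_dvd_natCast.mp h')
  · simp only [Finset.mem_erase, Finset.mem_filter, Finset.mem_univ, true_and] at hψ
    refine Dvd.dvd.mul_right (Int.natCast_dvd_natCast.mpr ?_) _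
    by_contra hd
    exact hψ.1 (invariant_unique hS hι hfix hG hψ.2 hχ hd h1)

theorem mult_modEq {χ : Cfsg.IrrCharacter G} (hχ : IsInvariant φ χ)
    {β : Cfsg.IrrCharacter C} (h1 : ¬ p ∣ mult ι χ β) :
    (mult ι χ β : ℤ) ≡ 1 [ZMOD p] ∨ (mult ι χ β : ℤ) ≡ -1 [ZMOD p] := by
  classical
  have h := sum_mult_sq hS hι hfix hG hχ
  rw [← Finset.add_sum_erase _ _ (Finset.mem_univ β), add_sub_assoc] at h
  have h2 : (p : ℤ) ∣ ∑ γ ∈ Finset.univ.erase β, (mult ι χ γ : ℤ) ^ 2 :=
    Finset.dvd_sum fun γ hγ => dvd_pow (Int.natCast_dvd_natCast.mpr (by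
      by_contra hd
      simp only [Finset.mem_erase, Finset.mem_univ, and_true] at hγ
      exact hγ (mult_unique hS hι hfix hG hχ hd h1))) two_ne_zero
  have h3 : (p : ℤ) ∣ ((mult ι χ β : ℤ) - 1) * ((mult ι χ β : ℤ) + 1) := by
    have e : ((mult ι χ β : ℤ) - 1) * ((mult ι χ β : ℤ) + 1) = (mult ι χ β : ℤ) ^ 2 +
        ((∑ γ ∈ Finset.univ.erase β, (mult ι χ γ : ℤ) ^ 2) - 1) -
          ∑ γ ∈ Finset.univ.erase β, (mult ι χ γ : ℤ) ^ 2 := by ring
    rw [e]
    exact dvd_sub h h2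
  rcases ((Nat.prime_iff_prime_int).mp (Fact.out : p.Prime)).dvd_or_dvd h3 with h' | h'
  · exact Or.inl (Int.modEq_iff_dvd.mpr h').symm
  · exact Or.inr (Int.modEq_iff_dvd.mpr (by rwa [sub_neg_eq_add])).symm

end CfsgLib.CharNormal
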