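import Cfsg.Agent.Lib.CharNormal.InvariantAbove
import Cfsg.Agent.Lib.CharNormal.AbelianQuotient
import Cfsg.Agent.Lib.CharNormal.CentralCount
import Cfsg.Agent.Lib.CharNormal.Kernel
import Cfsg.Agent.Lib.CharNormal.ConjAut
import Cfsg.Agent.Lib.Char.Extension
import Mathlib.GroupTheory.SchurZassenhaus

/-!
# Invariant characters above, coprime layers

* `exists_invariant_weight`: an invariant weight `[G : N]` on the preimage of `G` in the projective
  extension of an invariant character of `N`;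
* `exists_invariant_over_layers_solvable`: for `N ≤ G` normal in `Γ`, coprime indices and solvable
  `Γ ⧸ G` an invariant character of `N` lies under an invariant character of `G`;
* `exists_invariant_over_layers`: the same with `G ⧸ N` solvable allowed as well.
-/

namespace CfsgLib.CharNormal

open CfsgLib.Char

universe u

section Weight

variable {Γ : Type u} [Group Γ] [Finite Γ] (G N : Subgroup Γ) [G.Normal] [N.Normal] {d : ℕ}
  (ρ : Representation ℂ N (Fin d → ℂ)) [ρ.IsIrreducible]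

instance projComapNormal : (G.comap (projHom N ρ)).Normal := Subgroup.Normal.comap ‹_› _

/-- A weight `[G : N]` on the preimage of `G`, invariant under the whole extension. -/
theorem exists_invariant_weight (hNG : N ≤ G)
    (hinv : ∀ (x : Γ) (n : N), ρ.character (MulAut.conjNormal x n) = ρ.character n)
    (hcop : G.index.Coprime (N.relIndex G)) :
    ∃ ν : G.comap (projHom N ρ) →* ℂˣ,
      (∀ (n : N) (h : projIncl N ρ n ∈ G.comap (projHom N ρ)), ν ⟨_, h⟩ = 1) ∧
      (∀ (z : ℂˣ) (h : projScalar N ρ z ∈ G.comap (projHom N ρ)),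
        ν ⟨_, h⟩ = z ^ N.relIndex G) ∧
      ∀ (e : projExt N ρ) (y : G.comap (projHom N ρ)), ν (MulAut.conjNormal e y) = ν y := by
  classical
  set π := projHom N ρ with hπ
  set EG := G.comap π with hEG
  set g := N.relIndex G with hg
  set a := G.index with ha
  let N' := N.subgroupOf G
  have hN'n : N'.Normal := ⟨fun x hx c => ‹N.Normal›.conj_mem _ hx _⟩
  let e : N' ≃* N := Subgroup.subgroupOfEquivOfLe hNG
  let ρ' : Representation ℂ N' (Fin d → ℂ) := ρ.comp e.toMonoidHom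
  have := Fintype.ofFinite N
  have := Fintype.ofFinite N'
  have hρ' : ρ'.IsIrreducible :=
    isIrreducible_of_isIrrCharacter ρ' (isIrr_comp_mulEquiv (isIrrCharacter_char ρ) e)
  have hinv' : ∀ (x : G) (n : N'),
      ρ'.character (MulAut.conjNormal x n) = ρ'.character n := fun x n => by
    refine Eq.trans ?_ (hinv (x : Γ) (e n))
    exact congrArg ρ.character (Subtype.ext rfl)
  obtain ⟨r, hr1, hr2⟩ := hasWeight_index_self (N := N') (ρ := ρ') hinv'
  let j : EG →* projExt N' ρ' :=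
    { toFun := fun y => ⟨(⟨π y, y.2⟩, ((y : projExt N ρ) : Γ × _).2), fun n => by
        refine Eq.trans ((y : projExt N ρ).2 (e n)) ?_
        exact congrArg (fun m => ρ.toHomUnits m * ((y : projExt N ρ) : Γ × _).2)
          (Subtype.ext rfl : MulAut.conjNormal (π y) (e n) =
            e (MulAut.conjNormal (⟨π y, y.2⟩ : G) n))⟩
      map_one' := rfl
      map_mul' := fun _ _ => rfl }
  let μ0 : EG →* ℂˣ := r.comp j
  have hμN : ∀ (n : N) (h : projIncl N ρ n ∈ EG), μ0 ⟨_, h⟩ = 1 := fun n h => by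
    refine Eq.trans (congrArg r ?_) (hr1 (e.symm n))
    exact Subtype.ext (Prod.ext (Subtype.ext rfl) rfl)
  have hμz : ∀ (z : ℂˣ) (h : projScalar N ρ z ∈ EG), μ0 ⟨_, h⟩ = z ^ g := fun z h => by
    refine Eq.trans ((congrArg r ?_).trans (hr2 z)) (zpow_natCast z _)
    exact Subtype.ext (Prod.ext (Subtype.ext rfl) rfl)
  have hcz : ∀ (x : projExt N ρ) (z : ℂˣ) (h : projScalar N ρ z ∈ EG),
      MulAut.conjNormal x (⟨_, h⟩ : EG) = ⟨_, h⟩ := fun x z h => Subtype.ext (by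
    rw [MulAut.conjNormal_apply]
    show x * projScalar N ρ z * x⁻¹ = _
    rw [← projScalar_comm, mul_inv_cancel_right])
  have hcn : ∀ (x : projExt N ρ) (n : N) (h : projIncl N ρ n ∈ EG),
      ∃ (m : N) (h' : projIncl N ρ m ∈ EG), MulAut.conjNormal x (⟨_, h⟩ : EG) = ⟨_, h'⟩ := by
    intro x n h
    have hm : projIncl N ρ (MulAut.conjNormal (π x) n) ∈ EG :=
      hNG (MulAut.conjNormal (π x) n).2
    refine ⟨_, hm, Subtype.ext ?_⟩
    rw [MulAut.conjNormal_apply]
    exact conj_projIncl x n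
  -- conjugates of `μ0`
  let F : projExt N ρ → (EG →* ℂˣ) := fun x => μ0.comp (MulAut.conjNormal x).toMonoidHom
  have hFy : ∀ x y, F x y = μ0 (MulAut.conjNormal x y) := fun _ _ => rfl
  have hFk : ∀ (x : projExt N ρ) (k : EG), F (x * k) = F x := by
    intro x k
    refine MonoidHom.ext fun y => ?_
    have h1 : MulAut.conjNormal (x * (k : projExt N ρ)) y =
        MulAut.conjNormal x (k * y * k⁻¹) := by
      rw [map_mul, MulAut.mul_apply]
      congr 1
    rw [hFy, h1, map_mul, map_mul, map_mul, map_mul, map_inv, map_inv, mul_comm (μ0 _),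
      mul_inv_cancel_right, hFy]
  let Q := projExt N ρ ⧸ EG
  have hfi : EG.index ≠ 0 := by
    rw [hEG, Subgroup.index_comap_of_surjective G (projHom_surjective hinv)]
    exact Subgroup.index_ne_zero_of_finite
  haveI : EG.FiniteIndex := ⟨hfi⟩
  have : Finite Q := Subgroup.finite_quotient_of_finiteIndex
  have := Fintype.ofFinite Q
  let μ' : EG →* ℂˣ := ∏ q : Q, F q.out
  have hμ'y : ∀ y, μ' y = ∏ q : Q, μ0 (MulAut.conjNormal q.out y) := fun y => by
    show (∏ q : Q, F q.out) y = _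
    rw [MonoidHom.finsetProd_apply]
    rfl
  have hμ'inv : ∀ x y, μ' (MulAut.conjNormal x y) = μ' y := by
    intro x y
    rw [hμ'y, hμ'y]
    refine Fintype.prod_equiv (Equiv.mulRight (x : Q)) _ _ fun q => ?_
    have hk : (q.out * x)⁻¹ * (q * (x : Q)).out ∈ EG := by
      rw [← QuotientGroup.eq, QuotientGroup.mk_mul, QuotientGroup.out_eq', QuotientGroup.out_eq']
    show μ0 _ = μ0 (MulAut.conjNormal (q * (x : Q)).out y)
    rw [← MulAut.mul_apply, ← map_mul, ← hFy, ← hFy, ← hFk (q.out * x) ⟨_, hk⟩]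
    congr 2
    exact (mul_inv_cancel_left _ _)
  have hμ'N : ∀ (n : N) (h : projIncl N ρ n ∈ EG), μ' ⟨_, h⟩ = 1 := fun n h => by
    rw [hμ'y]
    refine Finset.prod_eq_one fun q _ => ?_
    obtain ⟨m, h', he⟩ := hcn q.out n h
    rw [he, hμN]
  have hμ'z : ∀ (z : ℂˣ) (h : projScalar N ρ z ∈ EG), μ' ⟨_, h⟩ = (z ^ g) ^ a := fun z h => by
    rw [hμ'y]
    simp only [hcz, hμz]
    rw [Finset.prod_const, Finset.card_univ, ← Nat.card_eq_fintype_card]
    congr 1
    exact Subgroup.index_comap_of_surjective G (projHom_surjective hinv)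
  -- the `g`th power of `μ0` is invariant
  have hpow : ∀ x y, μ0 (MulAut.conjNormal x y) ^ g = μ0 y ^ g := by
    intro x y
    have h1 : (⟨π y, y.2⟩ : G) ^ N'.index ∈ N' := Subgroup.pow_index_mem N' _
    have h2 : π ((y ^ g : EG) : projExt N ρ) ∈ N := by
      rw [Subgroup.coe_pow, map_pow]
      exact h1
    obtain ⟨n, z, hz⟩ := projHom_mem h2
    have hnm : projIncl N ρ n ∈ EG := hNG n.2
    have hzm : projScalar N ρ z ∈ EG := by
      show π (projScalar N ρ z) ∈ G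
      rw [hπ, projHom_scalar]; exact one_mem _
    have hz' : y ^ g = (⟨_, hnm⟩ : EG) * ⟨_, hzm⟩ := Subtype.ext hz
    obtain ⟨m, h', he⟩ := hcn x n hnm
    rw [← map_pow, ← map_pow, ← map_pow, hz', map_mul (MulAut.conjNormal x), hcz, he, map_mul,
      map_mul, hμN, hμN]
  -- Bezout
  set s := Nat.gcdA a g
  set t := Nat.gcdB a g
  have hst : (1 : ℤ) = a * s + g * t := by
    have h := Nat.gcd_eq_gcd_ab a g
    rw [Nat.coprime_iff_gcd_eq_one.mp hcop] at h
    exact_mod_cast h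
  let ν : EG →* ℂˣ := (zpowGroupHom s).comp μ' *
    (zpowGroupHom t).comp ((powMonoidHom g).comp μ0)
  have hν : ∀ y, ν y = μ' y ^ s * (μ0 y ^ g) ^ t := fun y => rfl
  refine ⟨ν, fun n h => ?_, fun z h => ?_, fun x y => ?_⟩
  · rw [hν, hμ'N, hμN, one_zpow, one_pow, one_zpow, one_mul]
  · rw [hν, hμ'z, hμz, ← zpow_natCast (z ^ g) a, ← zpow_mul, ← zpow_natCast (z ^ g) g, ← zpow_mul,
      ← zpow_add, ← hst, zpow_one]
  · rw [hν, hν, hμ'inv, hpow]

end Weight

variable {Γ : Type u} [Group Γ] [Fintype Γ] (G N : Subgroup Γ) [G.Normal] [N.Normal] [Fintype G]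
  [Fintype N]

/-- A complement modulo `N`. -/
theorem exists_complement_mod (hNG : N ≤ G) (hcop : G.index.Coprime (N.relIndex G)) :
    ∃ V : Subgroup (Γ ⧸ N), G ⊓ V.comap (QuotientGroup.mk' N) = N ∧
      (∀ x : Γ, ∃ h ∈ G, ∃ u ∈ V.comap (QuotientGroup.mk' N), x = h * u) ∧
      Nat.card V = G.index ∧ Nonempty (V ≃* Γ ⧸ G) := by
  classical
  set Gb := G.map (QuotientGroup.mk' N)
  have : Gb.Normal := Subgroup.Normal.map ‹_› _ (QuotientGroup.mk'_surjective N)
  have hker : (QuotientGroup.mk' N).ker ≤ G := by rw [QuotientGroup.ker_mk']; exact hNG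
  have hcomap : Gb.comap (QuotientGroup.mk' N) = G := Subgroup.comap_map_eq_self hker
  have hidx : Gb.index = G.index := by
    rw [← Subgroup.index_comap_of_surjective Gb (QuotientGroup.mk'_surjective N), hcomap]
  have hcard : Nat.card Gb = N.relIndex G := by
    refine Nat.eq_of_mul_eq_mul_right (Nat.pos_of_ne_zero
      (Subgroup.index_ne_zero_of_finite (H := G))) ?_
    rw [Subgroup.relIndex_mul_index hNG, ← hidx, Subgroup.card_mul_index]
    rfl
  obtain ⟨V, hV⟩ := Subgroup.exists_right_complement'_of_coprime (N := Gb)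
    (by rw [hidx, hcard]; exact hcop.symm)
  refine ⟨V, le_antisymm ?_ ?_, fun x => ?_, ?_, ?_⟩
  · rintro x ⟨hxG, hxV⟩
    have h : (x : Γ ⧸ N) ∈ Gb ⊓ V := ⟨Subgroup.mem_map_of_mem _ hxG, hxV⟩
    rw [hV.disjoint.eq_bot, Subgroup.mem_bot, QuotientGroup.eq_one_iff] at h
    exact h
  · exact fun n hn => ⟨hNG hn, by
      show (n : Γ ⧸ N) ∈ V
      rw [(QuotientGroup.eq_one_iff n).mpr hn]; exact one_mem _⟩
  · obtain ⟨⟨q, v⟩, hqv⟩ := hV.existsUnique (x : Γ ⧸ N) |>.exists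
    obtain ⟨h, hh, hhq⟩ := Subgroup.mem_map.mp q.2
    refine ⟨h, hh, h⁻¹ * x, ?_, (mul_inv_cancel_left h x).symm⟩
    show ((h⁻¹ * x : Γ) : Γ ⧸ N) ∈ V
    have : ((h⁻¹ * x : Γ) : Γ ⧸ N) = v := by
      rw [QuotientGroup.mk_mul, QuotientGroup.mk_inv, ← hqv]
      show (h : Γ ⧸ N)⁻¹ * ((q : Γ ⧸ N) * v) = v
      rw [← hhq, QuotientGroup.mk'_apply, inv_mul_cancel_left]
    rw [this]; exact v.2
  · rw [← hV.symm.index_eq_card, hidx]
  · refine ⟨(MulEquiv.ofBijective ((QuotientGroup.mk' Gb).comp V.subtype) ?_).trans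
      (QuotientGroup.quotientQuotientEquivQuotient N G hNG)⟩
    constructor
    · rw [injective_iff_map_eq_one]
      intro v hv
      have h : (v : Γ ⧸ N) ∈ Gb ⊓ V := ⟨(QuotientGroup.eq_one_iff _).mp hv, v.2⟩
      rw [hV.disjoint.eq_bot, Subgroup.mem_bot] at h
      exact Subtype.ext h
    · intro q
      obtain ⟨q, rfl⟩ := QuotientGroup.mk'_surjective Gb q
      obtain ⟨⟨h, v⟩, hqv⟩ := hV.existsUnique q |>.exists
      refine ⟨v, ?_⟩
      show QuotientGroup.mk' Gb v = QuotientGroup.mk' Gb q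
      rw [← hqv]
      show _ = QuotientGroup.mk' Gb ((h : Γ ⧸ N) * v)
      rw [map_mul, show QuotientGroup.mk' Gb (h : Γ ⧸ N) = 1 from
        (QuotientGroup.eq_one_iff _).mpr h.2, one_mul]

/-- The case of a solvable `Γ ⧸ G`. -/
theorem exists_invariant_over_layers_solvable (hNG : N ≤ G)
    (hcop : G.index.Coprime (N.relIndex G)) (hsolv : Group.IsSolvable (Γ ⧸ G))
    (θ : Cfsg.IrrCharacter N)
    (hinv : ∀ (x : Γ) (n : N),
      (θ : N → ℂ) ⟨x * n * x⁻¹, ‹N.Normal›.conj_mem n n.2 x⟩ = (θ : N → ℂ) n) :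
    ∃ χ : Cfsg.IrrCharacter G,
      Cfsg.classInner (fun n : N => (χ : G → ℂ) ⟨n, hNG n.2⟩) (θ : N → ℂ) ≠ 0 ∧
      ∀ (x : Γ) (y : G),
        (χ : G → ℂ) ⟨x * y * x⁻¹, ‹G.Normal›.conj_mem y y.2 x⟩ = (χ : G → ℂ) y := by
  classical
  obtain ⟨d, ρ, hρ, hρθ, hρinv, hd⟩ := exists_rep_of_invariant N θ.2 hinv
  haveI := hρ
  obtain ⟨V, hGV, hmul, hVcard, ⟨eV⟩⟩ := exists_complement_mod G N hNG hcop
  set g := N.relIndex G with hg
  have hg0 : g ≠ 0 := Subgroup.index_ne_zero_of_finite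
  haveI : NeZero g := ⟨hg0⟩
  set π := projHom N ρ with hπ
  set EG := G.comap π with hEG
  obtain ⟨ν, hνN, hνz, hνinv⟩ := exists_invariant_weight G N ρ hNG hρinv hcop
  set E0 := ν.ker with hE0
  let π0 : E0 →* G := (π.subgroupComap G).comp E0.subtype
  have hπ0 : ∀ y : E0, (π0 y : Γ) = π ((y : EG) : projExt N ρ) := fun _ => rfl
  have hincG : ∀ n : N, projIncl N ρ n ∈ EG := fun n => hNG n.2
  have hzG : ∀ z : ℂˣ, projScalar N ρ z ∈ EG := fun z => by
    show π (projScalar N ρ z) ∈ G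
    rw [hπ, projHom_scalar]; exact one_mem _
  let i : N →* E0 := ((projIncl N ρ).codRestrict EG hincG).codRestrict E0 fun n => hνN n _
  let ι : rootsOfUnity g ℂ →* E0 :=
    (((projScalar N ρ).codRestrict EG hzG).comp (rootsOfUnity g ℂ).subtype).codRestrict E0
      fun z => (hνz (z : ℂˣ) _).trans ((mem_rootsOfUnity g _).mp z.2)
  have hiv : ∀ n, (((i n : E0) : EG) : projExt N ρ) = projIncl N ρ n := fun _ => rfl
  have hιv : ∀ z, (((ι z : E0) : EG) : projExt N ρ) = projScalar N ρ (z : ℂˣ) := fun _ => rfl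
  have hiinj : Function.Injective i := fun m n h => by
    have h1 := congrArg (fun y : E0 => π ((y : EG) : projExt N ρ)) h
    simp only [hiv] at h1
    exact Subtype.ext h1
  have hιinj : Function.Injective ι := fun w z h => by
    have h1 := congrArg (fun y : E0 => ((y : EG) : projExt N ρ)) h
    exact Subtype.ext (projScalar_injective h1)
  have hιc : ∀ z (y : E0), ι z * y = y * ι z := fun z y =>
    Subtype.ext (Subtype.ext (projScalar_comm _ _))
  have hsur : Function.Surjective π0 := by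
    intro x
    obtain ⟨e, he⟩ := projHom_surjective hρinv (x : Γ)
    have heG : e ∈ EG := by show π e ∈ G; rw [he]; exact x.2
    obtain ⟨w, hw⟩ := IsAlgClosed.exists_pow_nat_eq (((ν ⟨e, heG⟩)⁻¹ : ℂˣ) : ℂ)
      (Nat.pos_of_ne_zero hg0)
    have hw0 : w ≠ 0 := by
      rintro rfl; rw [zero_pow hg0] at hw; exact ((ν ⟨e, heG⟩)⁻¹).ne_zero hw.symm
    refine ⟨⟨⟨e, heG⟩ * ⟨_, hzG (Units.mk0 w hw0)⟩, ?_⟩, Subtype.ext ?_⟩
    · rw [hE0, MonoidHom.mem_ker, map_mul, hνz,
        show Units.mk0 w hw0 ^ g = (ν ⟨e, heG⟩)⁻¹ from Units.ext (by simpa using hw),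
        mul_inv_cancel]
    · show π (e * projScalar N ρ (Units.mk0 w hw0)) = x
      rw [map_mul, he, hπ, projHom_scalar, mul_one]
  have hker : π0.ker = ι.range := by
    ext y
    constructor
    · intro hy
      obtain ⟨z, hz⟩ := projHom_eq_one (e := ((y : EG) : projExt N ρ))
        ((hπ0 y).symm.trans (congrArg Subtype.val hy))
      have hz1 : z ^ g = 1 := by
        rw [← hνz z (hzG z)]
        exact Eq.trans (congrArg ν (Subtype.ext hz.symm)) y.2
      exact ⟨⟨z, (mem_rootsOfUnity g z).mpr hz1⟩, Subtype.ext (Subtype.ext hz.symm)⟩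
    · rintro ⟨z, rfl⟩
      exact Subtype.ext ((hπ0 _).trans (projHom_scalar _))
  have hμ : Nat.card (rootsOfUnity g ℂ) = g := by
    exact (Complex.isPrimitiveRoot_exp g hg0).card_rootsOfUnity
  have hE0card : Nat.card E0 = Nat.card G * g := by
    rw [Subgroup.card_eq_card_quotient_mul_card_subgroup π0.ker,
      Nat.card_congr (QuotientGroup.quotientKerEquivOfSurjective π0 hsur).toEquiv, hker,
      ← Nat.card_congr (MonoidHom.ofInjective hιinj).toEquiv, hμ]
  have : Finite E0 := Nat.finite_of_card_ne_zero (by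
    rw [hE0card]; exact Nat.mul_ne_zero Nat.card_pos.ne' hg0)
  let N0 := i.range
  have hN0n : N0.Normal := ⟨by
    rintro _ ⟨n, rfl⟩ y
    exact ⟨MulAut.conjNormal (π ((y : EG) : projExt N ρ)) n,
      Subtype.ext (Subtype.ext (conj_projIncl _ n).symm)⟩⟩
  have hQcard : Nat.card (E0 ⧸ N0) = g * g := by
    refine Nat.eq_of_mul_eq_mul_right (Nat.card_pos (α := N0)) ?_
    rw [← Subgroup.card_eq_card_quotient_mul_card_subgroup, hE0card,
      ← Nat.card_congr (MonoidHom.ofInjective hiinj).toEquiv, hg, Subgroup.relIndex,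
      ← Subgroup.card_mul_index (N.subgroupOf G),
      Nat.card_congr (Subgroup.subgroupOfEquivOfLe hNG).toEquiv]
    ring
  -- the operators
  let EU := V.comap ((QuotientGroup.mk' N).comp π)
  let ψU : EU →* MulAut EG := (MulAut.conjNormal (H := EG)).comp EU.subtype
  have hE0stab : ∀ s, ∀ y ∈ E0, ψU s y ∈ E0 := fun s y hy => (hνinv (s : projExt N ρ) y).trans hy
  let ψ0 : EU →* MulAut E0 := restrAut ψU E0 hE0stab
  have hψ0 : ∀ (s : EU) (y : E0), (((ψ0 s y : E0) : EG) : projExt N ρ) =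
      (s : projExt N ρ) * ((y : EG) : projExt N ρ) * (s : projExt N ρ)⁻¹ := fun s y =>
    MulAut.conjNormal_apply _ _
  have hN0stab : ∀ s, N0.map (ψ0 s : E0 ≃* E0).toMonoidHom = N0 := by
    have hle : ∀ s, ∀ y ∈ N0, ψ0 s y ∈ N0 := by
      rintro s _ ⟨n, rfl⟩
      refine ⟨MulAut.conjNormal (π (s : projExt N ρ)) n, Subtype.ext (Subtype.ext ?_)⟩
      rw [hψ0, hiv, hiv]
      exact (conj_projIncl _ n).symm
    intro s
    ext y
    constructor
    · rintro ⟨x, hx, rfl⟩; exact hle s x hx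
    · intro hy
      refine ⟨ψ0 s⁻¹ y, hle _ y hy, ?_⟩
      show ψ0 s (ψ0 s⁻¹ y) = y
      rw [← MulAut.mul_apply, ← map_mul, mul_inv_cancel, map_one]; rfl
  let act : EU →* MulAut (E0 ⧸ N0) :=
    { toFun := fun s => QuotientGroup.congr N0 N0 (ψ0 s) (hN0stab s)
      map_one' := MulEquiv.ext fun q => by
        obtain ⟨y, rfl⟩ := QuotientGroup.mk_surjective q
        show ((ψ0 1 y : E0) : E0 ⧸ N0) = (y : E0 ⧸ N0)
        rw [map_one]; rfl
      map_mul' := fun s t => MulEquiv.ext fun q => by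
        obtain ⟨y, rfl⟩ := QuotientGroup.mk_surjective q
        show ((ψ0 (s * t) y : E0) : E0 ⧸ N0) = ((ψ0 s (ψ0 t y) : E0) : E0 ⧸ N0)
        rw [map_mul]; rfl }
  have hact : ∀ s (y : E0), act s (y : E0 ⧸ N0) = ((ψ0 s y : E0) : E0 ⧸ N0) := fun _ _ => rfl
  let f : EU →* V := (((QuotientGroup.mk' N).comp π).subgroupComap V)
  have hf : Function.Surjective f := by
    intro v
    obtain ⟨x, hx⟩ := QuotientGroup.mk'_surjective N (v : Γ ⧸ N)
    obtain ⟨e, rfl⟩ := projHom_surjective hρinv x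
    exact ⟨⟨e, by show ((QuotientGroup.mk' N).comp π) e ∈ V; exact (show _ = _ from hx) ▸ v.2⟩,
      Subtype.ext hx⟩
  have hfker : f.ker ≤ act.ker := by
    intro s hs
    have hsN : π (s : projExt N ρ) ∈ N :=
      (QuotientGroup.eq_one_iff _).mp (congrArg Subtype.val hs)
    obtain ⟨n, z, hz⟩ := projHom_mem hsN
    rw [MonoidHom.mem_ker]
    refine MulEquiv.ext fun q => ?_
    obtain ⟨y, rfl⟩ := QuotientGroup.mk_surjective q
    show act s (y : E0 ⧸ N0) = (y : E0 ⧸ N0)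
    have h1 : ψ0 s y = i n * y * (i n)⁻¹ := Subtype.ext (Subtype.ext (by
      rw [hψ0, hz]
      simp only [Subgroup.coe_mul, Subgroup.coe_inv, hiv]
      rw [mul_assoc (projIncl N ρ n), projScalar_comm]
      group))
    have h2 : ((i n : E0) : E0 ⧸ N0) = 1 := (QuotientGroup.eq_one_iff _).mpr ⟨n, rfl⟩
    rw [hact, h1, QuotientGroup.mk_mul, QuotientGroup.mk_mul, QuotientGroup.mk_inv, h2]
    simp
  let φ : V →* MulAut (E0 ⧸ N0) := MonoidHom.liftOfSurjective f hf ⟨act, hfker⟩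
  have hφ : ∀ s, φ (f s) = act s :=
    fun s => MonoidHom.liftOfRightInverse_comp_apply f _ _ ⟨act, hfker⟩ s
  have hVsolv : Group.IsSolvable V :=
    haveI := hsolv
    Group.isSolvable_of_isSolvable_injective (f := eV.toMonoidHom) eV.injective
  have hcopQ : (Nat.card (E0 ⧸ N0)).Coprime (Nat.card V) := by
    rw [hQcard, hVcard]; exact Nat.Coprime.mul_left hcop.symm hcop.symm
  -- the central subgroup
  let j : rootsOfUnity g ℂ →* E0 ⧸ N0 := (QuotientGroup.mk' N0).comp ι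
  have hjinj : Function.Injective j := by
    rw [injective_iff_map_eq_one]
    intro z hz
    obtain ⟨n, hn⟩ := (QuotientGroup.eq_one_iff _).mp hz
    have h1 := congrArg (fun y : E0 => π ((y : EG) : projExt N ρ)) hn
    simp only [hiv, hιv] at h1
    have hn1 : n = 1 := Subtype.ext (h1.trans (projHom_scalar _))
    exact hιinj (by rw [← hn, hn1, map_one, map_one])
  let Z := j.range
  have hjc : ∀ z q, j z * q = q * j z := fun z q => by
    obtain ⟨y, rfl⟩ := QuotientGroup.mk_surjective q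
    exact congrArg (fun y : E0 => (y : E0 ⧸ N0)) (hιc z y)
  have hZc : Z ≤ Subgroup.center (E0 ⧸ N0) := by
    rintro _ ⟨z, rfl⟩
    exact Subgroup.mem_center_iff.mpr fun q => (hjc z q).symm
  have hZn : Z.Normal := ⟨by
    rintro _ ⟨z, rfl⟩ q
    exact ⟨z, by rw [← hjc, mul_inv_cancel_right]⟩⟩
  let eZ : rootsOfUnity g ℂ ≃* Z := MonoidHom.ofInjective hjinj
  let lh : Z →* ℂˣ := ((rootsOfUnity g ℂ).subtype.comp eZ.symm.toMonoidHom)⁻¹
  let lam : Cfsg.IrrCharacter Z := ⟨fun c => (lh c : ℂ), isIrrCharacter_units_hom lh⟩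
  have hlam : ∀ z, (lam : Z → ℂ) (eZ z) = (((z : ℂˣ)⁻¹ : ℂˣ) : ℂ) := fun z => by
    show ((((eZ.symm (eZ z) : rootsOfUnity g ℂ) : ℂˣ)⁻¹ : ℂˣ) : ℂ) = _
    rw [MulEquiv.symm_apply_apply]
  have hfixZ : ∀ v, ∀ c ∈ Z, φ v c = c := by
    rintro v _ ⟨z, rfl⟩
    obtain ⟨s, rfl⟩ := hf v
    rw [hφ]
    show act s ((ι z : E0) : E0 ⧸ N0) = ((ι z : E0) : E0 ⧸ N0)
    rw [hact]
    refine congrArg _ (Subtype.ext (Subtype.ext ?_))
    rw [hψ0, hιv, ← projScalar_comm, mul_inv_cancel_right]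
  have hZstab : ∀ v, ∀ c ∈ Z, φ v c ∈ Z := fun v c hc => (hfixZ v c hc).symm ▸ hc
  have hlinv : IsInvariant (restrAut φ Z hZstab) lam := fun v c =>
    congrArg (lam : Z → ℂ) (Subtype.ext (hfixZ v c c.2))
  have := Fintype.ofFinite (E0 ⧸ N0)
  have := Fintype.ofFinite Z
  obtain ⟨β, hβinv, hβ0⟩ := exists_invariant_over φ hVsolv hcopQ Z hZstab lam hlinv
  have hβres : ∀ c : Z, (β : E0 ⧸ N0 → ℂ) c = (β : E0 ⧸ N0 → ℂ) 1 * (lam : Z → ℂ) c := by
    have h1 := res_eq_smul_of_invariant Z β.2 lam.2 (fun q => funext fun c => by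
      refine congrArg (lam : Z → ℂ) (Subtype.ext ?_)
      show q * (c : E0 ⧸ N0) * q⁻¹ = c
      rw [Subgroup.mem_center_iff.mp (hZc c.2) q, mul_inv_cancel_right]) hβ0
    intro c
    have h2 := congrFun h1 c
    have h3 := congrFun h1 1
    simp only [Pi.smul_apply, smul_eq_mul] at h2 h3
    rw [show ((1 : Z) : E0 ⧸ N0) = 1 from rfl] at h3
    have h4 : (lam : Z → ℂ) 1 = 1 := by
      show (lh 1 : ℂ) = 1
      rw [map_one]; rfl
    rw [h2, h3, h4, mul_one]
  have hβz : ∀ (z : rootsOfUnity g ℂ) (q : E0 ⧸ N0),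
      (β : E0 ⧸ N0 → ℂ) (j z * q) = (((z : ℂˣ)⁻¹ : ℂˣ) : ℂ) * (β : E0 ⧸ N0 → ℂ) q := fun z q => by
    refine mul_right_cancel₀ (irr_one_ne_zero β.2) ?_
    have h : (β : E0 ⧸ N0 → ℂ) (j z) = _ := hβres (eZ z)
    rw [char_center_mul β.2 (hZc ⟨z, rfl⟩) q, h, hlam]
    ring
  -- the projective extension as a representation
  let σ : Representation ℂ E0 (Fin d → ℂ) :=
    (Units.coeHom _).comp (((MonoidHom.snd _ _).comp (projExt N ρ).subtype).comp
      (EG.subtype.comp E0.subtype))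
  have hσi : ∀ n, σ (i n) = ρ n := fun _ => rfl
  have hσι : ∀ z, σ (ι z) = algebraMap ℂ (Module.End ℂ (Fin d → ℂ)) ((z : ℂˣ) : ℂ) := fun _ => rfl
  have := Fintype.ofFinite E0
  have := Fintype.ofFinite N0
  have hres : Cfsg.IsIrrCharacter N0 (fun y : N0 => σ.character y) := by
    have h : (fun y : N0 => σ.character y) =
        ρ.character ∘ (MonoidHom.ofInjective hiinj).symm := funext fun y => by
      obtain ⟨n, rfl⟩ := (MonoidHom.ofInjective hiinj).surjective y
      show σ.character (i n) = ρ.character _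
      rw [MulEquiv.symm_apply_apply, Representation.character, Representation.character, hσi]
    rw [h]
    exact isIrr_comp_mulEquiv (isIrrCharacter_char ρ) _
  let ψf : E0 → ℂ := σ.character * ((β : E0 ⧸ N0 → ℂ) ∘ QuotientGroup.mk)
  have hψirr : Cfsg.IsIrrCharacter E0 ψf :=
    isIrr_mul_comp_mk' N0 (isCharacter_char σ) hres β.2
  have hψker : ∀ y ∈ π0.ker, ψf y = ψf 1 := by
    intro y hy
    rw [hker] at hy
    obtain ⟨z, rfl⟩ := hy
    have h1 : σ.character (ι z) = ((z : ℂˣ) : ℂ) * σ.character 1 := by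
      simp [Representation.character, hσι, Algebra.algebraMap_eq_smul_one]
    show σ.character (ι z) * (β : E0 ⧸ N0 → ℂ) (j z) =
      σ.character 1 * (β : E0 ⧸ N0 → ℂ) ((1 : E0) : E0 ⧸ N0)
    rw [h1, ← mul_one (j z), hβz, QuotientGroup.mk_one, Units.val_inv_eq_inv_val]
    field_simp
  have := Fintype.ofFinite (E0 ⧸ π0.ker)
  obtain ⟨χ', hχ', hχ'e⟩ := exists_irr_eq_comp_mk' π0.ker hψirr hψker
  let eG : E0 ⧸ π0.ker ≃* G := QuotientGroup.quotientKerEquivOfSurjective π0 hsur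
  refine ⟨⟨χ' ∘ eG.symm, isIrr_comp_mulEquiv hχ' eG.symm⟩, ?_, ?_⟩
  · have hπχ : ∀ y, χ' (eG.symm (π0 y)) = ψf y := fun y => by
      have h : eG.symm (π0 y) = (y : E0 ⧸ π0.ker) := eG.symm_apply_eq.mpr rfl
      rw [h, ← hχ'e]; rfl
    have h : (fun n : N => χ' (eG.symm ⟨n, hNG n.2⟩)) =
        (β : E0 ⧸ N0 → ℂ) 1 • (θ : N → ℂ) := funext fun n => by
      rw [show (⟨(n : Γ), hNG n.2⟩ : G) = π0 (i n) from rfl, hπχ]
      show σ.character (i n) * (β : E0 ⧸ N0 → ℂ) ((i n : E0) : E0 ⧸ N0) = _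
      rw [(QuotientGroup.eq_one_iff (i n)).mpr (⟨n, rfl⟩ : i n ∈ N0), Representation.character, hσi,
        Pi.smul_apply, smul_eq_mul, ← hρθ, Representation.character, mul_comm]
    show Cfsg.classInner (fun n : N => χ' (eG.symm ⟨n, hNG n.2⟩)) (θ : N → ℂ) ≠ 0
    rw [h, classInner_smul_left, classInner_irr_self θ.2, mul_one]
    exact irr_one_ne_zero β.2
  · have hπχ : ∀ y, χ' (eG.symm (π0 y)) = ψf y := fun y => by
      have h : eG.symm (π0 y) = (y : E0 ⧸ π0.ker) := eG.symm_apply_eq.mpr rfl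
      rw [h, ← hχ'e]; rfl
    intro x y
    obtain ⟨h, hh, w, hw, rfl⟩ := hmul x
    obtain ⟨e, he⟩ := projHom_surjective hρinv w
    have heU : e ∈ EU := by
      show ((QuotientGroup.mk' N).comp π) e ∈ V
      rw [MonoidHom.comp_apply, he]; exact hw
    obtain ⟨y, rfl⟩ := hsur y
    have hcl := isClassFunction_of_isIrr (isIrr_comp_mulEquiv hχ' eG.symm)
    have h1 : (⟨h * w * (π0 y : Γ) * (h * w)⁻¹,
        ‹G.Normal›.conj_mem _ (π0 y).2 _⟩ : G) =
        (⟨h, hh⟩ : G) * π0 (ψ0 ⟨e, heU⟩ y) * (⟨h, hh⟩ : G)⁻¹ := Subtype.ext (by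
      simp only [Subgroup.coe_mul, Subgroup.coe_inv, hπ0, hψ0, map_mul, map_inv]
      rw [hπ, he]
      group)
    show (χ' ∘ eG.symm) _ = (χ' ∘ eG.symm) _
    rw [h1, hcl, Function.comp_apply, Function.comp_apply, hπχ, hπχ]
    show σ.character (ψ0 ⟨e, heU⟩ y) * (β : E0 ⧸ N0 → ℂ) ((ψ0 ⟨e, heU⟩ y : E0) : E0 ⧸ N0) = _
    rw [← hact, ← hφ, hβinv]
    congr 1
    have hσc : σ (ψ0 ⟨e, heU⟩ y) =
        (e.1.2 : Module.End ℂ (Fin d → ℂ)) * σ y *
          ((e.1.2⁻¹ : (Module.End ℂ (Fin d → ℂ))ˣ) : Module.End ℂ (Fin d → ℂ)) := by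
      show (Units.val (((ψ0 ⟨e, heU⟩ y : E0) : EG) : projExt N ρ).1.2) = _
      rw [hψ0]
      rfl
    rw [Representation.character, hσc, LinearMap.trace_mul_comm, ← mul_assoc, Units.inv_mul,
      one_mul]
    rfl

/-- Invariant characters above invariant characters across coprime layers. -/
theorem exists_invariant_over_layers (hNG : N ≤ G) (hcop : G.index.Coprime (N.relIndex G))
    (hsolv : Group.IsSolvable (Γ ⧸ G) ∨ Group.IsSolvable (G ⧸ N.subgroupOf G))
    (θ : Cfsg.IrrCharacter N)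
    (hinv : ∀ (x : Γ) (n : N),
      (θ : N → ℂ) ⟨x * n * x⁻¹, ‹N.Normal›.conj_mem n n.2 x⟩ = (θ : N → ℂ) n) :
    ∃ χ : Cfsg.IrrCharacter G,
      Cfsg.classInner (fun n : N => (χ : G → ℂ) ⟨n, hNG n.2⟩) (θ : N → ℂ) ≠ 0 ∧
      ∀ (x : Γ) (y : G),
        (χ : G → ℂ) ⟨x * y * x⁻¹, ‹G.Normal›.conj_mem y y.2 x⟩ = (χ : G → ℂ) y := by
  classical
  rcases hsolv with hs | hs
  · exact exists_invariant_over_layers_solvable G N hNG hcop hs θ hinv
  obtain ⟨V, hGV, hmul, hVcard, -⟩ := exists_complement_mod G N hNG hcop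
  set U := V.comap (QuotientGroup.mk' N) with hU
  let φ : U →* MulAut G := (MulAut.conjNormal (H := G)).comp U.subtype
  set N' := N.subgroupOf G with hN'
  have hN'n : N'.Normal := ⟨fun x hx c => ‹N.Normal›.conj_mem _ hx _⟩
  have := Fintype.ofFinite N'
  have hstab : ∀ s, ∀ n ∈ N', φ s n ∈ N' := fun s n hn => by
    rw [Subgroup.mem_subgroupOf]
    show ((MulAut.conjNormal (s : Γ) n : G) : Γ) ∈ N
    rw [MulAut.conjNormal_apply]
    exact ‹N.Normal›.conj_mem _ hn _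
  let S₀ := N.subgroupOf U
  have hS₀n : S₀.Normal := ⟨fun x hx c => ‹N.Normal›.conj_mem _ hx _⟩
  let e : N' ≃* N := Subgroup.subgroupOfEquivOfLe hNG
  have hcopS : N'.index.Coprime S₀.index := by
    have h1 : S₀.index = G.index := by
      let π₁ : U →* V := (QuotientGroup.mk' N).subgroupComap V
      have hπ₁ : Function.Surjective π₁ :=
        MonoidHom.subgroupComap_surjective_of_surjective _ V (QuotientGroup.mk'_surjective N)
      have hk : π₁.ker = S₀ := by
        ext s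
        rw [MonoidHom.mem_ker, Subgroup.mem_subgroupOf, ← QuotientGroup.eq_one_iff]
        exact ⟨fun h => congrArg Subtype.val h, fun h => Subtype.ext h⟩
      rw [← hk, Subgroup.index_ker, MonoidHom.range_eq_top.mpr hπ₁, Subgroup.card_top, hVcard]
    rw [h1]
    exact hcop.symm
  obtain ⟨χ, hχinv, hχ⟩ := exists_invariant_over_of_solvable_quot φ N' hs hstab S₀
    (fun s hs => ⟨⟨(s : Γ), hNG hs⟩, hs, fun g => Subtype.ext (MulAut.conjNormal_apply _ _)⟩)
    hcopS ⟨(θ : N → ℂ) ∘ e, isIrr_comp_mulEquiv θ.2 e⟩ (fun s n => by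
      refine Eq.trans ?_ (hinv (s : Γ) (e n))
      exact congrArg (θ : N → ℂ) (Subtype.ext (MulAut.conjNormal_apply _ _)))
  refine ⟨χ, ?_, fun x y => ?_⟩
  · rw [← classInner_comp_mulEquiv e]
    exact hχ
  · obtain ⟨h, hh, w, hw, rfl⟩ := hmul x
    have h1 : (⟨h * w * (y : Γ) * (h * w)⁻¹, ‹G.Normal›.conj_mem _ y.2 _⟩ : G) =
        (⟨h, hh⟩ : G) * φ ⟨w, hw⟩ y * (⟨h, hh⟩ : G)⁻¹ := Subtype.ext (by
      simp only [Subgroup.coe_mul, Subgroup.coe_inv]
      show _ = h * ((MulAut.conjNormal w y : G) : Γ) * h⁻¹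
      rw [MulAut.conjNormal_apply]
      group)
    rw [h1, isClassFunction_of_isIrr χ.2, hχinv]

end CfsgLib.CharNormal
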