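import Cfsg.Agent.Lib.CharNormal.Linear
import Mathlib.Analysis.InnerProductSpace.PiL2
import Mathlib.Analysis.SpecialFunctions.Trigonometric.Bounds

/-!
# Linear groups: elements with small spectrum commute

* `exists_unitary`: every character comes from a unitary representation;
* `commute_of_commute_conj`: Frobenius' lemma;
* `commute_of_near`: two unitary elements within distance `1/2` of scalars commute;
* `exists_abelian_normal_index_le`: Blichfeldt's bound `12 ^ n` on abelian subgroups.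
-/

namespace CfsgLib.CharNormal

open CfsgLib.Char Module Filter
open scoped InnerProductSpace ComplexConjugate Topology

universe u

variable {G : Type u} [Group G]

theorem exists_unitary [Fintype G] {χ : G → ℂ} (hχ : Cfsg.IsCharacter G χ) :
    ∃ (W : Type u) (_ : NormedAddCommGroup W) (_ : InnerProductSpace ℂ W)
      (_ : FiniteDimensional ℂ W) (σ : Representation ℂ G W),
      σ.character = χ ∧ ∀ (g : G) (x y : W), ⟪σ g x, σ g y⟫_ℂ = ⟪x, y⟫_ℂ := by
  classical
  obtain ⟨d, ρ, rfl⟩ := hχ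
  let L : (Fin d → ℂ) →ₗ[ℂ] EuclideanSpace ℂ (G × Fin d) :=
    (WithLp.linearEquiv 2 ℂ (G × Fin d → ℂ)).symm.toLinearMap ∘ₗ
      LinearMap.pi fun gi : G × Fin d => (LinearMap.proj gi.2).comp (ρ gi.1)
  have hL : ∀ x (gi : G × Fin d), L x gi = ρ gi.1 x gi.2 := fun x gi => rfl
  have hinj : Function.Injective L := fun x y h => by
    funext i
    have := congrArg (fun v : EuclideanSpace ℂ (G × Fin d) => v (1, i)) h
    simpa [hL] using this
  let e := LinearEquiv.ofInjective L hinj
  refine ⟨LinearMap.range L, inferInstance, inferInstance, inferInstance, transport ρ e, character_transport ρ e, fun g x y => ?_⟩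
  have key : ∀ a b : Fin d → ℂ, ⟪L (ρ g a), L (ρ g b)⟫_ℂ = ⟪L a, L b⟫_ℂ := by
    intro a b
    simp only [PiLp.inner_apply, hL]
    refine Fintype.sum_equiv ((Equiv.mulRight g).prodCongr (Equiv.refl (Fin d))) _ _ fun gi => ?_
    simp [map_mul]
  obtain ⟨a, rfl⟩ := e.surjective x
  obtain ⟨b, rfl⟩ := e.surjective y
  have h : ∀ c, transport ρ e g (e c) = e (ρ g c) := fun c => by
    simp [transport, LinearEquiv.conj_apply_apply]
  rw [h, h]
  exact key a b

section Unitary

variable {V : Type*} [NormedAddCommGroup V] [InnerProductSpace ℂ V]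
  {ρ : Representation ℂ G V} (hu : ∀ g x y, ⟪ρ g x, ρ g y⟫_ℂ = ⟪x, y⟫_ℂ)

include hu

theorem norm_apply_eq (g : G) (x : V) : ‖ρ g x‖ = ‖x‖ := by
  rw [← sq_eq_sq₀ (norm_nonneg _) (norm_nonneg _), @norm_sq_eq_re_inner ℂ, @norm_sq_eq_re_inner ℂ,
    hu]

/-- Eigenvectors of a unitary operator for distinct eigenvalues are orthogonal. -/
theorem inner_eq_zero_of_eigen {g : G} {x y : V} {a b : ℂ} (ha : ‖a‖ = 1) (hab : a ≠ b)
    (hx : ρ g x = a • x) (hy : ρ g y = b • y) : ⟪x, y⟫_ℂ = 0 := by
  have h := hu g x y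
  rw [hx, hy, inner_smul_left, inner_smul_right, ← mul_assoc] at h
  by_contra hne
  have h1 : conj a * b = 1 := (mul_eq_right₀ hne).mp h
  rw [← Complex.inv_eq_conj ha, inv_mul_eq_one₀ (by intro h0; simp [h0] at ha)] at h1
  exact hab h1

/-- The distance to a scalar is controlled by the eigenvalues. -/
theorem norm_sub_smul_le [FiniteDimensional ℂ V] [Finite G] (g : G) (c : ℂ) {r : ℝ} (hr : 0 ≤ r)
    (h : ∀ (z : ℂ) (v : V), v ≠ 0 → ρ g v = z • v → ‖z - c‖ ≤ r) (f : V) :
    ‖ρ g f - c • f‖ ≤ r * ‖f‖ := by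
  classical
  obtain ⟨b, z, hb⟩ := exists_eigenbasis ρ g
  set a : Fin (finrank ℂ V) → ℂ := fun i => b.repr f i with ha
  let comp : ℂ → V := fun w => ∑ i ∈ Finset.univ.filter (fun i => z i = w), a i • b i
  set Z : Finset ℂ := Finset.univ.image z with hZ
  have hf : f = ∑ w ∈ Z, comp w := by
    rw [Finset.sum_fiberwise_of_maps_to (fun i _ => Finset.mem_image_of_mem z (Finset.mem_univ i)),
      b.sum_repr]
  have hcomp : ∀ w, ρ g (comp w) = w • comp w := fun w => by
    simp only [comp, map_sum, map_smul, Finset.smul_sum]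
    refine Finset.sum_congr rfl fun i hi => ?_
    rw [(hb i).2, (Finset.mem_filter.mp hi).2, smul_comm]
  have hnorm : ∀ w ∈ Z, ‖w‖ = 1 := fun w hw => by
    obtain ⟨i, -, rfl⟩ := Finset.mem_image.mp hw
    exact norm_eq_one_of_pow_eq_one' (orderOf_pos g).ne' (hb i).1
  have horth : ∀ s : ℂ → ℂ,
      ‖∑ w ∈ Z, s w • comp w‖ ^ 2 = ∑ w ∈ Z, ‖s w‖ ^ 2 * ‖comp w‖ ^ 2 := by
    intro s
    rw [@norm_sq_eq_re_inner ℂ, sum_inner, map_sum]
    refine Finset.sum_congr rfl fun w hw => ?_
    rw [inner_sum, Finset.sum_eq_single w (fun w' hw' hne => by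
      rw [inner_smul_left, inner_smul_right,
        inner_eq_zero_of_eigen hu (hnorm w hw) (Ne.symm hne) (hcomp w) (hcomp w'), mul_zero,
        mul_zero]) (fun h => absurd hw h), ← @norm_sq_eq_re_inner ℂ, norm_smul, mul_pow]
  have h1 : ρ g f - c • f = ∑ w ∈ Z, (w - c) • comp w := by
    rw [hf, map_sum, Finset.smul_sum, ← Finset.sum_sub_distrib]
    exact Finset.sum_congr rfl fun w _ => by rw [hcomp, sub_smul]
  have h2 : ‖f‖ ^ 2 = ∑ w ∈ Z, ‖comp w‖ ^ 2 := by
    conv_lhs => rw [hf]
    simpa using horth (fun _ => 1)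
  rw [← sq_le_sq₀ (norm_nonneg _) (by positivity), mul_pow, h1, horth, h2, Finset.mul_sum]
  refine Finset.sum_le_sum fun w hw => ?_
  by_cases h0 : comp w = 0
  · simp [h0]
  · gcongr
    exact h w (comp w) h0 (hcomp w)

/-- Frobenius' lemma: if `u` commutes with its conjugate by `v` and `v` is near a scalar, then
`u` and `v` commute. -/
theorem commute_of_commute_conj [FiniteDimensional ℂ V] [Finite G]
    (hinj : Function.Injective ρ) {u v : G} (huw : Commute u (v * u * v⁻¹)) (c : ℂ)
    (hv : ∀ f : V, f ≠ 0 → ‖ρ v f - c • f‖ < ‖c • f‖) : Commute u v := by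
  obtain ⟨b, z, hb⟩ := exists_eigenbasis ρ u
  set w := v * u * v⁻¹ with hw
  suffices h : ρ w = ρ u by
    have := hinj h
    rw [hw, mul_inv_eq_iff_eq_mul] at this
    exact this.symm
  refine b.ext fun i => ?_
  rw [(hb i).2]
  have hz : ‖z i‖ = 1 := norm_eq_one_of_pow_eq_one' (orderOf_pos u).ne' (hb i).1
  rw [← sub_eq_zero]
  set f := ρ w (b i) - z i • b i with hf
  by_contra hne
  have hfu : ρ u f = z i • f := by
    rw [hf, map_sub, map_smul, (hb i).2, smul_sub, ← Module.End.mul_apply, ← map_mul, huw.eq,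
      map_mul, Module.End.mul_apply, (hb i).2, map_smul]
  have hvf : ρ w (ρ v f) = z i • ρ v f := by
    rw [← Module.End.mul_apply, ← map_mul, hw, inv_mul_cancel_right, map_mul,
      Module.End.mul_apply, hfu, map_smul]
  have horth : ∀ h : V, ρ w h = z i • h → ⟪h, f⟫_ℂ = 0 := by
    intro h hh
    have h1 := hu w h (b i)
    rw [hh, inner_smul_left] at h1
    rw [hf, inner_sub_right, inner_smul_right, ← h1, ← mul_assoc, Complex.mul_conj',
      hz]
    simp
  have h0 : ⟪ρ v f, f⟫_ℂ = 0 := horth _ hvf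
  have hlt := hv f hne
  have : ‖ρ v f - c • f‖ ^ 2 = ‖ρ v f‖ ^ 2 + ‖c • f‖ ^ 2 := by
    rw [@norm_sub_sq ℂ, inner_smul_right, h0]
    simp
  nlinarith [norm_nonneg (ρ v f - c • f), norm_nonneg (c • f), sq_nonneg ‖ρ v f‖]

theorem norm_commutator_le (x y : G) (a b : ℂ) {r s : ℝ}
    (hr : 0 ≤ r) (hs : 0 ≤ s) (hx : ∀ f, ‖ρ x f - a • f‖ ≤ r * ‖f‖)
    (hy : ∀ f, ‖ρ y f - b • f‖ ≤ s * ‖f‖) (f : V) :
    ‖ρ (x * y * x⁻¹ * y⁻¹) f - (1 : ℂ) • f‖ ≤ 2 * r * s * ‖f‖ := by
  obtain ⟨f', rfl⟩ : ∃ f', f = ρ (y * x) f' :=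
    ⟨ρ (y * x)⁻¹ f, by rw [← Module.End.mul_apply, ← map_mul, mul_inv_cancel, map_one]; rfl⟩
  rw [one_smul, norm_apply_eq hu, ← Module.End.mul_apply, ← map_mul,
    show x * y * x⁻¹ * y⁻¹ * (y * x) = x * y by group]
  have hid : ρ (x * y) f' - ρ (y * x) f' =
      (ρ x (ρ y f' - b • f') - a • (ρ y f' - b • f')) -
        (ρ y (ρ x f' - a • f') - b • (ρ x f' - a • f')) := by
    simp only [map_mul, Module.End.mul_apply, map_sub, map_smul, smul_sub, smul_smul, mul_comm a b]
    abel
  rw [hid]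
  calc _ ≤ r * (s * ‖f'‖) + s * (r * ‖f'‖) := (norm_sub_le _ _).trans
        (add_le_add ((hx _).trans (mul_le_mul_of_nonneg_left (hy _) hr))
          ((hy _).trans (mul_le_mul_of_nonneg_left (hx _) hs)))
    _ = 2 * r * s * ‖f'‖ := by ring

theorem commute_of_near [FiniteDimensional ℂ V] [Finite G]
    (hinj : Function.Injective ρ) {x y : G} {a b : ℂ} {r s : ℝ} (hr : 0 ≤ r) (hs : 0 ≤ s)
    (hr2 : r < 1 / 2) (hs1 : s < 1) (hb : s < ‖b‖) (hx : ∀ f, ‖ρ x f - a • f‖ ≤ r * ‖f‖)
    (hy : ∀ f, ‖ρ y f - b • f‖ ≤ s * ‖f‖) : Commute x y := by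
  let Y : ℕ → G := fun k => (fun g => x * g * x⁻¹ * g⁻¹)^[k] y
  have hY : ∀ k, Y (k + 1) = x * Y k * x⁻¹ * (Y k)⁻¹ := fun k =>
    Function.iterate_succ_apply' _ _ _
  have hb1 : ∀ k, ∀ f, ‖ρ (Y (k + 1)) f - (1 : ℂ) • f‖ ≤ (2 * r) ^ (k + 1) * s * ‖f‖ := by
    intro k
    induction k with
    | zero =>
      intro f
      rw [hY]
      simpa [Y] using norm_commutator_le hu x y a b hr hs hx hy f
    | succ k ih =>
      intro f
      rw [hY]
      refine (norm_commutator_le hu x _ a 1 hr (by positivity) hx ih f).trans_eq ?_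
      rw [pow_succ (2 * r) (k + 1)]
      ring
  have hlim : Tendsto (fun k : ℕ => (2 * r) ^ (k + 1) * s) atTop (𝓝 0) := by
    simpa using (((tendsto_pow_atTop_nhds_zero_of_lt_one (by linarith) (by linarith)).comp
      (tendsto_add_atTop_nat 1)).mul_const s)
  have hev : ∀ g : G, ∀ᶠ k in atTop, Y (k + 1) = g → g = 1 := by
    intro g
    by_cases hg : g = 1
    · exact Eventually.of_forall fun _ _ => hg
    obtain ⟨f, hf⟩ : ∃ f, ρ g f ≠ f := by
      by_contra h
      push Not at h
      exact hg (hinj (by rw [map_one]; exact LinearMap.ext h))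
    have hpos : 0 < ‖ρ g f - f‖ := norm_pos_iff.mpr (sub_ne_zero.mpr hf)
    have hlim2 : Tendsto (fun k : ℕ => (2 * r) ^ (k + 1) * s * ‖f‖) atTop (𝓝 0) := by
      simpa using hlim.mul_const ‖f‖
    filter_upwards [hlim2.eventually (gt_mem_nhds hpos)] with k hk he
    exact absurd (he ▸ hb1 k f) (by rw [one_smul]; exact not_le.mpr hk)
  obtain ⟨K, hK⟩ := (eventually_all.mpr hev).exists
  have hstep : ∀ k, Y (k + 1) = 1 → Commute x (Y k) := by
    intro k hk
    rw [hY, mul_inv_eq_one, mul_inv_eq_iff_eq_mul] at hk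
    exact hk
  have hdesc : ∀ k, Commute x (Y k) → Commute x (Y 0) := by
    intro k
    induction k with
    | zero => exact id
    | succ k ih =>
      intro hc
      apply ih
      rw [hY, show x * Y k * x⁻¹ * (Y k)⁻¹ = x * (Y k * x * (Y k)⁻¹)⁻¹ by group] at hc
      have hc' : Commute x (Y k * x * (Y k)⁻¹) := by
        have h1 : Commute x (Y k * x * (Y k)⁻¹)⁻¹ := by
          have := (Commute.refl x).inv_right.mul_right hc
          simpa using this
        simpa using h1.inv_right
      rcases Nat.eq_zero_or_pos k with rfl | hk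
      · refine commute_of_commute_conj hu hinj hc' b fun f hf => ?_
        rw [norm_smul]
        exact lt_of_le_of_lt (hy f) (mul_lt_mul_of_pos_right hb (norm_pos_iff.mpr hf))
      · obtain ⟨j, rfl⟩ : ∃ j, k = j + 1 := ⟨k - 1, by omega⟩
        refine commute_of_commute_conj hu hinj hc' 1 fun f hf => ?_
        rw [norm_smul, norm_one]
        refine lt_of_le_of_lt (hb1 j f) (mul_lt_mul_of_pos_right ?_ (norm_pos_iff.mpr hf))
        calc (2 * r) ^ (j + 1) * s ≤ 1 * s :=
              mul_le_mul_of_nonneg_right (pow_le_one₀ (by linarith) (by linarith)) hs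
          _ < 1 := by linarith
  exact hdesc K (hstep K (hK (Y (K + 1)) rfl))

end Unitary

/-- A root of unity value close to one: real part above `cos (π/6)`. -/
theorem norm_sub_sqrt_three_half_lt {z : ℂ} (hz : ‖z‖ = 1) (h : Real.sqrt 3 / 2 < z.re) :
    ‖z - ((Real.sqrt 3 / 2 : ℝ) : ℂ)‖ < 1 / 2 := by
  have h3 := Real.sq_sqrt (show (0 : ℝ) ≤ 3 by norm_num)
  have hpos : 0 < Real.sqrt 3 := by positivity
  rw [← sq_lt_sq₀ (norm_nonneg _) (by norm_num), Complex.sq_norm, Complex.normSq_apply]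
  have hz2 : z.re * z.re + z.im * z.im = 1 := by
    rw [← Complex.normSq_apply, ← Complex.sq_norm, hz, one_pow]
  simp only [Complex.sub_re, Complex.sub_im, Complex.ofReal_re, Complex.ofReal_im, sub_zero]
  nlinarith [mul_lt_mul_of_pos_left h hpos]

/-- The twelfth part of the circle containing the argument of `z`. -/
noncomputable def argBin (z : ℂ) : Fin 12 :=
  ⟨⌈(z.arg + Real.pi) * (6 / Real.pi)⌉₊ - 1, by
    have hpi := Real.pi_pos
    have h1 : z.arg + Real.pi ≤ 2 * Real.pi := by linarith [Complex.arg_le_pi z]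
    have : ⌈(z.arg + Real.pi) * (6 / Real.pi)⌉₊ ≤ 12 := Nat.ceil_le.mpr (by
      rw [← mul_div_assoc, div_le_iff₀ hpi]; push_cast; nlinarith)
    omega⟩

theorem re_conj_mul_gt_of_argBin_eq {z w : ℂ} (hz : ‖z‖ = 1) (hw : ‖w‖ = 1)
    (h : argBin z = argBin w) : Real.sqrt 3 / 2 < (conj z * w).re := by
  have hpi := Real.pi_pos
  set s := (z.arg + Real.pi) * (6 / Real.pi) with hs
  set t := (w.arg + Real.pi) * (6 / Real.pi) with ht
  have hs0 : 0 < s := mul_pos (by linarith [Complex.neg_pi_lt_arg z]) (by positivity)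
  have ht0 : 0 < t := mul_pos (by linarith [Complex.neg_pi_lt_arg w]) (by positivity)
  have h1 : 1 ≤ ⌈s⌉₊ := Nat.one_le_iff_ne_zero.mpr (by simpa using hs0)
  have h2 : 1 ≤ ⌈t⌉₊ := Nat.one_le_iff_ne_zero.mpr (by simpa using ht0)
  have he : ⌈s⌉₊ = ⌈t⌉₊ := by
    have := Fin.ext_iff.mp h
    simp only [argBin, ← hs, ← ht] at this
    omega
  have hd : |s - t| < 1 := by
    have a1 := Nat.le_ceil s
    have a2 := Nat.ceil_lt_add_one hs0.le
    have a3 := Nat.le_ceil t
    have a4 := Nat.ceil_lt_add_one ht0.le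
    rw [he] at a1 a2
    rw [abs_lt]; constructor <;> linarith
  have hang : |w.arg - z.arg| < Real.pi / 6 := by
    have : w.arg - z.arg = (t - s) * (Real.pi / 6) := by
      simp only [hs, ht]; field_simp; ring
    rw [this, abs_mul, abs_sub_comm, abs_of_pos (show (0 : ℝ) < Real.pi / 6 by positivity)]
    simpa using mul_lt_mul_of_pos_right hd (show (0 : ℝ) < Real.pi / 6 by positivity)
  have hval : (conj z * w).re = Real.cos (w.arg - z.arg) := by
    rw [Real.cos_sub, Complex.cos_arg (by intro h0; simp [h0] at hw),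
      Complex.cos_arg (by intro h0; simp [h0] at hz), Complex.sin_arg, Complex.sin_arg, hz, hw]
    simp [Complex.mul_re]
    ring
  rw [hval, ← Real.cos_pi_div_six, ← Real.cos_abs (w.arg - z.arg)]
  exact Real.cos_lt_cos_of_nonneg_of_le_pi_div_two (abs_nonneg _) (by linarith) hang

/- Blichfeldt: an abelian normal subgroup meeting every abelian subgroup in index at most
`12 ^ n`. -/
set_option maxHeartbeats 400000 in
theorem exists_abelian_normal_index_le [Finite G] {χ : G → ℂ} (hχ : Cfsg.IsCharacter G χ)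
    (hfaith : ∀ g : G, χ g = χ 1 → g = 1) {n : ℕ} (hn : χ 1 = n) :
    ∃ A : Subgroup G, A.Normal ∧ (∀ x ∈ A, ∀ y ∈ A, x * y = y * x) ∧
      ∀ H : Subgroup G, (∀ x ∈ H, ∀ y ∈ H, x * y = y * x) →
        (A.subgroupOf H).index ≤ 12 ^ n := by
  classical
  have := Fintype.ofFinite G
  obtain ⟨W, _, _, _, σ, rfl, hu⟩ := exists_unitary hχ
  have hinj : Function.Injective σ := by
    intro g h hgh
    have h1 : σ (h⁻¹ * g) = 1 := by rw [map_mul, hgh, ← map_mul, inv_mul_cancel, map_one]
    have h2 := hfaith (h⁻¹ * g) (by simp [Representation.character, h1])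
    exact (inv_mul_eq_one.mp h2).symm
  set c : ℂ := ((Real.sqrt 3 / 2 : ℝ) : ℂ) with hc
  have hc1 : 1 / 2 < ‖c‖ := by
    rw [hc, Complex.norm_real, Real.norm_eq_abs, abs_of_pos (by positivity)]
    have : 1 < Real.sqrt 3 := (Real.lt_sqrt zero_le_one).mpr (by norm_num)
    linarith
  set S : Set G := {g | ∃ r : ℝ, 0 ≤ r ∧ r < 1 / 2 ∧ ∀ f, ‖σ g f - c • f‖ ≤ r * ‖f‖} with hS
  have hcommS : ∀ x ∈ S, ∀ y ∈ S, x * y = y * x := by
    rintro x ⟨r, hr, hr2, hx⟩ y ⟨s, hs, hs2, hy⟩
    exact commute_of_near hu hinj hr hs hr2 (by linarith) (by linarith) hx hy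
  have hconjS : ∀ x ∈ S, ∀ g : G, g * x * g⁻¹ ∈ S := by
    rintro x ⟨r, hr, hr2, hx⟩ g
    refine ⟨r, hr, hr2, fun f => ?_⟩
    obtain ⟨f', rfl⟩ : ∃ f', f = σ g f' :=
      ⟨σ g⁻¹ f, by rw [← Module.End.mul_apply, ← map_mul, mul_inv_cancel, map_one]; rfl⟩
    rw [← Module.End.mul_apply, ← map_mul, inv_mul_cancel_right, map_mul, Module.End.mul_apply,
      ← map_smul, ← map_sub, norm_apply_eq hu, norm_apply_eq hu]
    exact hx f'
  refine ⟨Subgroup.closure S, ?_, ?_, ?_⟩
  · have : Group.conjugatesOfSet S ⊆ S := fun x hx => by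
      obtain ⟨a, ha, hax⟩ := Group.mem_conjugatesOfSet_iff.mp hx
      obtain ⟨g, rfl⟩ := isConj_iff.mp hax
      exact hconjS a ha g
    have heq : Subgroup.normalClosure S = Subgroup.closure S :=
      le_antisymm (Subgroup.closure_mono this) Subgroup.closure_le_normalClosure
    exact heq ▸ Subgroup.normalClosure_normal
  · intro x hx y hy
    exact congrArg Subtype.val
      ((Subgroup.isMulCommutative_closure hcommS).is_comm.comm ⟨x, hx⟩ ⟨y, hy⟩)
  · intro H hH
    have := Fintype.ofFinite H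
    have hcommH : ∀ x y : H, x * y = y * x := fun x y => Subtype.ext (hH x x.2 y y.2)
    obtain ⟨m, hm, hm1, hmul⟩ := res_comm_decomp hcommH (isCharacter_res H hχ)
    set supp := Finset.univ.filter (fun l : Cfsg.IrrCharacter H => m l ≠ 0) with hsupp
    have hcard : supp.card ≤ n := by
      have hsum : ∑ l, m l = n := by
        have : ((∑ l, m l : ℕ) : ℂ) = n := by rw [← hm1]; exact hn
        exact_mod_cast this
      rw [← hsum]
      calc supp.card = ∑ l ∈ supp, 1 := Finset.card_eq_sum_ones _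
        _ ≤ ∑ l ∈ supp, m l := Finset.sum_le_sum fun l hl =>
            Nat.one_le_iff_ne_zero.mpr (Finset.mem_filter.mp hl).2
        _ ≤ ∑ l, m l := Finset.sum_le_sum_of_subset (Finset.subset_univ _)
    have hlnorm : ∀ (l : Cfsg.IrrCharacter H) (h : H), ‖(l : H → ℂ) h‖ = 1 := fun l h => by
      let f := linearHom (isCharacter_of_isIrr l.2) (irr_one_of_comm hcommH l.2)
      refine norm_eq_one_of_pow_eq_one' (orderOf_pos h).ne' ?_
      rw [← linearHom_apply (isCharacter_of_isIrr l.2) (irr_one_of_comm hcommH l.2),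
        ← Units.val_pow_eq_pow_val, ← map_pow, pow_orderOf_eq_one, map_one, Units.val_one]
    -- eigenvalues of an element of `H`
    have heig : ∀ (u : H) (z : ℂ) (v : W), v ≠ 0 → σ u v = z • v →
        ∃ l ∈ supp, (l : H → ℂ) u = z := by
      intro u z v hv hzv
      by_contra hno
      push Not at hno
      set o := orderOf (u : G) with ho
      have ho0 : o ≠ 0 := (orderOf_pos _).ne'
      have huo : u ^ o = 1 := Subtype.ext (by simp [ho, pow_orderOf_eq_one])
      have hzo : z ^ o = 1 := by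
        have hp : ∀ k : ℕ, σ ((u : G) ^ k) v = z ^ k • v := by
          intro k
          induction k with
          | zero => simp
          | succ k ih =>
            rw [pow_succ', map_mul, Module.End.mul_apply, ih, map_smul, hzv, smul_smul, pow_succ]
        have h1 := hp o
        rw [ho, pow_orderOf_eq_one, map_one, ← ho] at h1
        by_contra hne
        exact hne (smul_left_injective ℂ hv (by simpa using h1.symm))
      have hz0 : z ≠ 0 := fun h0 => by simp [h0, ho0] at hzo
      -- the averaged operator fixes `v`, so its trace is nonzero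
      obtain ⟨b, e, hb⟩ := exists_eigenbasis σ (u : G)
      have htr : ∀ k : ℕ, σ.character ((u : G) ^ k) = ∑ i, e i ^ k := fun k =>
        trace_eq_sum_eigen b _ _ fun i => apply_pow_eigen σ b _ e (fun j => (hb j).2) k i
      obtain ⟨i, hi⟩ : ∃ i, e i = z := by
        by_contra hne
        push Not at hne
        apply hv
        refine b.ext_elem fun i => ?_
        have h1 := congrArg (fun f => b.repr f i) hzv
        have h2 : σ (u : G) v = ∑ j, (b.repr v j * e j) • b j := by
          conv_lhs => rw [← b.sum_repr v]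
          simp only [map_sum, map_smul, (hb _).2, smul_smul]
        simp only [h2, Module.Basis.repr_sum_self, map_smul, Finsupp.smul_apply, smul_eq_mul] at h1
        rw [map_zero, Finsupp.zero_apply]
        have h3 : b.repr v i * (e i - z) = 0 := by rw [mul_sub, h1]; ring
        exact (mul_eq_zero.mp h3).resolve_right (sub_ne_zero.mpr (hne i))
      have hgeom : ∀ w : ℂ, w ^ o = 1 → (∑ k ∈ Finset.range o, (w / z) ^ k) =
          if w = z then (o : ℂ) else 0 := by
        intro w hw
        split_ifs with hwz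
        · simp [hwz, div_self hz0]
        · have hne : w / z ≠ 1 := fun h => hwz ((div_eq_one_iff_eq hz0).mp h)
          rw [geom_sum_eq hne, div_pow, hw, hzo]
          simp
      have hA : ∑ k ∈ Finset.range o, σ.character ((u : G) ^ k) / z ^ k =
          ∑ j, if e j = z then (o : ℂ) else 0 := by
        simp only [htr, Finset.sum_div, ← div_pow]
        rw [Finset.sum_comm]
        exact Finset.sum_congr rfl fun j _ => hgeom _ (hb j).1
      have hB : ∑ k ∈ Finset.range o, σ.character ((u : G) ^ k) / z ^ k = 0 := by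
        have h1 : ∀ k : ℕ, σ.character ((u : G) ^ k) =
            ∑ l, (m l : ℂ) * (l : H → ℂ) u ^ k := fun k => by
          rw [← SubmonoidClass.coe_pow, hm (u ^ k)]
          refine Finset.sum_congr rfl fun l _ => ?_
          congr 1
          induction k with
          | zero => simpa using irr_one_of_comm hcommH l.2
          | succ k ih => rw [pow_succ, hmul, ih, pow_succ]
        simp only [h1, Finset.sum_div, mul_div_assoc, ← div_pow]
        rw [Finset.sum_comm]
        refine Finset.sum_eq_zero fun l _ => ?_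
        rw [← Finset.mul_sum]
        by_cases hl : m l = 0
        · simp [hl]
        have hlo : (l : H → ℂ) u ^ o = 1 := by
          rw [← linearHom_apply (isCharacter_of_isIrr l.2) (irr_one_of_comm hcommH l.2),
            ← Units.val_pow_eq_pow_val, ← map_pow, huo, map_one, Units.val_one]
        rw [hgeom _ hlo, if_neg (hno l (Finset.mem_filter.mpr ⟨Finset.mem_univ _, hl⟩)), mul_zero]
      rw [hA, ← Finset.sum_filter, Finset.sum_const, nsmul_eq_mul] at hB
      rcases mul_eq_zero.mp hB with h | h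
      · have h' := Nat.cast_eq_zero.mp h
        rw [Finset.card_eq_zero] at h'
        exact Finset.notMem_empty i (h' ▸ Finset.mem_filter.mpr ⟨Finset.mem_univ i, hi⟩)
      · exact ho0 (by exact_mod_cast h)
    -- same bins give the same coset
    let F : H → (supp → Fin 12) := fun h l => argBin ((l.1 : H → ℂ) h)
    have key : ∀ h₁ h₂ : H, F h₁ = F h₂ →
        (QuotientGroup.mk h₁ : H ⧸ (Subgroup.closure S).subgroupOf H) = QuotientGroup.mk h₂ := by
      intro h₁ h₂ hF
      rw [QuotientGroup.eq]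
      refine Subgroup.mem_subgroupOf.mpr (Subgroup.subset_closure ?_)
      set u := h₁⁻¹ * h₂
      have hsmall : ∀ l ∈ supp, ‖(l : H → ℂ) u - c‖ < 1 / 2 := by
        intro l hl
        refine norm_sub_sqrt_three_half_lt (hlnorm l u) ?_
        have : (l : H → ℂ) u = conj ((l : H → ℂ) h₁) * (l : H → ℂ) h₂ := by
          rw [hmul, char_inv (isCharacter_of_isIrr l.2)]
        rw [this]
        exact re_conj_mul_gt_of_argBin_eq (hlnorm l h₁) (hlnorm l h₂)
          (congrFun hF ⟨l, hl⟩)
      obtain ⟨r, hr, hr2, hrb⟩ : ∃ r : ℝ, 0 ≤ r ∧ r < 1 / 2 ∧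
          ∀ l ∈ supp, ‖(l : H → ℂ) u - c‖ ≤ r := by
        rcases supp.eq_empty_or_nonempty with he | hne
        · exact ⟨0, le_rfl, by norm_num, by simp [he]⟩
        · obtain ⟨l₀, hl₀, hmax⟩ := supp.exists_max_image (fun l => ‖(l : H → ℂ) u - c‖) hne
          exact ⟨_, norm_nonneg _, hsmall l₀ hl₀, hmax⟩
      refine ⟨r, hr, hr2, norm_sub_smul_le hu (u : G) c hr fun z v hv hzv => ?_⟩
      obtain ⟨l, hl, rfl⟩ := heig u z v hv hzv
      exact hrb l hl
    let J : H ⧸ (Subgroup.closure S).subgroupOf H → (supp → Fin 12) := fun q => F q.out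
    have hJ : Function.Injective J := fun q₁ q₂ h => by
      simpa using key q₁.out q₂.out h
    calc ((Subgroup.closure S).subgroupOf H).index
        ≤ Nat.card (supp → Fin 12) := Nat.card_le_card_of_injective J hJ
      _ = 12 ^ supp.card := by simp [Nat.card_eq_fintype_card]
      _ ≤ 12 ^ n := Nat.pow_le_pow_right (by norm_num) hcard

end CfsgLib.CharNormal
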