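import Cfsg.Agent.Lib.Blocks.SecondMain
import Cfsg.Agent.Lib.Blocks.Heights
import Cfsg.Agent.Lib.Blocks.CharMod
import Cfsg.Agent.Lib.Blocks.GaloisInv
import Cfsg.Agent.Lib.CharNormal.Galois
import Cfsg.Agent.Lib.Char.Integral
import Mathlib.Data.ZMod.Units
import Mathlib.GroupTheory.GroupAction.Quotient

/-!
# The number of `p`-conjugates of a character

If `χ` has `r` `p`-conjugates, the `p`-part of `r χ(1)` divides the order of the group, and it is the
full `p`-part only for characters of defect zero: otherwise the orbit would be a union of blocks of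
defect `d`, while `d`-th `p`-power roots of unity already give the values.
-/

namespace CfsgLib.CharNormal.ConjCount

open CfsgLib.Char CfsgLib.Blocks
open scoped ComplexConjugate

universe u

/-- The sum of the unit powers of a root of unity of prime power order. -/
theorem sum_units_pow {p : ℕ} [hp : Fact p.Prime] (a : ℕ) {w : ℂ} (hw : w ^ p ^ (a + 1) = 1) :
    ∑ u : (ZMod (p ^ (a + 1)))ˣ, w ^ ((u : ZMod (p ^ (a + 1))).val) =
      (p : ℂ) ^ a * ((if w = 1 then (p : ℂ) else 0) - (if w ^ p = 1 then 1 else 0)) := by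
  classical
  have hn : NeZero (p ^ (a + 1)) := ⟨(pow_pos hp.out.pos _).ne'⟩
  have hgeo : ∀ (N : ℕ) (z : ℂ), z ^ N = 1 →
      ∑ i ∈ Finset.range N, z ^ i = if z = 1 then (N : ℂ) else 0 := by
    intro N z hz
    split_ifs with h
    · simp [h]
    · rw [geom_sum_eq h, hz, sub_self, zero_div]
  have h1 : ∑ u : (ZMod (p ^ (a + 1)))ˣ, w ^ ((u : ZMod (p ^ (a + 1))).val) =
      ∑ i ∈ (Finset.range (p ^ (a + 1))).filter (fun i => ¬ p ∣ i), w ^ i := by
    refine Finset.sum_bij (fun u _ => (u : ZMod (p ^ (a + 1))).val) (fun u _ => ?_)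
      (fun u _ v _ h => Units.ext (ZMod.val_injective _ h)) (fun i hi => ?_) (fun u _ => rfl)
    · refine Finset.mem_filter.mpr ⟨Finset.mem_range.mpr (ZMod.val_lt _), fun h => ?_⟩
      exact hp.out.not_dvd_one ((Nat.dvd_gcd h (dvd_pow_self p (Nat.succ_ne_zero a))).trans
        (dvd_of_eq (ZMod.val_coe_unit_coprime u).gcd_eq_one))
    · obtain ⟨hi, hpi⟩ := Finset.mem_filter.mp hi
      exact ⟨ZMod.unitOfCoprime i (Nat.Coprime.pow_right _ (hp.out.coprime_iff_not_dvd.mpr hpi).symm),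
        Finset.mem_univ _, by rw [ZMod.coe_unitOfCoprime, ZMod.val_natCast_of_lt (Finset.mem_range.mp hi)]⟩
  have h2 : (Finset.range (p ^ (a + 1))).filter (fun i => p ∣ i) =
      (Finset.range (p ^ a)).image (fun i => p * i) := by
    ext i
    simp only [Finset.mem_filter, Finset.mem_range, Finset.mem_image]
    constructor
    · rintro ⟨hi, j, rfl⟩
      exact ⟨j, Nat.lt_of_mul_lt_mul_left (by rwa [pow_succ'] at hi), rfl⟩
    · rintro ⟨j, hj, rfl⟩
      exact ⟨by rw [pow_succ']; exact Nat.mul_lt_mul_of_pos_left hj hp.out.pos, dvd_mul_right p j⟩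
  have h3 := Finset.sum_filter_add_sum_filter_not (Finset.range (p ^ (a + 1))) (fun i => p ∣ i)
    (fun i => w ^ i)
  rw [h2, Finset.sum_image fun x _ y _ h => mul_right_injective₀ hp.out.ne_zero h, hgeo _ w hw,
    Finset.sum_congr rfl fun i _ => pow_mul w p i, hgeo _ (w ^ p) (by rwa [← pow_mul, ← pow_succ'])] at h3
  rw [h1, eq_sub_of_add_eq' h3]
  split_ifs <;> push_cast <;> ring

/-- Central sums: `∑ f(g) conj χ(g) / χ(1)` is an algebraic integer. -/
theorem isIntegral_sum_div {G : Type u} [Group G] [Fintype G] {χ : G → ℂ}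
    (hχ : Cfsg.IsIrrCharacter G χ) {f : G → ℂ} (hf : ∀ g h, f (h * g * h⁻¹) = f g)
    (hint : ∀ g, IsIntegral ℤ (f g)) : IsIntegral ℤ (∑ g : G, f g * conj (χ g) / χ 1) := by
  classical
  rw [← Finset.sum_fiberwise (s := (Finset.univ : Finset G)) (g := ConjClasses.mk)]
  refine IsIntegral.sum _ fun c _ => ?_
  obtain ⟨g₀, rfl⟩ := ConjClasses.mk_surjective c
  have hcl := isClassFunction_of_isIrr hχ
  rw [Finset.sum_congr rfl fun g hg => show f g * conj (χ g) / χ 1 = f g₀ * conj (χ g₀) / χ 1 by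
    obtain ⟨h, hh⟩ := isConj_iff.mp (ConjClasses.mk_eq_mk_iff_isConj.mp (Finset.mem_filter.mp hg).2)
    rw [← hh, hf, hcl], Finset.sum_const, nsmul_eq_mul]
  have h2 := isIntegral_classSize_mul_div hχ g₀⁻¹
  have hcard : (Finset.univ.filter fun g => ConjClasses.mk g = ConjClasses.mk g₀).card =
      Nat.card {x : G // IsConj g₀⁻¹ x} := by
    rw [Nat.card_eq_fintype_card, Fintype.card_subtype]
    refine Finset.card_bij (fun g _ => g⁻¹) (fun g hg => ?_) (fun g _ g' _ h => inv_injective h)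
      (fun g hg => ?_)
    · simp only [Finset.mem_filter, Finset.mem_univ, true_and] at hg ⊢
      obtain ⟨h, hh⟩ := isConj_iff.mp (ConjClasses.mk_eq_mk_iff_isConj.mp hg).symm
      exact isConj_iff.mpr ⟨h, by rw [← hh]; group⟩
    · simp only [Finset.mem_filter, Finset.mem_univ, true_and] at hg
      obtain ⟨h, hh⟩ := isConj_iff.mp hg
      refine ⟨g⁻¹, ?_, inv_inv g⟩
      simp only [Finset.mem_filter, Finset.mem_univ, true_and]
      exact ConjClasses.mk_eq_mk_iff_isConj.mpr (isConj_iff.mpr ⟨h, by rw [← hh]; group⟩).symm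
  rw [← char_inv (isCharacter_of_isIrr hχ), hcard,
    show (Nat.card {x : G // IsConj g₀⁻¹ x} : ℂ) * (f g₀ * χ g₀⁻¹ / χ 1) =
      f g₀ * ((Nat.card {x : G // IsConj g₀⁻¹ x} : ℂ) * χ g₀⁻¹ / χ 1) by ring]
  exact (hint g₀).mul h2

variable {G : Type u} [Group G] [Finite G] {p : ℕ} [hp : Fact p.Prime]

/-- The exponent representing a unit modulo the `p`-part and `1` modulo the `p'`-part. -/
noncomputable def expo (u : (ZMod (p ^ (Nat.card G).factorization p))ˣ) : ℕ :=
  Nat.chineseRemainder (Nat.Coprime.pow_left _ (hp.out.coprime_iff_not_dvd.mpr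
    (Nat.not_dvd_ordCompl hp.out Nat.card_pos.ne')) : (p ^ (Nat.card G).factorization p).Coprime (Nat.card G / p ^ (Nat.card G).factorization p)) (u : ZMod (p ^ (Nat.card G).factorization p)).val 1

theorem expo_spec (u : (ZMod (p ^ (Nat.card G).factorization p))ˣ) :
    expo (G := G) u ≡ (u : ZMod (p ^ (Nat.card G).factorization p)).val [MOD (p ^ (Nat.card G).factorization p)] ∧ expo (G := G) u ≡ 1 [MOD (Nat.card G / p ^ (Nat.card G).factorization p)] :=
  (Nat.chineseRemainder _ _ _).2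

theorem modEq_card {a b : ℕ} (h1 : a ≡ b [MOD (p ^ (Nat.card G).factorization p)]) (h2 : a ≡ b [MOD (Nat.card G / p ^ (Nat.card G).factorization p)]) :
    a ≡ b [MOD Nat.card G] := by
  have h := (Nat.modEq_and_modEq_iff_modEq_mul (Nat.Coprime.pow_left _
    (hp.out.coprime_iff_not_dvd.mpr (Nat.not_dvd_ordCompl hp.out Nat.card_pos.ne')))).mp ⟨h1, h2⟩
  rwa [Nat.ordProj_mul_ordCompl_eq_self] at h

theorem expo_coprime (u : (ZMod (p ^ (Nat.card G).factorization p))ˣ) : (expo (G := G) u).Coprime (Nat.card G) := by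
  rw [← Nat.ordProj_mul_ordCompl_eq_self (Nat.card G) p]
  refine Nat.Coprime.mul_right ?_ ?_
  · rw [Nat.Coprime, (expo_spec u).1.gcd_eq]
    exact ZMod.val_coe_unit_coprime u
  · rw [Nat.Coprime, (expo_spec u).2.gcd_eq, Nat.gcd_one_left]

theorem pow_expo_mul (u v : (ZMod (p ^ (Nat.card G).factorization p))ˣ) (g : G) :
    g ^ expo (G := G) (u * v) = (g ^ expo (G := G) u) ^ expo (G := G) v := by
  rw [← pow_mul, pow_eq_pow_iff_modEq]
  refine (modEq_card (p := p) ?_ ?_).of_dvd (orderOf_dvd_natCard g)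
  · refine (expo_spec (u * v)).1.trans (Nat.ModEq.trans ?_ ((expo_spec u).1.mul (expo_spec v).1).symm)
    rw [Units.val_mul, ZMod.val_mul]
    exact Nat.mod_modEq _ _
  · exact (expo_spec (u * v)).2.trans (by simpa using ((expo_spec u).2.mul (expo_spec v).2).symm)

theorem pow_expo_one (g : G) : g ^ expo (G := G) (1 : (ZMod (p ^ (Nat.card G).factorization p))ˣ) = g := by
  have hne : NeZero (p ^ (Nat.card G).factorization p) := ⟨(pow_pos hp.out.pos _).ne'⟩
  refine (pow_eq_pow_iff_modEq.mpr ((modEq_card (p := p) ?_ ?_).of_dvd (orderOf_dvd_natCard g))).trans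
    (pow_one g)
  · refine (expo_spec (1 : (ZMod (p ^ (Nat.card G).factorization p))ˣ)).1.trans ?_
    rcases Nat.eq_zero_or_pos ((Nat.card G).factorization p) with h | h
    · rw [h, pow_zero]; exact Nat.modEq_one
    · have : Fact (1 < (p ^ (Nat.card G).factorization p)) := ⟨Nat.one_lt_pow h.ne' hp.out.one_lt⟩
      rw [Units.val_one, ZMod.val_one]
  · exact (expo_spec (1 : (ZMod (p ^ (Nat.card G).factorization p))ˣ)).2

theorem exists_auto (u : (ZMod (p ^ (Nat.card G).factorization p))ˣ) : ∃ σ : ℂ ≃+* ℂ, (∀ z : ℂ, z ^ Nat.card G = 1 →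
    σ z = z ^ expo (G := G) u) :=
  exists_ringEquiv_root_pow Nat.card_pos.ne' (expo_coprime u)

/-- The action on the irreducible characters. -/
noncomputable instance : MulAction (ZMod (p ^ (Nat.card G).factorization p))ˣ (Cfsg.IrrCharacter G) where
  smul u χ := ⟨fun g => (χ : G → ℂ) (g ^ expo (G := G) u), by
    obtain ⟨σ, hσ⟩ := exists_auto (G := G) u
    have h : (fun g => (χ : G → ℂ) (g ^ expo (G := G) u)) = σ ∘ (χ : G → ℂ) :=
      funext fun g => (ringEquiv_char_apply hσ (isCharacter_of_isIrr χ.2) (orderOf_dvd_natCard g)).symm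
    rw [h]
    exact isIrr_ringEquiv σ χ.2⟩
  one_smul χ := Subtype.ext (funext fun g => congrArg (χ : G → ℂ) (pow_expo_one g))
  mul_smul u v χ := Subtype.ext (funext fun g => congrArg (χ : G → ℂ) (pow_expo_mul u v g))

theorem smul_apply (u : (ZMod (p ^ (Nat.card G).factorization p))ˣ) (χ : Cfsg.IrrCharacter G) (g : G) :
    ((u • χ : Cfsg.IrrCharacter G) : G → ℂ) g = (χ : G → ℂ) (g ^ expo (G := G) u) := rfl

/-- The `p`-conjugates are the orbit. -/
theorem mem_orbit_iff (χ ψ : Cfsg.IrrCharacter G) :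
    ψ ∈ MulAction.orbit (ZMod (p ^ (Nat.card G).factorization p))ˣ χ ↔
      ∃ σ : ℂ ≃+* ℂ, σ (Complex.exp (2 * Real.pi * Complex.I / ((Nat.card G / p ^ (Nat.card G).factorization p) : ℕ))) =
        Complex.exp (2 * Real.pi * Complex.I / ((Nat.card G / p ^ (Nat.card G).factorization p) : ℕ)) ∧ (ψ : G → ℂ) = fun g => σ ((χ : G → ℂ) g) := by
  have hm0 : (Nat.card G / p ^ (Nat.card G).factorization p) ≠ 0 := (Nat.ordCompl_pos p Nat.card_pos.ne').ne'
  have hq0 : (p ^ (Nat.card G).factorization p) ≠ 0 := (pow_pos hp.out.pos _).ne'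
  have hne : NeZero (p ^ (Nat.card G).factorization p) := ⟨hq0⟩
  set ζ := Complex.exp (2 * Real.pi * Complex.I / ((Nat.card G / p ^ (Nat.card G).factorization p) : ℕ))
  have hζ : IsPrimitiveRoot ζ (Nat.card G / p ^ (Nat.card G).factorization p) := Complex.isPrimitiveRoot_exp _ hm0
  have hmul := Nat.ordProj_mul_ordCompl_eq_self (Nat.card G) p
  constructor
  · rintro ⟨u, rfl⟩
    obtain ⟨σ, hσ⟩ := exists_auto (G := G) u
    refine ⟨σ, ?_, funext fun g =>
      (ringEquiv_char_apply hσ (isCharacter_of_isIrr χ.2) (orderOf_dvd_natCard g)).symm⟩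
    rw [hσ ζ (by rw [← hmul, mul_comm, pow_mul, hζ.pow_eq_one, one_pow]), pow_eq_pow_mod _ hζ.pow_eq_one,
      (expo_spec u).2, ← pow_eq_pow_mod _ hζ.pow_eq_one, pow_one]
  · rintro ⟨σ, hfix, hψ⟩
    set η := Complex.exp (2 * Real.pi * Complex.I / Nat.card G)
    have hη : IsPrimitiveRoot η (Nat.card G) := Complex.isPrimitiveRoot_exp _ Nat.card_pos.ne'
    have : NeZero (Nat.card G) := ⟨Nat.card_pos.ne'⟩
    obtain ⟨k, -, hk, hkη⟩ := hη.isPrimitiveRoot_iff.mp (hη.map_of_injective σ.injective)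
    have hall : ∀ z : ℂ, z ^ Nat.card G = 1 → σ z = z ^ k := fun z hz => by
      obtain ⟨i, -, rfl⟩ := hη.eq_pow_of_pow_eq_one hz
      rw [map_pow, ← hkη, ← pow_mul, ← pow_mul, mul_comm k i]
    have hk1 : k ≡ 1 [MOD (Nat.card G / p ^ (Nat.card G).factorization p)] := by
      have h := hall ζ (by rw [← hmul, mul_comm, pow_mul, hζ.pow_eq_one, one_pow])
      rw [hfix] at h
      have h' : ζ ^ k = ζ ^ 1 := by rw [pow_one]; exact h.symm
      rw [pow_eq_pow_mod k hζ.pow_eq_one, pow_eq_pow_mod 1 hζ.pow_eq_one] at h'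
      exact hζ.pow_inj (Nat.mod_lt _ (Nat.pos_of_ne_zero hm0)) (Nat.mod_lt _ (Nat.pos_of_ne_zero hm0)) h'
    refine ⟨ZMod.unitOfCoprime k (hk.coprime_dvd_right (dvd_trans (dvd_mul_right _ _) hmul.dvd)),
      Subtype.ext (funext fun g => ?_)⟩
    rw [hψ]
    show (χ : G → ℂ) (g ^ expo (G := G) _) = σ ((χ : G → ℂ) g)
    rw [ringEquiv_char_apply hall (isCharacter_of_isIrr χ.2) (orderOf_dvd_natCard g)]
    refine congrArg _ (pow_eq_pow_iff_modEq.mpr ((modEq_card (p := p) ?_ ?_).of_dvd (orderOf_dvd_natCard g)))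
    · refine (expo_spec _).1.trans ?_
      rw [ZMod.coe_unitOfCoprime, ZMod.val_natCast]
      exact Nat.mod_modEq _ _
    · exact (expo_spec _).2.trans hk1.symm

/-- The sum of all the conjugates is divisible by `p ^ (a - 1)`. -/
theorem exists_sum_eq {a : ℕ} (ha : (Nat.card G).factorization p = a + 1) (χ : Cfsg.IrrCharacter G)
    [Fintype (ZMod (p ^ (Nat.card G).factorization p))ˣ] (g : G) :
    ∃ t : ℂ, IsIntegral ℤ t ∧
      ∑ u : (ZMod (p ^ (Nat.card G).factorization p))ˣ, (χ : G → ℂ) (g ^ expo (G := G) u) = (p : ℂ) ^ a * t := by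
  classical
  obtain ⟨d, ρ, -, hρ⟩ := χ.2
  obtain ⟨z, hz, hsum⟩ := exists_roots_char_pow ρ g
  set hcop : (p ^ (Nat.card G).factorization p).Coprime (Nat.card G / p ^ (Nat.card G).factorization p) := Nat.Coprime.pow_left _ (hp.out.coprime_iff_not_dvd.mpr
    (Nat.not_dvd_ordCompl hp.out Nat.card_pos.ne'))
  set c := Nat.chineseRemainder hcop 1 0
  set c' := Nat.chineseRemainder hcop 0 1
  have hzN : ∀ l, z l ^ Nat.card G = 1 := fun l => by
    obtain ⟨i, hi⟩ := orderOf_dvd_natCard g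
    rw [hi, pow_mul, hz, one_pow]
  have hsplit : ∀ (u : (ZMod (p ^ (Nat.card G).factorization p))ˣ) l,
      z l ^ expo (G := G) u = (z l ^ (c : ℕ)) ^ ((u : ZMod (p ^ (Nat.card G).factorization p)).val) * z l ^ (c' : ℕ) := by
    intro u l
    rw [← pow_mul, ← pow_add, pow_eq_pow_mod _ (hzN l),
      show expo (G := G) u % Nat.card G = ((c : ℕ) * (u : ZMod (p ^ (Nat.card G).factorization p)).val + c') % Nat.card G from
        modEq_card (p := p)
          ((expo_spec u).1.trans (by simpa using ((c.2.1.mul_right _).add c'.2.1).symm))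
          ((expo_spec u).2.trans (by simpa using ((c.2.2.mul_right _).add c'.2.2).symm)),
      ← pow_eq_pow_mod _ (hzN l)]
  have hw : ∀ l, (z l ^ (c : ℕ)) ^ p ^ (a + 1) = 1 := fun l => by
    have h : (c : ℕ) * p ^ (a + 1) ≡ 0 [MOD Nat.card G] := by
      refine modEq_card (p := p) ?_ ?_
      · exact Nat.modEq_zero_iff_dvd.mpr (Dvd.dvd.mul_left (dvd_of_eq (by rw [ha])) _)
      · simpa using c.2.2.mul_right (p ^ (a + 1))
    rw [← pow_mul, pow_eq_pow_mod _ (hzN l), h, Nat.zero_mod, pow_zero]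
  refine ⟨∑ l, z l ^ (c' : ℕ) * ((if z l ^ (c : ℕ) = 1 then (p : ℂ) else 0) -
    (if (z l ^ (c : ℕ)) ^ p = 1 then 1 else 0)), ?_, ?_⟩
  · refine IsIntegral.sum _ fun l _ => IsIntegral.mul
      ((IsIntegral.of_pow Nat.card_pos (by rw [hzN l]; exact isIntegral_one)).pow _) (IsIntegral.sub ?_ ?_)
    · split_ifs
      · exact (isIntegral_algebraMap (x := (p : ℤ)))
      · exact isIntegral_zero
    · split_ifs
      · exact isIntegral_one
      · exact isIntegral_zero
  · rw [← hρ]
    simp only [hsum, hsplit]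
    rw [Finset.sum_comm, Finset.mul_sum]
    refine Finset.sum_congr rfl fun l _ => ?_
    rw [← Finset.sum_mul]
    have hval := sum_units_pow (p := p) a (hw l)
    have hcast : ∀ (b : ℕ) (hb : b = a + 1) [Fintype (ZMod (p ^ b))ˣ],
        ∑ u : (ZMod (p ^ b))ˣ, (z l ^ (c : ℕ)) ^ ((u : ZMod (p ^ b)).val) =
        (p : ℂ) ^ a * ((if z l ^ (c : ℕ) = 1 then (p : ℂ) else 0) -
          (if (z l ^ (c : ℕ)) ^ p = 1 then 1 else 0)) := by
      rintro b rfl _
      convert hval
    rw [hcast _ ha]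
    ring

/-- **The count of the conjugates.** -/
theorem main (χ : Cfsg.IrrCharacter G) {n r : ℕ} (hn : (χ : G → ℂ) 1 = n)
    (hr : Nat.card (MulAction.orbit (ZMod (p ^ (Nat.card G).factorization p))ˣ χ) = r) :
    (r * n).factorization p ≤ (Nat.card G).factorization p ∧
      ((p ^ (Nat.card G).factorization p) ∣ r * n → (p ^ (Nat.card G).factorization p) ∣ n) := by
  classical
  have := Fintype.ofFinite G
  have hne : NeZero (p ^ (Nat.card G).factorization p) := ⟨(pow_pos hp.out.pos _).ne'⟩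
  let _ := Fintype.ofFinite (ZMod (p ^ (Nat.card G).factorization p))ˣ
  set S := MulAction.stabilizer (ZMod (p ^ (Nat.card G).factorization p))ˣ χ with hS
  have hos : r * Nat.card S = Nat.card (ZMod (p ^ (Nat.card G).factorization p))ˣ := by
    rw [← hr, Nat.card_congr (MulAction.orbitEquivQuotientStabilizer _ χ), ← S.index_mul_card,
      Subgroup.index]
  have hr0 : 0 < r := by
    have := Nat.card_pos (α := (ZMod (p ^ (Nat.card G).factorization p))ˣ)
    rw [← hos] at this
    exact Nat.pos_of_mul_pos_right this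
  obtain ⟨n', hn'0, hn'⟩ := exists_degree_pos χ.2
  have hn0 : 0 < n := by
    have : n' = n := by exact_mod_cast hn'.symm.trans hn
    omega
  rcases Nat.eq_zero_or_pos ((Nat.card G).factorization p) with ha0 | ha0
  · refine ⟨le_of_eq_of_le ?_ (Nat.zero_le _), fun _ => by rw [ha0, pow_zero]; exact one_dvd n⟩
    refine Nat.factorization_eq_zero_of_not_dvd fun h => ?_
    have hr1 : r = 1 := by
      have hc : Nat.card (ZMod (p ^ (Nat.card G).factorization p))ˣ = 1 := by
        rw [Nat.card_eq_fintype_card, ZMod.card_units_eq_totient, ha0, pow_zero, Nat.totient_one]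
      rw [hc] at hos
      exact Nat.eq_one_of_mul_eq_one_right hos
    rw [hr1, one_mul] at h
    have h2 := (hp.out.dvd_iff_one_le_factorization Nat.card_pos.ne').mp
      (h.trans (degree_dvd_card χ.2 hn))
    omega
  obtain ⟨a, ha⟩ : ∃ a, (Nat.card G).factorization p = a + 1 :=
    ⟨(Nat.card G).factorization p - 1, by omega⟩
  have hUcard : Nat.card (ZMod (p ^ (Nat.card G).factorization p))ˣ = p ^ a * (p - 1) := by
    rw [Nat.card_eq_fintype_card, ZMod.card_units_eq_totient, ha, Nat.totient_prime_pow_succ hp.out]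
  -- the total sum
  choose τ hτint hτ using exists_sum_eq ha χ
  let O : Finset (Cfsg.IrrCharacter G) := (MulAction.orbit (ZMod (p ^ (Nat.card G).factorization p))ˣ χ).toFinset
  have hOcard : O.card = r := by rw [← hr, Nat.card_eq_card_toFinset]
  have horb : ∀ f : Cfsg.IrrCharacter G → ℂ,
      ∑ u : (ZMod (p ^ (Nat.card G).factorization p))ˣ, f (u • χ) = (Nat.card S : ℂ) * ∑ ψ ∈ O, f ψ := by
    intro f
    rw [Finset.mul_sum, ← Finset.sum_fiberwise_of_maps_to (g := fun u : (ZMod (p ^ (Nat.card G).factorization p))ˣ => u • χ) (t := O)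
      (fun u _ => Set.mem_toFinset.mpr ⟨u, rfl⟩)]
    refine Finset.sum_congr rfl fun ψ hψ => ?_
    obtain ⟨v, rfl⟩ := Set.mem_toFinset.mp hψ
    rw [Finset.sum_congr rfl fun u hu => congrArg f (Finset.mem_filter.mp hu).2, Finset.sum_const,
      nsmul_eq_mul]
    congr 2
    rw [Nat.card_eq_fintype_card (α := S), ← Finset.card_univ]
    refine (Finset.card_bij (fun (s : S) _ => v * (s : (ZMod (p ^ (Nat.card G).factorization p))ˣ)) (fun s _ => ?_)
      (fun s _ s' _ h => Subtype.ext (mul_left_cancel h)) (fun u hu => ?_)).symm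
    · exact Finset.mem_filter.mpr ⟨Finset.mem_univ _, by rw [mul_smul, show (s : (ZMod (p ^ (Nat.card G).factorization p))ˣ) • χ = χ from s.2]⟩
    · refine ⟨⟨v⁻¹ * u, ?_⟩, Finset.mem_univ _, by simp⟩
      show (v⁻¹ * u) • χ = χ
      rw [mul_smul, (Finset.mem_filter.mp hu).2, inv_smul_smul]
  have hpa : ((p : ℂ) ^ a) ≠ 0 := pow_ne_zero _ (Nat.cast_ne_zero.mpr hp.out.ne_zero)
  have hτψ : ∀ g, (p : ℂ) ^ a * τ g = (Nat.card S : ℂ) * ∑ ψ ∈ O, (ψ : G → ℂ) g := fun g => by
    rw [← hτ, ← horb fun ψ => (ψ : G → ℂ) g]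
    rfl
  have hτclass : ∀ g h, τ (h * g * h⁻¹) = τ g := fun g h => by
    refine mul_left_cancel₀ hpa ?_
    rw [hτψ, hτψ, Finset.sum_congr rfl fun (ψ : Cfsg.IrrCharacter G) _ => isClassFunction_of_isIrr ψ.2 g h]
  have hinner : ∑ g : G, ((p : ℂ) ^ a * τ g) * conj ((χ : G → ℂ) g) =
      (Nat.card S : ℂ) * Nat.card G := by
    rw [Finset.sum_congr rfl fun g _ => by rw [hτψ, mul_assoc, Finset.sum_mul], ← Finset.mul_sum,
      Finset.sum_comm]
    congr 1
    rw [Finset.sum_congr rfl fun (ψ : Cfsg.IrrCharacter G) _ => (card_mul_classInner (ψ : G → ℂ) χ).symm,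
      ← Finset.mul_sum, Finset.sum_eq_single χ, classInner_irr_self χ.2, mul_one]
    · exact fun ψ _ hne => classInner_irr_ne ψ.2 χ.2 fun h => hne (Subtype.ext h)
    · exact fun h => absurd (Set.mem_toFinset.mpr (MulAction.mem_orbit_self χ)) h
  have hdvd : r * n ∣ Nat.card G * (p - 1) := by
    refine dvd_of_isIntegral_div (Nat.mul_ne_zero hr0.ne' hn0.ne') ?_
    have h := isIntegral_sum_div χ.2 hτclass hτint
    refine (congrArg (IsIntegral ℤ) ?_).mp h
    refine mul_left_cancel₀ hpa ?_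
    rw [Finset.mul_sum, Finset.sum_congr rfl fun g _ => (by ring : (p : ℂ) ^ a *
      (τ g * conj ((χ : G → ℂ) g) / (χ : G → ℂ) 1) =
      (p : ℂ) ^ a * τ g * conj ((χ : G → ℂ) g) / (χ : G → ℂ) 1), ← Finset.sum_div, hinner, hn]
    have hos' : (r : ℂ) * (Nat.card S : ℂ) = (p : ℂ) ^ a * ((p - 1 : ℕ) : ℂ) := by
      exact_mod_cast hos.trans hUcard
    have hrC : (r : ℂ) ≠ 0 := Nat.cast_ne_zero.mpr hr0.ne'
    have hnC : (n : ℂ) ≠ 0 := Nat.cast_ne_zero.mpr hn0.ne'
    push_cast
    field_simp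
    linear_combination hos'
  have hp10 : p - 1 ≠ 0 := by have := hp.out.two_le; omega
  have hp1 : (p - 1).factorization p = 0 := Nat.factorization_eq_zero_of_not_dvd fun h => by
    have := Nat.le_of_dvd (Nat.pos_of_ne_zero hp10) h
    omega
  have hle : (r * n).factorization p ≤ (Nat.card G).factorization p := by
    have h := (Nat.factorization_le_iff_dvd (Nat.mul_ne_zero hr0.ne' hn0.ne')
      (Nat.mul_ne_zero Nat.card_pos.ne' hp10)).mpr hdvd p
    rwa [Nat.factorization_mul Nat.card_pos.ne' hp10, Finsupp.add_apply, hp1, add_zero] at h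
  refine ⟨hle, fun hfull => (hp.out.pow_dvd_iff_le_factorization hn0.ne').mpr ?_⟩
  have hrn : (r * n).factorization p = r.factorization p + n.factorization p := by
    rw [Nat.factorization_mul hr0.ne' hn0.ne', Finsupp.add_apply]
  have heq : r.factorization p + n.factorization p = (Nat.card G).factorization p :=
    hrn ▸ le_antisymm hle ((hp.out.pow_dvd_iff_le_factorization (Nat.mul_ne_zero hr0.ne' hn0.ne')).mp hfull)
  by_contra hlt
  push Not at hlt
  -- the orbit contains the block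
  obtain ⟨M, hM⟩ := CfsgLib.Blocks.exists_isPModular hp.out
  have : M.IsMaximal := hM.2.1
  set A : Set (Cfsg.IrrCharacter G) := MulAction.orbit (ZMod (p ^ (Nat.card G).factorization p))ˣ χ with hA
  have hdeg : ∀ ψ ∈ A, (ψ : G → ℂ) 1 = n := by
    rintro _ ⟨u, rfl⟩
    show (χ : G → ℂ) ((1 : G) ^ expo (G := G) u) = n
    rw [one_pow, hn]
  have hcoef : ∀ g : G, Cfsg.blockCoeff A g ∈ locRing M := by
    intro g
    have hkey : Cfsg.blockCoeff A g =
        ((r * n : ℕ) : ℂ) / ((Nat.card G * (p - 1) : ℕ) : ℂ) * conj (τ g) := by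
      rw [blockCoeff_eq, ← Finset.sum_filter,
        show Finset.univ.filter (fun ψ => ψ ∈ A) = O from (by ext ψ; simp [O, hA]),
        Finset.sum_congr rfl fun ψ hψ => by rw [hdeg ψ (Set.mem_toFinset.mp hψ)], ← Finset.mul_sum,
        ← map_sum]
      have hos' : (r : ℂ) * (Nat.card S : ℂ) = (p : ℂ) ^ a * ((p - 1 : ℕ) : ℂ) := by
        exact_mod_cast hos.trans hUcard
      have h1 := congrArg conj (hτψ g)
      rw [map_mul, map_mul, map_pow, Complex.conj_natCast, Complex.conj_natCast] at h1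
      have hP1 : ((p - 1 : ℕ) : ℂ) ≠ 0 := Nat.cast_ne_zero.mpr hp10
      have hG : (Nat.card G : ℂ) ≠ 0 := card_ne_zero'
      have h2 : (r : ℂ) * conj (τ g) = ((p - 1 : ℕ) : ℂ) * conj (∑ ψ ∈ O, (ψ : G → ℂ) g) :=
        mul_left_cancel₀ hpa (by
          linear_combination (r : ℂ) * h1 + conj (∑ ψ ∈ O, (ψ : G → ℂ) g) * hos')
      push_cast
      field_simp
      linear_combination -(n : ℂ) * h2
    rw [hkey]
    refine Subring.mul_mem _ (frac_mem_locRing hM (Nat.mul_ne_zero Nat.card_pos.ne' hp10) (Or.inr ?_))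
      (algInt_le_locRing M ?_)
    · rw [Nat.factorization_mul Nat.card_pos.ne' hp10, Finsupp.add_apply, hp1, hrn, heq, add_zero]
    · exact (hτint g).map ((starRingEnd ℂ).toIntAlgHom)
  have hsub := blockOf_subset_of_integral hcoef (χ := χ) (MulAction.mem_orbit_self χ)
  set B := Cfsg.blockOf M (χ : G → ℂ)
  have hB : Cfsg.IsPBlock M B := isPBlock_blockOf χ
  have hBdeg : ∀ ψ ∈ B, Cfsg.charDegree (ψ : G → ℂ) = n := fun ψ hψ => by
    have h := CfsgLib.Blocks.charDegree_eq (isCharacter_of_isIrr ψ.2)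
    rw [hdeg ψ (hsub hψ)] at h
    exact_mod_cast h.symm
  have hd : Cfsg.blockDefect p B = (Nat.card G).factorization p - n.factorization p := by
    rw [Cfsg.blockDefect]
    congr 1
    refine le_antisymm (Nat.sInf_le ⟨χ, mem_blockOf_self χ, ?_⟩) (le_csInf ⟨_, χ, mem_blockOf_self χ, rfl⟩ ?_)
    · show (Cfsg.charDegree (χ : G → ℂ)).factorization p = _
      rw [hBdeg χ (mem_blockOf_self χ)]
    · rintro _ ⟨ψ, hψ, rfl⟩
      show n.factorization p ≤ (Cfsg.charDegree (ψ : G → ℂ)).factorization p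
      rw [hBdeg ψ hψ]
  set d := Cfsg.blockDefect p B
  have hdr : r.factorization p = d := by rw [hd]; omega
  obtain ⟨d', hd'⟩ : ∃ d', d = d' + 1 := ⟨d - 1, by omega⟩
  have hdle : d ≤ (Nat.card G).factorization p := by rw [hd]; omega
  -- roots of unity of order `p ^ d` suffice
  set π := ZMod.unitsMap (pow_dvd_pow p hdle)
  have hker : π.ker ≤ S := by
    intro u hu
    refine Subtype.ext (funext fun g => ?_)
    show (χ : G → ℂ) (g ^ expo (G := G) u) = (χ : G → ℂ) g
    by_cases h0 : (χ : G → ℂ) g = 0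
    · obtain ⟨σ, hσ⟩ := exists_auto (G := G) u
      rw [← ringEquiv_char_apply hσ (isCharacter_of_isIrr χ.2) (orderOf_dvd_natCard g), h0, map_zero]
    obtain ⟨x, hx⟩ := exists_isPPart (p := p) g
    obtain ⟨D, hD, hxD⟩ := mem_defect_of_ne_zero hM hB (mem_blockOf_self χ) hx h0
    have hox : orderOf x ∣ p ^ d := by
      rw [← card_defectGroup hM hB hD]
      exact (Subgroup.orderOf_mk x hxD).symm.dvd.trans (orderOf_dvd_natCard _)
    obtain ⟨y, hxy, hcomm, ⟨s, hs⟩, hy⟩ := hx
    have hey : expo (G := G) u ≡ 1 [MOD orderOf y] := by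
      refine (expo_spec u).2.of_dvd ?_
      have h1 := orderOf_dvd_natCard y
      rw [← Nat.ordProj_mul_ordCompl_eq_self (Nat.card G) p] at h1
      exact (Nat.Coprime.pow_right _ (hp.out.coprime_iff_not_dvd.mpr hy).symm).dvd_of_dvd_mul_left h1
    have hex : expo (G := G) u ≡ 1 [MOD orderOf x] := by
      refine Nat.ModEq.of_dvd hox (((expo_spec u).1.of_dvd (pow_dvd_pow p hdle)).trans ?_)
      have h2 : ((u : ZMod (p ^ (Nat.card G).factorization p)).val : ZMod (p ^ d)) = 1 := by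
        rw [ZMod.natCast_val]
        exact congrArg Units.val hu
      exact (ZMod.natCast_eq_natCast_iff _ 1 _).mp (by rw [h2, Nat.cast_one])
    refine congrArg _ ?_
    rw [← hxy, hcomm.mul_pow, pow_eq_pow_iff_modEq.mpr hex, pow_eq_pow_iff_modEq.mpr hey, pow_one, pow_one]
  have hrd : r ∣ p ^ d' * (p - 1) := by
    have hidx : S.index = r := by
      rw [← hr, Nat.card_congr (MulAction.orbitEquivQuotientStabilizer _ χ), Subgroup.index]
    refine hidx ▸ (Subgroup.index_dvd_of_le hker).trans ?_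
    rw [Subgroup.index_ker]
    have hc : Nat.card (ZMod (p ^ d))ˣ = p ^ d' * (p - 1) := by
      have : NeZero (p ^ d) := ⟨(pow_pos hp.out.pos _).ne'⟩
      rw [Nat.card_eq_fintype_card, ZMod.card_units_eq_totient, hd', Nat.totient_prime_pow_succ hp.out]
    exact hc ▸ Subgroup.card_subgroup_dvd_card _
  have hfin := (Nat.factorization_le_iff_dvd hr0.ne'
    (Nat.mul_ne_zero (pow_ne_zero _ hp.out.ne_zero) hp10)).mpr hrd p
  rw [Nat.factorization_mul (pow_ne_zero _ hp.out.ne_zero) hp10, Finsupp.add_apply, hp1,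
    hp.out.factorization_pow, Finsupp.single_eq_same] at hfin
  omega

end CfsgLib.CharNormal.ConjCount
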