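import Cfsg.Agent.Lib.CharNormal.InvariantCount
import Cfsg.Agent.Lib.Char.Extension
import Cfsg.Agent.Lib.Char.Linear
import Cfsg.Prelude.Def_Blocks

/-!
# Counting characters of degree prime to a coprime complement

* `card_invariantClass_eq_fixed`: invariant classes under a coprime solvable action;
* `card_coprime_degree`: characters of `KH` of degree prime to `|H|`.
-/

namespace CfsgLib.CharNormal

open CfsgLib.Char

universe u

theorem card_invariantClass_eq_fixed {G S : Type u} [Group G] [Group S] [Finite G] [Finite S]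
    (φ : S →* MulAut G) (hsolv : Group.IsSolvable S)
    (hcop : (Nat.card G).Coprime (Nat.card S)) :
    Nat.card {K : ConjClasses G // IsInvariantClass φ K} =
      Nat.card (ConjClasses (fixedBy φ (⊤ : Subgroup S))) := by
  generalize hn : Nat.card S = n
  induction n using Nat.strong_induction_on generalizing G S with
  | _ n ih =>
    classical
    have := Fintype.ofFinite G
    rcases subsingleton_or_nontrivial S with hss | hnt
    · have h2 : ∀ K : ConjClasses G, IsInvariantClass φ K := fun K s g hg => by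
        rw [Subsingleton.elim s 1, map_one]; exact hg
      have h3 : fixedBy φ (⊤ : Subgroup S) = ⊤ := eq_top_iff.mpr fun g _ t _ => by
        rw [Subsingleton.elim t 1, map_one]; rfl
      rw [Nat.card_congr (Equiv.subtypeUnivEquiv h2), h3]
      exact Nat.card_congr (conjEquiv Subgroup.topEquiv).symm
    · obtain ⟨p, T, hp, hTn, hT1, hTp⟩ := exists_normal_pGroup hsolv
      have : Fact p.Prime := ⟨hp⟩
      obtain ⟨k, hk⟩ := IsPGroup.iff_card.mp hTp
      have hpS : p ∣ Nat.card S := by
        refine dvd_trans ?_ (Subgroup.card_subgroup_dvd_card T)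
        rcases k with _ | k
        · exact absurd (Subgroup.card_eq_one.mp (by simpa using hk)) hT1
        · exact ⟨p ^ k, by rw [hk, pow_succ']⟩
      have hG : ¬ p ∣ Nat.card G := fun h =>
        hp.ne_one (Nat.eq_one_of_dvd_coprimes hcop h hpS)
      have := Fintype.ofFinite (fixedBy φ T)
      rw [← card_invariantClass_fixedBy φ T hTp hG]
      have hlt : Nat.card (S ⧸ T) < n := by
        rw [← hn, Subgroup.card_eq_card_quotient_mul_card_subgroup T]
        refine lt_mul_of_one_lt_right Nat.card_pos ?_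
        exact (Subgroup.one_lt_card_iff_ne_bot T).mpr hT1
      have hsolvQ : Group.IsSolvable (S ⧸ T) := inferInstance
      rw [ih _ hlt (fixedQuotAut φ T) hsolvQ
        ((hcop.coprime_dvd_left (Subgroup.card_subgroup_dvd_card _)).coprime_dvd_right
          (T.index_dvd_card)) rfl]
      let e : fixedBy (fixedQuotAut φ T) (⊤ : Subgroup (S ⧸ T)) ≃* fixedBy φ (⊤ : Subgroup S) :=
        { toFun := fun g => ⟨((g.1 : fixedBy φ T) : G), fun s _ =>
            congrArg Subtype.val (g.2 (s : S ⧸ T) (Subgroup.mem_top _))⟩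
          invFun := fun g => ⟨⟨(g : G), fun t _ => g.2 t (Subgroup.mem_top t)⟩, fun q _ => by
            obtain ⟨s, rfl⟩ := QuotientGroup.mk_surjective q
            exact Subtype.ext (g.2 s (Subgroup.mem_top s))⟩
          left_inv := fun g => rfl
          right_inv := fun g => rfl
          map_mul' := fun g h => rfl }
      exact Nat.card_congr (conjEquiv e)
where
  conjEquiv {A B : Type u} [Group A] [Group B] (e : A ≃* B) : ConjClasses A ≃ ConjClasses B :=
    { toFun := ConjClasses.map e.toMonoidHom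
      invFun := ConjClasses.map e.symm.toMonoidHom
      left_inv := fun K => by
        obtain ⟨x, rfl⟩ := ConjClasses.mk_surjective K
        exact congrArg ConjClasses.mk (e.symm_apply_apply x)
      right_inv := fun K => by
        obtain ⟨x, rfl⟩ := ConjClasses.mk_surjective K
        exact congrArg ConjClasses.mk (e.apply_symm_apply x) }

/-- Invariant characters of the normal Hall subgroup and linear characters of the complement. -/
theorem card_coprime_degree {G : Type u} [Group G] [Finite G] (K H : Subgroup G) [hKn : K.Normal]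
    (hKH : K ⊔ H = ⊤) (hcop : (Nat.card K).Coprime (Nat.card H)) (hsolv : Group.IsSolvable H) :
    Nat.card {χ : Cfsg.IrrCharacter G //
        (Cfsg.charDegree (χ : G → ℂ)).Coprime (Nat.card H)} =
      Nat.card (ConjClasses (K ⊓ Subgroup.centralizer (H : Set G) : Subgroup G)) *
        (commutator H).index := by
  classical
  have := Fintype.ofFinite G
  have := Fintype.ofFinite K
  have hbot : K ⊓ H = ⊥ := Subgroup.eq_bot_of_card_eq _ (Nat.eq_one_of_dvd_coprimes hcop
    (Subgroup.card_dvd_of_le inf_le_left) (Subgroup.card_dvd_of_le inf_le_right))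
  let π : H →* G ⧸ K := (QuotientGroup.mk' K).comp H.subtype
  have hπ : Function.Bijective π := by
    constructor
    · rw [injective_iff_map_eq_one]
      intro h hh
      have h1 : (h : G) ∈ K ⊓ H := ⟨(QuotientGroup.eq_one_iff _).mp hh, h.2⟩
      rw [hbot, Subgroup.mem_bot] at h1
      exact Subtype.ext h1
    · intro q
      obtain ⟨g, rfl⟩ := QuotientGroup.mk'_surjective K q
      obtain ⟨k, hk, h, hh, rfl⟩ := Subgroup.mem_sup_of_normal_left.mp
        (hKH ▸ Subgroup.mem_top g : g ∈ K ⊔ H)
      refine ⟨⟨h, hh⟩, ?_⟩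
      show QuotientGroup.mk' K h = QuotientGroup.mk' K (k * h)
      rw [map_mul, show QuotientGroup.mk' K k = 1 from (QuotientGroup.eq_one_iff k).mpr hk, one_mul]
  let eQ : H ≃* G ⧸ K := MulEquiv.ofBijective π hπ
  have hidx : K.index = Nat.card H := (Nat.card_congr eQ.toEquiv).symm
  let φ : H →* MulAut K := (MulAut.conjNormal (H := K)).comp H.subtype
  -- invariance under `H` is invariance under `G`
  have hinvG : ∀ θ : Cfsg.IrrCharacter K, IsInvariant φ θ → ∀ g : G,
      conjFun K g (θ : K → ℂ) = θ := by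
    intro θ hθ
    have hle : K ⊔ H ≤ inertia K (θ : K → ℂ) := sup_le (le_inertia K (isClassFunction_of_isIrr θ.2))
      fun h hh => (mem_inertia K).mpr (funext fun k => by
        refine Eq.trans ?_ (hθ ⟨h, hh⟩ k)
        exact congrArg (θ : K → ℂ) (Subtype.ext (MulAut.conjNormal_apply h k).symm))
    exact fun g => (mem_inertia K).mp (hle (hKH ▸ Subgroup.mem_top g))
  -- extensions
  have hext : ∀ θ : {θ : Cfsg.IrrCharacter K // IsInvariant φ θ}, ∃ X : G → ℂ,
      Cfsg.IsIrrCharacter G X ∧ ∀ k : K, X k = (θ.1 : K → ℂ) k := by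
    rintro ⟨θ, hθ⟩
    obtain ⟨t, ht0, ht⟩ := exists_degree_pos θ.2
    have hinv : ∀ (g : G) (k : K),
        (θ : K → ℂ) ⟨g * k * g⁻¹, hKn.conj_mem (k : G) k.2 g⟩ = (θ : K → ℂ) k :=
      fun g k => congrFun (hinvG θ hθ g) k
    have hcopd : Nat.Coprime K.index t := hidx ▸
      (hcop.coprime_dvd_left (degree_dvd_card θ.2 ht)).symm
    refine (extend_iff_det K θ.2 hinv ht hcopd).mpr ?_
    obtain ⟨d, ρ, hirr, hρ⟩ := θ.2
    have hdet : Cfsg.detChar (θ : K → ℂ) = linFun (detHom ρ) := by
      rw [← hρ, detChar_eq_detHom]; rfl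
    have hord : orderOf (linFun (detHom ρ)) ∣ Nat.card K := by
      rw [orderOf_linFun]
      exact orderOf_dvd_of_pow_eq_one (MonoidHom.ext fun k => by
        rw [MonoidHom.pow_apply, ← map_pow, pow_card_eq_one', map_one]; rfl)
    obtain ⟨f, ⟨hf, -⟩, -⟩ := canonical_linear_extension K (lam := linFun (detHom ρ))
      (isCharacter_linFun _) (fun g k => by
        rw [← hdet]
        exact det_invariant K (isCharacter_of_isIrr θ.2) hinv g k)
      (hidx ▸ (hcop.coprime_dvd_left hord).symm)
    exact ⟨linFun f, (isCharacter_linFun f).1, (isCharacter_linFun f).2, fun k => by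
      rw [hf k, hdet]⟩
  choose X hX hXθ using hext
  have hXres : ∀ θ, Cfsg.IsIrrCharacter K (fun k : K => X θ k) := fun θ => by
    rw [show (fun k : K => X θ k) = (θ.1 : K → ℂ) from funext (hXθ θ)]; exact θ.1.2
  have hdeg : ∀ χ : Cfsg.IrrCharacter G,
      (χ : G → ℂ) 1 = (Cfsg.charDegree (χ : G → ℂ) : ℂ) := fun χ => by
    obtain ⟨d, hd⟩ := exists_degree (isCharacter_of_isIrr χ.2)
    rw [Cfsg.charDegree, hd, Complex.natCast_re, Nat.floor_natCast]
  let F : {θ : Cfsg.IrrCharacter K // IsInvariant φ θ} ×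
      {β : Cfsg.IrrCharacter (G ⧸ K) // (β : G ⧸ K → ℂ) 1 = 1} →
      {χ : Cfsg.IrrCharacter G // (Cfsg.charDegree (χ : G → ℂ)).Coprime (Nat.card H)} :=
    fun x => ⟨⟨X x.1 * ((x.2.1 : G ⧸ K → ℂ) ∘ QuotientGroup.mk),
      isIrr_mul_comp_mk' K (isCharacter_of_isIrr (hX x.1)) (hXres x.1) x.2.1.2⟩, by
      obtain ⟨t, -, ht⟩ := exists_degree_pos x.1.1.2
      set χ : Cfsg.IrrCharacter G := ⟨X x.1 * ((x.2.1 : G ⧸ K → ℂ) ∘ QuotientGroup.mk),
        isIrr_mul_comp_mk' K (isCharacter_of_isIrr (hX x.1)) (hXres x.1) x.2.1.2⟩ with hχ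
      have h1 := hdeg χ
      have h2 : (χ : G → ℂ) 1 = (t : ℂ) := by
        show X x.1 1 * (x.2.1 : G ⧸ K → ℂ) ((1 : G) : G ⧸ K) = _
        rw [QuotientGroup.mk_one, x.2.2, mul_one, ← ht]
        exact hXθ x.1 1
      rw [h2, Nat.cast_inj] at h1
      show (Cfsg.charDegree (χ : G → ℂ)).Coprime (Nat.card H)
      rw [← h1]
      exact hcop.coprime_dvd_left (degree_dvd_card x.1.1.2 ht)⟩
  have hF : Function.Bijective F := by
    constructor
    · rintro ⟨θ, β⟩ ⟨θ', β'⟩ h
      have h1 : X θ * ((β.1 : G ⧸ K → ℂ) ∘ QuotientGroup.mk) =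
          X θ' * ((β'.1 : G ⧸ K → ℂ) ∘ QuotientGroup.mk) :=
        congrArg (fun c => (c.1 : G → ℂ)) h
      have hθ : θ = θ' := Subtype.ext (Subtype.ext (funext fun k => by
        have h2 := congrFun h1 (k : G)
        simp only [Pi.mul_apply, Function.comp_apply, hXθ, (QuotientGroup.eq_one_iff (k : G)).mpr k.2,
          β.2, β'.2, mul_one] at h2
        exact h2))
      subst hθ
      exact Prod.ext rfl (Subtype.ext (Subtype.ext (mul_comp_mk'_injective K
        (isCharacter_of_isIrr (hX θ)) (hXres θ) β.1.2 β'.1.2 h1)))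
    · rintro ⟨χ, hχ⟩
      obtain ⟨θ, hθ, hne⟩ := exists_constituent (isCharacter_res K (isCharacter_of_isIrr χ.2))
        fun h => irr_one_ne_zero χ.2 (by simpa using congrFun h 1)
      obtain ⟨t, ht0, ht⟩ := exists_degree_pos hθ
      obtain ⟨m, hm⟩ := classInner_char_nat (isCharacter_res K (isCharacter_of_isIrr χ.2))
        (isCharacter_of_isIrr hθ)
      have h := degree_eq_mul_card_orbit K χ.2 ⟨θ, hθ⟩ hne
      rw [hdeg χ] at h
      simp only [hm, ht] at h
      have h' : Cfsg.charDegree (χ : G → ℂ) = m * (orbit K ⟨θ, hθ⟩).card * t := by exact_mod_cast h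
      have horb : (orbit K (⟨θ, hθ⟩ : Cfsg.IrrCharacter K)).card = 1 :=
        Nat.eq_one_of_dvd_coprimes hχ
          (h' ▸ Dvd.dvd.mul_right (dvd_mul_left _ _) _) (hidx ▸ card_orbit_dvd_index K ⟨θ, hθ⟩)
      have hall : ∀ g : G, conjFun K g θ = θ := fun g => by
        rw [← mem_inertia K]
        have h1 : (inertia K θ).index = 1 := (card_orbit_eq_index K ⟨θ, hθ⟩).symm.trans horb
        rw [Subgroup.index_eq_one.mp h1]
        exact Subgroup.mem_top g
      have hinv : IsInvariant φ (⟨θ, hθ⟩ : Cfsg.IrrCharacter K) := fun s k => by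
        refine Eq.trans ?_ (congrFun (hall (s : G)) k)
        exact congrArg θ (Subtype.ext (MulAut.conjNormal_apply (s : G) k))
      set θ' : {θ : Cfsg.IrrCharacter K // IsInvariant φ θ} := ⟨⟨θ, hθ⟩, hinv⟩ with hθ'
      obtain ⟨β, hβ, hχβ⟩ := exists_eq_mul_comp_mk' K (isCharacter_of_isIrr (hX θ')) (hXres θ')
        χ.2 (by rw [show (fun k : K => X θ' k) = θ from funext (hXθ θ')]; exact hne)
      have hβ1 : β 1 = 1 := by
        obtain ⟨e, -, he⟩ := exists_degree_pos hβ
        have h1 : (χ : G → ℂ) 1 = (t : ℂ) * (e : ℂ) := by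
          rw [hχβ, Pi.mul_apply, Function.comp_apply, QuotientGroup.mk_one, he, ← ht]
          exact congrArg (· * (e : ℂ)) (hXθ θ' 1)
        rw [hdeg χ] at h1
        have h2 : Cfsg.charDegree (χ : G → ℂ) = t * e := by exact_mod_cast h1
        have h3 : e ∣ Nat.card H := by
          rw [Nat.card_congr eQ.toEquiv]; exact degree_dvd_card hβ he
        rw [he, Nat.eq_one_of_dvd_coprimes hχ (h2 ▸ dvd_mul_left e t) h3, Nat.cast_one]
      exact ⟨(θ', ⟨⟨β, hβ⟩, hβ1⟩), Subtype.ext (Subtype.ext hχβ.symm)⟩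
  rw [← Nat.card_eq_of_bijective F hF, Nat.card_prod, card_linear,
    card_invariant_irr_eq φ hsolv hcop, card_invariantClass_eq_fixed φ hsolv hcop]
  congr 1
  · refine Nat.card_congr (card_invariantClass_eq_fixed.conjEquiv
      { toFun := fun k => ⟨((k : K) : G), (k : K).2, fun h hh => ?_⟩
        invFun := fun k => ⟨⟨(k : G), k.2.1⟩, fun s _ => ?_⟩
        left_inv := fun k => rfl
        right_inv := fun k => rfl
        map_mul' := fun a b => rfl })
    · have h1 : h * (((k : K) : G)) * h⁻¹ = ((k : K) : G) :=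
        (MulAut.conjNormal_apply h (k : K)).symm.trans
          (congrArg Subtype.val (k.2 ⟨h, hh⟩ (Subgroup.mem_top _)))
      calc h * ((k : K) : G) = (h * ((k : K) : G) * h⁻¹) * h := by group
        _ = ((k : K) : G) * h := by rw [h1]
    · refine Subtype.ext ((MulAut.conjNormal_apply (s : G) _).trans ?_)
      show (s : G) * (k : G) * (s : G)⁻¹ = k
      rw [Subgroup.mem_centralizer_iff.mp k.2.2 s s.2, mul_inv_cancel_right]
  · have h1 : (commutator H).map eQ.toMonoidHom = commutator (G ⧸ K) := by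
      rw [commutator_def, commutator_def, Subgroup.map_commutator,
        Subgroup.map_top_of_surjective eQ.toMonoidHom eQ.surjective]
    rw [← h1]
    exact Subgroup.index_map_of_bijective eQ.bijective _

end CfsgLib.CharNormal
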