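import Cfsg.Agent.Lib.CharNormal.GlaubermanCyclic
import Cfsg.Agent.S4604
import Mathlib.Data.ZMod.Units

/-!
Cyclic operator groups with the same fixed points for all their nontrivial elements.

* `value_pm`, `value_rigid`: a character of a cyclic group with values `0, ±1` off the identity is
  zero or has one sign on squares and one on nonsquares;
* `exists_sign`: the values of the canonical extension on `C S`.
-/

set_option autoImplicit false

noncomputable section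

namespace CfsgLib.CyclicFreeAction

open Cfsg CfsgLib.Char CfsgLib.CharNormal CfsgLib.CharNormal.CyclicGlauberman
open scoped ComplexConjugate

universe u

/-- `s₁² - s₂` is twice, and `(s₁² - s₂)² - 2 (s₂² - s₄)` eight times an algebraic integer. -/
theorem power_sum_congr {ι : Type*} (t : Finset ι) (z : ι → ℂ) (hz : ∀ i, IsIntegral ℤ (z i)) :
    ∃ e q : ℂ, IsIntegral ℤ e ∧ IsIntegral ℤ q ∧
      (∑ i ∈ t, z i) ^ 2 - ∑ i ∈ t, z i ^ 2 = 2 * e ∧
      ((∑ i ∈ t, z i) ^ 2 - ∑ i ∈ t, z i ^ 2) ^ 2 - 2 * ((∑ i ∈ t, z i ^ 2) ^ 2 - ∑ i ∈ t, z i ^ 4) = 8 * q := by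
  classical
  induction t using Finset.induction_on with
  | empty => exact ⟨0, 0, isIntegral_zero, isIntegral_zero, by simp, by simp⟩
  | @insert a t ha ih =>
    obtain ⟨e, q, he, hq, h1, h2⟩ := ih
    have hs : IsIntegral ℤ (∑ i ∈ t, z i) := IsIntegral.sum _ fun i _ => hz i
    refine ⟨e + z a * ∑ i ∈ t, z i, q + (z a * ∑ i ∈ t, z i) * e + z a ^ 2 * e, he.add ((hz a).mul hs),
      (hq.add (((hz a).mul hs).mul he)).add (((hz a).pow 2).mul he), ?_, ?_⟩
    · rw [Finset.sum_insert ha, Finset.sum_insert ha]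
      linear_combination h1
    · rw [Finset.sum_insert ha, Finset.sum_insert ha, Finset.sum_insert ha]
      linear_combination h2 + (4 * z a * (∑ i ∈ t, z i) + 4 * z a ^ 2) * h1

variable {S : Type u} [Group S] [Finite S] {Φ : S → ℂ}

theorem int_eq_of_integral {a : ℤ} {b : ℕ} {γ : ℂ} (hb : b ≠ 0) (hγ : IsIntegral ℤ γ)
    (h : (a : ℂ) = (b : ℂ) * γ) : (b : ℤ) ∣ a := by
  have hq : (((a : ℚ) / b : ℚ) : ℂ) = γ := by
    push_cast
    rw [h]
    field_simp
  obtain ⟨z, hz⟩ := exists_int_of_isIntegral_rat (hq.symm ▸ hγ : IsIntegral ℤ (((a : ℚ) / b : ℚ) : ℂ))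
  refine ⟨z, ?_⟩
  rw [div_eq_iff (Nat.cast_ne_zero.mpr hb)] at hz
  exact_mod_cast hz.trans (mul_comm _ _)

/-- One step `y ↦ y ^ r` for a prime `r`. -/
theorem value_step (hΦ : IsCharacter S Φ) {f : S → ℤ} (hf : ∀ y, y ≠ 1 → Φ y = f y)
    (hb : ∀ y, y ≠ 1 → |f y| ≤ 1) {r : ℕ} (hr : r.Prime) {y : S} (hy : y ^ r ≠ 1) :
    (f y = 0 → f (y ^ r) = 0) ∧ (Odd r → f (y ^ r) = f y) := by
  have hy1 : y ≠ 1 := fun h => hy (by rw [h, one_pow])
  have := Fact.mk hr
  obtain ⟨γ, hγ⟩ := Cfsg.Agent.S4604.char_pow_congr (p := r) hΦ y 1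
  rw [pow_one, hf y hy1, hf _ hy] at hγ
  obtain ⟨c, hc⟩ := int_eq_of_integral (a := f y ^ r - f (y ^ r)) hr.ne_zero γ.2 (by push_cast; exact hγ)
  have h1 := abs_le.mp (hb y hy1)
  have h2 := abs_le.mp (hb _ hy)
  have hr2 : (2 : ℤ) ≤ r := by exact_mod_cast hr.two_le
  refine ⟨fun h0 => ?_, fun hodd => ?_⟩
  · rw [h0, zero_pow hr.ne_zero, zero_sub] at hc
    have : c = 0 := by nlinarith
    subst this
    linarith
  · have hp : f y ^ r = f y := by
      rcases (show f y = -1 ∨ f y = 0 ∨ f y = 1 by omega) with h | h | h <;> rw [h]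
      · exact hodd.neg_one_pow
      · exact zero_pow hr.ne_zero
      · exact one_pow r
    rw [hp] at hc
    have hr3 : (3 : ℤ) ≤ r := by
      obtain ⟨k, hk⟩ := hodd
      have := hr.two_le
      omega
    have : c = 0 := by nlinarith
    subst this
    linarith

/-- The step `y ^ 2 ↦ y ^ 4`. -/
theorem value_step_four (hΦ : IsCharacter S Φ) {f : S → ℤ} (hf : ∀ y, y ≠ 1 → Φ y = f y)
    (hb : ∀ y, y ≠ 1 → |f y| ≤ 1) {y : S} (hy : y ^ 4 ≠ 1) (h1 : f y ≠ 0) (h2 : f (y ^ 2) ≠ 0)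
    (h4 : f (y ^ 4) ≠ 0) : f (y ^ 4) = f (y ^ 2) := by
  have hy2 : y ^ 2 ≠ 1 := fun h => hy (by rw [show 4 = 2 * 2 from rfl, pow_mul, h, one_pow])
  have hy1 : y ≠ 1 := fun h => hy (by rw [h, one_pow])
  obtain ⟨d, ρ, rfl⟩ := hΦ
  obtain ⟨z, hz, hzk⟩ := exists_roots_char_pow ρ y
  obtain ⟨e, q, he, hq, e1, e2⟩ := power_sum_congr Finset.univ z fun i =>
    IsIntegral.of_pow (orderOf_pos y) (by rw [hz i]; exact isIntegral_one)
  have s1 := hzk 1
  have s2 := hzk 2
  have s4 := hzk 4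
  simp only [pow_one] at s1
  rw [hf _ hy1] at s1
  rw [hf _ hy2] at s2
  rw [hf _ hy] at s4
  rw [← s1, ← s2] at e1
  rw [← s1, ← s2, ← s4] at e2
  obtain ⟨a, ha⟩ := int_eq_of_integral (a := f y ^ 2 - f (y ^ 2)) two_ne_zero he (by push_cast; exact e1)
  obtain ⟨b, hb'⟩ := int_eq_of_integral (b := 8)
    (a := (f y ^ 2 - f (y ^ 2)) ^ 2 - 2 * (f (y ^ 2) ^ 2 - f (y ^ 4))) (by omega) hq (by push_cast; exact e2)
  push_cast at ha hb'
  have b1 := abs_le.mp (hb y hy1)
  have b2 := abs_le.mp (hb _ hy2)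
  have b4 := abs_le.mp (hb _ hy)
  rcases (show f y = -1 ∨ f y = 1 by omega) with hA | hA <;>
    rcases (show f (y ^ 2) = -1 ∨ f (y ^ 2) = 1 by omega) with hB | hB <;>
    rcases (show f (y ^ 4) = -1 ∨ f (y ^ 4) = 1 by omega) with hC | hC <;>
    simp only [hA, hB, hC] at ha hb' ⊢ <;> norm_num at ha hb' ⊢ <;> omega

theorem value_zero (hΦ : IsCharacter S Φ) {f : S → ℤ} (hf : ∀ y, y ≠ 1 → Φ y = f y)
    (hb : ∀ y, y ≠ 1 → |f y| ≤ 1) {s : S} (hs : f s = 0) :
    ∀ j : ℕ, s ^ j ≠ 1 → f (s ^ j) = 0 := by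
  intro j
  induction j using Nat.strong_induction_on with
  | _ j ih =>
  intro hj
  by_cases hj1 : j = 1
  · rwa [hj1, pow_one]
  obtain ⟨r, hr, hrd⟩ := Nat.exists_prime_and_dvd hj1
  obtain ⟨i, rfl⟩ := hrd
  have hi0 : i ≠ 0 := fun h => hj (by rw [h, mul_zero, pow_zero])
  have hlt : i < r * i := lt_mul_of_one_lt_left (Nat.pos_of_ne_zero hi0) hr.one_lt
  have hi : s ^ i ≠ 1 := fun h => hj (by rw [mul_comm, pow_mul, h, one_pow])
  rw [mul_comm, pow_mul] at hj ⊢
  exact (value_step hΦ hf hb hr hj).1 (ih i hlt hi)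

theorem value_pm (hΦ : IsCharacter S Φ) {f : S → ℤ} (hf : ∀ y, y ≠ 1 → Φ y = f y)
    (hb : ∀ y, y ≠ 1 → |f y| ≤ 1) {s : S} (hnz : ∀ j : ℕ, s ^ j ≠ 1 → f (s ^ j) ≠ 0) :
    ∀ j : ℕ, s ^ j ≠ 1 → (Odd j → f (s ^ j) = f s) ∧ (Even j → f (s ^ j) = f (s ^ 2)) := by
  intro j
  induction j using Nat.strong_induction_on with
  | _ j ih =>
  intro hj
  have hj0 : j ≠ 0 := fun h => hj (by rw [h, pow_zero])
  by_cases hj1 : j = 1
  · subst hj1
    exact ⟨fun _ => by rw [pow_one], fun h => absurd h (by decide)⟩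
  by_cases hpow : ∃ r, r.Prime ∧ Odd r ∧ r ∣ j
  · obtain ⟨r, hr, hro, i, rfl⟩ := hpow
    have hi0 : i ≠ 0 := right_ne_zero_of_mul hj0
    have hlt : i < r * i := lt_mul_of_one_lt_left (Nat.pos_of_ne_zero hi0) hr.one_lt
    have hi : s ^ i ≠ 1 := fun h => hj (by rw [mul_comm, pow_mul, h, one_pow])
    have hstep : f (s ^ (r * i)) = f (s ^ i) := by
      rw [mul_comm, pow_mul] at hj ⊢
      exact (value_step hΦ hf hb hr hj).2 hro
    rw [hstep]
    obtain ⟨h1, h2⟩ := ih i hlt hi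
    exact ⟨fun h => h1 (Nat.odd_mul.mp h).2, fun h => h2 ((Nat.even_mul.mp h).resolve_left
      (Nat.not_even_iff_odd.mpr hro))⟩
  push Not at hpow
  have heven : Even j := by
    obtain ⟨r, hr, hrd⟩ := Nat.exists_prime_and_dvd hj1
    rcases hr.eq_two_or_odd' with rfl | ho
    · exact even_iff_two_dvd.mpr hrd
    · exact absurd hrd (hpow r hr ho)
  refine ⟨fun h => absurd heven (Nat.not_even_iff_odd.mpr h), fun _ => ?_⟩
  by_cases hj2 : j = 2
  · rw [hj2]
  obtain ⟨i, rfl⟩ : 4 ∣ j := by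
    obtain ⟨i, rfl⟩ := heven
    rcases Nat.even_or_odd i with ⟨k, rfl⟩ | hio
    · exact ⟨k, by ring⟩
    · obtain ⟨r, hr, hrd⟩ := Nat.exists_prime_and_dvd (show i ≠ 1 by omega)
      exact absurd (hrd.trans ⟨2, by ring⟩) (hpow r hr (Odd.of_dvd_nat hio hrd))
  have hi : s ^ i ≠ 1 := fun h => hj (by rw [mul_comm, pow_mul, h, one_pow])
  have h2i : s ^ (i * 2) ≠ 1 := fun h => hj (by
    rw [show 4 * i = i * 2 * 2 by ring, pow_mul, h, one_pow])
  have h4 : (s ^ i) ^ 4 ≠ 1 := by rwa [← pow_mul, mul_comm]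
  have := value_step_four hΦ hf hb h4 (hnz _ hi) (by rw [← pow_mul]; exact hnz _ h2i)
    (by rw [← pow_mul]; exact hnz _ (by rwa [mul_comm]))
  rw [← pow_mul, ← pow_mul, mul_comm i 4] at this
  rw [this]
  exact (ih (i * 2) (by omega) h2i).2 (even_two.mul_left i)

variable {Γ : Type u} [Group Γ] [Fintype Γ] {G : Subgroup Γ} [G.Normal] [Fintype G] {s : Γ}

/-- The values at `c x` only depend on `⟨x⟩`. -/
theorem value_pow_of_commute (hcop : (Nat.card G).Coprime G.index) (hord : orderOf s = G.index)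
    {χ : Γ → ℂ} (hχ : IsCanonical G χ) {x : Γ} (hx : x ∈ Subgroup.zpowers s) {k : ℕ}
    (hk : k.Coprime (orderOf x)) :
    ∃ σ : ℂ ≃+* ℂ, σ ∘ χ = χ ∧ ∀ c ∈ G, c * x = x * c → σ (χ (c * x)) = χ (c * x ^ k) := by
  have hdvd : orderOf x ∣ orderOf s := orderOf_dvd_of_mem_zpowers hx
  have : NeZero (orderOf s) := ⟨(orderOf_pos s).ne'⟩
  obtain ⟨v, hv⟩ := ZMod.unitsMap_surjective hdvd (ZMod.unitOfCoprime k hk)
  set k0 := ((v : ZMod (orderOf s))).val with hk0
  have hk0c : k0.Coprime (orderOf s) := ZMod.val_coe_unit_coprime v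
  have hk0m : k0 ≡ k [MOD orderOf x] := by
    rw [← ZMod.natCast_eq_natCast_iff]
    have h1 := congrArg (fun u : (ZMod (orderOf x))ˣ => (u : ZMod (orderOf x))) hv
    rw [ZMod.coe_unitOfCoprime] at h1
    rw [← h1]
    show ((k0 : ℕ) : ZMod (orderOf x)) = ZMod.castHom hdvd (ZMod (orderOf x)) (v : ZMod (orderOf s))
    rw [← ZMod.natCast_zmod_val (v : ZMod (orderOf s)), map_natCast]
  obtain ⟨k', hk1, hk2⟩ := Nat.chineseRemainder hcop 1 k0
  have hco : k'.Coprime (Nat.card Γ) := by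
    rw [← G.card_mul_index]
    refine Nat.Coprime.mul_right ?_ ?_
    · rw [Nat.Coprime, hk1.gcd_eq, Nat.gcd_one_left]
    · rw [Nat.Coprime, hk2.gcd_eq]; exact hord ▸ hk0c
  obtain ⟨σ, hσ⟩ := exists_ringEquiv_root_pow (Nat.card_pos (α := Γ)).ne' hco
  have hval : ∀ y, σ (χ y) = χ (y ^ k') := fun y =>
    ringEquiv_char_apply hσ (isCharacter_of_isIrr hχ.irr) (orderOf_dvd_natCard y)
  have hfix : ∀ g ∈ G, g ^ k' = g := fun g hg => by
    conv_rhs => rw [← pow_one g]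
    exact pow_eq_pow_iff_modEq.2 (hk1.of_dvd (Subgroup.orderOf_dvd_natCard G hg))
  refine ⟨σ, ?_, fun c hc hcx => ?_⟩
  · refine ext_unique hχ.res hcop (isIrr_ringEquiv σ hχ.irr) hχ.irr (fun g => ?_) (fun g => rfl) ?_ hχ.det
    · rw [Function.comp_apply, hval, hfix g g.2]
    · rw [detOrder_ringEquiv σ (isCharacter_of_isIrr hχ.irr)]; exact hχ.det
  · rw [hval, Commute.mul_pow hcx, hfix c hc,
      pow_eq_pow_iff_modEq.2 (((hord ▸ hk2 : k' ≡ k0 [MOD orderOf s]).of_dvd hdvd).trans hk0m)]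

theorem commute_zpowers {c x : Γ} (hc : c ∈ fix G s) (hx : x ∈ Subgroup.zpowers s) : c * x = x * c := by
  obtain ⟨i, rfl⟩ := Subgroup.mem_zpowers_iff.mp hx
  exact (Commute.zpow_right (mem_fix.1 hc).2 i).eq

variable [Fintype (fix G s)]

/-- The multiplicity function of `β'` on `⟨s⟩`. -/
theorem exists_pair_value (hcop : (Nat.card G).Coprime G.index) (hord : orderOf s = G.index)
    {χ : Γ → ℂ} (hχ : IsCanonical G χ) {β' : fix G s → ℂ} (hβ' : IsIrrCharacter (fix G s) β') :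
    ∃ (Φ : Subgroup.zpowers s → ℂ) (f : Subgroup.zpowers s → ℤ), IsCharacter (Subgroup.zpowers s) Φ ∧
      (∀ x, Φ x = classInner (fun c : fix G s => χ (c * x)) β') ∧ ∀ x, Φ x = f x := by
  have hΦ := exists_intersection_character hcop hord hχ hβ'
  choose f hf using fun x : Subgroup.zpowers s => exists_int_of_forall_coprime hΦ x fun k hk => by
    obtain ⟨σ, hσ1, hσ2⟩ := value_pow_of_commute hcop hord hχ x.2 (x := (x : Γ)) (k := k)
      (by rwa [Subgroup.orderOf_coe])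
    refine congrArg (fun g : fix G s → ℂ => Cfsg.classInner g β') (funext fun c => ?_)
    show χ ((c : Γ) * ((x ^ k : Subgroup.zpowers s) : Γ)) = χ ((c : Γ) * x)
    rw [SubmonoidClass.coe_pow, ← hσ2 _ (mem_fix.1 c.2).1 (commute_zpowers c.2 x.2)]
    exact congrFun hσ1 _
  exact ⟨_, f, hΦ, fun x => rfl, hf⟩

theorem norm_one_of_fix (hcop : (Nat.card G).Coprime G.index) (hord : orderOf s = G.index)
    {χ : Γ → ℂ} (hχ : IsCanonical G χ) {x : Γ} (hx : x ∈ Subgroup.zpowers s)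
    (hfix : fix G x = fix G s) :
    classInner (fun c : fix G s => χ (c * x)) (fun c : fix G s => χ (c * x)) = 1 := by
  classical
  have : Fintype (fix G x) := Fintype.ofFinite _
  have hc : (Nat.card G).Coprime (orderOf x) :=
    (hord.symm ▸ hcop).coprime_dvd_right (orderOf_dvd_of_mem_zpowers hx)
  have hnx : ∀ g ∈ G, x * g * x⁻¹ ∈ G := fun g hg => (inferInstance : G.Normal).conj_mem g hg x
  have h := sum_coset hc hnx (F := fun y => χ y * conj (χ y))
    (fun g _ y => mul_conj_invariant (isClassFunction_of_isIrr hχ.irr) (isClassFunction_of_isIrr hχ.irr) g y)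
  have e : ∑ g : G, χ ((g : Γ) * x) * conj (χ ((g : Γ) * x)) = (Nat.card G : ℂ) := by
    rw [← sum_normSq_coset G (isCharacter_of_isIrr hχ.irr) hχ.res x]
    exact Finset.sum_congr rfl fun g _ => by rw [char_mul_comm' (isCharacter_of_isIrr hχ.irr)]
  rw [e, mul_comm] at h
  have h' := mul_left_cancel₀ card_ne_zero' h
  rw [classInner_def, inv_mul_eq_iff_eq_mul₀ card_ne_zero', mul_one,
    show Nat.card (fix G s) = Nat.card (fix G x) by rw [hfix], h']
  exact Fintype.sum_equiv (MulEquiv.subgroupCongr hfix.symm).toEquiv _ _ fun c => rfl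

theorem classInner_twist_eq {f : fix G s → ℂ} (hf : IsClassFunction (fix G s) f) :
    classInner f f = ∑ β' : IrrCharacter (fix G s),
      classInner f (β' : fix G s → ℂ) * conj (classInner f (β' : fix G s → ℂ)) := by
  conv_lhs => arg 1; rw [classFun_eq_sum hf]
  rw [classInner_sum_left]
  exact Finset.sum_congr rfl fun χ _ => by rw [classInner_smul_left, classInner_conj_symm]

theorem isClassFunction_twist {χ : Γ → ℂ} (hχ : IsClassFunction Γ χ) {x : Γ}
    (hx : x ∈ Subgroup.zpowers s) : IsClassFunction (fix G s) fun c : fix G s => χ ((c : Γ) * x) := by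
  intro g h
  show χ (((h * g * h⁻¹ : fix G s) : Γ) * x) = χ ((g : Γ) * x)
  rw [← hχ ((g : Γ) * x) (h : Γ)]
  refine congrArg χ ?_
  push_cast
  rw [mul_assoc ((h : Γ) * g), commute_zpowers (inv_mem h.2) hx]
  group

/-- The values of the canonical extension on `C S`. -/
theorem exists_sign (hcop : (Nat.card G).Coprime G.index) (hord : orderOf s = G.index)
    {χ : Γ → ℂ} (hχ : IsCanonical G χ) (hfix : ∀ x ∈ Subgroup.zpowers s, x ≠ 1 → fix G x = fix G s)
    (β : IrrCharacter (fix G s)) {ε₀ : ℤ} (hε₀ : ε₀ = 1 ∨ ε₀ = -1)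
    (hβ : ∀ c : fix G s, χ ((c : Γ) * s) = (ε₀ : ℂ) * (β : fix G s → ℂ) c) (hs1 : s ≠ 1) :
    ∃ ε : ℤ, (ε = 1 ∨ ε = -1) ∧ ∃ ψ : Subgroup.zpowers s →* ℂˣ, (∀ x, ψ x * ψ x = 1) ∧
      ∀ x : Subgroup.zpowers s, x ≠ 1 → ∀ c : fix G s,
        χ ((c : Γ) * x) = (ε : ℂ) * (β : fix G s → ℂ) c * ((ψ x : ℂˣ) : ℂ) := by
  classical
  choose Φ f hΦ hΦdef hf using fun β' : IrrCharacter (fix G s) => exists_pair_value hcop hord hχ β'.2
  set g : Subgroup.zpowers s := ⟨s, Subgroup.mem_zpowers s⟩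
  have hg1 : g ≠ 1 := fun h => hs1 (congrArg Subtype.val h)
  have hgen : ∀ x : Subgroup.zpowers s, ∃ j : ℕ, g ^ j = x := fun x => by
    obtain ⟨j, hj⟩ := (isOfFinOrder_of_finite s).mem_powers_iff_mem_zpowers.2 x.2
    exact ⟨j, Subtype.ext hj⟩
  have hsum : ∀ x : Subgroup.zpowers s, x ≠ 1 → ∑ β', f β' x ^ 2 = 1 := by
    intro x hx
    have h := classInner_twist_eq (isClassFunction_twist (G := G) (isClassFunction_of_isIrr hχ.irr) x.2)
    rw [norm_one_of_fix hcop hord hχ x.2 (hfix x x.2 fun h => hx (Subtype.ext h))] at h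
    rw [← Int.cast_inj (α := ℂ), Int.cast_sum, Int.cast_one]
    refine Eq.trans (Finset.sum_congr rfl fun β' _ => ?_) h.symm
    rw [← hΦdef, hf, map_intCast]
    push_cast
    ring
  have hb : ∀ β' x, x ≠ 1 → |f β' x| ≤ 1 := fun β' x hx => by
    have h1 : f β' x ^ 2 ≤ 1 := hsum x hx ▸ Finset.single_le_sum (f := fun b => f b x ^ 2)
      (fun _ _ => sq_nonneg _) (Finset.mem_univ β')
    exact (sq_le_one_iff_abs_le_one _).mp h1
  have hg : ∀ β', f β' g = if β = β' then ε₀ else 0 := fun β' => by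
    have h : (f β' g : ℂ) = (ε₀ : ℂ) * if β = β' then 1 else 0 := by
      rw [← hf, hΦdef, ← classInner_irrCharacter, ← classInner_smul_left]
      exact congrArg (fun u => classInner u (β' : fix G s → ℂ)) (funext fun c => hβ c)
    split_ifs with hh
    · rw [if_pos hh, mul_one] at h; exact_mod_cast h
    · rw [if_neg hh, mul_zero] at h; exact_mod_cast h
  have hzero : ∀ β', β ≠ β' → ∀ x : Subgroup.zpowers s, x ≠ 1 → f β' x = 0 := fun β' hne x hx => by
    obtain ⟨j, rfl⟩ := hgen x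
    exact value_zero (hΦ β') (fun y _ => hf β' y) (hb β') (by rw [hg, if_neg hne]) j hx
  have hnz : ∀ x : Subgroup.zpowers s, x ≠ 1 → f β x ≠ 0 := fun x hx h0 => by
    refine zero_ne_one (α := ℤ) ?_
    rw [← hsum x hx, Finset.sum_eq_zero fun β' _ => ?_]
    by_cases hb' : β = β'
    · rw [← hb', h0]; ring
    · rw [hzero β' hb' x hx]; ring
  have hval : ∀ x : Subgroup.zpowers s, x ≠ 1 → ∀ c : fix G s,
      χ ((c : Γ) * x) = (f β x : ℂ) * (β : fix G s → ℂ) c := by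
    intro x hx c
    have h := congrFun (classFun_eq_sum (isClassFunction_twist (G := G) (isClassFunction_of_isIrr hχ.irr) x.2)) c
    rw [Finset.sum_apply, Finset.sum_eq_single β
      (fun β' _ hne => by rw [Pi.smul_apply, ← hΦdef, hf, hzero β' (Ne.symm hne) x hx]; simp)
      (fun h => absurd (Finset.mem_univ _) h), Pi.smul_apply, ← hΦdef, hf, smul_eq_mul] at h
    exact h
  have hpm := value_pm (hΦ β) (fun y _ => hf β y) (hb β) (s := g) (fun j hj => hnz _ hj)
  have hsign : ∀ x : Subgroup.zpowers s, x ≠ 1 → f β x = 1 ∨ f β x = -1 := fun x hx => by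
    have h1 := abs_le.mp (hb β x hx)
    have h2 := hnz x hx
    omega
  by_cases hcase : g ^ 2 = 1 ∨ f β (g ^ 2) = f β g
  · refine ⟨f β g, hsign g hg1, 1, fun x => by simp, fun x hx c => ?_⟩
    obtain ⟨j, rfl⟩ := hgen x
    rw [hval _ hx c, MonoidHom.one_apply, Units.val_one, mul_one]
    congr 2
    rcases Nat.even_or_odd j with he | ho
    · rcases hcase with h2 | h2
      · obtain ⟨i, rfl⟩ := he
        exact absurd (by rw [← two_mul, pow_mul, h2, one_pow]) hx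
      · rw [(hpm j hx).2 he, h2]
    · exact (hpm j hx).1 ho
  · push Not at hcase
    obtain ⟨h2, hne⟩ := hcase
    have heven : 2 ∣ orderOf g := by
      by_contra hodd
      have ho : Odd (orderOf g) := Nat.not_even_iff_odd.mp fun h => hodd (even_iff_two_dvd.mp h)
      have hg' : g ^ (orderOf g + 1) = g := by rw [pow_succ, pow_orderOf_eq_one, one_mul]
      have h3 := (hpm (orderOf g + 1) (by rw [hg']; exact hg1)).2 ho.add_one
      rw [hg'] at h3
      exact hne h3.symm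
    have hgz : ∀ x : Subgroup.zpowers s, x ∈ Subgroup.zpowers g := fun x => by
      obtain ⟨j, rfl⟩ := hgen x
      exact Subgroup.mem_zpowers_iff.mpr ⟨j, zpow_natCast g j⟩
    let ψ : Subgroup.zpowers s →* ℂˣ := monoidHomOfForallMemZpowers hgz (g' := (-1 : ℂˣ))
      ((orderOf_dvd_of_pow_eq_one (by simp)).trans heven)
    have hψ : ∀ j : ℕ, ψ (g ^ j) = (-1) ^ j := fun j => by
      rw [map_pow, monoidHomOfForallMemZpowers_apply_gen]
    refine ⟨f β (g ^ 2), hsign _ h2, ψ, fun x => ?_, fun x hx c => ?_⟩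
    · obtain ⟨j, rfl⟩ := hgen x
      rw [hψ, ← mul_pow]
      simp
    obtain ⟨j, rfl⟩ := hgen x
    rw [hval _ hx c, hψ]
    rcases Nat.even_or_odd j with he | ho
    · rw [(hpm j hx).2 he, he.neg_one_pow, Units.val_one, mul_one]
    · rw [(hpm j hx).1 ho, ho.neg_one_pow, Units.val_neg, Units.val_one,
        show f β g = -f β (g ^ 2) by rcases hsign g hg1 with a | a <;> rcases hsign _ h2 with b | b <;> omega]
      push_cast
      ring

end CfsgLib.CyclicFreeAction
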