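import Cfsg.Agent.Lib.CharNormal.FullyRamifiedCyclic

/-!
# Fully ramified characters

* `coset_sum_eq_zero`: orthogonality on cosets for cyclic quotients;
* `fr_theta_invariant`, `fr_unique`, `fr_vanish`: basic properties;
* `no_self_centralizing_cyclic`.
-/

namespace CfsgLib.CharNormal

open CfsgLib.Char
open scoped ComplexConjugate

/-- Characters not over `T|M` are orthogonal to `T` on every coset of `M`. -/
theorem coset_sum_eq_zero {E : Type*} [Group E] [Fintype E] (M : Subgroup E) [M.Normal] [Fintype M]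
    (hcyc : IsCyclic (E ⧸ M)) {T : E → ℂ} (hT : Cfsg.IsCharacter E T)
    (hTres : Cfsg.IsIrrCharacter M (fun n : M => T n)) {ψ : E → ℂ} (hψ : Cfsg.IsCharacter E ψ)
    (h0 : Cfsg.classInner (fun n : M => ψ n) (fun n : M => T n) = 0) (x : E) :
    ∑ n : M, ψ (x * n) * conj (T (x * n)) = 0 := by
  classical
  have := Fintype.ofFinite (E ⧸ M)
  have hcomm : ∀ a b : E ⧸ M, a * b = b * a := hcyc.isMulCommutative.is_comm.comm
  set b := cosetAvg M (fun g => ψ g * conj (T g)) with hb
  have hbc : Cfsg.IsClassFunction (E ⧸ M) b := isClassFunction_cosetAvg M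
    (isClassFunction_mul (isClassFunction_of_isCharacter hψ)
      (isClassFunction_conj (isClassFunction_of_isCharacter hT)))
  choose a ha using fun β : Cfsg.IrrCharacter (E ⧸ M) =>
    classInner_char_nat hψ (isCharacter_of_isIrr (isIrr_mul_comp_mk' M hT hTres β.2))
  have hbβ : ∀ β : Cfsg.IrrCharacter (E ⧸ M), Cfsg.classInner b β = (a β : ℂ) := fun β => by
    rw [hb, ← classInner_mul_comp_mk', ← ha β]
    simp only [classInner_def, Pi.mul_apply, Function.comp_apply, map_mul]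
    congr 1
    exact Finset.sum_congr rfl fun g _ => by ring
  have h1 := congrFun (classFun_eq_sum hbc) ((1 : E) : E ⧸ M)
  rw [Finset.sum_apply] at h1
  simp only [Pi.smul_apply, smul_eq_mul, hbβ, QuotientGroup.mk_one,
    irr_one_of_comm hcomm (Subtype.prop _), mul_one] at h1
  rw [hb, ← QuotientGroup.mk_one, cosetAvg_mk] at h1
  simp only [one_mul] at h1
  rw [classInner_def] at h0
  rw [h0] at h1
  have ha0 : ∀ β, a β = 0 := fun β => by
    have h2 : ∑ β, a β = 0 := by exact_mod_cast h1.symm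
    exact Finset.sum_eq_zero_iff.mp h2 β (Finset.mem_univ β)
  have hb0 : b = 0 := by
    rw [classFun_eq_sum hbc]
    refine Finset.sum_eq_zero fun β _ => ?_
    rw [hbβ β, ha0 β, Nat.cast_zero, zero_smul]
  have h3 := congrFun hb0 (x : E ⧸ M)
  rw [hb, cosetAvg_mk] at h3
  exact (mul_eq_zero.mp h3).resolve_left (inv_ne_zero card_ne_zero')

variable {H : Type*} [Group H] [Fintype H] (Z : Subgroup H) [hZn : Z.Normal] [Fintype Z]
  (χ : Cfsg.IrrCharacter H) (θ : Cfsg.IrrCharacter Z) {e : ℕ}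

theorem fr_e_ne_zero (he2 : e ^ 2 = Z.index) : (e : ℂ) ≠ 0 := by
  intro h
  rw [Nat.cast_eq_zero] at h
  subst h
  exact Subgroup.index_ne_zero_of_finite he2.symm

theorem fr_theta_invariant (he2 : e ^ 2 = Z.index)
    (hres : ∀ z : Z, (χ : H → ℂ) z = (e : ℂ) * (θ : Z → ℂ) z) (h : H) :
    conjFun Z h (θ : Z → ℂ) = (θ : Z → ℂ) := by
  funext z
  refine mul_left_cancel₀ (fr_e_ne_zero Z he2) ?_
  rw [← hres z, conjFun_apply, ← hres]
  exact isClassFunction_iff.mp (isClassFunction_of_isIrr χ.2) _ _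
    (isConj_iff.mpr ⟨h⁻¹, by group⟩)

theorem fr_res (hres : ∀ z : Z, (χ : H → ℂ) z = (e : ℂ) * (θ : Z → ℂ) z) :
    Cfsg.classInner (fun z : Z => (χ : H → ℂ) z) (θ : Z → ℂ) = (e : ℂ) := by
  rw [show (fun z : Z => (χ : H → ℂ) z) = (e : ℂ) • (θ : Z → ℂ) from funext hres,
    classInner_smul_left, classInner_irr_self θ.2, mul_one]

theorem fr_unique (he2 : e ^ 2 = Z.index)
    (hres : ∀ z : Z, (χ : H → ℂ) z = (e : ℂ) * (θ : Z → ℂ) z) (ψ : Cfsg.IrrCharacter H)
    (hne : ψ ≠ χ) : Cfsg.classInner (fun z : Z => (ψ : H → ℂ) z) (θ : Z → ℂ) = 0 := by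
  classical
  choose d hd hdv using fun c : Cfsg.IrrCharacter H => exists_degree_pos c.2
  choose m hm using fun c : Cfsg.IrrCharacter H =>
    classInner_char_nat (isCharacter_res Z (isCharacter_of_isIrr c.2)) (isCharacter_of_isIrr θ.2)
  obtain ⟨t, ht, htv⟩ := exists_degree_pos θ.2
  have hmχ : m χ = e := by
    have := (hm χ).symm.trans (fr_res Z χ θ hres)
    exact_mod_cast this
  have hdχ : d χ = e * t := by
    have h1 : (χ : H → ℂ) 1 = (e : ℂ) * (θ : Z → ℂ) 1 := hres 1
    rw [hdv, htv] at h1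
    exact_mod_cast h1
  have h := sum_degree_mul_classInner_res Z θ.2
  simp only [hdv, hm, htv] at h
  have h' : ∑ c, d c * m c = Z.index * t := by exact_mod_cast h
  rw [← Finset.add_sum_erase _ _ (Finset.mem_univ χ), hmχ, hdχ, ← he2,
    show e * t * e = e ^ 2 * t by ring, Nat.add_eq_left] at h'
  have h0 := Finset.sum_eq_zero_iff.mp h' ψ (Finset.mem_erase.mpr ⟨hne, Finset.mem_univ ψ⟩)
  rw [hm ψ, (mul_eq_zero.mp h0).resolve_left (hd ψ).ne', Nat.cast_zero]

theorem fr_vanish (he2 : e ^ 2 = Z.index)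
    (hres : ∀ z : Z, (χ : H → ℂ) z = (e : ℂ) * (θ : Z → ℂ) z) {y : H} (hy : y ∉ Z) :
    (χ : H → ℂ) y = 0 := by
  classical
  have hH : ∑ g : H, Complex.normSq ((χ : H → ℂ) g) = (Nat.card H : ℝ) := by
    have h1 := card_mul_classInner (χ : H → ℂ) χ
    rw [classInner_irr_self χ.2, mul_one, Finset.sum_congr rfl fun g _ => Complex.mul_conj _] at h1
    exact_mod_cast h1.symm
  have hZ : ∑ g ∈ Finset.univ.filter (· ∈ Z), Complex.normSq ((χ : H → ℂ) g) = (Nat.card H : ℝ) := by
    rw [Finset.sum_subtype _ (p := (· ∈ Z)) (fun g => by simp)]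
    have h1 := card_mul_classInner (fun z : Z => (χ : H → ℂ) z) (fun z : Z => (χ : H → ℂ) z)
    rw [Finset.sum_congr rfl fun g _ => Complex.mul_conj _,
      show (fun z : Z => (χ : H → ℂ) z) = (e : ℂ) • (θ : Z → ℂ) from funext hres,
      classInner_smul_left, classInner_smul_right, classInner_irr_self θ.2, mul_one, map_natCast,
      ← pow_two, ← Nat.cast_pow, he2, ← Nat.cast_mul, Z.card_mul_index] at h1
    exact_mod_cast h1.symm
  rw [← Finset.sum_filter_add_sum_filter_not Finset.univ (· ∈ Z), hZ, add_eq_left] at hH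
  exact Complex.normSq_eq_zero.mp ((Finset.sum_eq_zero_iff_of_nonneg
    fun g _ => Complex.normSq_nonneg _).mp hH y (by simp [hy]))

/-- In a fully ramified section there is no self-centralizing cyclic subgroup. -/
theorem no_self_centralizing_cyclic (he2 : e ^ 2 = Z.index)
    (hres : ∀ z : Z, (χ : H → ℂ) z = (e : ℂ) * (θ : Z → ℂ) z) (hZ : Z ≠ ⊤)
    (C : Subgroup (H ⧸ Z)) (hC : IsCyclic C) :
    Subgroup.centralizer (C : Set (H ⧸ Z)) ≠ C := by
  classical
  intro hcent
  obtain ⟨c, hc⟩ := C.isCyclic_iff_exists_zpowers_eq_top.mp hC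
  obtain ⟨x, rfl⟩ := QuotientGroup.mk_surjective c
  have hxZ : x ∉ Z := by
    intro hx
    rw [(QuotientGroup.eq_one_iff x).mpr hx, Subgroup.zpowers_one_eq_bot] at hc
    subst hc
    refine hZ (eq_top_iff.mpr fun y _ => ?_)
    have h1 : (y : H ⧸ Z) ∈ Subgroup.centralizer ((⊥ : Subgroup (H ⧸ Z)) : Set (H ⧸ Z)) := by
      rw [Subgroup.mem_centralizer_iff]
      intro z hz
      rw [Subgroup.coe_bot, Set.mem_singleton_iff] at hz
      rw [hz, one_mul, mul_one]
    rw [hcent, Subgroup.mem_bot, QuotientGroup.eq_one_iff] at h1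
    exact h1
  set E : Subgroup H := C.comap (QuotientGroup.mk' Z) with hE
  have hZE : Z ≤ E := fun z hz => by
    show (z : H ⧸ Z) ∈ C
    rw [(QuotientGroup.eq_one_iff z).mpr hz]
    exact one_mem _
  have hxE : x ∈ E := by
    show (x : H ⧸ Z) ∈ C
    rw [← hc]
    exact Subgroup.mem_zpowers _
  obtain ⟨M, hM⟩ : ∃ M : Subgroup E, M = Z.subgroupOf E := ⟨_, rfl⟩
  have hMn : M.Normal := hM ▸ inferInstance
  have hgen : ∀ q : E ⧸ M, q ∈ Subgroup.zpowers ((⟨x, hxE⟩ : E) : E ⧸ M) := by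
    intro q
    obtain ⟨⟨y, hy⟩, rfl⟩ := QuotientGroup.mk_surjective q
    have hy' : (y : H ⧸ Z) ∈ C := hy
    rw [← hc] at hy'
    obtain ⟨j, hj⟩ := hy'
    refine ⟨j, ?_⟩
    show ((⟨x, hxE⟩ : E) : E ⧸ M) ^ j = _
    rw [← QuotientGroup.mk_zpow, QuotientGroup.eq, hM, Subgroup.mem_subgroupOf]
    simpa using (QuotientGroup.eq.mp (by rw [QuotientGroup.mk_zpow]; exact hj) :
      (x ^ j)⁻¹ * y ∈ Z)
  have hcycM : IsCyclic (E ⧸ M) := ⟨⟨_, hgen⟩⟩
  have := Fintype.ofFinite E
  have := Fintype.ofFinite M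
  let eM : M ≃* Z := (MulEquiv.subgroupCongr hM).trans (Subgroup.subgroupOfEquivOfLe hZE)
  let τ : M → ℂ := (θ : Z → ℂ) ∘ eM
  have hτ : Cfsg.IsIrrCharacter M τ := isIrr_comp_mulEquiv θ.2 eM
  obtain ⟨T, hTirr, hTM⟩ := extend_of_cyclic M hcycM hτ (fun g n => by
    refine Eq.trans (congrArg (θ : Z → ℂ) (Subtype.ext ?_))
      (congrFun (fr_theta_invariant Z χ θ he2 hres (g : H)) (eM n))
    rfl)
  have hT := isCharacter_of_isIrr hTirr
  have hTres : Cfsg.IsIrrCharacter M (fun n : M => T n) := by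
    rw [show (fun n : M => T n) = τ from funext hTM]; exact hτ
  -- the class function carried by the classes meeting `x Z`
  let x' : E := ⟨x, hxE⟩
  let η : H → ℂ := fun y => if h : x⁻¹ * y ∈ Z then
    T (x' * (eM.symm ⟨_, h⟩ : M)) else 0
  let f : H → ℂ := fun y => ∑ g : H, η (g⁻¹ * y * g)
  have hfc : Cfsg.IsClassFunction H f := by
    refine isClassFunction_iff.mpr fun a b hab => ?_
    obtain ⟨d, rfl⟩ := isConj_iff.mp hab
    refine Fintype.sum_equiv (Equiv.mulLeft d) _ _ fun g => ?_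
    simp only [Equiv.coe_mulLeft]
    congr 1
    group
  have heM : ∀ m : M, ((eM m : Z) : H) = ((m : E) : H) := fun _ => rfl
  have hηmem : ∀ y : H, ∀ m : M, y = x * ((m : E) : H) → η y = T (x' * m) := by
    rintro _ m rfl
    have h : x⁻¹ * (x * ((m : E) : H)) ∈ Z := by simp [← heM]
    simp only [η, dif_pos h]
    congr 2
    have : (⟨_, h⟩ : Z) = eM m := Subtype.ext (by simp [← heM])
    rw [this, MulEquiv.symm_apply_apply]
  have horth : ∀ ψ : Cfsg.IrrCharacter H, Cfsg.classInner f ψ = 0 := by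
    intro ψ
    rw [classInner_def]
    refine mul_eq_zero_of_right _ ?_
    have h1 : ∀ g : H, ∑ y : H, η (g⁻¹ * y * g) * conj ((ψ : H → ℂ) y) =
        ∑ y : H, η y * conj ((ψ : H → ℂ) y) := fun g => by
      refine Fintype.sum_equiv (MulAut.conj g⁻¹).toEquiv _ _ fun y => ?_
      simp only [MulEquiv.toEquiv_eq_coe, EquivLike.coe_coe, MulAut.conj_apply, inv_inv]
      rw [isClassFunction_iff.mp (isClassFunction_of_isIrr ψ.2) (g⁻¹ * y * g) y
        (isConj_iff.mpr ⟨g, by group⟩)]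
    simp only [f, Finset.sum_mul]
    rw [Finset.sum_comm, Finset.sum_congr rfl fun g _ => h1 g, Finset.sum_const]
    refine smul_eq_zero_of_right _ ?_
    have h2 : ∑ y : H, η y * conj ((ψ : H → ℂ) y) =
        ∑ m : M, T (x' * m) * conj ((ψ : H → ℂ) ((x' * m : E) : H)) := by
      rw [← Finset.sum_subset (Finset.subset_univ
        ((Finset.univ : Finset M).image fun m : M => ((x' * m : E) : H)))]
      · rw [Finset.sum_image fun m _ m' _ hmm => Subtype.ext (mul_left_cancel (Subtype.ext hmm))]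
        exact Finset.sum_congr rfl fun m _ => by rw [hηmem ((x' * m : E) : H) m rfl]
      · intro y _ hy
        have : ¬ x⁻¹ * y ∈ Z := fun h => hy (Finset.mem_image.mpr
          ⟨eM.symm ⟨_, h⟩, Finset.mem_univ _, by
            show x * ((eM.symm ⟨_, h⟩ : M) : H) = y
            rw [← heM, MulEquiv.apply_symm_apply, mul_inv_cancel_left]⟩)
        simp [η, this]
    rw [h2]
    by_cases hψ : ψ = χ
    · refine Finset.sum_eq_zero fun m _ => ?_
      rw [hψ, fr_vanish Z χ θ he2 hres (y := ((x' * m : E) : H)), map_zero, mul_zero]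
      intro h
      apply hxZ
      have hm : ((m : E) : H) ∈ Z := (eM m).2
      have := Z.mul_mem h (Z.inv_mem hm)
      simpa [x'] using this
    · have h3 := coset_sum_eq_zero M hcycM hT hTres
        (ψ := fun y : E => (ψ : H → ℂ) y) (isCharacter_res E (isCharacter_of_isIrr ψ.2)) ?_ x'
      · have h4 := congrArg conj h3
        rw [map_sum, map_zero] at h4
        rw [← h4]
        exact Finset.sum_congr rfl fun m _ => by rw [map_mul, Complex.conj_conj, mul_comm]
      · rw [show (fun n : M => T n) = τ from funext hTM,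
          show (fun m : M => (ψ : H → ℂ) ((m : E) : H)) = (fun z : Z => (ψ : H → ℂ) z) ∘ eM from rfl,
          classInner_comp_mulEquiv]
        exact fr_unique Z χ θ he2 hres ψ hψ
  have hf0 : f = 0 := classFun_eq_zero hfc fun ψ hψ => by
    rw [← classInner_conj_symm, horth ⟨ψ, hψ⟩, map_zero]
  -- only elements of `E` fix the coset
  have hfix : ∀ g : H, ∀ z ∈ Z, x⁻¹ * (g⁻¹ * (x * z) * g) ∈ Z → g ∈ E := by
    intro g z hz h
    have h1 : ((g⁻¹ * x * g : H) : H ⧸ Z) = (x : H ⧸ Z) := by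
      rw [eq_comm, QuotientGroup.eq]
      have h2 : g⁻¹ * z⁻¹ * g ∈ Z := by simpa using hZn.conj_mem _ (Z.inv_mem hz) g⁻¹
      have h3 := Z.mul_mem h h2
      simpa [mul_assoc] using h3
    show (g : H ⧸ Z) ∈ C
    rw [← hcent, Subgroup.mem_centralizer_iff]
    intro w hw
    have hw' : w ∈ Subgroup.zpowers (x : H ⧸ Z) := hc ▸ hw
    obtain ⟨j, rfl⟩ := hw'
    have h4 : Commute (g : H ⧸ Z) (x : H ⧸ Z) := by
      have h5 := h1
      rw [QuotientGroup.mk_mul, QuotientGroup.mk_mul, QuotientGroup.mk_inv] at h5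
      calc (g : H ⧸ Z) * x = g * ((g : H ⧸ Z)⁻¹ * x * g) := by rw [h5]
        _ = x * g := by group
    exact ((h4.zpow_right j).eq).symm
  -- values of `f` on the coset
  have hfval : ∀ m : M, f (x * ((m : E) : H)) = (Nat.card E : ℂ) * T (x' * m) := by
    intro m
    have hclass : ∀ g : E, η ((g : H)⁻¹ * (x * ((m : E) : H)) * g) = T (x' * m) := by
      intro g
      have hmem : x'⁻¹ * (g⁻¹ * (x' * m) * g) ∈ M := by
        have hcomm : ∀ a b : E ⧸ M, a * b = b * a := hcycM.isMulCommutative.is_comm.comm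
        rw [← QuotientGroup.eq_one_iff]
        simp only [QuotientGroup.mk_mul, QuotientGroup.mk_inv]
        rw [(QuotientGroup.eq_one_iff (m : E)).mpr m.2, mul_one,
          hcomm ((g : E ⧸ M))⁻¹ (x' : E ⧸ M), mul_assoc (x' : E ⧸ M), inv_mul_cancel, mul_one,
          inv_mul_cancel]
      rw [hηmem _ ⟨_, hmem⟩ (by simp [x', mul_assoc]), mul_inv_cancel_left]
      exact isClassFunction_iff.mp (isClassFunction_of_isIrr hTirr) _ _
        (isConj_iff.mpr ⟨g, by group⟩)
    show ∑ g : H, η (g⁻¹ * (x * ((m : E) : H)) * g) = _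
    rw [← Finset.sum_subset (Finset.subset_univ (Finset.univ.filter (· ∈ E))) (fun g _ hg => ?_),
      Finset.sum_subtype _ (p := (· ∈ E)) (fun g => by simp),
      Finset.sum_congr rfl fun g _ => hclass g, Finset.sum_const, Finset.card_univ, nsmul_eq_mul,
      Nat.card_eq_fintype_card]
    simp only [η]
    rw [dif_neg]
    intro h
    exact (Finset.mem_filter.not.mp hg) ⟨Finset.mem_univ g, hfix g _ (eM m).2 h⟩
  have hsum := sum_normSq_coset M hT hTres x'
  have hz : ∀ m : M, T (x' * m) = 0 := fun m =>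
    (mul_eq_zero.mp ((hfval m).symm.trans (congrFun hf0 _))).resolve_left card_ne_zero'
  simp only [hz, zero_mul, Finset.sum_const_zero] at hsum
  exact card_ne_zero' hsum.symm

end CfsgLib.CharNormal
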