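import Cfsg.Agent.Lib.Char.Extension
import Cfsg.Agent.Lib.CharNormal.Clifford
import Cfsg.Agent.Lib.CharNormal.Linear
import Cfsg.Agent.Lib.Char.Induced

/-!
# A fully ramified section under a cyclic Frobenius action

* `nearly_constant`: integer vectors of minimal variance;
* `fully_ramified_cyclic_frobenius`: `[Γ : G] ∣ e ± 1`.
-/

namespace CfsgLib.CharNormal

open CfsgLib.Char
open scoped ComplexConjugate

theorem nearly_constant {ι : Type*} [Fintype ι] (a : ι → ℕ) {h e : ℕ}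
    (hh : Fintype.card ι = h) (h2 : 2 ≤ h) (hs : ∑ k, a k = e)
    (hv : h * ∑ k, a k ^ 2 + 1 = e ^ 2 + h) :
    (h : ℤ) ∣ (e : ℤ) - 1 ∨ (h : ℤ) ∣ (e : ℤ) + 1 := by
  classical
  have : Nonempty ι := Fintype.card_pos_iff.mp (by omega)
  obtain ⟨i, -, hi⟩ := Finset.exists_min_image Finset.univ a Finset.univ_nonempty
  have hhZ : (2 : ℤ) ≤ h := by exact_mod_cast h2
  have hsZ : ∑ k, (a k : ℤ) = e := by exact_mod_cast hs
  have hvZ : (h : ℤ) * ∑ k, (a k : ℤ) ^ 2 + 1 = (e : ℤ) ^ 2 + h := by exact_mod_cast hv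
  have hvar : ∑ k, ((h : ℤ) * a k - e) ^ 2 = h * (h - 1) := by
    simp only [sub_sq, mul_pow, Finset.sum_add_distrib, Finset.sum_sub_distrib, ← Finset.mul_sum,
      Finset.sum_const, Finset.card_univ, hh, nsmul_eq_mul]
    rw [← Finset.sum_mul, ← Finset.mul_sum, ← Finset.mul_sum, hsZ]
    linear_combination (h : ℤ) * hvZ
  have hd : ∀ j, a j = a i ∨ a j = a i + 1 := fun j => by
    by_contra hne
    have hle := hi j (Finset.mem_univ j)
    have hij : (2 : ℤ) ≤ (a j : ℤ) - a i := by omega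
    have hne' : i ≠ j := fun e => by subst e; omega
    have h1 : ∑ k ∈ ({i, j} : Finset ι), ((h : ℤ) * a k - e) ^ 2 ≤
        ∑ k, ((h : ℤ) * a k - e) ^ 2 :=
      Finset.sum_le_sum_of_subset_of_nonneg (Finset.subset_univ _) fun _ _ _ => sq_nonneg _
    rw [Finset.sum_pair hne', hvar] at h1
    nlinarith [sq_nonneg (((h : ℤ) * a i - e) + ((h : ℤ) * a j - e)),
      mul_le_mul hij hij (by norm_num) (by omega), mul_pos (show (0 : ℤ) < h by omega) (show (0 : ℤ) < h by omega)]
  set b := a i with hb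
  obtain ⟨L, hL⟩ : ∃ L : ℕ, L = (Finset.univ.filter fun k => a k = b + 1).card := ⟨_, rfl⟩
  have hc1 : ∑ k, ((a k : ℤ) - b) = L := by
    rw [hL, Finset.card_filter, Nat.cast_sum]
    exact Finset.sum_congr rfl fun k _ => by rcases hd k with e | e <;> simp [e]
  have hc2 : ∑ k, ((a k : ℤ) - b) ^ 2 = L := by
    rw [hL, Finset.card_filter, Nat.cast_sum]
    exact Finset.sum_congr rfl fun k _ => by rcases hd k with e | e <;> simp [e]
  rw [Finset.sum_sub_distrib, hsZ, Finset.sum_const, Finset.card_univ, hh, nsmul_eq_mul] at hc1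
  simp only [sub_sq, Finset.sum_add_distrib, Finset.sum_sub_distrib, Finset.sum_const,
    Finset.card_univ, hh, nsmul_eq_mul] at hc2
  rw [← Finset.sum_mul, ← Finset.mul_sum, hsZ] at hc2
  have key : ((L : ℤ) - 1) * ((h : ℤ) - 1 - L) = 0 := by
    have e1 : (e : ℤ) = L + h * b := by linarith
    rw [e1] at hc2 hvZ
    linear_combination hvZ - (h : ℤ) * hc2
  rcases mul_eq_zero.mp key with k | k
  · exact Or.inl ⟨b, by linarith⟩
  · exact Or.inr ⟨b + 1, by linarith⟩

variable {Γ : Type*} [Group Γ] [Fintype Γ]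

/-- The setting of a fully ramified section with a cyclic Frobenius action. -/
theorem fully_ramified_cyclic_frobenius (G N : Subgroup Γ) [hG : G.Normal] [hN : N.Normal]
    [Fintype G] [Fintype N] (hNG : N ≤ G) (hGlt : G ≠ ⊤) (hcyc : IsCyclic (Γ ⧸ G))
    (hfrob : ∀ x : Γ, x ∉ G → ∀ g : Γ, g ∈ G → x * g * x⁻¹ * g⁻¹ ∈ N → g ∈ N)
    (θ : Cfsg.IrrCharacter N)
    (hinv : ∀ (x : Γ) (n : N), (θ : N → ℂ) ⟨x * n * x⁻¹, hN.conj_mem n n.2 x⟩ = (θ : N → ℂ) n)
    (χ : Cfsg.IrrCharacter G) (e : ℕ)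
    (hram : Cfsg.indFun (N.subgroupOf G) (fun n : N.subgroupOf G => (θ : N → ℂ) ⟨(n : G), n.2⟩) =
      fun g => (e : ℂ) * (χ : G → ℂ) g) :
    (G.index : ℤ) ∣ (e : ℤ) - 1 ∨ (G.index : ℤ) ∣ (e : ℤ) + 1 := by
  classical
  obtain ⟨N', hN'⟩ : ∃ N' : Subgroup G, N' = N.subgroupOf G := ⟨_, rfl⟩
  subst hN'
  have := Fintype.ofFinite (N.subgroupOf G)
  set ϑ : N.subgroupOf G → ℂ := fun n => (θ : N → ℂ) ⟨(n : G), n.2⟩ with hϑdef
  have hϑirr : Cfsg.IsIrrCharacter (N.subgroupOf G) ϑ :=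
    isIrr_comp_mulEquiv θ.2 (Subgroup.subgroupOfEquivOfLe hNG)
  have hϑ1 : ϑ 1 = (θ : N → ℂ) 1 := congrArg (θ : N → ℂ) (Subtype.ext rfl)
  -- values of the induced character on `N`
  have hindN : ∀ n : N.subgroupOf G,
      Cfsg.indFun (N.subgroupOf G) ϑ (n : G) = ((N.subgroupOf G).index : ℂ) * ϑ n := fun n => by
    rw [indFun_apply]
    have : ∀ x : G, Cfsg.extendByZero (N.subgroupOf G) ϑ (x⁻¹ * n * x) = ϑ n := fun x => by
      have hx : x⁻¹ * (n : G) * x ∈ N.subgroupOf G := by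
        simpa using (inferInstance : (N.subgroupOf G).Normal).conj_mem (n : G) n.2 x⁻¹
      rw [extendByZero_of_mem _ hx]
      refine Eq.trans ?_ (hinv (x : Γ)⁻¹ ⟨((n : G) : Γ), n.2⟩)
      exact congrArg (θ : N → ℂ) (Subtype.ext (by simp))
    rw [Finset.sum_congr rfl fun x _ => this x, Finset.sum_const, Finset.card_univ, nsmul_eq_mul,
      ← Nat.card_eq_fintype_card, ← (N.subgroupOf G).card_mul_index, Nat.cast_mul]
    have h0 : (Nat.card (N.subgroupOf G) : ℂ) ≠ 0 := card_ne_zero'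
    field_simp
  have hi0 : ((N.subgroupOf G).index : ℂ) ≠ 0 := by
    exact_mod_cast Subgroup.index_ne_zero_of_finite
  have he0 : (e : ℂ) ≠ 0 := fun h0 => by
    have h1 := hindN 1
    rw [hram] at h1
    simp only [h0, zero_mul] at h1
    rcases mul_eq_zero.mp h1.symm with h | h
    · exact hi0 h
    · exact irr_one_ne_zero hϑirr h
  -- the index is the square of `e`
  have hidx : ((N.subgroupOf G).index : ℂ) = (e : ℂ) * e := by
    have h1 : Cfsg.classInner (Cfsg.indFun (N.subgroupOf G) ϑ) (Cfsg.indFun (N.subgroupOf G) ϑ) =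
        (e : ℂ) * e := by
      rw [hram, show (fun g => (e : ℂ) * (χ : G → ℂ) g) = (e : ℂ) • (χ : G → ℂ) from rfl,
        classInner_smul_left, classInner_smul_right, classInner_irr_self χ.2, mul_one, map_natCast]
    rw [frobenius_reciprocity (H := N.subgroupOf G) _ (isClassFunction_indFun _ _),
      show (fun h : N.subgroupOf G => Cfsg.indFun (N.subgroupOf G) ϑ (h : G)) =
        ((N.subgroupOf G).index : ℂ) • ϑ from funext hindN,
      classInner_smul_right, classInner_irr_self hϑirr, mul_one, map_natCast] at h1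
    exact h1
  have hχN : ∀ n : Γ, ∀ hn : n ∈ N, (χ : G → ℂ) ⟨n, hNG hn⟩ = (e : ℂ) * (θ : N → ℂ) ⟨n, hn⟩ := by
    intro n hn
    have h1 := hindN ⟨⟨n, hNG hn⟩, hn⟩
    rw [hram, hidx] at h1
    refine mul_left_cancel₀ he0 ?_
    rw [← mul_assoc]
    exact h1
  -- extend to the whole group
  have hχinv : ∀ (x : Γ) (g : G), (χ : G → ℂ) ⟨x * g * x⁻¹, hG.conj_mem g g.2 x⟩ = (χ : G → ℂ) g := by
    intro x g
    let σ : G ≃* G := MulAut.conjNormal x
    refine mul_left_cancel₀ he0 ?_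
    have h1 := congrFun hram ⟨x * g * x⁻¹, hG.conj_mem g g.2 x⟩
    have h2 := congrFun hram g
    rw [← h1, ← h2, indFun_apply, indFun_apply]
    congr 1
    refine (Fintype.sum_equiv σ.toEquiv _ _ fun y => ?_).symm
    by_cases hy : y⁻¹ * g * y ∈ N.subgroupOf G
    · have e1 : ((σ y)⁻¹ * ⟨x * g * x⁻¹, hG.conj_mem g g.2 x⟩ * σ y : G) =
          σ (y⁻¹ * g * y) := by
        rw [map_mul, map_mul, map_inv]
        rfl
      have hy' : σ (y⁻¹ * g * y) ∈ N.subgroupOf G := hN.conj_mem _ hy x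
      show _ = Cfsg.extendByZero _ ϑ ((σ y)⁻¹ * _ * σ y)
      rw [e1, extendByZero_of_mem _ hy, extendByZero_of_mem _ hy']
      exact (hinv x ⟨_, hy⟩).symm
    · have e1 : ((σ y)⁻¹ * ⟨x * g * x⁻¹, hG.conj_mem g g.2 x⟩ * σ y : G) =
          σ (y⁻¹ * g * y) := by
        rw [map_mul, map_mul, map_inv]
        rfl
      show _ = Cfsg.extendByZero _ ϑ ((σ y)⁻¹ * _ * σ y)
      rw [e1, extendByZero_of_notMem _ hy, extendByZero_of_notMem]
      intro h
      apply hy
      have h3 := hN.conj_mem _ h x⁻¹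
      simp only [σ, MulAut.conjNormal_apply, inv_inv] at h3
      simpa [Subgroup.mem_subgroupOf, mul_assoc] using h3
  obtain ⟨X, hXirr, hXG⟩ := extend_of_cyclic G hcyc χ.2 hχinv
  have hX := isCharacter_of_isIrr hXirr
  let F : Γ → ℂ := fun y => X y * conj (X y)
  have hFc : ∀ a b : Γ, F (b * a * b⁻¹) = F a := fun a b => by
    show X (b * a * b⁻¹) * conj (X (b * a * b⁻¹)) = _
    rw [isClassFunction_iff.mp (isClassFunction_of_isIrr hXirr) (b * a * b⁻¹) a
      (isConj_iff.mpr ⟨b⁻¹, by group⟩)]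
  -- the coset sums over `N`
  have hSN : ∀ y : Γ, y ∉ G → ∑ n : N, F (y * n) = (Nat.card N : ℂ) := by
    intro y hy
    let c : G → G := fun g => ⟨y⁻¹ * g * y * (g : Γ)⁻¹, G.mul_mem (by
      simpa using hG.conj_mem g g.2 y⁻¹) (G.inv_mem g.2)⟩
    let Q := G ⧸ N.subgroupOf G
    let P : Q × N → G := fun qn =>
      c (Quotient.out qn.1) * ⟨(qn.2 : Γ), hNG qn.2.2⟩
    have hcard : Nat.card (Q × N) = Nat.card G := by
      rw [Nat.card_prod, Subgroup.card_eq_card_quotient_mul_card_subgroup (N.subgroupOf G),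
        Nat.card_congr (Subgroup.subgroupOfEquivOfLe hNG).toEquiv]
    have hPinj : Function.Injective P := by
      rintro ⟨q, n⟩ ⟨q', n'⟩ h
      have h1 := congrArg Subtype.val h
      simp only [P, c, Subgroup.coe_mul] at h1
      set g : Γ := ((Quotient.out q : G) : Γ) with hg
      set g' : Γ := ((Quotient.out q' : G) : Γ) with hg'
      have hu : (y⁻¹ * g * y * g⁻¹)⁻¹ * (y⁻¹ * g' * y * g'⁻¹) ∈ N := by
        have e1 : (y⁻¹ * g * y * g⁻¹)⁻¹ * (y⁻¹ * g' * y * g'⁻¹) = (n : Γ) * (n' : Γ)⁻¹ := by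
          rw [inv_mul_eq_iff_eq_mul, ← mul_assoc, h1, mul_inv_cancel_right]
        rw [e1]
        exact N.mul_mem n.2 (N.inv_mem n'.2)
      have hgg : g⁻¹ * g' ∈ N := by
        refine hfrob y⁻¹ (fun h' => hy (by simpa using G.inv_mem h')) _
          (G.mul_mem (G.inv_mem (Quotient.out q).2) (Quotient.out q').2) ?_
        have h2 := hN.conj_mem _ hu g⁻¹
        simpa [mul_assoc] using h2
      have hq : q = q' := by
        rw [← Quotient.out_eq q, ← Quotient.out_eq q']
        exact QuotientGroup.eq.mpr hgg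
      subst hq
      exact Prod.ext rfl (Subtype.ext (mul_left_cancel h1))
    have hP : Function.Bijective P :=
      (Nat.bijective_iff_injective_and_card P).mpr ⟨hPinj, hcard⟩
    have := Fintype.ofFinite Q
    have hsum : ∑ g : G, F (y * g) = ∑ q : Q, ∑ n : N, F (y * (c (Quotient.out q) : Γ) * n) := by
      rw [← Fintype.sum_prod_type', ← (Equiv.ofBijective P hP).sum_comp]
      exact Finset.sum_congr rfl fun qn _ => by simp [P, mul_assoc]
    have hterm : ∀ g : G, ∑ n : N, F (y * (c g : Γ) * n) = ∑ n : N, F (y * n) := fun g => by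
      symm
      refine Fintype.sum_equiv (MulAut.conjNormal (g : Γ)).toEquiv _ _ fun n => ?_
      rw [← hFc (y * n) g]
      congr 1
      simp [c, mul_assoc]
    have hG' : ∑ g : G, F (y * g) = (Nat.card G : ℂ) := sum_normSq_coset G hX (by
      rw [show (fun n : G => X n) = (χ : G → ℂ) from funext hXG]; exact χ.2) y
    rw [hsum, Finset.sum_congr rfl fun q _ => hterm _, Finset.sum_const, Finset.card_univ,
      nsmul_eq_mul, ← hcard, Nat.card_prod, Nat.cast_mul, ← Nat.card_eq_fintype_card] at hG'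
    exact mul_left_cancel₀ (by exact_mod_cast Nat.card_pos.ne') hG'
  -- a cyclic supplement
  obtain ⟨x', hx'⟩ := hcyc.exists_generator
  obtain ⟨x, rfl⟩ := QuotientGroup.mk_surjective x'
  set h := G.index with hh
  have hord : orderOf (x : Γ ⧸ G) = h := orderOf_eq_card_of_forall_mem_zpowers hx'
  have hh2 : 2 ≤ h := by
    have h1 : h ≠ 1 := fun e1 => hGlt (Subgroup.index_eq_one.mp e1)
    have h0 : h ≠ 0 := Subgroup.index_ne_zero_of_finite
    omega
  have hpowG : ∀ j : ℤ, x ^ j ∈ G ↔ (h : ℤ) ∣ j := fun j => by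
    rw [← QuotientGroup.eq_one_iff, QuotientGroup.mk_zpow, ← hord,
      orderOf_dvd_iff_zpow_eq_one]
  have hxG : x ∉ G := fun hxx => by
    have h1 := (hpowG 1).mp (by rwa [zpow_one])
    have h3 : (h : ℤ) ≤ 1 := Int.le_of_dvd one_pos h1
    omega
  have hpowN : ∀ j : ℤ, x ^ j ∈ G → x ^ j ∈ N := fun j hj =>
    hfrob x hxG _ hj (by simp [((Commute.refl x).zpow_right j).eq])
  set E : Subgroup Γ := (Subgroup.zpowers (x : Γ ⧸ N)).comap (QuotientGroup.mk' N) with hE
  have hNE : N ≤ E := fun n hn => by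
    show (n : Γ ⧸ N) ∈ Subgroup.zpowers (x : Γ ⧸ N)
    rw [(QuotientGroup.eq_one_iff n).mpr hn]
    exact one_mem _
  have hxE : x ∈ E := Subgroup.mem_zpowers _
  have hEG : ∀ y ∈ E, y ∈ G → y ∈ N := by
    intro y hy hyG
    obtain ⟨j, hj⟩ := hy
    have h1 : (x ^ j)⁻¹ * y ∈ N := QuotientGroup.eq.mp (by rw [QuotientGroup.mk_zpow]; exact hj)
    have h2 : x ^ j ∈ G := by
      have h3 := G.mul_mem hyG (G.inv_mem (hNG h1))
      simpa using h3
    simpa using N.mul_mem (hpowN j h2) h1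
  obtain ⟨M, hM⟩ : ∃ M : Subgroup E, M = N.subgroupOf E := ⟨_, rfl⟩
  have hMn : M.Normal := hM ▸ inferInstance
  have hgen : ∀ q : E ⧸ M, q ∈ Subgroup.zpowers ((⟨x, hxE⟩ : E) : E ⧸ M) := by
    intro q
    obtain ⟨⟨y, hy⟩, rfl⟩ := QuotientGroup.mk_surjective q
    obtain ⟨j, hj⟩ := hy
    refine ⟨j, ?_⟩
    show ((⟨x, hxE⟩ : E) : E ⧸ M) ^ j = _
    rw [← QuotientGroup.mk_zpow, QuotientGroup.eq, hM, Subgroup.mem_subgroupOf]
    simpa using (QuotientGroup.eq.mp (by rw [QuotientGroup.mk_zpow]; exact hj) :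
      (x ^ j)⁻¹ * y ∈ N)
  have hcycM : IsCyclic (E ⧸ M) := ⟨⟨_, hgen⟩⟩
  have hidxM : M.index = h := by
    rw [← hord, Subgroup.index_eq_card, ← orderOf_eq_card_of_forall_mem_zpowers hgen]
    refine orderOf_eq_orderOf_iff.mpr fun j => ?_
    rw [← QuotientGroup.mk_pow, ← QuotientGroup.mk_pow, QuotientGroup.eq_one_iff,
      QuotientGroup.eq_one_iff, hM, Subgroup.mem_subgroupOf, Subgroup.coe_pow]
    exact ⟨fun hn => hNG hn, fun hn => by simpa using hpowN (j : ℤ) (by simpa using hn)⟩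
  have := Fintype.ofFinite E
  have := Fintype.ofFinite M
  let eM : M ≃* N := (MulEquiv.subgroupCongr hM).trans (Subgroup.subgroupOfEquivOfLe hNE)
  let τ : M → ℂ := (θ : N → ℂ) ∘ eM
  have hτ : Cfsg.IsIrrCharacter M τ := isIrr_comp_mulEquiv θ.2 eM
  obtain ⟨T, hTirr, hTM⟩ := extend_of_cyclic M hcycM hτ (fun g n => by
    refine Eq.trans (congrArg (θ : N → ℂ) (Subtype.ext ?_)) (hinv (g : Γ) (eM n))
    rfl)
  have hT := isCharacter_of_isIrr hTirr
  have hTres : Cfsg.IsIrrCharacter M (fun n : M => T n) := by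
    rw [show (fun n : M => T n) = τ from funext hTM]; exact hτ
  let Y : E → ℂ := fun y => X (y : Γ)
  have hY : Cfsg.IsCharacter E Y := isCharacter_res E hX
  have hYM : ∀ m : M, Y m = (e : ℂ) * τ m := fun m => by
    have hm : ((m : E) : Γ) ∈ N := (eM m).2
    show X (⟨((m : E) : Γ), hNG hm⟩ : G) = _
    rw [hXG, hχN _ hm]
    rfl
  have hYnorm : (Nat.card E : ℂ) * Cfsg.classInner Y Y =
      (Nat.card M : ℂ) * ((e : ℂ) * e + h - 1) := by
    rw [card_mul_classInner]
    have hcardM : (Nat.card M : ℂ) = Nat.card N := by rw [Nat.card_congr eM.toEquiv]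
    have hrow : ∀ y : E, ∑ m : M, F ((y : Γ) * ((m : E) : Γ)) =
        if y ∈ M then (e : ℂ) * e * Nat.card M else (Nat.card M : ℂ) := by
      intro y
      by_cases hy : y ∈ M
      · rw [if_pos hy]
        refine Eq.trans (Fintype.sum_equiv (Equiv.mulLeft (⟨y, hy⟩ : M)) _
          (fun m : M => (e : ℂ) * e * (τ m * conj (τ m))) fun m => ?_) ?_
        · show Y ((⟨y, hy⟩ * m : M) : E) * conj (Y ((⟨y, hy⟩ * m : M) : E)) = _
          rw [hYM, map_mul, map_natCast]
          simp only [Equiv.coe_mulLeft]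
          ring
        · rw [← Finset.mul_sum, ← card_mul_classInner, classInner_irr_self hτ, mul_one]
      · rw [if_neg hy, hcardM, ← hSN (y : Γ) (fun hyG => hy (by
          rw [hM, Subgroup.mem_subgroupOf]; exact hEG _ y.2 hyG))]
        exact Fintype.sum_equiv eM.toEquiv _ _ fun m => rfl
    have h1 : ∑ y : E, ∑ m : M, F ((y : Γ) * ((m : E) : Γ)) =
        (Nat.card M : ℂ) * ∑ y : E, Y y * conj (Y y) := by
      rw [Finset.sum_comm, Nat.card_eq_fintype_card, ← Finset.card_univ, ← nsmul_eq_mul,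
        ← Finset.sum_const]
      refine Finset.sum_congr rfl fun m _ => ?_
      exact Fintype.sum_equiv (Equiv.mulRight (m : E)) _ _ fun y => rfl
    rw [Finset.sum_congr rfl fun y _ => hrow y, Finset.sum_ite, Finset.sum_const, Finset.sum_const,
      nsmul_eq_mul, nsmul_eq_mul] at h1
    have hsplit := Finset.card_filter_add_card_filter_not (s := (Finset.univ : Finset E)) (p := (· ∈ M))
    have hin : (Finset.univ.filter fun y : E => y ∈ M).card = Nat.card M := by
      rw [Nat.card_eq_fintype_card, Fintype.card_subtype]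
    rw [hin, Finset.card_univ, ← Nat.card_eq_fintype_card (α := E), ← M.card_mul_index,
      hidxM] at hsplit
    have hsplit' : (Nat.card M : ℂ) +
        ((Finset.univ.filter fun y : E => ¬ y ∈ M).card : ℂ) = Nat.card M * h := by
      exact_mod_cast hsplit
    rw [hin] at h1
    refine mul_left_cancel₀ (card_ne_zero' (G := M)) ?_
    rw [← h1]
    linear_combination (Nat.card M : ℂ) * hsplit'
  -- multiplicities
  have hcommQ : ∀ a b : E ⧸ M, a * b = b * a := hcycM.isMulCommutative.is_comm.comm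
  let η : Cfsg.IrrCharacter (E ⧸ M) → E → ℂ := fun β => T * ((β : E ⧸ M → ℂ) ∘ QuotientGroup.mk)
  have hη : ∀ β, Cfsg.IsIrrCharacter E (η β) := fun β => isIrr_mul_comp_mk' M hT hTres β.2
  choose a ha using fun β => classInner_char_nat hY (isCharacter_of_isIrr (hη β))
  have := Fintype.ofFinite (E ⧸ M)
  have hae : ∑ β, a β = e := by
    set b := cosetAvg M (fun g => Y g * conj (T g)) with hb
    have hbc : Cfsg.IsClassFunction (E ⧸ M) b := isClassFunction_cosetAvg M
      (isClassFunction_mul (isClassFunction_of_isCharacter hY)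
        (isClassFunction_conj (isClassFunction_of_isIrr hTirr)))
    have hbβ : ∀ β : Cfsg.IrrCharacter (E ⧸ M), Cfsg.classInner b β = (a β : ℂ) := fun β => by
      rw [hb, ← classInner_mul_comp_mk', ← ha β]
      simp only [η, classInner_def, Pi.mul_apply, Function.comp_apply, map_mul]
      congr 1
      exact Finset.sum_congr rfl fun g _ => by ring
    have h1 := congrFun (classFun_eq_sum hbc) ((1 : E) : E ⧸ M)
    rw [Finset.sum_apply] at h1
    simp only [Pi.smul_apply, smul_eq_mul, hbβ, QuotientGroup.mk_one,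
      irr_one_of_comm hcommQ (Subtype.prop _), mul_one] at h1
    rw [hb, ← QuotientGroup.mk_one, cosetAvg_mk] at h1
    simp only [one_mul, hYM, hTM, mul_assoc, ← Finset.mul_sum] at h1
    rw [← card_mul_classInner, classInner_irr_self hτ, mul_one, mul_comm (e : ℂ),
      ← mul_assoc, inv_mul_cancel₀ (card_ne_zero' (G := M)), one_mul] at h1
    exact_mod_cast h1.symm
  have hYdec : Y = ∑ β, (a β : ℂ) • η β := by
    obtain ⟨m, hm, hmi⟩ := char_decomp hY
    have hηinj : Function.Injective fun β => (⟨η β, hη β⟩ : Cfsg.IrrCharacter E) := fun β β' hb =>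
      Subtype.ext (mul_comp_mk'_injective M hT hTres β.2 β'.2 (congrArg Subtype.val hb))
    set S := Finset.univ.image fun β => (⟨η β, hη β⟩ : Cfsg.IrrCharacter E) with hS
    have hmS : ∀ ψ ∉ S, m ψ = 0 := by
      intro ψ hψ
      choose d hd hdv using fun c : Cfsg.IrrCharacter E => exists_degree_pos c.2
      obtain ⟨t, ht, htv⟩ := exists_degree_pos θ.2
      have hη1 : ∀ β, η β 1 = (t : ℂ) := fun β => by
        show T 1 * (β : E ⧸ M → ℂ) ((1 : E) : E ⧸ M) = _
        rw [QuotientGroup.mk_one, irr_one_of_comm hcommQ β.2, mul_one, ← htv,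
          show T 1 = T ((1 : M) : E) from rfl, hTM]
        exact congrArg (θ : N → ℂ) (map_one eM)
      have h1 : Y 1 = (e : ℂ) * (t : ℂ) := by
        rw [show Y 1 = Y ((1 : M) : E) from rfl, hYM, ← htv]
        exact congrArg _ (congrArg (θ : N → ℂ) (map_one eM))
      have h2 := congrFun hm 1
      simp only [Finset.sum_apply, Pi.smul_apply, smul_eq_mul, hdv, h1] at h2
      have h3 : e * t = ∑ c, m c * d c := by exact_mod_cast h2
      have h4 : ∑ c ∈ S, m c * d c = e * t := by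
        rw [hS, Finset.sum_image fun β _ β' _ hb => hηinj hb, ← hae, Finset.sum_mul]
        refine Finset.sum_congr rfl fun β _ => ?_
        have e1 : (m ⟨η β, hη β⟩ : ℂ) = a β := by rw [← ha β, ← hmi]
        have e2 : (d ⟨η β, hη β⟩ : ℂ) = t := by rw [← hdv, ← hη1 β]
        rw [Nat.cast_inj] at e1 e2
        rw [e1, e2]
      have h5 : ∑ c ∈ Finset.univ \ S, m c * d c = 0 := by
        have h6 := Finset.sum_sdiff (f := fun c => m c * d c) (Finset.subset_univ S)
        linarith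
      have := Finset.sum_eq_zero_iff.mp h5 ψ (by simp [hψ])
      rcases mul_eq_zero.mp this with h | h
      · exact h
      · exact absurd h (hd ψ).ne'
    rw [hm, ← Finset.sum_subset (Finset.subset_univ S) (fun ψ _ hψ => by rw [hmS ψ hψ]; simp),
      hS, Finset.sum_image fun β _ β' _ hb => hηinj hb]
    refine Finset.sum_congr rfl fun β _ => ?_
    rw [← ha β, ← hmi]
  have hsq : Cfsg.classInner Y Y = ∑ β, (a β : ℂ) ^ 2 := by
    conv_lhs => arg 1; rw [hYdec]
    rw [classInner_sum_left]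
    refine Finset.sum_congr rfl fun β _ => ?_
    rw [classInner_smul_left, ← classInner_conj_symm, ha β, map_natCast, sq]
  have hcardI : Fintype.card (Cfsg.IrrCharacter (E ⧸ M)) = h := by
    rw [← Nat.card_eq_fintype_card, card_irr_eq_card_conjClasses, ← hidxM, Subgroup.index_eq_card]
    exact (Nat.card_congr (Equiv.ofBijective ConjClasses.mk ⟨fun u v huv => by
      obtain ⟨c, hc⟩ := isConj_iff.mp (ConjClasses.mk_eq_mk_iff_isConj.mp huv)
      rw [← hc, hcommQ c u, mul_inv_cancel_right], ConjClasses.mk_surjective⟩)).symm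
  refine nearly_constant a hcardI hh2 hae ?_
  rw [hsq, ← M.card_mul_index, hidxM, Nat.cast_mul, mul_assoc] at hYnorm
  have h1 := mul_left_cancel₀ (card_ne_zero' (G := M)) hYnorm
  have h2 : ((h * ∑ β, a β ^ 2 + 1 : ℕ) : ℂ) = ((e ^ 2 + h : ℕ) : ℂ) := by
    push_cast
    linear_combination h1
  exact_mod_cast h2

end CfsgLib.CharNormal
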