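import Cfsg.Agent.S0858
import Cfsg.Agent.Lib.CharNormal.BlichfeldtHall
import Cfsg.Agent.Lib.CharNormal.Blichfeldt
import Cfsg.Agent.Lib.PGroup.Basic
import Mathlib.NumberTheory.PrimeCounting
import Mathlib.Data.Nat.Factorial.BigOperators
import Mathlib.GroupTheory.Sylow

/-!
# An explicit Jordan bound

* `exists_monomial_pGroup`: irreducible characters of `p`-groups are monomial;
* `exists_abelian_pGroup`: a `p`-group with a faithful character of degree `n` has an abelian
  subgroup whose index divides `n!`;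
* `jordan_bound`.
-/

namespace CfsgLib.CharNormal

open CfsgLib.Char
open scoped ComplexConjugate

universe u

/-- Irreducible characters of `p`-groups are monomial. -/
theorem exists_monomial_pGroup {Q : Type u} [Group Q] [Fintype Q] {p : ℕ} [hp : Fact p.Prime]
    (hQ : IsPGroup p Q) {χ : Q → ℂ} (hχ : Cfsg.IsIrrCharacter Q χ) :
    ∃ (H : Subgroup Q) (ψ : H → ℂ), Cfsg.IsIrrCharacter H ψ ∧ ψ 1 = 1 ∧
      Cfsg.indFun H ψ = χ := by
  classical
  have hnil : Group.IsNilpotent Q := hQ.isNilpotent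
  obtain ⟨H, hNH, ψ, hψ, hind, hres⟩ := Cfsg.Agent.S0858.result (⊥ : Subgroup Q) inferInstance
    (fun H K L _ hLK hKH hK hL hmax hsq => by
      let K' := K.subgroupOf H
      let L' := L.subgroupOf H
      have hK' : K'.Normal := ⟨fun k hk h => Subgroup.mem_subgroupOf.mpr
        (hK h h.2 k (Subgroup.mem_subgroupOf.mp hk))⟩
      have hL' : L'.Normal := ⟨fun k hk h => Subgroup.mem_subgroupOf.mpr
        (hL h h.2 k (Subgroup.mem_subgroupOf.mp hk))⟩
      let Kb := K'.map (QuotientGroup.mk' L')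
      have hKb : Kb.Normal := Subgroup.Normal.map hK' _ (QuotientGroup.mk'_surjective L')
      have hne : Kb ≠ ⊥ := by
        intro h
        rw [Subgroup.map_eq_bot_iff, QuotientGroup.ker_mk'] at h
        refine hLK.not_ge fun k hk => ?_
        exact Subgroup.mem_subgroupOf.mp
          (h (Subgroup.mem_subgroupOf.mpr hk : (⟨k, hKH hk⟩ : H) ∈ K'))
      have hHb : IsPGroup p (H ⧸ L') := (hQ.to_subgroup H).to_quotient L'
      obtain ⟨z, hz, hzo⟩ := CfsgLib.PGroup.exists_orderOf_eq hHb
        (CfsgLib.PGroup.inf_center_ne_bot hHb Kb hne)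
      obtain ⟨hzK, hzC⟩ := Subgroup.mem_inf.mp hz
      let Z := Subgroup.zpowers z
      have hZn : Z.Normal := ⟨fun w hw g => by
        rw [Subgroup.mem_center_iff.mp (Subgroup.zpowers_le.mpr hzC hw) g, mul_inv_cancel_right]
        exact hw⟩
      let M := (Z.comap (QuotientGroup.mk' L')).map H.subtype
      have hM : M.relIndex H = Z.index := by
        rw [Subgroup.relIndex, Subgroup.subgroupOf, Subgroup.comap_map_eq_self_of_injective H.subtype_injective]
        exact Subgroup.index_comap_of_surjective Z (QuotientGroup.mk'_surjective L')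
      have hLM : L ≤ M := fun l hl => ⟨⟨l, hKH (hLK.le hl)⟩, by
        show QuotientGroup.mk' L' ⟨l, _⟩ ∈ Z
        rw [(QuotientGroup.eq_one_iff _).mpr (Subgroup.mem_subgroupOf.mpr hl :
          (⟨l, hKH (hLK.le hl)⟩ : H) ∈ L') |> show _ → QuotientGroup.mk' L' _ = 1 from id]
        exact one_mem Z, rfl⟩
      have hMK : M ≤ K := by
        rintro _ ⟨y, hy, rfl⟩
        obtain ⟨k, hk, hky⟩ := (Subgroup.zpowers_le.mpr hzK) hy
        have h1 : k⁻¹ * y ∈ L' := QuotientGroup.eq.mp hky
        have h2 : y ∈ K' := by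
          have h3 : k⁻¹ * y ∈ K' := Subgroup.mem_subgroupOf.mpr
            (hLK.le (Subgroup.mem_subgroupOf.mp h1))
          have h4 := K'.mul_mem hk h3
          rwa [mul_inv_cancel_left] at h4
        exact h2
      have hMn : ∀ h ∈ H, ∀ m ∈ M, h * m * h⁻¹ ∈ M := by
        rintro h hh _ ⟨y, hy, rfl⟩
        exact ⟨⟨h, hh⟩ * y * ⟨h, hh⟩⁻¹,
          (Subgroup.Normal.comap hZn (QuotientGroup.mk' L')).conj_mem y hy ⟨h, hh⟩, rfl⟩
      have hcardZ : Nat.card Z = p := by rw [Nat.card_zpowers, hzo]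
      rcases hmax M hLM hMK hMn with e | e
      · have h1 : (L.subgroupOf H).index = Z.index := by rw [← hM, e]; rfl
        have h2 := Z.card_mul_index
        rw [hcardZ, ← h1] at h2
        have h3 : (L.subgroupOf H).index = Nat.card (H ⧸ L') := rfl
        rw [← h3] at h2
        have hpos : 0 < (L.subgroupOf H).index :=
          Nat.pos_of_ne_zero Subgroup.index_ne_zero_of_finite
        have := hp.out.two_le
        nlinarith
      · obtain ⟨r, hr⟩ := hsq
        have h1 : L.relIndex K * K.relIndex H = L.relIndex H :=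
          Subgroup.relIndex_mul_relIndex L K H hLK.le hKH
        have h2 : K.relIndex H = Z.index := by rw [← hM, e]
        have h3 : L.relIndex H = p * Z.index := by
          rw [← hcardZ, Z.card_mul_index]; rfl
        rw [h2, h3] at h1
        have h4 := Nat.eq_of_mul_eq_mul_right
          (Nat.pos_of_ne_zero Subgroup.index_ne_zero_of_finite) h1
        rw [hr] at h4
        have h5 : r ∣ p := h4 ▸ dvd_mul_right r r
        rcases (Nat.dvd_prime hp.out).mp h5 with h6 | h6
        · rw [h6] at h4; exact hp.out.one_lt.ne (by simpa using h4)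
        · rw [h6] at h4
          nlinarith [hp.out.two_le]) χ hχ
  have := Fintype.ofFinite (⊥ : Subgroup Q)
  refine ⟨H, ψ, hψ, ?_, hind⟩
  exact irr_one_of_comm (G := (⊥ : Subgroup Q)) (χ := fun n => ψ ⟨(n : Q), hNH n.2⟩)
    (fun a b => Subsingleton.elim _ _) hres

/-- The kernel of a monomial character contains the commutators of the core. -/
theorem apply_commutator_of_monomial {Q : Type u} [Group Q] [Fintype Q] (H : Subgroup Q)
    [Fintype H] {ψ : H → ℂ} (hψ : Cfsg.IsIrrCharacter H ψ) (h1 : ψ 1 = 1) {a b : Q}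
    (ha : a ∈ H.normalCore) (hb : b ∈ H.normalCore) :
    Cfsg.indFun H ψ (a * b * a⁻¹ * b⁻¹) = Cfsg.indFun H ψ 1 := by
  classical
  rw [indFun_apply, indFun_apply]
  congr 1
  refine Finset.sum_congr rfl fun x _ => ?_
  have hc : ∀ c ∈ H.normalCore, x⁻¹ * c * x ∈ H := fun c hc => by
    simpa using hc x⁻¹
  have e : x⁻¹ * (a * b * a⁻¹ * b⁻¹) * x =
      ((⟨_, hc a ha⟩ * ⟨_, hc b hb⟩ * (⟨_, hc a ha⟩)⁻¹ * (⟨_, hc b hb⟩)⁻¹ : H) : Q) := by
    simp [mul_assoc]
  have hψc := isCharacter_of_isIrr hψ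
  have hcom : ∀ u v : H, ψ (u * v * u⁻¹ * v⁻¹) = ψ 1 := fun u v => by
    rw [linear_map_mul hψc h1, isClassFunction_of_isIrr hψ, ← linear_map_mul hψc h1,
      mul_inv_cancel]
  rw [e, extendByZero_coe, hcom, show x⁻¹ * 1 * x = ((1 : H) : Q) by simp, extendByZero_coe]

/-- A `p`-group in degree `n` has an abelian subgroup of index dividing `n!`. -/
theorem exists_abelian_pGroup {Q : Type u} [Group Q] [Finite Q] {p : ℕ} [hp : Fact p.Prime]
    (hQ : IsPGroup p Q) {χ : Q → ℂ} (hχ : Cfsg.IsCharacter Q χ)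
    (hfaith : ∀ g : Q, χ g = χ 1 → g = 1) {n : ℕ} (hn : χ 1 = n) :
    ∃ K : Subgroup Q, (∀ a ∈ K, ∀ b ∈ K, a * b = b * a) ∧ K.index ∣ n.factorial := by
  classical
  have := Fintype.ofFinite Q
  obtain ⟨m, hm, hmi⟩ := char_decomp hχ
  choose H lam hlam hlam1 hind using fun φ : Cfsg.IrrCharacter Q => exists_monomial_pGroup hQ φ.2
  have hd : ∀ φ : Cfsg.IrrCharacter Q, (φ : Q → ℂ) 1 = ((H φ).index : ℂ) := fun φ => by
    rw [← congrFun (hind φ) 1, indFun_one, hlam1, mul_one]
  set S := (Finset.univ : Finset (Cfsg.IrrCharacter Q)).filter fun φ => m φ ≠ 0 with hS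
  set K : Subgroup Q := ⨅ φ : S, (H φ.1).normalCore with hK
  refine ⟨K, fun a ha b hb => ?_, ?_⟩
  · have he : a * b * a⁻¹ * b⁻¹ = 1 := by
      refine hfaith _ ?_
      rw [hm]
      simp only [Finset.sum_apply, Pi.smul_apply, smul_eq_mul]
      refine Finset.sum_congr rfl fun φ _ => ?_
      by_cases h0 : m φ = 0
      · simp [h0]
      congr 1
      rw [← hind φ]
      have hφ : φ ∈ S := Finset.mem_filter.mpr ⟨Finset.mem_univ _, h0⟩
      exact apply_commutator_of_monomial (H φ) (hlam φ) (hlam1 φ)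
        (Subgroup.mem_iInf.mp ha ⟨φ, hφ⟩) (Subgroup.mem_iInf.mp hb ⟨φ, hφ⟩)
    calc a * b = (a * b * a⁻¹ * b⁻¹) * (b * a) := by group
      _ = b * a := by rw [he, one_mul]
  · obtain ⟨k, hk⟩ := hQ.index K
    have hdvd : ∏ φ : S, (H φ.1).normalCore.index ∣ ∏ φ : S, ((H φ.1).index).factorial := by
      refine Finset.prod_dvd_prod_of_dvd _ _ fun φ _ => ?_
      rw [Subgroup.normalCore_eq_ker, Subgroup.index_ker]
      refine (Subgroup.card_subgroup_dvd_card _).trans (dvd_of_eq ?_)
      rw [Nat.card_perm]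
      rfl
    have hsum : ∑ φ : S, (H φ.1).index ≤ n := by
      have h1 := congrFun hm 1
      simp only [Finset.sum_apply, Pi.smul_apply, smul_eq_mul, hd, hn] at h1
      have h2 : n = ∑ φ, m φ * (H φ).index := by exact_mod_cast h1
      rw [Finset.sum_coe_sort S fun φ => (H φ).index, h2]
      refine le_trans (Finset.sum_le_sum fun φ hφ => ?_)
        (Finset.sum_le_sum_of_subset (Finset.subset_univ S))
      exact Nat.le_mul_of_pos_left _ (Nat.pos_of_ne_zero (Finset.mem_filter.mp hφ).2)
    obtain ⟨e, he⟩ : ∃ e, ∏ φ : S, (H φ.1).normalCore.index = p ^ e := by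
      choose f hf using fun φ : S => hQ.index (H φ.1).normalCore
      exact ⟨∑ φ, f φ, by rw [← Finset.prod_pow_eq_pow_sum]; exact Finset.prod_congr rfl fun φ _ => hf φ⟩
    have hle : p ^ k ≤ p ^ e := by
      rw [← hk, ← he]
      exact Subgroup.index_iInf_le _
    rw [hk]
    refine (pow_dvd_pow p ((Nat.pow_le_pow_iff_right hp.out.one_lt).mp hle)).trans (he ▸ hdvd.trans ?_)
    exact (Nat.prod_factorial_dvd_factorial_sum _ _).trans (Nat.factorial_dvd_factorial hsum)

/-- The explicit Jordan bound. -/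
theorem jordan_bound {G : Type u} [Group G] [Finite G] {χ : G → ℂ} (hχ : Cfsg.IsCharacter G χ)
    (hfaith : ∀ g : G, χ g = χ 1 → g = 1) {n : ℕ} (hn : χ 1 = n) :
    ∃ A : Subgroup G, A.Normal ∧ (∀ x ∈ A, ∀ y ∈ A, x * y = y * x) ∧
      A.index ≤ n.factorial * 12 ^ (n * (Nat.primeCounting (n + 1) + 1)) := by
  classical
  obtain ⟨A, hAn, hAc, hAb⟩ := exists_abelian_normal_index_le hχ hfaith hn
  refine ⟨A, hAn, hAc, ?_⟩
  have hN0 : A.index ≠ 0 := Subgroup.index_ne_zero_of_finite
  -- prime parts of the index are seen inside subgroups of prime to `q` index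
  have hpart : ∀ (B : Subgroup G) (q : ℕ), q.Prime → ¬ q ∣ B.index →
      q ^ A.index.factorization q ∣ A.relIndex B := by
    intro B q hq hB
    have h1 : A.index ∣ A.relIndex B * B.index := by
      rw [← Subgroup.inf_relIndex_right, Subgroup.relIndex_mul_index inf_le_right]
      exact Subgroup.index_dvd_of_le inf_le_left
    exact ((Nat.Prime.coprime_iff_not_dvd hq).mpr hB |>.pow_left _).dvd_of_dvd_mul_right
      ((Nat.ordProj_dvd _ q).trans h1)
  obtain ⟨B, hB, hBc⟩ := exists_abelian_hall hχ hfaith hn (π := {q : ℕ | n + 1 < q}) fun q _ h => h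
  have hlarge : ∏ q ∈ A.index.primeFactors.filter (fun q => n + 1 < q),
      q ^ A.index.factorization q ≤ 12 ^ n := by
    refine le_trans (Nat.le_of_dvd (Nat.pos_of_ne_zero Subgroup.index_ne_zero_of_finite) ?_)
      (hAb B hBc)
    refine Finset.prod_dvd_of_isRelPrime (fun q hq r hr hne => ?_) fun q hq => ?_
    · exact (Nat.coprime_iff_isRelPrime.mp (Nat.Coprime.pow _ _ ((Nat.coprime_primes
        (Nat.prime_of_mem_primeFactors (Finset.mem_filter.mp hq).1)
        (Nat.prime_of_mem_primeFactors (Finset.mem_filter.mp hr).1)).mpr hne)))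
    · obtain ⟨hq1, hq2⟩ := Finset.mem_filter.mp hq
      exact hpart B q (Nat.prime_of_mem_primeFactors hq1)
        (hB.2 q (Nat.prime_of_mem_primeFactors hq1) hq2)
  have hsmall : ∀ q ∈ A.index.primeFactors.filter (fun q => ¬ n + 1 < q),
      q ^ A.index.factorization q ≤ q ^ n.factorial.factorization q * 12 ^ n := by
    intro q hq
    have hqp := Nat.prime_of_mem_primeFactors (Finset.mem_filter.mp hq).1
    have := Fact.mk hqp
    obtain ⟨P⟩ := (inferInstance : Nonempty (Sylow q G))
    obtain ⟨K, hKc, hKi⟩ := exists_abelian_pGroup P.isPGroup' (isCharacter_res _ hχ)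
      (fun g hg => Subtype.ext (hfaith _ hg)) (n := n) hn
    set K' := K.map (P : Subgroup G).subtype with hK'
    have hK'c : ∀ x ∈ K', ∀ y ∈ K', x * y = y * x := by
      rintro _ ⟨x, hx, rfl⟩ _ ⟨y, hy, rfl⟩
      exact congrArg Subtype.val (hKc x hx y hy)
    have hKP : K' ≤ (P : Subgroup G) := Subgroup.map_subtype_le K
    have h1 : A.relIndex (P : Subgroup G) ∣ A.relIndex K' * K'.relIndex (P : Subgroup G) := by
      rw [← Subgroup.inf_relIndex_right A K', Subgroup.relIndex_mul_relIndex _ _ _ inf_le_right hKP]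
      exact Subgroup.relIndex_dvd_of_le_left _ inf_le_left
    have hKrel : K'.relIndex (P : Subgroup G) = K.index := by
      rw [Subgroup.relIndex, hK', Subgroup.subgroupOf,
        Subgroup.comap_map_eq_self_of_injective (P : Subgroup G).subtype_injective]
    obtain ⟨i, hi⟩ := P.isPGroup'.index K
    have hi' : K.index ∣ q ^ n.factorial.factorization q := by
      rw [hi] at hKi ⊢
      exact pow_dvd_pow q ((hqp.pow_dvd_iff_le_factorization n.factorial_ne_zero).mp hKi)
    calc q ^ A.index.factorization q ≤ A.relIndex K' * K'.relIndex (P : Subgroup G) :=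
          Nat.le_of_dvd (Nat.mul_pos (Nat.pos_of_ne_zero Subgroup.index_ne_zero_of_finite)
            (Nat.pos_of_ne_zero Subgroup.index_ne_zero_of_finite))
            ((hpart _ q hqp P.not_dvd_index).trans h1)
      _ ≤ 12 ^ n * q ^ n.factorial.factorization q := Nat.mul_le_mul (hAb K' hK'c)
          (hKrel ▸ Nat.le_of_dvd (pow_pos hqp.pos _) hi')
      _ = _ := mul_comm _ _
  have hN : A.index = ∏ q ∈ A.index.primeFactors, q ^ A.index.factorization q := by
    conv_lhs => rw [← Nat.prod_factorization_pow_eq_self hN0]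
    rfl
  set s := A.index.primeFactors.filter (fun q => ¬ n + 1 < q) with hs
  have hsub : s ⊆ (n + 2).primesBelow := fun q hq => by
    obtain ⟨h1, h2⟩ := Finset.mem_filter.mp hq
    exact Nat.mem_primesBelow.mpr ⟨by omega, Nat.prime_of_mem_primeFactors h1⟩
  have hcard : s.card ≤ Nat.primeCounting (n + 1) := by
    refine le_trans (Finset.card_le_card hsub) (le_of_eq ?_)
    rw [Nat.primesBelow_card_eq_primeCounting']
    rfl
  have hfac : ∏ q ∈ s, q ^ n.factorial.factorization q ≤ n.factorial := by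
    refine Nat.le_of_dvd n.factorial_pos (Finset.prod_dvd_of_isRelPrime (fun q hq r hr hne => ?_)
      fun q _ => Nat.ordProj_dvd _ q)
    exact (Nat.coprime_iff_isRelPrime.mp (Nat.Coprime.pow _ _ ((Nat.coprime_primes
      (Nat.prime_of_mem_primeFactors (Finset.mem_filter.mp hq).1)
      (Nat.prime_of_mem_primeFactors (Finset.mem_filter.mp hr).1)).mpr hne)))
  rw [hN, ← Finset.prod_filter_mul_prod_filter_not _ (fun q => n + 1 < q)]
  calc (∏ q ∈ A.index.primeFactors.filter (fun q => n + 1 < q), q ^ A.index.factorization q) *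
        ∏ q ∈ s, q ^ A.index.factorization q
      ≤ 12 ^ n * ∏ q ∈ s, (q ^ n.factorial.factorization q * 12 ^ n) :=
        Nat.mul_le_mul hlarge (Finset.prod_le_prod' fun q hq => hsmall q hq)
    _ = (∏ q ∈ s, q ^ n.factorial.factorization q) * (12 ^ n) ^ (s.card + 1) := by
        rw [Finset.prod_mul_distrib, Finset.prod_const]; ring
    _ ≤ n.factorial * (12 ^ n) ^ (Nat.primeCounting (n + 1) + 1) :=
        Nat.mul_le_mul hfac (Nat.pow_le_pow_right (pow_pos (by norm_num) _) (by omega))
    _ = _ := by rw [← pow_mul]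

end CfsgLib.CharNormal
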