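import Cfsg.Agent.Lib.CharNormal.LinearDivisor
import Cfsg.Agent.Lib.CharNormal.BlichfeldtHall
import Cfsg.Agent.Lib.CharNormal.ItoCoprime

/-!
# Solvable linear groups: the inductive step

See `LinearDivisor`: the main induction.
-/

namespace CfsgLib.CharNormal

open CfsgLib.Char
open scoped ComplexConjugate commutatorElement Pointwise

universe u

variable {G : Type u} [Group G] [Finite G]

/-- A normal subgroup all of whose quotient generators commute contains the derived group. -/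
theorem commutator_le_of_gen {Y : Subgroup G} [Y.Normal] {S : Set G}
    (hS : Subgroup.closure S = ⊤) (h : ∀ a ∈ S, ∀ b ∈ S, ⁅a, b⁆ ∈ Y) : commutator G ≤ Y := by
  set f := QuotientGroup.mk' Y
  have hcomm : ∀ a b : G, f a * f b = f b * f a := by
    have h1 : ∀ a ∈ S, ∀ b : G, f a * f b = f b * f a := by
      intro a ha b
      have hb : b ∈ (Subgroup.centralizer ({f a} : Set (G ⧸ Y))).comap f := by
        refine (Subgroup.closure_le _).mpr (fun b hb => ?_) (hS.ge (Subgroup.mem_top b))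
        refine Subgroup.mem_centralizer_singleton_iff.mpr ?_
        refine commutatorElement_eq_one_iff_mul_comm.mp ?_
        rw [← map_commutatorElement]
        exact (QuotientGroup.eq_one_iff _).mpr (h b hb a ha)
      exact (Subgroup.mem_centralizer_singleton_iff.mp hb).symm
    intro a b
    have ha : a ∈ (Subgroup.centralizer ({f b} : Set (G ⧸ Y))).comap f := by
      refine (Subgroup.closure_le _).mpr (fun x hx => ?_) (hS.ge (Subgroup.mem_top a))
      show f x ∈ Subgroup.centralizer ({f b} : Set (G ⧸ Y))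
      exact Subgroup.mem_centralizer_singleton_iff.mpr (h1 x hx b)
    exact Subgroup.mem_centralizer_singleton_iff.mp ha
  show ⁅(⊤ : Subgroup G), ⊤⁆ ≤ Y
  rw [Subgroup.commutator_le]
  intro a _ b _
  rw [← QuotientGroup.eq_one_iff]
  show f ⁅a, b⁆ = 1
  rw [map_commutatorElement]
  exact commutatorElement_eq_one_iff_mul_comm.mpr (hcomm a b)

/-- A perfect-modulo-`T` solvable subgroup equals `T`. -/
theorem eq_of_le_sup_commutator {L T : Subgroup G} (hs : Group.IsSolvable L) (hTL : T ≤ L)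
    (hn : L ≤ Subgroup.normalizer (T : Set G)) (h : L ≤ T ⊔ ⁅L, L⁆) : T = L := by
  refine le_antisymm hTL ?_
  set T' := T.subgroupOf L with hT'
  have : T'.Normal := Subgroup.normal_subgroupOf_of_le_normalizer hn
  have hq : Group.IsSolvable (L ⧸ T') :=
    Group.isSolvable_of_surjective (QuotientGroup.mk'_surjective T')
  rcases subsingleton_or_nontrivial (L ⧸ T') with hsub | hnt
  · intro a ha
    have : ((⟨a, ha⟩ : L) : L ⧸ T') = 1 := Subsingleton.elim _ _
    exact (QuotientGroup.eq_one_iff (N := T') (⟨a, ha⟩ : L)).mp this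
  exfalso
  refine (Group.IsSolvable.commutator_lt_top_of_nontrivial (L ⧸ T')).ne (eq_top_iff.mpr ?_)
  intro c _
  obtain ⟨l, rfl⟩ := QuotientGroup.mk'_surjective T' c
  set X : Subgroup G := ((commutator (L ⧸ T')).comap (QuotientGroup.mk' T')).map L.subtype with hX
  have h1 : T ≤ X := fun t ht => ⟨⟨t, hTL ht⟩, by
    show QuotientGroup.mk' T' ⟨t, hTL ht⟩ ∈ commutator (L ⧸ T')
    rw [show QuotientGroup.mk' T' ⟨t, hTL ht⟩ = 1 from
      (QuotientGroup.eq_one_iff (N := T') (⟨t, hTL ht⟩ : L)).mpr ht]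
    exact one_mem _, rfl⟩
  have h2 : ⁅L, L⁆ ≤ X := by
    rw [Subgroup.commutator_le]
    intro a ha b hb
    refine ⟨⁅(⟨a, ha⟩ : L), ⟨b, hb⟩⁆, ?_, rfl⟩
    show QuotientGroup.mk' T' ⁅(⟨a, ha⟩ : L), ⟨b, hb⟩⁆ ∈ commutator (L ⧸ T')
    rw [map_commutatorElement]
    exact Subgroup.commutator_mem_commutator (Subgroup.mem_top _) (Subgroup.mem_top _)
  obtain ⟨l', hl', hll⟩ := sup_le h1 h2 (h l.2)
  exact (Subtype.ext hll : l' = l) ▸ hl'

theorem normal_of_gen {K : Subgroup G} {S : Set G} (hS : Subgroup.closure S = ⊤)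
    (h : ∀ s ∈ S, ∀ a ∈ K, s * a * s⁻¹ ∈ K) : K.Normal :=
  Subgroup.normalizer_eq_top_iff.mp (eq_top_iff.mpr (hS.ge.trans ((Subgroup.closure_le _).mpr
    fun s hs => CfsgLib.Solvable.mem_normalizer_of_conj_mem (h s hs))))

/-- The main induction step. -/
theorem irr_step {p : ℕ} [hp : Fact p.Prime] (ih : IrrBelow.{u} p (Nat.card G))
    (hsol : Group.IsSolvable G) {χ : G → ℂ} {n : ℕ} (hχ : Cfsg.IsIrrCharacter G χ)
    (hfaith : ∀ g, χ g = χ 1 → g = 1) (hn : χ 1 = n) (hgood : GoodDeg p n) (P₀ : Sylow p G) :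
    (P₀ : Subgroup G).Normal := by
  classical
  have := Fintype.ofFinite G
  by_contra hP₀
  have hc := isCharacter_of_isIrr hχ
  -- no Sylow subgroup is normal
  have hPn : ∀ P : Sylow p G, ¬ (P : Subgroup G).Normal := by
    intro P hP
    have := Sylow.unique_of_normal P hP
    exact hP₀ (Subsingleton.elim P P₀ ▸ hP)
  have hpn : ¬ p ∣ n := hgood.not_dvd hp.out
  obtain ⟨n', hn'0, hn'⟩ := exists_degree_pos hχ
  have hn0 : 0 < n := by
    have : n' = n := by exact_mod_cast hn'.symm.trans hn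
    omega
  -- proper normal subgroups
  have hnormal : ∀ M : Subgroup G, M.Normal → M ≠ ⊤ → ∀ Q : Sylow p M, (Q : Subgroup M).Normal := by
    intro M hM hMtop Q
    refine char_normal ih (lt_of_le_of_ne M.card_le_card_group fun e => hMtop (M.eq_top_of_card_eq e))
      inferInstance (isCharacter_res M hc) (fun g h => Subtype.ext (hfaith _ h))
      (fun {_} ψ d h0 hd => ?_) Q
    obtain ⟨e, he⟩ := classInner_char_nat (isCharacter_res M hc) (isCharacter_of_isIrr ψ.2)
    have h := degree_eq_mul_card_orbit M hχ ψ h0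
    rw [hn, he, hd] at h
    exact hgood.of_dvd ⟨e * (orbit M ψ).card, by rw [mul_comm d]; exact_mod_cast h⟩
  have hgen : ∀ M : Subgroup G, M.Normal → ∀ P : Sylow p G, (P : Subgroup G) ≤ M → M = ⊤ := by
    intro M hM P hPM
    by_contra hne
    have hQ := hnormal M hM hne (P.subtype hPM)
    have hchar := (P.subtype hPM).characteristic_of_normal hQ
    have h2 : ((P.subtype hPM : Subgroup M).map M.subtype).Normal := inferInstance
    rw [Sylow.coe_subtype, Subgroup.map_subgroupOf_eq_of_le hPM] at h2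
    exact hPn P h2
  have hsupc : ∀ K : Subgroup G, commutator G ≤ K → K.Normal := fun K hK => ⟨fun x hx g => by
    rw [show g * x * g⁻¹ = ⁅g, x⁆ * x by rw [commutatorElement_def]; group]
    exact mul_mem (hK (Subgroup.commutator_mem_commutator (Subgroup.mem_top g)
      (Subgroup.mem_top x))) hx⟩
  -- the abelianization is a `p`-group
  have hDtop : commutator G ⊔ (P₀ : Subgroup G) = ⊤ :=
    hgen _ (hsupc _ le_sup_left) P₀ le_sup_right
  obtain ⟨kD, hkD⟩ : ∃ k, (commutator G).index = p ^ k := by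
    obtain ⟨i, hi⟩ := IsPGroup.iff_card.mp P₀.isPGroup'
    have h := CfsgLib.Cores.card_sup_dvd_mul (commutator G) (P₀ : Subgroup G)
    rw [hDtop, Subgroup.card_top, ← (commutator G).card_mul_index, hi] at h
    obtain ⟨j, -, hj⟩ := (Nat.dvd_prime_pow hp.out).mp (Nat.dvd_of_mul_dvd_mul_left Nat.card_pos h)
    exact ⟨j, hj⟩
  have : Nontrivial G := by
    by_contra h
    rw [not_nontrivial_iff_subsingleton] at h
    exact hP₀ ⟨fun a ha g => by rwa [Subsingleton.elim (g * a * g⁻¹) a]⟩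
  have hkD0 : kD ≠ 0 := fun e => by
    rw [e, pow_zero, Subgroup.index_eq_one] at hkD
    exact (Group.IsSolvable.commutator_lt_top_of_nontrivial G).ne hkD
  -- a normal subgroup of index `p`
  obtain ⟨N, hNn, hNidx⟩ : ∃ N : Subgroup G, N.Normal ∧ N.index = p := by
    have hcardq : Nat.card (G ⧸ commutator G) = p ^ kD := hkD
    obtain ⟨K, hK⟩ := Sylow.exists_subgroup_card_pow_prime (G := G ⧸ commutator G) p (n := kD - 1)
      (hcardq ▸ pow_dvd_pow p (Nat.sub_le _ _))
    refine ⟨K.comap (QuotientGroup.mk' _), hsupc _ fun x hx => ?_, ?_⟩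
    · show QuotientGroup.mk' _ x ∈ K
      rw [QuotientGroup.mk'_apply, (QuotientGroup.eq_one_iff x).mpr hx]
      exact one_mem _
    · rw [Subgroup.index_comap_of_surjective K (QuotientGroup.mk'_surjective _)]
      have h := K.card_mul_index
      rw [hK, hcardq] at h
      refine Nat.eq_of_mul_eq_mul_left (pow_pos hp.out.pos (kD - 1)) (h.trans ?_)
      rw [← pow_succ]
      congr 1
      omega
  have hNtop : N ≠ ⊤ := fun e => hp.out.one_lt.ne' (by rw [← hNidx, e, Subgroup.index_top])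
  have hθ : Cfsg.IsIrrCharacter N (fun x : N => χ x) := isIrr_res_prime_index N hp.out hNidx hχ hn hpn
  -- the normal Sylow subgroup of `N`
  obtain ⟨R⟩ := (inferInstance : Nonempty (Sylow p N))
  have hR := hnormal N hNn hNtop R
  have hRc := R.characteristic_of_normal hR
  set PN := (R : Subgroup N).map N.subtype with hPNdef
  have hPNn : PN.Normal := inferInstance
  have hPNN : PN ≤ N := Subgroup.map_subtype_le _
  have hPNp : IsPGroup p PN := R.isPGroup'.map _
  have hpmem : ∀ a ∈ N, (∃ k, orderOf a = p ^ k) → a ∈ PN := by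
    intro a ha ⟨k, hk⟩
    have hz : IsPGroup p (Subgroup.zpowers (⟨a, ha⟩ : N)) :=
      IsPGroup.of_card (n := k) (by rw [Nat.card_zpowers, Subgroup.orderOf_mk, hk])
    obtain ⟨R₁, hR₁⟩ := hz.exists_le_sylow
    have := Sylow.unique_of_normal R hR
    exact ⟨⟨a, ha⟩, (Subsingleton.elim R₁ R) ▸ hR₁ (Subgroup.mem_zpowers _), rfl⟩
  obtain ⟨kN, hkN⟩ := IsPGroup.iff_card.mp hPNp
  have hlinPN : ∀ lam : Cfsg.IrrCharacter PN,
      Cfsg.classInner (fun x : PN => χ x) (lam : PN → ℂ) ≠ 0 → (lam : PN → ℂ) 1 = 1 := by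
    intro lam h0
    obtain ⟨d, -, hd⟩ := exists_degree_pos lam.2
    obtain ⟨j, -, hj⟩ := (Nat.dvd_prime_pow hp.out).mp (hkN ▸ degree_dvd_card lam.2 hd)
    obtain ⟨e, he⟩ := classInner_char_nat (isCharacter_res PN hc) (isCharacter_of_isIrr lam.2)
    have h := degree_eq_mul_card_orbit PN hχ lam h0
    rw [hn, he, hd] at h
    have h' : n = e * (orbit PN lam).card * d := by exact_mod_cast h
    rcases Nat.eq_zero_or_pos j with hj0 | hj0
    · rw [hd, hj, hj0, pow_zero, Nat.cast_one]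
    · exact absurd ((dvd_pow_self p hj0.ne').trans (hj ▸ h' ▸ dvd_mul_left d _)) hpn
  have hresPN : ∀ a : G, a ∈ PN → (∀ lam : Cfsg.IrrCharacter PN,
      Cfsg.classInner (fun x : PN => χ x) (lam : PN → ℂ) ≠ 0 →
        ∀ b : PN, (b : G) = a → (lam : PN → ℂ) b = 1) → a = 1 := by
    intro a ha h
    refine hfaith a ?_
    have e := classFun_eq_sum (isClassFunction_of_isCharacter (isCharacter_res PN hc))
    have h1 := congrFun e ⟨a, ha⟩
    have h2 := congrFun e 1
    simp only [Finset.sum_apply, Pi.smul_apply, smul_eq_mul, OneMemClass.coe_one] at h1 h2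
    rw [h1, h2]
    refine Finset.sum_congr rfl fun lam _ => ?_
    by_cases h0 : Cfsg.classInner (fun x : PN => χ x) (lam : PN → ℂ) = 0
    · rw [h0, zero_mul, zero_mul]
    · rw [h lam h0 ⟨a, ha⟩ rfl, hlinPN lam h0]
  have hPNab : ∀ a ∈ PN, ∀ b ∈ PN, a * b = b * a := by
    intro a ha b hb
    refine commutatorElement_eq_one_iff_mul_comm.mp (hresPN _ ?_ fun lam h0 c hc' => ?_)
    · exact PN.mul_mem (PN.mul_mem (PN.mul_mem ha hb) (PN.inv_mem ha)) (PN.inv_mem hb)
    · have : c = ⁅(⟨a, ha⟩ : PN), ⟨b, hb⟩⁆ := Subtype.ext hc'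
      have hm := linear_map_mul (isCharacter_of_isIrr lam.2) (hlinPN lam h0)
      rw [this, commutatorElement_def, hm, isClassFunction_of_isIrr lam.2, ← hm, mul_inv_cancel,
        hlinPN lam h0]
  -- a complement of `PN` in `N`
  have hcopR : (Nat.card (R : Subgroup N)).Coprime (R : Subgroup N).index := R.card_coprime_index
  obtain ⟨L', hL'⟩ := Subgroup.exists_right_complement'_of_coprime hcopR
  set L := L'.map N.subtype with hLdef
  have hLN : L ≤ N := Subgroup.map_subtype_le _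
  have hLcard : Nat.card L = (R : Subgroup N).index := by
    rw [hLdef, Subgroup.card_map_of_injective N.subtype_injective, hL'.symm.index_eq_card]
  have hLp : ¬ p ∣ Nat.card L := hLcard ▸ R.not_dvd_index
  have hpL : ∀ a ∈ L, (∃ k, orderOf a = p ^ k) → a = 1 := by
    intro a ha ⟨k, hk⟩
    rcases Nat.eq_zero_or_pos k with hk0 | hk0
    · rw [hk0, pow_zero] at hk; exact orderOf_eq_one_iff.mp hk
    · exact absurd ((hk ▸ dvd_pow_self p hk0.ne' : p ∣ orderOf a).trans
        (L.orderOf_dvd_natCard ha)) hLp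
  have hdisj : PN ⊓ L = ⊥ := (Subgroup.eq_bot_iff_forall _).mpr fun a ⟨ha, ha'⟩ => hpL a ha' (by
    obtain ⟨k, hk⟩ := IsPGroup.iff_orderOf.mp hPNp ⟨a, ha⟩
    exact ⟨k, by rwa [Subgroup.orderOf_mk] at hk⟩)
  have hNsplit : ∀ g ∈ N, ∃ a ∈ PN, ∃ l ∈ L, g = a * l := by
    intro g hg
    obtain ⟨⟨a, l⟩, hal⟩ := hL'.2 ⟨g, hg⟩
    exact ⟨_, ⟨a, a.2, rfl⟩, _, ⟨l, l.2, rfl⟩, (congrArg Subtype.val hal).symm⟩
  have hPNL : PN ⊔ L = N := le_antisymm (sup_le hPNN hLN) fun g hg => by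
    obtain ⟨a, ha, l, hl, rfl⟩ := hNsplit g hg
    exact mul_mem (Subgroup.mem_sup_left ha) (Subgroup.mem_sup_right hl)
  have hLsol : Group.IsSolvable L := inferInstance
  -- a `p`-element outside `N` normalising `L`
  have hfr : ∀ g : G, ∃ a ∈ PN, a * g ∈ Subgroup.normalizer (L : Set G) := by
    intro g
    obtain ⟨k, hk, hkL⟩ := CfsgLib.Solvable.exists_conj_le PN L (MulAut.conj g • L)
      ((le_top : L ≤ ⊤).trans (Subgroup.normalizer_eq_top_iff.mpr hPNn).ge) hdisj
      (by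
        rw [hPNL]
        exact CfsgLib.Solvable.conj_smul_le_iff.mpr fun x hx => hNn.conj_mem x (hLN hx) g)
      (by
        rw [CfsgLib.Solvable.card_conj_smul, hkN]
        exact Nat.Coprime.pow_left _ (hp.out.coprime_iff_not_dvd.mpr hLp))
      (Or.inl inferInstance)
    refine ⟨k, hk, CfsgLib.Solvable.mem_normalizer_iff_conj_smul.mpr ?_⟩
    rw [← CfsgLib.Solvable.conj_smul_conj_smul]
    exact Subgroup.eq_of_le_of_card_ge hkL
      (le_of_eq (by rw [CfsgLib.Solvable.card_conj_smul, CfsgLib.Solvable.card_conj_smul]))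
  obtain ⟨y, hyN, hyL, hyp⟩ : ∃ y : G, y ∉ N ∧ y ∈ Subgroup.normalizer (L : Set G) ∧
      ∃ k, orderOf y = p ^ k := by
    obtain ⟨g, hg⟩ : ∃ g : G, g ∉ N := by
      by_contra h
      push Not at h
      exact hNtop (eq_top_iff.mpr fun g _ => h g)
    obtain ⟨a, ha, hag⟩ := hfr g
    have hagN : a * g ∉ N := fun h => hg (by simpa using N.mul_mem (N.inv_mem (hPNN ha)) h)
    set w := a * g
    set o := orderOf w with ho
    have ho0 : o ≠ 0 := (orderOf_pos w).ne'
    refine ⟨w ^ (o / p ^ o.factorization p), fun h => hagN ?_, pow_mem hag _,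
      o.factorization p, ?_⟩
    · have h1 : (QuotientGroup.mk' N w) ^ (o / p ^ o.factorization p) = 1 := by
        rw [← map_pow]; exact (QuotientGroup.eq_one_iff _).mpr h
      have h2 : (QuotientGroup.mk' N w) ^ p = 1 := by
        rw [← hNidx]; exact pow_card_eq_one'
      have h3 := pow_gcd_eq_one.mpr ⟨h1, h2⟩
      rw [(Nat.coprime_ordCompl hp.out ho0).symm.gcd_eq_one, pow_one] at h3
      exact (QuotientGroup.eq_one_iff _).mp h3
    · rw [orderOf_pow' _ (Nat.div_pos (Nat.ordProj_le p ho0) (pow_pos hp.out.pos _)).ne', ← ho,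
        Nat.gcd_eq_right (Nat.div_dvd_of_dvd (Nat.ordProj_dvd o p)),
        Nat.div_div_self (Nat.ordProj_dvd o p) ho0]
  have hyp' : y ^ p ∈ N := hNidx ▸ N.pow_index_mem y
  have hNy : N ⊔ Subgroup.zpowers y = ⊤ := by
    set X := N ⊔ Subgroup.zpowers y
    have hd : X.index ∣ p := hNidx ▸ Subgroup.index_dvd_of_le le_sup_left
    rcases (Nat.dvd_prime hp.out).mp hd with h | h
    · exact Subgroup.index_eq_one.mp h
    · exfalso
      have hNX : N = X := Subgroup.eq_of_le_of_card_ge le_sup_left (le_of_eq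
        (Nat.eq_of_mul_eq_mul_right hp.out.pos (by
          conv_lhs => rw [← h, X.card_mul_index, ← N.card_mul_index, hNidx])))
      exact hyN (hNX ▸ Subgroup.mem_sup_right (Subgroup.mem_zpowers y))
  have hgenG : Subgroup.closure ((PN : Set G) ∪ (L : Set G) ∪ {y}) = ⊤ := by
    rw [Subgroup.closure_union, Subgroup.closure_union, Subgroup.closure_eq, Subgroup.closure_eq,
      ← Subgroup.zpowers_eq_closure, hPNL, hNy]
  have hyLmem : ∀ l ∈ L, y * l * y⁻¹ ∈ L := fun l hl => (hyL l).mp hl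
  -- `L` is generated by commutators with `y`
  have hLgen : ∀ T : Subgroup G, T ≤ L → L ≤ Subgroup.normalizer (T : Set G) →
      (∀ t ∈ T, y * t * y⁻¹ ∈ T) → (∀ l ∈ L, ⁅y, l⁆ ∈ T) → T = L := by
    intro T hTL hTn hTy hyT
    set U := T ⊔ ⁅L, L⁆ with hU
    have hLL : ⁅L, L⁆ ≤ L := (Subgroup.commutator_le).mpr fun a ha b hb =>
      L.mul_mem (L.mul_mem (L.mul_mem ha hb) (L.inv_mem ha)) (L.inv_mem hb)
    have hUL : U ≤ L := sup_le hTL hLL
    set Y := PN ⊔ U with hY
    have hcl : ∀ (A B : Subgroup G) (s : G), (∀ a ∈ A, s * a * s⁻¹ ∈ A) →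
        (∀ b ∈ B, s * b * s⁻¹ ∈ B) → ∀ c ∈ A ⊔ B, s * c * s⁻¹ ∈ A ⊔ B := by
      intro A B s hA hB c hc'
      have : A ⊔ B ≤ (A ⊔ B).comap (MulAut.conj s).toMonoidHom :=
        sup_le (fun a ha => Subgroup.mem_sup_left (hA a ha))
          (fun b hb => Subgroup.mem_sup_right (hB b hb))
      exact this hc'
    have hUs : ∀ s : G, (∀ l ∈ L, s * l * s⁻¹ ∈ L) → (∀ t ∈ T, s * t * s⁻¹ ∈ T) →
        ∀ c ∈ U, s * c * s⁻¹ ∈ U := by
      intro s hsL hsT
      refine hcl T ⁅L, L⁆ s hsT fun c hc' => ?_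
      have : ⁅L, L⁆ ≤ (⁅L, L⁆).comap (MulAut.conj s).toMonoidHom := by
        rw [Subgroup.commutator_le]
        intro a ha b hb
        show (MulAut.conj s).toMonoidHom ⁅a, b⁆ ∈ ⁅L, L⁆
        rw [map_commutatorElement]
        exact Subgroup.commutator_mem_commutator (hsL a ha) (hsL b hb)
      exact this hc'
    have hYn : Y.Normal := by
      refine normal_of_gen hgenG ?_
      rintro s ((hs | hs) | hs) c hc'
      · exact mul_mem (mul_mem (Subgroup.mem_sup_left hs) hc') (inv_mem (Subgroup.mem_sup_left hs))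
      · exact hcl PN U s (fun a ha => hPNn.conj_mem a ha s) (hUs s
          (fun l hl => mul_mem (mul_mem hs hl) (inv_mem hs)) (fun t ht => (hTn hs t).mp ht)) c hc'
      · rw [Set.mem_singleton_iff.mp hs]
        exact hcl PN U y (fun a ha => hPNn.conj_mem a ha y) (hUs y hyLmem hTy) c hc'
    have hYD : commutator G ≤ Y := by
      refine commutator_le_of_gen hgenG ?_
      have hPc : ∀ a ∈ PN, ∀ b : G, ⁅a, b⁆ ∈ Y ∧ ⁅b, a⁆ ∈ Y := fun a ha b => by
        constructor <;> refine Subgroup.mem_sup_left ?_ <;> rw [commutatorElement_def]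
        · rw [show a * b * a⁻¹ * b⁻¹ = a * (b * a⁻¹ * b⁻¹) by group]
          exact PN.mul_mem ha (hPNn.conj_mem _ (PN.inv_mem ha) b)
        · exact PN.mul_mem (hPNn.conj_mem _ ha b) (PN.inv_mem ha)
      rintro a ((ha | ha) | ha) b ((hb | hb) | hb)
      · exact (hPc a ha b).1
      · exact (hPc a ha b).1
      · exact (hPc a ha b).1
      · exact (hPc b hb a).2
      · exact Subgroup.mem_sup_right (Subgroup.mem_sup_right
          (Subgroup.commutator_mem_commutator ha hb))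
      · rw [Set.mem_singleton_iff.mp hb, ← commutatorElement_inv]
        exact inv_mem (Subgroup.mem_sup_right (Subgroup.mem_sup_left (hyT a ha)))
      · exact (hPc b hb a).2
      · rw [Set.mem_singleton_iff.mp ha]
        exact Subgroup.mem_sup_right (Subgroup.mem_sup_left (hyT b hb))
      · rw [Set.mem_singleton_iff.mp ha, Set.mem_singleton_iff.mp hb, commutatorElement_self]
        exact one_mem _
    have hYN : Y ≤ N := sup_le hPNN (hUL.trans hLN)
    obtain ⟨j, -, hj⟩ := (Nat.dvd_prime_pow hp.out).mp (hkD ▸ Subgroup.index_dvd_of_le hYD)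
    have hr1 : Y.relIndex N ∣ p ^ j := by
      rw [← hj, ← Subgroup.relIndex_mul_index hYN]
      exact dvd_mul_right _ _
    have hr2 : Y.relIndex N ∣ Nat.card L := by
      have h1 : Y.relIndex N ∣ PN.relIndex N := Subgroup.relIndex_dvd_of_le_left N le_sup_left
      refine h1.trans (dvd_of_eq ?_)
      rw [hLcard, Subgroup.relIndex, hPNdef, Subgroup.subgroupOf,
        Subgroup.comap_map_eq_self_of_injective N.subtype_injective]
    have hNYle : N ≤ Y := Subgroup.relIndex_eq_one.mp (Nat.eq_one_of_dvd_coprimes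
      (Nat.Coprime.pow_left j (hp.out.coprime_iff_not_dvd.mpr hLp)) hr1 hr2)
    refine eq_of_le_sup_commutator hLsol hTL hTn fun l hl => ?_
    obtain ⟨a, ha, u, hu, rfl⟩ := CfsgLib.Solvable.exists_mul_of_mem_sup
      ((le_top : U ≤ ⊤).trans (Subgroup.normalizer_eq_top_iff.mpr hPNn).ge) (hNYle (hLN hl))
    have ha1 : a ∈ PN ⊓ L := ⟨ha, by simpa using L.mul_mem hl (L.inv_mem (hUL hu))⟩
    rw [hdisj, Subgroup.mem_bot] at ha1
    rwa [ha1, one_mul]
  -- a maximal normal subgroup of `G` in `N` above `PN`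
  have hPNne : PN ≠ N := by
    intro e
    refine hP₀ ?_
    have hG : IsPGroup p G := IsPGroup.of_card (n := kN + 1) (by
      rw [← N.card_mul_index, hNidx, ← e, hkN, pow_succ])
    rw [← P₀.is_maximal' (hG.to_subgroup ⊤) le_top]; infer_instance
  obtain ⟨N₀, hN₀, hmax⟩ := ((Finset.univ : Finset (Subgroup G)).filter
    fun X => X.Normal ∧ PN ≤ X ∧ X < N).exists_max_image (fun X => Nat.card X)
    ⟨PN, Finset.mem_filter.mpr ⟨Finset.mem_univ _, hPNn, le_rfl, lt_of_le_of_ne hPNN hPNne⟩⟩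
  obtain ⟨-, hN₀n, hPN₀, hN₀N⟩ := Finset.mem_filter.mp hN₀
  have hdich : ∀ X : Subgroup G, X.Normal → N₀ ≤ X → X ≤ N → X = N₀ ∨ X = N := by
    intro X hX h1 h2
    rcases eq_or_lt_of_le h2 with h | h
    · exact Or.inr h
    · exact Or.inl (Subgroup.eq_of_le_of_card_ge h1
        (hmax X (Finset.mem_filter.mpr ⟨Finset.mem_univ _, hX, hPN₀.trans h1, h⟩))).symm
  have hNN : ⁅N, N⁆ ≤ N₀ := by
    have hX : (N₀ ⊔ ⁅N, N⁆).Normal := inferInstance
    rcases hdich _ hX le_sup_left (sup_le hN₀N.le ((Subgroup.commutator_le).mpr fun a ha b hb =>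
      N.mul_mem (N.mul_mem (N.mul_mem ha hb) (N.inv_mem ha)) (N.inv_mem hb))) with h | h
    · exact h ▸ le_sup_right
    · exact absurd (eq_of_le_sup_commutator inferInstance hN₀N.le
        ((le_top : N ≤ ⊤).trans (Subgroup.normalizer_eq_top_iff.mpr hN₀n).ge) h.ge) hN₀N.ne
  set M := N₀.subgroupOf N with hM
  have hMn : M.Normal := hN₀n.subgroupOf N
  have hab : ∀ a b : N ⧸ M, a * b = b * a := by
    intro a b
    obtain ⟨a, rfl⟩ := QuotientGroup.mk'_surjective M a
    obtain ⟨b, rfl⟩ := QuotientGroup.mk'_surjective M b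
    refine commutatorElement_eq_one_iff_mul_comm.mp ?_
    rw [← map_commutatorElement]
    exact (QuotientGroup.eq_one_iff _).mpr (hNN (Subgroup.commutator_mem_commutator a.2 b.2))
  set L₀ := L ⊓ N₀ with hL₀
  have hPNL₀ : ∀ g ∈ N₀, ∃ a ∈ PN, ∃ l ∈ L₀, g = a * l := by
    intro g hg
    obtain ⟨a, ha, l, hl, rfl⟩ := hNsplit g (hN₀N.le hg)
    exact ⟨a, ha, l, ⟨hl, by simpa using N₀.mul_mem (N₀.inv_mem (hPN₀ ha)) hg⟩, rfl⟩
  have hL₀ne : L₀ ≠ L := fun e => hN₀N.ne (le_antisymm hN₀N.le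
    (hPNL ▸ sup_le hPN₀ (e ▸ inf_le_right)))
  have hL₀n : L ≤ Subgroup.normalizer (L₀ : Set G) := fun l hl =>
    CfsgLib.Solvable.mem_normalizer_of_conj_mem fun x hx =>
      ⟨L.mul_mem (L.mul_mem hl hx.1) (L.inv_mem hl), hN₀n.conj_mem x hx.2 l⟩
  -- fixed points of `y` on `N / N₀`
  have hfix : ∀ g ∈ N, ⁅y, g⁆ ∈ N₀ → g ∈ N₀ := by
    let X : Subgroup G :=
      { carrier := {g | g ∈ N ∧ ⁅y, g⁆ ∈ N₀}
        one_mem' := ⟨one_mem _, by rw [commutatorElement_one_right]; exact one_mem _⟩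
        mul_mem' := fun {a b} ha hb => ⟨N.mul_mem ha.1 hb.1, by
          rw [show ⁅y, a * b⁆ = ⁅y, a⁆ * (a * ⁅y, b⁆ * a⁻¹) by
            simp only [commutatorElement_def]; group]
          exact N₀.mul_mem ha.2 (hN₀n.conj_mem _ hb.2 a)⟩
        inv_mem' := fun {a} ha => ⟨N.inv_mem ha.1, by
          rw [show ⁅y, a⁻¹⁆ = a⁻¹ * ⁅y, a⁆⁻¹ * (a⁻¹)⁻¹ by
            simp only [commutatorElement_def]; group]
          exact hN₀n.conj_mem _ (N₀.inv_mem ha.2) _⟩ }
    have hX0 : N₀ ≤ X := fun g hg => ⟨hN₀N.le hg, by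
      rw [commutatorElement_def]
      exact N₀.mul_mem (hN₀n.conj_mem g hg y) (N₀.inv_mem hg)⟩
    have hXN : ∀ s ∈ N, ∀ g ∈ X, s * g * s⁻¹ ∈ X := by
      intro s hs g hg
      rw [show s * g * s⁻¹ = ⁅s, g⁆ * g by rw [commutatorElement_def]; group]
      exact X.mul_mem (hX0 (hNN (Subgroup.commutator_mem_commutator hs hg.1))) hg
    have hXn : X.Normal := by
      refine normal_of_gen (S := (N : Set G) ∪ {y}) ?_ ?_
      · rw [Subgroup.closure_union, Subgroup.closure_eq, ← Subgroup.zpowers_eq_closure, hNy]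
      rintro s (hs | hs) g hg
      · exact hXN s hs g hg
      · rw [Set.mem_singleton_iff.mp hs]
        refine ⟨hNn.conj_mem g hg.1 y, ?_⟩
        rw [show ⁅y, y * g * y⁻¹⁆ = y * ⁅y, g⁆ * y⁻¹ by simp only [commutatorElement_def]; group]
        exact hN₀n.conj_mem _ hg.2 y
    rcases hdich X hXn hX0 (fun g hg => hg.1) with h | h
    · exact fun g hg hgy => h ▸ (⟨hg, hgy⟩ : g ∈ X)
    · refine absurd (hLgen L₀ inf_le_left hL₀n
        (fun t ht => ⟨hyLmem t ht.1, hN₀n.conj_mem t ht.2 y⟩) fun l hl => ⟨?_, ?_⟩) hL₀ne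
      · rw [commutatorElement_def]
        exact L.mul_mem (hyLmem l hl) (L.inv_mem hl)
      · exact ((h.ge (hLN hl) : l ∈ X)).2
  set m := M.index with hm
  have hm1 : m ≠ 1 := fun e => hN₀N.ne (le_antisymm hN₀N.le fun g hg => by
    have hMt := Subgroup.index_eq_one.mp e
    exact (hMt.ge (Subgroup.mem_top (⟨g, hg⟩ : N)) :))
  have hm0 : m ≠ 0 := Subgroup.index_ne_zero_of_finite
  obtain ⟨q, hq, hqm⟩ := Nat.exists_prime_and_dvd hm1
  obtain ⟨k, hk⟩ : ∃ k, m = q ^ k := by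
    have := Fact.mk hq
    suffices hqg : IsPGroup q (N ⧸ M) from IsPGroup.iff_card.mp hqg
    let W : Subgroup (N ⧸ M) :=
      { carrier := {c | c ^ q = 1}
        one_mem' := one_pow q
        mul_mem' := fun {a b} (ha : _ = _) (hb : _ = _) => by
          show (a * b) ^ q = 1
          rw [Commute.mul_pow (hab a b), ha, hb, one_mul]
        inv_mem' := fun {a} (ha : _ = _) => by
          show a⁻¹ ^ q = 1
          rw [inv_pow, ha, inv_one] }
    let X : Subgroup G := (W.comap (QuotientGroup.mk' M)).map N.subtype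
    have hWmem : ∀ (g : G) (hg : g ∈ N), g ∈ X ↔ g ^ q ∈ N₀ := by
      intro g hg
      have hiff : (⟨g, hg⟩ : N) ∈ W.comap (QuotientGroup.mk' M) ↔ g ^ q ∈ N₀ :=
        QuotientGroup.eq_one_iff ((⟨g, hg⟩ : N) ^ q)
      constructor
      · rintro ⟨c, hc', rfl⟩
        exact hiff.mp hc'
      · exact fun h => ⟨⟨g, hg⟩, hiff.mpr h, rfl⟩
    have hXN : X ≤ N := Subgroup.map_subtype_le _
    have hXn : X.Normal := ⟨fun g hg s => by
      have hgN := hXN hg
      rw [hWmem _ (hNn.conj_mem g hgN s), conj_pow]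
      exact hN₀n.conj_mem _ ((hWmem g hgN).mp hg) s⟩
    have hX0 : N₀ ≤ X := fun g hg => (hWmem g (hN₀N.le hg)).mpr (N₀.pow_mem hg q)
    obtain ⟨c, hc'⟩ := exists_prime_orderOf_dvd_card' (G := N ⧸ M) q hqm
    rcases hdich X hXn hX0 hXN with h | h
    · exfalso
      obtain ⟨g, rfl⟩ := QuotientGroup.mk'_surjective M c
      have hgX : (g : G) ∈ X := ⟨g, by
        show (QuotientGroup.mk' M g) ^ q = 1
        rw [← hc', pow_orderOf_eq_one], rfl⟩
      rw [h] at hgX
      rw [show QuotientGroup.mk' M g = 1 from (QuotientGroup.eq_one_iff g).mpr hgX, orderOf_one]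
        at hc'
      exact hq.one_lt.ne hc'
    · intro c
      obtain ⟨g, rfl⟩ := QuotientGroup.mk'_surjective M c
      refine ⟨1, ?_⟩
      rw [pow_one, ← map_pow]
      exact (QuotientGroup.eq_one_iff _).mpr ((hWmem g g.2).mp (h.ge g.2))
  have hmod : m ≡ 1 [MOD p] := by
    let f : N →* N := (MulAut.conjNormal y : MulAut N).toMonoidHom
    have hfM : M ≤ M.comap f := fun a ha => by
      show ((MulAut.conjNormal y : MulAut N) a : G) ∈ N₀
      rw [MulAut.conjNormal_apply]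
      exact hN₀n.conj_mem _ ha y
    let F : N ⧸ M →* N ⧸ M := QuotientGroup.map M M f hfM
    have hF : ∀ a : N, F (a : N ⧸ M) = ((MulAut.conjNormal y : MulAut N) a : N ⧸ M) := fun a => rfl
    have hFi : ∀ (i : ℕ) (a : N), F^[i] (a : N ⧸ M) =
        ((MulAut.conjNormal (y ^ i) : MulAut N) a : N ⧸ M) := by
      intro i
      induction i with
      | zero => intro a; simp
      | succ i ih =>
        intro a
        rw [Function.iterate_succ_apply', ih, hF, pow_succ', map_mul, MulAut.mul_apply]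
    have hFp : ∀ c, F^[p] c = c := by
      intro c
      obtain ⟨a, rfl⟩ := QuotientGroup.mk_surjective c
      rw [hFi]
      refine (QuotientGroup.eq.mpr ?_).symm
      show ((a⁻¹ * (MulAut.conjNormal (y ^ p) : MulAut N) a : N) : G) ∈ N₀
      rw [Subgroup.coe_mul, MulAut.conjNormal_apply]
      have := hNN (Subgroup.commutator_mem_commutator (N.inv_mem a.2) hyp')
      simpa [commutatorElement_def, mul_assoc] using this
    have hpp : p - 1 + 1 = p := Nat.sub_add_cancel hp.out.pos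
    let σ : Equiv.Perm (N ⧸ M) :=
      { toFun := F
        invFun := F^[p - 1]
        left_inv := fun c => by rw [← Function.iterate_succ_apply, Nat.succ_eq_add_one, hpp, hFp]
        right_inv := fun c => by
          rw [← Function.iterate_succ_apply' F (p - 1) c, Nat.succ_eq_add_one, hpp, hFp] }
    have hσ : σ ^ p = 1 := Equiv.ext fun c => by
      rw [Equiv.Perm.coe_pow]
      exact hFp c
    have hσp : IsPGroup p (Subgroup.zpowers σ) := by
      rcases hp.out.eq_one_or_self_of_dvd _ (orderOf_dvd_of_pow_eq_one hσ) with h | h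
      · exact IsPGroup.of_card (n := 0) (by rw [Nat.card_zpowers, h, pow_zero])
      · exact IsPGroup.of_card (n := 1) (by rw [Nat.card_zpowers, h, pow_one])
    have hfixed : Nat.card (MulAction.fixedPoints (Subgroup.zpowers σ) (N ⧸ M)) = 1 := by
      rw [Nat.card_eq_one_iff_unique]
      refine ⟨⟨fun a b => Subtype.ext ?_⟩, ⟨1, fun t => ?_⟩⟩
      · suffices h : ∀ c : N ⧸ M, c ∈ MulAction.fixedPoints (Subgroup.zpowers σ) (N ⧸ M) → c = 1
          from (h _ a.2).trans (h _ b.2).symm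
        intro c hc'
        obtain ⟨g, rfl⟩ := QuotientGroup.mk_surjective c
        have h1 : F (g : N ⧸ M) = (g : N ⧸ M) := hc' ⟨σ, Subgroup.mem_zpowers σ⟩
        rw [hF] at h1
        refine (QuotientGroup.eq_one_iff g).mpr (hfix g g.2 ?_)
        have h2 := QuotientGroup.eq.mp h1.symm
        have h3 : (((g⁻¹ * (MulAut.conjNormal y : MulAut N) g : N)) : G) ∈ N₀ := h2
        rw [Subgroup.coe_mul, MulAut.conjNormal_apply] at h3
        have h4 := hN₀n.conj_mem _ h3 (g : G)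
        simpa [commutatorElement_def, mul_assoc] using h4
      · have : t.1 ∈ MulAction.stabilizer (Equiv.Perm (N ⧸ M)) (1 : N ⧸ M) :=
          (Subgroup.zpowers_le.mpr
            (show σ ∈ MulAction.stabilizer (Equiv.Perm (N ⧸ M)) (1 : N ⧸ M) from map_one F)) t.2
        exact this
    have := hσp.card_modEq_card_fixedPoints (N ⧸ M)
    rwa [hfixed] at this
  have hk0 : k ≠ 0 := fun e => hm1 (by rw [hk, e, pow_zero])
  -- the restriction to `N₀`
  have hres : (fun x : N => χ x) 1 = (n : ℂ) := hn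
  by_cases hv : ∀ g : N, g ∉ M → χ g = 0
  · obtain ⟨φ', hφ', hφ0⟩ := exists_constituent (isCharacter_res M (isCharacter_res N hc))
      (fun h => irr_one_ne_zero hχ (by simpa using congrFun h 1))
    let φ : Cfsg.IrrCharacter M := ⟨φ', hφ'⟩
    obtain ⟨e, d, hned, hnorm⟩ := res_data M hθ hres φ hφ0
    rw [norm_res_of_vanish M hθ hv] at hnorm
    have hme : m = e * e * (inertia M (φ : M → ℂ)).index := by exact_mod_cast hnorm
    set I := inertia M (φ : M → ℂ) with hI
    have hMI : M ≤ I := le_inertia M (isClassFunction_of_isIrr φ.2)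
    have hIn : I.Normal := ⟨fun a ha g => by
      rw [show g * a * g⁻¹ = (g * a * g⁻¹ * a⁻¹) * a by group]
      refine I.mul_mem (hMI ?_) ha
      show ((g * a * g⁻¹ * a⁻¹ : N) : G) ∈ N₀
      exact hNN (by simpa [commutatorElement_def] using
        Subgroup.commutator_mem_commutator g.2 a.2)⟩
    have hIg : (I.map N.subtype).Normal := by
      refine ⟨fun u hu g => ?_⟩
      obtain ⟨w, hw, rfl⟩ := hu
      refine ⟨(MulAut.conjNormal g : MulAut N) w, ?_, MulAut.conjNormal_apply g w⟩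
      let eM : M ≃* M :=
        { toFun := fun x => ⟨(MulAut.conjNormal g : MulAut N) x.1, by
            show ((MulAut.conjNormal g : MulAut N) x.1 : G) ∈ N₀
            rw [MulAut.conjNormal_apply]; exact hN₀n.conj_mem _ x.2 g⟩
          invFun := fun x => ⟨(MulAut.conjNormal g : MulAut N).symm x.1, by
            show ((MulAut.conjNormal g : MulAut N).symm x.1 : G) ∈ N₀
            rw [MulAut.conjNormal_symm_apply]
            simpa using hN₀n.conj_mem _ x.2 g⁻¹⟩
          left_inv := fun x => Subtype.ext (MulEquiv.symm_apply_apply _ _)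
          right_inv := fun x => Subtype.ext (MulEquiv.apply_symm_apply _ _)
          map_mul' := fun x x' => Subtype.ext (map_mul (MulAut.conjNormal g : MulAut N) x.1 x'.1) }
      have h2 : Cfsg.classInner (fun x : M => χ ((x : N) : G)) ((φ : M → ℂ) ∘ eM) ≠ 0 := by
        have heq : (fun x : M => χ ((x : N) : G)) = (fun x : M => χ ((x : N) : G)) ∘ eM := by
          funext x
          show χ ((x : N) : G) = χ (((MulAut.conjNormal g : MulAut N) x.1 : N) : G)
          rw [MulAut.conjNormal_apply, isClassFunction_of_isCharacter hc]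
        rw [heq, classInner_comp_mulEquiv eM]
        exact hφ0
      obtain ⟨h, hh⟩ := exists_conj_of_constituents M hθ φ.2
        ((isIrr_comp_mulEquiv_iff eM).mpr φ.2) hφ0 h2
      have hwh : conjFun M w ((φ : M → ℂ) ∘ eM) = (φ : M → ℂ) ∘ eM := by
        rw [← hh, conjFun_conjFun,
          show h * w = (h * w * h⁻¹) * h by group, ← conjFun_conjFun,
          (mem_inertia M).mp (hIn.conj_mem w hw h)]
      refine (mem_inertia M).mpr ?_
      funext x
      obtain ⟨z, rfl⟩ := eM.surjective x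
      have h3 := congrFun hwh z
      simp only [Function.comp_apply, conjFun_apply] at h3
      rw [← h3, conjFun_apply]
      refine congrArg (φ : M → ℂ) (Subtype.ext ?_)
      show (MulAut.conjNormal g : MulAut N) w * (MulAut.conjNormal g : MulAut N) z.1 *
        ((MulAut.conjNormal g : MulAut N) w)⁻¹ = (MulAut.conjNormal g : MulAut N) (w * z.1 * w⁻¹)
      rw [map_mul, map_mul, map_inv]
    have hI0 : N₀ ≤ I.map N.subtype := fun g hg => ⟨⟨g, hN₀N.le hg⟩, hMI hg, rfl⟩
    rcases hdich _ hIg hI0 (Subgroup.map_subtype_le _) with h | h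
    · have hIM : I = M := by
        rw [hM, ← h, Subgroup.subgroupOf, Subgroup.comap_map_eq_self_of_injective N.subtype_injective]
      rw [hIM] at hned
      refine hgood m ((isPrimePow_nat_iff _).mpr ⟨q, k, hq, Nat.pos_of_ne_zero hk0, hk.symm⟩)
        (by rw [hned]; exact Dvd.dvd.mul_right (dvd_mul_left m e) d) (Or.inr (Or.inl ?_))
      exact (Nat.modEq_iff_dvd' (Nat.pos_of_ne_zero hm0)).mp hmod.symm
    · have hIT : I = ⊤ := by
        refine eq_top_iff.mpr fun a _ => ?_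
        obtain ⟨b, hb, hba⟩ := h.ge a.2
        exact (Subtype.ext hba : b = a) ▸ hb
      rw [hIT, Subgroup.index_top, mul_one] at hme hned
      have he1 : 1 < e := by
        rcases Nat.lt_or_ge 1 e with h' | h'
        · exact h'
        · interval_cases e <;> omega
      obtain ⟨i, -, hi⟩ := (Nat.dvd_prime_pow hq).mp (hk ▸ hme.symm ▸ dvd_mul_right e e)
      have hipos : 0 < i := Nat.pos_of_ne_zero fun e' => by rw [e', pow_zero] at hi; omega
      refine hgood e ((isPrimePow_nat_iff _).mpr ⟨q, i, hq, hipos, hi.symm⟩)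
        (by rw [hned]; exact dvd_mul_right e d) (Or.inr ?_)
      have h1 : p ∣ e * e - 1 := by
        have := (Nat.modEq_iff_dvd' (Nat.pos_of_ne_zero hm0)).mp hmod.symm
        rwa [hme] at this
      obtain ⟨a, rfl⟩ : ∃ a, e = a + 1 := ⟨e - 1, by omega⟩
      rw [show (a + 1) * (a + 1) - 1 = a * (a + 1 + 1) by
        rw [show (a + 1) * (a + 1) = a * (a + 1 + 1) + 1 by ring, Nat.add_sub_cancel]] at h1
      rcases hp.out.dvd_mul.mp h1 with h' | h'
      · exact Or.inl (by simpa using h')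
      · exact Or.inr h'
  push Not at hv
  -- the restriction to `N₀` is irreducible
  have hres₀ : Cfsg.IsIrrCharacter M (fun x : M => χ ((x : N) : G)) := by
    refine isIrr_res_of_gen M hab hθ fun X hMX hX => ?_
    set S : Set G := {g | g ∈ N ∧ χ g ≠ 0}
    have hXg : (N₀ ⊔ Subgroup.normalClosure S).Normal := inferInstance
    have hle : N₀ ⊔ Subgroup.normalClosure S ≤ X.map N.subtype := by
      refine sup_le (fun g hg => ⟨⟨g, hN₀N.le hg⟩, hMX hg, rfl⟩) ?_
      refine (Subgroup.closure_le _).mpr fun g hg => ?_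
      obtain ⟨a, ha, hag⟩ := Group.mem_conjugatesOfSet_iff.mp hg
      obtain ⟨c, rfl⟩ := isConj_iff.mp hag
      refine ⟨⟨c * a * c⁻¹, hNn.conj_mem a ha.1 c⟩, hX _ ?_, rfl⟩
      show χ (c * a * c⁻¹) ≠ 0
      rw [isClassFunction_of_isCharacter hc]
      exact ha.2
    rcases hdich _ hXg le_sup_left (hle.trans (Subgroup.map_subtype_le _)) with h | h
    · exfalso
      obtain ⟨g, hgM, hg⟩ := hv
      exact hgM (h.le (Subgroup.mem_sup_right (Subgroup.subset_normalClosure ⟨g.2, hg⟩)) :)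
    · refine eq_top_iff.mpr fun a _ => ?_
      obtain ⟨b, hb, hba⟩ := hle (h.ge a.2)
      exact (Subtype.ext hba : b = a) ▸ hb
  have hres₁ : Cfsg.IsIrrCharacter N₀ (fun x : N₀ => χ x) :=
    (isIrr_comp_mulEquiv_iff (Subgroup.subgroupOfEquivOfLe hN₀N.le)).mp hres₀
  obtain ⟨S, hS⟩ := (IsPGroup.of_card (n := hyp.choose)
    (by rw [Nat.card_zpowers]; exact hyp.choose_spec) : IsPGroup p (Subgroup.zpowers y)).exists_le_sylow
  have hySyl : y ∈ (S : Subgroup G) := hS (Subgroup.mem_zpowers y)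
  set G₀ := N₀ ⊔ (S : Subgroup G) with hG₀
  have hG₀top : G₀ ≠ ⊤ := by
    intro e
    refine hN₀N.ne (le_antisymm hN₀N.le fun g hg => ?_)
    obtain ⟨a, ha, s, hs, rfl⟩ := CfsgLib.Solvable.exists_mul_of_mem_sup
      ((le_top : (S : Subgroup G) ≤ ⊤).trans (Subgroup.normalizer_eq_top_iff.mpr hN₀n).ge)
      (e.ge (Subgroup.mem_top g) : g ∈ N₀ ⊔ (S : Subgroup G))
    refine N₀.mul_mem ha (hPN₀ (hpmem s (by simpa using N.mul_mem (N.inv_mem (hN₀N.le ha)) hg) ?_))
    obtain ⟨j, hj⟩ := IsPGroup.iff_orderOf.mp S.isPGroup' ⟨s, hs⟩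
    exact ⟨j, by rwa [Subgroup.orderOf_mk] at hj⟩
  have hirr₀ : Cfsg.IsIrrCharacter G₀ (fun x : G₀ => χ x) := isIrr_res_mid le_sup_left hc hres₁
  have hSn : ((S.subtype (le_sup_right : (S : Subgroup G) ≤ G₀) : Sylow p G₀) : Subgroup G₀).Normal :=
    ih G₀ (lt_of_le_of_ne G₀.card_le_card_group fun e => hG₀top (G₀.eq_top_of_card_eq e))
      inferInstance _ n hirr₀ (fun g h => Subtype.ext (hfaith _ h)) hn hgood _
  -- `y` centralizes `L₀`
  have hyL₀ : ∀ a ∈ L₀, y * a = a * y := by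
    intro a ha
    refine commutatorElement_eq_one_iff_mul_comm.mp (hpL _ ?_ ?_)
    · rw [commutatorElement_def]
      exact L.mul_mem (hyLmem a ha.1) (L.inv_mem ha.1)
    · have hcm : ⁅y, a⁆ ∈ (S : Subgroup G) := by
        have h1 := hSn.conj_mem ⟨y⁻¹, Subgroup.mem_sup_right (inv_mem hySyl)⟩
          (Subgroup.mem_subgroupOf.mpr (inv_mem hySyl)) ⟨a, Subgroup.mem_sup_left ha.2⟩
        have h2 : a * y⁻¹ * a⁻¹ ∈ (S : Subgroup G) := Subgroup.mem_subgroupOf.mp h1
        rw [commutatorElement_def]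
        simpa [mul_assoc] using mul_mem hySyl h2
      obtain ⟨j, hj⟩ := IsPGroup.iff_orderOf.mp S.isPGroup' ⟨_, hcm⟩
      exact ⟨j, by rwa [Subgroup.orderOf_mk] at hj⟩
  have hconjy : ∀ a ∈ L₀, y * a * y⁻¹ = a := fun a ha => by
    rw [hyL₀ a ha, mul_inv_cancel_right]
  -- `L₀` is central in `L`
  have hcentral : L ⊓ Subgroup.centralizer (L₀ : Set G) = L := by
    refine hLgen _ inf_le_left ?_ ?_ ?_
    · exact CfsgLib.Solvable.le_normalizer_inf Subgroup.le_normalizer
        (hL₀n.trans (CfsgLib.Solvable.normalizer_le_normalizer_centralizer L₀))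
    · intro t ht
      refine ⟨hyLmem t ht.1, Subgroup.mem_centralizer_iff.mpr fun a ha => ?_⟩
      calc a * (y * t * y⁻¹) = (y * a * y⁻¹) * (y * t * y⁻¹) := by rw [hconjy a ha]
        _ = y * (a * t) * y⁻¹ := by group
        _ = y * (t * a) * y⁻¹ := by rw [Subgroup.mem_centralizer_iff.mp ht.2 a ha]
        _ = (y * t * y⁻¹) * (y * a * y⁻¹) := by group
        _ = (y * t * y⁻¹) * a := by rw [hconjy a ha]
    · intro l hl
      refine ⟨by rw [commutatorElement_def]; exact L.mul_mem (hyLmem l hl) (L.inv_mem hl),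
        Subgroup.mem_centralizer_iff.mpr fun a ha => ?_⟩
      have ha0 : l⁻¹ * a * l ∈ L₀ := by
        have := (hL₀n (L.inv_mem hl) a).mp ha
        rwa [inv_inv] at this
      have h1 : (y * l * y⁻¹) * (l⁻¹ * a * l) * (y * l * y⁻¹)⁻¹ = a := by
        conv_lhs => rw [← hconjy _ ha0]
        rw [show y * l * y⁻¹ * (y * (l⁻¹ * a * l) * y⁻¹) * (y * l * y⁻¹)⁻¹ = y * a * y⁻¹ by group,
          hconjy a ha]
      calc a * ⁅y, l⁆
          = ((y * l * y⁻¹) * (l⁻¹ * a * l) * (y * l * y⁻¹)⁻¹) * ⁅y, l⁆ := by rw [h1]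
        _ = ⁅y, l⁆ * a := by rw [commutatorElement_def]; group
  have hcomm₀ : ∀ l ∈ L, ∀ a ∈ L₀, l * a = a * l := fun l hl a ha =>
    (Subgroup.mem_centralizer_iff.mp (hcentral.ge hl).2 a ha).symm
  -- `L` centralizes `PN`
  have hPNn₀ : (PN.subgroupOf N₀).Normal := hPNn.subgroupOf N₀
  have hLPN : L ⊓ Subgroup.centralizer (PN : Set G) = L := by
    set C := L ⊓ Subgroup.centralizer (PN : Set G) with hC
    have hCn : ∀ s : G, (∀ l ∈ L, s * l * s⁻¹ ∈ L) → ∀ c ∈ C, s * c * s⁻¹ ∈ C := by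
      intro s hsL c hc'
      refine ⟨hsL c hc'.1, Subgroup.mem_centralizer_iff.mpr fun a ha => ?_⟩
      have h1 : s⁻¹ * a * s ∈ PN := by simpa using hPNn.conj_mem a ha s⁻¹
      calc a * (s * c * s⁻¹) = s * ((s⁻¹ * a * s) * c) * s⁻¹ := by group
        _ = s * (c * (s⁻¹ * a * s)) * s⁻¹ := by rw [Subgroup.mem_centralizer_iff.mp hc'.2 _ h1]
        _ = (s * c * s⁻¹) * a := by group
    refine hLgen C inf_le_left (fun l hl => CfsgLib.Solvable.mem_normalizer_of_conj_mem
      (hCn l fun x hx => L.mul_mem (L.mul_mem hl hx) (L.inv_mem hl))) (hCn y hyLmem) ?_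
    intro l hl
    suffices hdec : ∃ a ∈ L₀, a⁻¹ * l ∈ C by
      obtain ⟨a, ha, hac⟩ := hdec
      have e : ⁅y, l⁆ = a * ⁅y, a⁻¹ * l⁆ * a⁻¹ := by
        have h1 : y * l * y⁻¹ = a * (y * (a⁻¹ * l) * y⁻¹) := by
          rw [show y * l * y⁻¹ = (y * a * y⁻¹) * (y * (a⁻¹ * l) * y⁻¹) by group, hconjy a ha]
        rw [commutatorElement_def, h1, commutatorElement_def]; group
      rw [e]
      refine hCn a (fun x hx => L.mul_mem (L.mul_mem ha.1 hx) (L.inv_mem ha.1)) _ ?_
      rw [commutatorElement_def]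
      exact C.mul_mem (hCn y hyLmem _ hac) (C.inv_mem hac)
    obtain ⟨lam', hlam', hlam0⟩ := exists_constituent
      (isCharacter_res (PN.subgroupOf N₀) (isCharacter_res N₀ hc))
      (fun h => irr_one_ne_zero hχ (by simpa using congrFun h 1))
    let eP : (PN.subgroupOf N₀) ≃* PN := Subgroup.subgroupOfEquivOfLe hPN₀
    let el : (PN.subgroupOf N₀) ≃* (PN.subgroupOf N₀) :=
      (eP.trans (MulAut.conjNormal l : MulAut PN)).trans eP.symm
    have hel : ∀ x, (((el x : PN.subgroupOf N₀) : N₀) : G) = l * ((x : N₀) : G) * l⁻¹ := fun x =>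
      (MulAut.conjNormal_apply l (eP x)).trans rfl
    have h2 : Cfsg.classInner (fun x : PN.subgroupOf N₀ => χ ((x : N₀) : G)) (lam' ∘ el) ≠ 0 := by
      have heq : (fun x : PN.subgroupOf N₀ => χ ((x : N₀) : G)) =
          (fun x : PN.subgroupOf N₀ => χ ((x : N₀) : G)) ∘ el := by
        funext x
        show χ ((x : N₀) : G) = χ (((el x : PN.subgroupOf N₀) : N₀) : G)
        rw [hel, isClassFunction_of_isCharacter hc]
      rw [heq, classInner_comp_mulEquiv el]
      exact hlam0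
    obtain ⟨b, hb⟩ := exists_conj_of_constituents (PN.subgroupOf N₀) hres₁ hlam'
      ((isIrr_comp_mulEquiv_iff el).mpr hlam') hlam0 h2
    obtain ⟨x₀, hx₀, a, ha, hba⟩ := hPNL₀ b b.2
    have hlam_eq : ∀ z : PN.subgroupOf N₀, ∀ w w' : PN.subgroupOf N₀,
        ((w : N₀) : G) = a * ((z : N₀) : G) * a⁻¹ →
        ((w' : N₀) : G) = l * ((z : N₀) : G) * l⁻¹ → lam' w = lam' w' := by
      intro z w w' hw hw'
      have h3 := congrFun hb z
      rw [conjFun_apply] at h3
      rw [show w' = el z from Subtype.ext (Subtype.ext (hw'.trans (hel z).symm))]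
      refine Eq.trans ?_ h3
      congr 1
      refine Subtype.ext (Subtype.ext ?_)
      have hzP : a * ((z : N₀) : G) * a⁻¹ ∈ PN := hPNn.conj_mem _ z.2 a
      rw [hw]
      show a * ((z : N₀) : G) * a⁻¹ = (b : G) * ((z : N₀) : G) * (b : G)⁻¹
      rw [hba, show x₀ * a * ((z : N₀) : G) * (x₀ * a)⁻¹ = x₀ * (a * ((z : N₀) : G) * a⁻¹) * x₀⁻¹ by
        group, hPNab x₀ hx₀ _ hzP, mul_inv_cancel_right]
    refine ⟨a, ha, L.mul_mem (L.inv_mem ha.1) hl, Subgroup.mem_centralizer_iff.mpr fun z hz => ?_⟩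
    set c := a⁻¹ * l with hc'
    have hcL : c ∈ L := L.mul_mem (L.inv_mem ha.1) hl
    refine (commutatorElement_eq_one_iff_mul_comm.mp (hresPN _ ?_ fun μ h0 w hw => ?_)).symm
    · rw [commutatorElement_def]
      exact PN.mul_mem (hPNn.conj_mem z hz c) (PN.inv_mem hz)
    -- every constituent is fixed by `c`
    have h4 : Cfsg.classInner (fun x : PN.subgroupOf N₀ => χ ((x : N₀) : G))
        ((μ : PN → ℂ) ∘ eP) ≠ 0 := by
      rw [show (fun x : PN.subgroupOf N₀ => χ ((x : N₀) : G)) = (fun x : PN => χ x) ∘ eP from rfl,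
        classInner_comp_mulEquiv eP]
      exact h0
    obtain ⟨b', hb'⟩ := exists_conj_of_constituents (PN.subgroupOf N₀) hres₁ hlam'
      ((isIrr_comp_mulEquiv_iff eP).mpr μ.2) hlam0 h4
    obtain ⟨x₁, hx₁, a₁, ha₁, hba₁⟩ := hPNL₀ b' b'.2
    have hμ : ∀ (z' : PN) (v : PN.subgroupOf N₀),
        ((v : N₀) : G) = a₁ * (z' : G) * a₁⁻¹ → (μ : PN → ℂ) z' = lam' v := by
      intro z' v hv'
      have h5 := congrFun hb' (eP.symm z')
      rw [conjFun_apply, Function.comp_apply, MulEquiv.apply_symm_apply] at h5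
      rw [← h5]
      congr 1
      refine Subtype.ext (Subtype.ext ?_)
      rw [hv']
      show (b' : G) * (z' : G) * (b' : G)⁻¹ = _
      rw [hba₁, show x₁ * a₁ * (z' : G) * (x₁ * a₁)⁻¹ = x₁ * (a₁ * (z' : G) * a₁⁻¹) * x₁⁻¹ by
        group, hPNab x₁ hx₁ _ (hPNn.conj_mem _ z'.2 a₁), mul_inv_cancel_right]
    have hm' := linear_map_mul (isCharacter_of_isIrr μ.2) (hlinPN μ h0)
    have hw' : w = ⟨c * z * c⁻¹, hPNn.conj_mem z hz c⟩ * (⟨z, hz⟩ : PN)⁻¹ := Subtype.ext (by
      rw [hw, commutatorElement_def]; rfl)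
    suffices hfix' : (μ : PN → ℂ) ⟨c * z * c⁻¹, hPNn.conj_mem z hz c⟩ = (μ : PN → ℂ) ⟨z, hz⟩ by
      rw [hw', hm', hfix', ← hm', mul_inv_cancel, hlinPN μ h0]
    have hmemN : ∀ v ∈ PN, v ∈ N₀ := fun v hv' => hPN₀ hv'
    have hz1 : a₁ * z * a₁⁻¹ ∈ PN := hPNn.conj_mem z hz a₁
    have hz2 : a⁻¹ * (a₁ * z * a₁⁻¹) * a ∈ PN := by simpa using hPNn.conj_mem _ hz1 a⁻¹
    have hz3 : a₁ * (c * z * c⁻¹) * a₁⁻¹ ∈ PN :=
      hPNn.conj_mem _ (hPNn.conj_mem z hz c) a₁
    rw [hμ ⟨c * z * c⁻¹, hPNn.conj_mem z hz c⟩ ⟨⟨_, hmemN _ hz3⟩, hz3⟩ rfl,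
      hμ ⟨z, hz⟩ ⟨⟨_, hmemN _ hz1⟩, hz1⟩ rfl]
    refine (hlam_eq ⟨⟨_, hmemN _ hz2⟩, hz2⟩ ⟨⟨_, hmemN _ hz1⟩, hz1⟩ ⟨⟨_, hmemN _ hz3⟩, hz3⟩
      ?_ ?_).symm
    · show a₁ * z * a₁⁻¹ = a * (a⁻¹ * (a₁ * z * a₁⁻¹) * a) * a⁻¹
      group
    · show a₁ * (c * z * c⁻¹) * a₁⁻¹ = l * (a⁻¹ * (a₁ * z * a₁⁻¹) * a) * l⁻¹
      have e1 : l * a⁻¹ = c := by
        rw [hc', hcomm₀ l hl a⁻¹ (L₀.inv_mem ha)]
      have e2 : c * a₁ = a₁ * c := hcomm₀ c hcL a₁ ha₁
      calc a₁ * (c * z * c⁻¹) * a₁⁻¹ = (a₁ * c) * z * (a₁ * c)⁻¹ := by group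
        _ = (c * a₁) * z * (c * a₁)⁻¹ := by rw [e2]
        _ = ((l * a⁻¹) * a₁) * z * ((l * a⁻¹) * a₁)⁻¹ := by rw [e1]
        _ = l * (a⁻¹ * (a₁ * z * a₁⁻¹) * a) * l⁻¹ := by group
  -- `N₀` is abelian, so `χ` is linear
  have hN₀ab : ∀ a b : N₀, a * b = b * a := by
    intro a b
    obtain ⟨x₁, hx₁, l₁, hl₁, h1⟩ := hPNL₀ a a.2
    obtain ⟨x₂, hx₂, l₂, hl₂, h2⟩ := hPNL₀ b b.2
    have hlx : ∀ l ∈ L₀, ∀ x ∈ PN, l * x = x * l := fun l hl x hx =>
      (Subgroup.mem_centralizer_iff.mp (hLPN.ge hl.1).2 x hx).symm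
    refine Subtype.ext ?_
    rw [Subgroup.coe_mul, Subgroup.coe_mul, h1, h2]
    calc x₁ * l₁ * (x₂ * l₂) = x₁ * (l₁ * x₂) * l₂ := by group
      _ = x₁ * x₂ * (l₁ * l₂) := by rw [hlx l₁ hl₁ x₂ hx₂]; group
      _ = x₂ * x₁ * (l₂ * l₁) := by rw [hPNab x₁ hx₁ x₂ hx₂, hcomm₀ l₁ hl₁.1 l₂ hl₂]
      _ = x₂ * (x₁ * l₂) * l₁ := by group
      _ = x₂ * l₂ * (x₁ * l₁) := by rw [← hlx l₂ hl₂ x₁ hx₁]; group
  have hlin1 : χ 1 = 1 := irr_one_of_comm hN₀ab hres₁
  have hn1 : n = 1 := by exact_mod_cast hn.symm.trans hlin1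
  refine hP₀ ⟨fun x hx g => ?_⟩
  have : g * x * g⁻¹ * x⁻¹ = 1 := hfaith _ (by
    have hm' := linear_map_mul hc hlin1
    rw [hm', isClassFunction_of_isCharacter hc, ← hm', mul_inv_cancel])
  rwa [mul_inv_eq_one.mp this]

/-- The theorem. -/
theorem irr_normal (p : ℕ) [Fact p.Prime] : ∀ m : ℕ, IrrBelow.{u} p m := by
  intro m
  induction m with
  | zero => intro G _ _ h; exact absurd h (Nat.not_lt_zero _)
  | succ m ih =>
    intro G _ _ hlt hsol χ n hχ hfaith hn hgood P
    rcases Nat.lt_succ_iff_lt_or_eq.mp hlt with h | h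
    · exact ih G h hsol χ n hχ hfaith hn hgood P
    · exact irr_step (h ▸ ih) hsol hχ hfaith hn hgood P

end CfsgLib.CharNormal
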