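import Cfsg.Agent.Lib.Char.Extension
import Cfsg.Agent.Lib.Char.Ito
import Cfsg.Agent.Lib.Char.PermLemma
import Cfsg.Agent.Lib.CharNormal.Galois
import Mathlib.GroupTheory.IndexNormal

/-!
Characters fixed by an automorphism inverting odd roots of unity, above a normal subgroup of odd index.
-/

set_option autoImplicit false

noncomputable section

namespace CfsgLib.OddGaloisFixed

open Cfsg CfsgLib.Char CfsgLib.CharNormal
open scoped ComplexConjugate Classical

universe u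

/-- `σ` inverts the roots of unity of odd order attached to elements of `G`. -/
def InvertsOdd (σ : ℂ ≃+* ℂ) (G : Type u) [Group G] : Prop :=
  ∀ (g : G) (z : ℂ), z ^ orderOf g = 1 → Odd (orderOf z) → σ z = z⁻¹

theorem InvertsOdd.subgroup {σ : ℂ ≃+* ℂ} {G : Type u} [Group G] (h : InvertsOdd σ G) (H : Subgroup G) :
    InvertsOdd σ H := fun g z hz hodd => h (g : G) z (by rwa [Subgroup.orderOf_coe]) hodd

theorem InvertsOdd.quotient {σ : ℂ ≃+* ℂ} {G : Type u} [Group G] (h : InvertsOdd σ G)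
    (N : Subgroup G) [N.Normal] : InvertsOdd σ (G ⧸ N) := by
  intro q z hz hodd
  induction q using QuotientGroup.induction_on with
  | H g =>
    refine h g z ?_ hodd
    obtain ⟨c, hc⟩ := orderOf_map_dvd (QuotientGroup.mk' N) g
    rw [hc, pow_mul, show z ^ orderOf (QuotientGroup.mk' N g) = 1 from hz, one_pow]

variable {σ : ℂ ≃+* ℂ} {G : Type u} [Group G] [Fintype G]

theorem odd_of_dvd {a b : ℕ} (h : a ∣ b) (hb : Odd b) : Odd a := Odd.of_dvd_nat hb h

/-- A `σ`-fixed irreducible character of a group of odd order is trivial. -/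
theorem fixed_eq_one {H : Type u} [Group H] [Finite H] (hσ : InvertsOdd σ H) (hodd : Odd (Nat.card H))
    {β : H → ℂ} (hβ : IsIrrCharacter H β) (hfix : ∀ h, σ (β h) = β h) : β = fun _ => 1 := by
  have hreal : irrConj (⟨β, hβ⟩ : IrrCharacter H) = ⟨β, hβ⟩ := by
    rw [irrConj_eq_self_iff]
    intro g
    obtain ⟨d, ρ, hρ⟩ := isCharacter_of_isIrr hβ
    obtain ⟨z, hz, hsum⟩ := exists_roots_char ρ g
    have hg : σ (β g) = conj (β g) := by
      rw [← hρ, hsum, map_sum, map_sum]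
      refine Finset.sum_congr rfl fun i _ => ?_
      rw [hσ g (z i) (hz i) (odd_of_dvd ((orderOf_dvd_of_pow_eq_one (hz i)).trans
        (orderOf_dvd_natCard g)) hodd),
        Complex.inv_eq_conj (norm_eq_one_of_pow_eq_one' (orderOf_pos g).ne' (hz i))]
    rw [hfix g] at hg
    exact Complex.conj_eq_iff_im.mp hg.symm
  have h := congrArg Subtype.val (irr_real_eq_one hodd hreal)
  exact h.trans (funext fun g => irrOne_apply g)

/-- A linear character trivial on a normal subgroup of odd index is inverted. -/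
theorem linear_inverted (hσ : InvertsOdd σ G) (N : Subgroup G) [N.Normal] (hodd : Odd N.index)
    (f : G →* ℂˣ) (hf : ∀ n ∈ N, f n = 1) (g : G) :
    σ ((f g : ℂˣ) : ℂ) = ((f g : ℂˣ) : ℂ)⁻¹ := by
  have hpow : ∀ m : ℕ, g ^ m ∈ N → ((f g : ℂˣ) : ℂ) ^ m = 1 := fun m hm => by
    rw [← Units.val_pow_eq_pow_val, ← map_pow, hf _ hm, Units.val_one]
  exact hσ g _ (hpow _ (by rw [pow_orderOf_eq_one]; exact one_mem N))
    (odd_of_dvd (orderOf_dvd_of_pow_eq_one (hpow _ (N.pow_index_mem g))) hodd)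

section invariant

variable (N : Subgroup G) [hN : N.Normal] [Fintype N]

/-- If `θ` extends, then it has exactly one fixed irreducible character over it, an extension. -/
theorem unique_of_extends (hσ : InvertsOdd σ G) (hodd : Odd N.index) {θ : N → ℂ}
    (hθ : IsIrrCharacter N θ) (hfix : ∀ n, σ (θ n) = θ n) {χ₀ : G → ℂ} (hχ₀ : IsIrrCharacter G χ₀)
    (hext : ∀ n : N, χ₀ n = θ n) :
    ∃ χ : G → ℂ, IsIrrCharacter G χ ∧ (∀ n : N, χ n = θ n) ∧ (∀ g, σ (χ g) = χ g) ∧
      ∀ ψ : G → ℂ, IsIrrCharacter G ψ → classInner (fun n : N => ψ n) θ ≠ 0 →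
        (∀ g, σ (ψ g) = ψ g) → ψ = χ := by
  have hres0 : (fun n : N => χ₀ n) = θ := funext hext
  obtain ⟨lam, hlam, hlam1, hlamN, hmul⟩ := exists_linear_eq_mul_of_extensions N
    (isCharacter_of_isIrr hχ₀) (isCharacter_ringEquiv σ (isCharacter_of_isIrr hχ₀))
    (hres0.symm ▸ hθ) (fun n => by simp only [Function.comp_apply, hext, hfix])
  obtain ⟨f, hf⟩ := exists_linHom hlam hlam1
  have hfN : ∀ n ∈ N, f n = 1 := fun n hn => Units.ext (by
    rw [← linFun_apply, congrFun hf n, hlamN n hn]; rfl)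
  obtain ⟨c, hc⟩ : ∃ c, N.index + 1 = 2 * c := by
    obtain ⟨e, he⟩ := hodd
    exact ⟨e + 1, by omega⟩
  set μ := f ^ c with hμ
  have hμN : ∀ n ∈ N, μ n = 1 := fun n hn => by
    rw [hμ, MonoidHom.pow_apply, hfN n hn, one_pow]
  have hμ2 : ∀ g : G, μ g * μ g = f g := fun g => by
    rw [hμ, MonoidHom.pow_apply, ← pow_add, ← two_mul, ← hc, pow_succ, ← map_pow,
      hfN _ (N.pow_index_mem g), one_mul]
  set χ := χ₀ * linFun μ with hχdef
  have hχ : IsIrrCharacter G χ := isIrr_mul_linear hχ₀ (isCharacter_linFun μ).1 (isCharacter_linFun μ).2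
  have hχN : ∀ n : N, χ n = θ n := fun n => by
    rw [hχdef, Pi.mul_apply, linFun_apply, hμN _ n.2, hext n, Units.val_one, mul_one]
  have hχfix : ∀ g, σ (χ g) = χ g := fun g => by
    have h1 : σ (χ₀ g) = χ₀ g * ((f g : ℂˣ) : ℂ) := by
      rw [← linFun_apply f g, congrFun hf g]
      exact congrFun hmul g
    rw [hχdef, Pi.mul_apply, linFun_apply, map_mul, h1, linear_inverted hσ N hodd μ hμN g, ← hμ2 g,
      Units.val_mul]
    field_simp
  refine ⟨χ, hχ, hχN, hχfix, fun ψ hψ h0 hψfix => ?_⟩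
  have hres : (fun n : N => χ n) = θ := funext hχN
  have hresirr : IsIrrCharacter N (fun n : N => χ n) := hres.symm ▸ hθ
  obtain ⟨β, hβ, hψeq⟩ := exists_eq_mul_comp_mk' N (isCharacter_of_isIrr hχ) hresirr hψ (hres.symm ▸ h0)
  have hβfix : σ ∘ β = β := by
    refine mul_comp_mk'_injective N (isCharacter_of_isIrr hχ) hresirr (isIrr_ringEquiv σ hβ) hβ
      (funext fun g => ?_)
    have h := hψfix g
    rw [hψeq, Pi.mul_apply, Function.comp_apply, map_mul, hχfix] at h
    exact h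
  have hβ1 : β = fun _ => 1 := fixed_eq_one (hσ.quotient N)
    (by rw [← Subgroup.index_eq_card]; exact hodd) hβ fun q => congrFun hβfix q
  rw [hψeq, hβ1]
  funext g
  simp

end invariant

/-- Extendibility over a `q`-quotient, `q` odd. -/
theorem extends_of_qgroup (q : ℕ) [Fact q.Prime] (m : ℕ) :
    ∀ (G : Type u) [Group G] [Fintype G] (N : Subgroup G) [N.Normal] [Fintype N],
      N.index = m → IsPGroup q (G ⧸ N) → Odd N.index → InvertsOdd σ G →
      ∀ θ : N → ℂ, IsIrrCharacter N θ → (∀ n, σ (θ n) = θ n) → (∀ g, conjFun N g θ = θ) →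
      ∃ χ : G → ℂ, IsIrrCharacter G χ ∧ ∀ n : N, χ n = θ n := by
  induction m using Nat.strong_induction_on with
  | _ m ih =>
  intro G _ _ N _ _ hm hq hodd hσ θ hθ hfix hinv
  obtain ⟨a, ha⟩ := IsPGroup.iff_card.mp hq
  by_cases ha0 : a = 0
  · have hcyc : IsCyclic (G ⧸ N) := by
      have : Subsingleton (G ⧸ N) := (Nat.card_eq_one_iff_unique.mp (by rw [ha, ha0, pow_zero])).1
      exact isCyclic_of_subsingleton
    exact extend_of_cyclic N hcyc hθ fun g n => congrFun (hinv g) n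
  obtain ⟨Rb, hRb⟩ := Sylow.exists_subgroup_card_pow_prime q
    (show q ^ (a - 1) ∣ Nat.card (G ⧸ N) by rw [ha]; exact pow_dvd_pow q (a.sub_le 1))
  have hRbi : Rb.index = q := by
    have h := Rb.card_mul_index
    rw [hRb, ha, show a = a - 1 + 1 by omega, pow_succ] at h
    exact Nat.eq_of_mul_eq_mul_left (pow_pos (Fact.out : q.Prime).pos _) h
  have : Rb.Normal := Subgroup.normal_of_index_eq_minFac_card (by
    rw [hRbi, ha, Nat.Prime.pow_minFac Fact.out ha0])
  set R := Rb.comap (QuotientGroup.mk' N) with hR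
  have hRidx : R.index = q := by
    rw [hR, Subgroup.index_comap_of_surjective _ (QuotientGroup.mk'_surjective N), hRbi]
  have hNR : N ≤ R := (QuotientGroup.ker_mk' N).ge.trans (MonoidHom.ker_le_comap _ _)
  have hrel : N.relIndex R * q = N.index := by rw [← hRidx, Subgroup.relIndex_mul_index hNR]
  let N' := N.subgroupOf R
  have := Fintype.ofFinite R
  have := Fintype.ofFinite N'
  let e : N' ≃* N := Subgroup.subgroupOfEquivOfLe hNR
  have hlt : N.relIndex R < m := by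
    rw [← hm, ← hrel]
    exact lt_mul_of_one_lt_right (Nat.pos_of_ne_zero Subgroup.index_ne_zero_of_finite)
      (Fact.out : q.Prime).one_lt
  have hodd' : Odd N'.index := odd_of_dvd ⟨q, hrel.symm⟩ hodd
  have hq' : IsPGroup q (R ⧸ N') := by
    refine hq.of_injective (QuotientGroup.map N' N R.subtype fun n hn => hn) ?_
    rw [← MonoidHom.ker_eq_bot_iff]
    exact (QuotientGroup.ker_map _ _ _ _).trans (QuotientGroup.map_mk'_self N')
  obtain ⟨η₀, hη₀, hext₀⟩ := ih _ hlt R N' rfl hq' hodd' (hσ.subgroup R) (θ ∘ e)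
    (isIrr_comp_mulEquiv hθ e) (fun n => hfix _) fun r => funext fun n =>
      congrFun (hinv (r : G)) (e n)
  obtain ⟨η, hη, hηext, hηfix, hηuniq⟩ := unique_of_extends N' (hσ.subgroup R) hodd'
    (isIrr_comp_mulEquiv hθ e) (fun n => hfix _) hη₀ hext₀
  have hRinv : ∀ g, conjFun R g η = η := fun g => by
    refine hηuniq _ (isIrr_conjFun R hη g) ?_ fun r => hηfix _
    have heq : (fun n : N' => conjFun R g η n) = θ ∘ e := funext fun n => by
      have h := hηext ⟨⟨g * (e n : G) * g⁻¹, hNR (‹N.Normal›.conj_mem _ (e n).2 g)⟩,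
        ‹N.Normal›.conj_mem _ (e n).2 g⟩
      exact h.trans (congrFun (hinv g) (e n))
    rw [heq, classInner_irr_self (isIrr_comp_mulEquiv hθ e)]
    exact one_ne_zero
  have hcyc : IsCyclic (G ⧸ R) := isCyclic_of_prime_card (p := q)
    (by rw [← Subgroup.index_eq_card, hRidx])
  obtain ⟨χ, hχ, hχext⟩ := extend_of_cyclic R hcyc hη fun g n => congrFun (hRinv g) n
  exact ⟨χ, hχ, fun n => (hχext ⟨n, hNR n.2⟩).trans (hηext ⟨⟨n, hNR n.2⟩, n.2⟩)⟩

variable (N : Subgroup G) [hN : N.Normal] [Fintype N]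

/-- The invariant case. -/
theorem unique_of_invariant (hσ : InvertsOdd σ G) (hodd : Odd N.index) {θ : N → ℂ}
    (hθ : IsIrrCharacter N θ) (hfix : ∀ n, σ (θ n) = θ n) (hinv : ∀ g, conjFun N g θ = θ) :
    ∃ χ : G → ℂ, IsIrrCharacter G χ ∧ (∀ n : N, χ n = θ n) ∧ (∀ g, σ (χ g) = χ g) ∧
      ∀ ψ : G → ℂ, IsIrrCharacter G ψ → classInner (fun n : N => ψ n) θ ≠ 0 →
        (∀ g, σ (ψ g) = ψ g) → ψ = χ := by
  obtain ⟨χ₀, hχ₀, hext⟩ := extend_of_local N hθ (fun g n => congrFun (hinv g) n) fun q hq hqd => by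
    have := Fact.mk hq
    obtain ⟨S⟩ := (inferInstance : Nonempty (Sylow q (G ⧸ N)))
    set H := (S : Subgroup (G ⧸ N)).comap (QuotientGroup.mk' N) with hH
    have hNH : N ≤ H := (QuotientGroup.ker_mk' N).ge.trans (MonoidHom.ker_le_comap _ _)
    let N' := N.subgroupOf H
    have := Fintype.ofFinite H
    have := Fintype.ofFinite N'
    let e : N' ≃* N := Subgroup.subgroupOfEquivOfLe hNH
    have hodd' : Odd N'.index := odd_of_dvd (Subgroup.relIndex_dvd_index_of_normal _ _) hodd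
    have hq' : IsPGroup q (H ⧸ N') := by
      refine S.2.of_injective ((QuotientGroup.map N' N H.subtype fun n hn => hn).codRestrict _
        fun x => ?_) ?_
      · induction x using QuotientGroup.induction_on with
        | H y => exact y.2
      · rw [← MonoidHom.ker_eq_bot_iff]
        exact (MonoidHom.ker_codRestrict _ _ _).trans
          ((QuotientGroup.ker_map _ _ _ _).trans (QuotientGroup.map_mk'_self N'))
    obtain ⟨η, hη, hηext⟩ := extends_of_qgroup (σ := σ) q _ H N' rfl hq' hodd' (hσ.subgroup H) (θ ∘ e)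
      (isIrr_comp_mulEquiv hθ e) (fun n => hfix _) fun r => funext fun n => congrFun (hinv (r : G)) (e n)
    refine ⟨H, hNH, η, ?_, isCharacter_of_isIrr hη, fun n => hηext ⟨⟨n, hNH n.2⟩, n.2⟩⟩
    rw [hH, Subgroup.index_comap_of_surjective _ (QuotientGroup.mk'_surjective N)]
    exact S.not_dvd_index
  exact unique_of_extends N hσ hodd hθ hfix hχ₀ hext

/-- The constituent over `θ` of the restriction to the inertia group is unique. -/
theorem corr_unique {θ : N → ℂ} (hθ : IsIrrCharacter N θ) (T : Subgroup G) [Fintype T]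
    (hT : ∀ g : G, g ∈ T ↔ conjFun N g θ = θ) (hNT : N ≤ T) {χ : G → ℂ} (hχ : IsIrrCharacter G χ)
    {ψ ψ' : T → ℂ} (hψ : IsIrrCharacter T ψ) (hψ' : IsIrrCharacter T ψ')
    (h1 : classInner (fun t : T => χ t) ψ ≠ 0) (h1' : classInner (fun t : T => χ t) ψ' ≠ 0)
    (h2 : classInner (fun n : N => ψ ⟨n, hNT n.2⟩) θ ≠ 0)
    (h2' : classInner (fun n : N => ψ' ⟨n, hNT n.2⟩) θ ≠ 0) : ψ = ψ' := by
  have hres := isCharacter_res T (isCharacter_of_isIrr hχ)
  obtain ⟨m, hm, hmi⟩ := char_decomp hres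
  choose k hk using fun φ : IrrCharacter T => classInner_char_nat
    (isCharacter_comp (isCharacter_of_isIrr φ.2) (Subgroup.inclusion hNT)) (isCharacter_of_isIrr hθ)
  have hk' : ∀ φ : IrrCharacter T, classInner (fun n : N => (φ : T → ℂ) ⟨n, hNT n.2⟩) θ = k φ := hk
  have hsum : classInner (fun n : N => χ n) θ = ∑ φ, (m φ : ℂ) * k φ := by
    have : (fun n : N => χ n) =
        ∑ φ : IrrCharacter T, (m φ : ℂ) • fun n : N => (φ : T → ℂ) ⟨n, hNT n.2⟩ :=
      funext fun n => by simpa [Finset.sum_apply] using congrFun hm ⟨n, hNT n.2⟩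
    rw [this, classInner_sum_left]
    exact Finset.sum_congr rfl fun φ _ => by rw [classInner_smul_left, hk']
  have hm1 : ∀ φ : IrrCharacter T, classInner (fun t : T => χ t) (φ : T → ℂ) ≠ 0 →
      classInner (fun n : N => (φ : T → ℂ) ⟨n, hNT n.2⟩) θ ≠ 0 → m φ ≠ 0 ∧ k φ ≠ 0 := fun φ a b => by
    refine ⟨fun h => a ?_, fun h => b (by rw [hk', h, Nat.cast_zero])⟩
    rw [hmi, h, Nat.cast_zero]
  obtain ⟨a1, a2⟩ := hm1 ⟨ψ, hψ⟩ h1 h2
  obtain ⟨b1, b2⟩ := hm1 ⟨ψ', hψ'⟩ h1' h2'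
  have h0 : classInner (fun n : N => χ n) θ ≠ 0 := by
    rw [hsum, ← Nat.cast_zero]
    have : 0 < ∑ φ, m φ * k φ := Finset.sum_pos' (fun _ _ => Nat.zero_le _)
      ⟨_, Finset.mem_univ _, Nat.pos_of_ne_zero (mul_ne_zero a1 a2)⟩
    exact_mod_cast this.ne'
  obtain ⟨ψ₁, hψ₁, hind, hk1⟩ := clifford_correspondence N hθ T hT hNT hχ h0
  have h11 : classInner (fun t : T => χ t) ψ₁ = 1 := by
    rw [← classInner_conj_symm, ← frobenius_reciprocity T ψ₁ (isClassFunction_of_isIrr hχ), hind,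
      classInner_irr_self hχ, map_one]
  have hm11 : m ⟨ψ₁, hψ₁⟩ = 1 := by exact_mod_cast (hmi ⟨ψ₁, hψ₁⟩).symm.trans h11
  have key : ∀ φ : IrrCharacter T, m φ ≠ 0 → k φ ≠ 0 → φ = ⟨ψ₁, hψ₁⟩ := by
    intro φ ha hb
    by_contra hne
    have h3 : ∑ φ', m φ' * k φ' = k ⟨ψ₁, hψ₁⟩ := by
      have h4 := hsum.symm.trans (hk1.symm.trans (hk' ⟨ψ₁, hψ₁⟩))
      exact_mod_cast h4
    have h5 := Finset.sum_le_sum_of_subset (f := fun φ' => m φ' * k φ')
      (Finset.subset_univ ({φ, ⟨ψ₁, hψ₁⟩} : Finset (IrrCharacter T)))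
    rw [h3, Finset.sum_pair hne, hm11, one_mul] at h5
    have : 0 < m φ * k φ := Nat.pos_of_ne_zero (mul_ne_zero ha hb)
    omega
  exact congrArg Subtype.val ((key ⟨ψ, hψ⟩ a1 a2).trans (key ⟨ψ', hψ'⟩ b1 b2).symm)

/-- There is exactly one fixed irreducible character over a fixed `θ`. -/
theorem exists_unique_fixed (hσ : InvertsOdd σ G) (hodd : Odd N.index) {θ : N → ℂ}
    (hθ : IsIrrCharacter N θ) (hfix : ∀ n, σ (θ n) = θ n) :
    ∃ χ : G → ℂ, IsIrrCharacter G χ ∧ classInner (fun n : N => χ n) θ ≠ 0 ∧ (∀ g, σ (χ g) = χ g) ∧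
      ((∀ g, conjFun N g θ = θ) → ∀ n : N, χ n = θ n) ∧
      ∀ ψ : G → ℂ, IsIrrCharacter G ψ → classInner (fun n : N => ψ n) θ ≠ 0 →
        (∀ g, σ (ψ g) = ψ g) → ψ = χ := by
  by_cases hinv : ∀ g, conjFun N g θ = θ
  · obtain ⟨χ, hχ, hext, hχfix, huniq⟩ := unique_of_invariant N hσ hodd hθ hfix hinv
    refine ⟨χ, hχ, ?_, hχfix, fun _ => hext, huniq⟩
    rw [show (fun n : N => χ n) = θ from funext hext, classInner_irr_self hθ]
    exact one_ne_zero
  set T := inertia N θ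
  have := Fintype.ofFinite T
  have hT : ∀ g : G, g ∈ T ↔ conjFun N g θ = θ := fun g => mem_inertia N
  have hNT : N ≤ T := le_inertia N (isClassFunction_of_isIrr hθ)
  let N' := N.subgroupOf T
  have := Fintype.ofFinite N'
  let e : N' ≃* N := Subgroup.subgroupOfEquivOfLe hNT
  have hθ' := isIrr_comp_mulEquiv hθ e
  have hci : ∀ ψ : T → ℂ, classInner (fun n : N' => ψ n) (θ ∘ e) =
      classInner (fun n : N => ψ ⟨n, hNT n.2⟩) θ := fun ψ => by
    rw [← classInner_comp_mulEquiv e (fun n : N => ψ ⟨n, hNT n.2⟩) θ]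
    rfl
  obtain ⟨ψ₀, hψ₀, hψ₀ext, hψ₀fix, hψ₀uniq⟩ := unique_of_invariant N' (hσ.subgroup T)
    (odd_of_dvd (Subgroup.relIndex_dvd_index_of_normal _ _) hodd) hθ' (fun n => hfix _)
    fun t => funext fun n => congrFun ((hT t).mp t.2) (e n)
  have hψ₀0 : classInner (fun n : N => ψ₀ ⟨n, hNT n.2⟩) θ ≠ 0 := by
    rw [← hci, show (fun n : N' => ψ₀ n) = θ ∘ e from funext hψ₀ext, classInner_irr_self hθ']
    exact one_ne_zero
  -- `ψ₀` induces irreducibly
  obtain ⟨χ, hχ, hχ0⟩ : ∃ χ : G → ℂ, IsIrrCharacter G χ ∧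
      classInner (fun t : T => χ t) ψ₀ ≠ 0 := by
    have hne : indFun T ψ₀ ≠ 0 := fun h => by
      have h1 := congrFun h 1
      rw [indFun_one, Pi.zero_apply, mul_eq_zero] at h1
      exact h1.elim (Nat.cast_ne_zero.mpr Subgroup.index_ne_zero_of_finite) (irr_one_ne_zero hψ₀)
    obtain ⟨φ, hφ, h0⟩ := exists_constituent (isCharacter_indFun T (isCharacter_of_isIrr hψ₀)) hne
    refine ⟨φ, hφ, fun h => h0 ?_⟩
    rw [frobenius_reciprocity T ψ₀ (isClassFunction_of_isIrr hφ), ← classInner_conj_symm, h, map_zero]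
  have hover : ∀ φ : G → ℂ, IsIrrCharacter G φ → classInner (fun t : T => φ t) ψ₀ ≠ 0 →
      classInner (fun n : N => φ n) θ ≠ 0 := by
    intro φ hφ h
    have hres := isCharacter_res T (isCharacter_of_isIrr hφ)
    obtain ⟨m, hm, hmi⟩ := char_decomp hres
    choose k hk using fun η : IrrCharacter T => classInner_char_nat
      (isCharacter_comp (isCharacter_of_isIrr η.2) (Subgroup.inclusion hNT)) (isCharacter_of_isIrr hθ)
    have hk' : ∀ η : IrrCharacter T, classInner (fun n : N => (η : T → ℂ) ⟨n, hNT n.2⟩) θ = k η := hk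
    have : (fun n : N => φ n) = ∑ η : IrrCharacter T, (m η : ℂ) • fun n : N => (η : T → ℂ) ⟨n, hNT n.2⟩ :=
      funext fun n => by simpa [Finset.sum_apply] using congrFun hm ⟨n, hNT n.2⟩
    rw [this, classInner_sum_left, Finset.sum_congr rfl (g := fun η => ((m η * k η : ℕ) : ℂ))
      fun η _ => by rw [classInner_smul_left, hk', Nat.cast_mul], ← Nat.cast_sum, Nat.cast_ne_zero]
    refine (Finset.sum_pos' (f := fun η : IrrCharacter T => m η * k η) (fun _ _ => Nat.zero_le _)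
      ⟨⟨ψ₀, hψ₀⟩, Finset.mem_univ _,
      Nat.pos_of_ne_zero (mul_ne_zero (fun h0 => h ?_) (fun h0 => hψ₀0 ?_))⟩).ne'
    · rw [hmi ⟨ψ₀, hψ₀⟩, h0, Nat.cast_zero]
    · rw [hk' ⟨ψ₀, hψ₀⟩, h0, Nat.cast_zero]
  have hfrob : ∀ {φ : G → ℂ}, IsIrrCharacter G φ → ∀ {ψ : T → ℂ}, indFun T ψ = φ →
      classInner (fun t : T => φ t) ψ = 1 := fun {φ} hφ {ψ} hind => by
    rw [← classInner_conj_symm, ← frobenius_reciprocity T ψ (isClassFunction_of_isIrr hφ), hind,
      classInner_irr_self hφ, map_one]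
  have hχN := hover χ hχ hχ0
  obtain ⟨ψ₁, hψ₁, hind₁, hk1⟩ := clifford_correspondence N hθ T hT hNT hχ hχN
  obtain rfl : ψ₁ = ψ₀ := corr_unique N hθ T hT hNT hχ hψ₁ hψ₀
    (by rw [hfrob hχ hind₁]; exact one_ne_zero) hχ0 (hk1 ▸ hχN) hψ₀0
  have hσind : σ ∘ indFun T ψ₁ = indFun T ψ₁ := by
    funext g
    simp only [Function.comp_apply, indFun_apply, map_mul, map_inv₀, map_natCast, map_sum]
    congr 1
    refine Finset.sum_congr rfl fun x _ => ?_
    rw [extendByZero_eq_dite]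
    split
    · exact hψ₀fix _
    · exact map_zero σ
  refine ⟨χ, hχ, hχN, fun g => ?_, fun h => absurd h hinv, fun φ hφ hφ0 hφfix => ?_⟩
  · rw [← hind₁]
    exact congrFun hσind g
  obtain ⟨ψ, hψ, hind, hkψ⟩ := clifford_correspondence N hθ T hT hNT hφ hφ0
  have hk0 : classInner (fun n : N => ψ ⟨n, hNT n.2⟩) θ ≠ 0 := hkψ ▸ hφ0
  have h1 : classInner (fun t : T => φ t) ψ = 1 := hfrob hφ hind
  have h1' : classInner (fun t : T => φ t) (σ ∘ ψ) = 1 := by
    have := classInner_ringEquiv σ (fun t : T => φ t) (isCharacter_of_isIrr hψ)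
    rw [h1, map_one] at this
    rw [← this]
    congr 1
    exact funext fun t => (hφfix _).symm
  have h2' : classInner (fun n : N => (σ ∘ ψ) ⟨n, hNT n.2⟩) θ ≠ 0 := by
    have := classInner_ringEquiv σ (fun n : N => ψ ⟨n, hNT n.2⟩) (isCharacter_of_isIrr hθ)
    rw [show σ ∘ θ = θ from funext hfix] at this
    show classInner (σ ∘ fun n : N => ψ ⟨n, hNT n.2⟩) θ ≠ 0
    rw [this]
    exact fun h => hk0 (σ.injective (h.trans (map_zero σ).symm))
  have hψeq : σ ∘ ψ = ψ := corr_unique N hθ T hT hNT hφ (isIrr_ringEquiv σ hψ) hψ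
    (by rw [h1']; exact one_ne_zero) (by rw [h1]; exact one_ne_zero) h2' hk0
  rw [← hind, ← hind₁, hψ₀uniq ψ hψ (by rw [hci]; exact hk0) fun t => congrFun hψeq t]

end CfsgLib.OddGaloisFixed
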