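import Cfsg.Agent.Lib.CharNormal.FullyRamified
import Cfsg.Agent.Lib.CharNormal.Clifford
import Cfsg.Agent.Lib.Char.Extension
import Cfsg.Agent.Lib.Char.Induced
import Cfsg.Agent.Lib.Char.Linear
import Mathlib.GroupTheory.Sylow

/-!
# Complements in sections of fully ramified groups

Let `χ` be fully ramified over `Z` and `K ⊇ Z` normal. If a Sylow `p`-subgroup of `H ⧸ K` is cyclic, or
if some irreducible character of a suitable `p`-section lying over the base has small degree (this is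
the case when `χ` is induced from `K`), then `H ⧸ K` has a subgroup of index the `p`-part of its order.
The `p`-subgroup `S` permutes the characters of `Q = S ∩ K` over the base regularly, so the stabilizer
of one of them in the normalizer of `Q` supplements `S`.
-/

namespace CfsgLib.CharNormal.Ramified

open CfsgLib.Char
open scoped ComplexConjugate

universe u

/-- `f` restricted to `Z` is `c` times `θ`. -/
def ResEq {G : Type u} [Group G] (Z X : Subgroup G) (hZX : Z ≤ X) (f : X → ℂ) (θ : Z → ℂ) (c : ℕ) :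
    Prop :=
  ∀ z : Z, f ⟨z, hZX z.2⟩ = (c : ℂ) * θ z

variable {G : Type u} [Group G] [Finite G]

/-- Characters of a group over an invariant character, by transport to a subgroup. -/
theorem constituent_resEq {Z X : Subgroup G} (hZX : Z ≤ X) {θ : Z → ℂ}
    (hθ : Cfsg.IsIrrCharacter Z θ) {f : X → ℂ} (hf : Cfsg.IsCharacter X f) {c : ℕ}
    (hc : ResEq Z X hZX f θ c) [Fintype X] (ψ : Cfsg.IrrCharacter X)
    (hψ : Cfsg.classInner f (ψ : X → ℂ) ≠ 0) :
    ∃ c' : ℕ, 0 < c' ∧ ResEq Z X hZX (ψ : X → ℂ) θ c' := by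
  classical
  let _ := Fintype.ofFinite Z
  obtain ⟨m, hm, hmi⟩ := char_decomp hf
  let R : (X → ℂ) → (Z → ℂ) := fun g z => g ⟨z, hZX z.2⟩
  have hR : ∀ φ : Cfsg.IrrCharacter X, Cfsg.IsCharacter Z (R (φ : X → ℂ)) := fun φ =>
    isCharacter_comp (isCharacter_of_isIrr φ.2) (Subgroup.inclusion hZX)
  have hzero : ∀ η : Cfsg.IrrCharacter Z, (η : Z → ℂ) ≠ θ →
      Cfsg.classInner (R (ψ : X → ℂ)) (η : Z → ℂ) = 0 := by
    intro η hη
    choose k hk using fun φ : Cfsg.IrrCharacter X => classInner_char_nat (hR φ) (isCharacter_of_isIrr η.2)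
    have hRf : R f = ∑ φ : Cfsg.IrrCharacter X, (m φ : ℂ) • R (φ : X → ℂ) := by
      funext z
      show f _ = _
      rw [hm]; simp [R, Finset.sum_apply]
    have h0 : Cfsg.classInner (R f) (η : Z → ℂ) = 0 := by
      rw [show R f = (c : ℂ) • θ from funext hc, classInner_smul_left,
        classInner_irr_ne hθ η.2 (Ne.symm hη), mul_zero]
    rw [hRf, classInner_sum_left] at h0
    simp only [classInner_smul_left, hk] at h0
    have h1 : ∑ φ, m φ * k φ = 0 := by exact_mod_cast h0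
    have h2 := Finset.sum_eq_zero_iff.mp h1 ψ (Finset.mem_univ ψ)
    have hmψ : m ψ ≠ 0 := fun h => hψ (by rw [hmi, h, Nat.cast_zero])
    rw [hk, (mul_eq_zero.mp h2).resolve_left hmψ, Nat.cast_zero]
  obtain ⟨c', hc'⟩ := classInner_char_nat (hR ψ) (isCharacter_of_isIrr hθ)
  have heq : R (ψ : X → ℂ) = (c' : ℂ) • θ := by
    conv_lhs => rw [classFun_eq_sum (isClassFunction_of_isCharacter (hR ψ))]
    rw [Finset.sum_eq_single (⟨θ, hθ⟩ : Cfsg.IrrCharacter Z), hc']
    · intro η _ hne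
      rw [hzero η (fun h => hne (Subtype.ext h)), zero_smul]
    · simp
  refine ⟨c', Nat.pos_of_ne_zero fun h => irr_one_ne_zero ψ.2 ?_, fun z => congrFun heq z⟩
  have h1 := congrFun heq 1
  simp only [R, h, Nat.cast_zero, zero_smul, Pi.zero_apply] at h1
  exact h1

/-- The degree. -/
theorem resEq_one {Z X : Subgroup G} {hZX : Z ≤ X} {θ : Z → ℂ} {f : X → ℂ} {c : ℕ}
    (hc : ResEq Z X hZX f θ c) : f 1 = (c : ℂ) * θ 1 :=
  hc 1

/-- **Divisibility**: a character over the base has degree ratio at least `e / [H : X]`. -/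
theorem dvd_mul_index (Z : Subgroup G) [Z.Normal] (θ : Cfsg.IrrCharacter Z) (χ : Cfsg.IrrCharacter G)
    {e : ℕ} (he2 : e ^ 2 = Z.index) (hres : ∀ z : Z, (χ : G → ℂ) z = (e : ℂ) * (θ : Z → ℂ) z)
    (X : Subgroup G) (hZX : Z ≤ X) {ξ : X → ℂ} (hξ : Cfsg.IsCharacter X ξ) {c : ℕ}
    (hc : ResEq Z X hZX ξ (θ : Z → ℂ) c) : e ∣ c * X.index := by
  classical
  let _ := Fintype.ofFinite G
  let _ := Fintype.ofFinite Z
  let _ := Fintype.ofFinite X
  obtain ⟨a, ha, hai⟩ := char_decomp (isCharacter_indFun (H := X) hξ)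
  have hzero : ∀ η : Cfsg.IrrCharacter G, η ≠ χ → a η = 0 := by
    intro η hη
    by_contra ha0
    have h1 : Cfsg.classInner ξ (fun x : X => (η : G → ℂ) x) ≠ 0 := by
      rw [← frobenius_reciprocity X ξ (isClassFunction_of_isIrr η.2), hai]
      exact_mod_cast ha0
    obtain ⟨ψ, hψ1, hψ2⟩ : ∃ ψ : Cfsg.IrrCharacter X, Cfsg.classInner ξ (ψ : X → ℂ) ≠ 0 ∧
        Cfsg.classInner (fun x : X => (η : G → ℂ) x) (ψ : X → ℂ) ≠ 0 := by
      by_contra hcon
      push Not at hcon
      refine h1 ?_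
      rw [classInner_eq_sum (isClassFunction_of_isCharacter hξ)]
      refine Finset.sum_eq_zero fun ψ _ => ?_
      by_cases h : Cfsg.classInner ξ (ψ : X → ℂ) = 0
      · simp [h]
      · simp [hcon ψ h]
    obtain ⟨c', hc'0, hc'⟩ := constituent_resEq hZX θ.2 hξ hc ψ hψ1
    obtain ⟨b, hb, hbi⟩ := char_decomp (isCharacter_res X (isCharacter_of_isIrr η.2))
    have hfr := fr_unique Z χ θ he2 hres η hη
    choose k hk using fun φ : Cfsg.IrrCharacter X => classInner_char_nat
      (show Cfsg.IsCharacter Z (fun z : Z => (φ : X → ℂ) ⟨z, hZX z.2⟩) from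
        isCharacter_comp (isCharacter_of_isIrr φ.2) (Subgroup.inclusion hZX)) (isCharacter_of_isIrr θ.2)
    have hsum : (fun z : Z => (η : G → ℂ) z) =
        ∑ φ : Cfsg.IrrCharacter X, (b φ : ℂ) • fun z : Z => (φ : X → ℂ) ⟨z, hZX z.2⟩ := by
      funext z
      have := congrFun hb ⟨z, hZX z.2⟩
      simpa [Finset.sum_apply] using this
    rw [hsum, classInner_sum_left] at hfr
    simp only [classInner_smul_left, hk] at hfr
    have h2 : ∑ φ, b φ * k φ = 0 := by exact_mod_cast hfr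
    have h3 := Finset.sum_eq_zero_iff.mp h2 ψ (Finset.mem_univ ψ)
    have hk' : k ψ = c' := by
      have := hk ψ
      rw [show (fun z : Z => (ψ : X → ℂ) ⟨z, hZX z.2⟩) = (c' : ℂ) • (θ : Z → ℂ) from funext hc',
        classInner_smul_left, classInner_irr_self θ.2, mul_one] at this
      exact_mod_cast this.symm
    rw [hk'] at h3
    exact hψ2 (by rw [hbi, (mul_eq_zero.mp h3).resolve_right hc'0.ne', Nat.cast_zero])
  have h1 := congrFun ha 1
  rw [indFun_one, resEq_one hc] at h1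
  simp only [Finset.sum_apply, Pi.smul_apply, smul_eq_mul] at h1
  rw [Finset.sum_eq_single χ (fun η _ hne => by rw [hzero η hne, Nat.cast_zero, zero_mul]) (by simp),
    show (χ : G → ℂ) 1 = (e : ℂ) * (θ : Z → ℂ) 1 from hres 1, ← mul_assoc, ← mul_assoc] at h1
  have h2 := mul_right_cancel₀ (irr_one_ne_zero θ.2) h1
  refine ⟨a χ, ?_⟩
  have h3 : (((c * X.index : ℕ)) : ℂ) = ((e * a χ : ℕ) : ℂ) := by push_cast; linear_combination h2
  exact_mod_cast h3

/-- Existence of a character over an invariant base. -/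
theorem exists_resEq {Z X : Subgroup G} (hZX : Z ≤ X) [Z.Normal] (θ : Cfsg.IrrCharacter Z)
    (hinv : ∀ g : G, conjFun Z g (θ : Z → ℂ) = (θ : Z → ℂ)) [Fintype X] :
    ∃ (ψ : Cfsg.IrrCharacter X) (c : ℕ), 0 < c ∧ ResEq Z X hZX (ψ : X → ℂ) (θ : Z → ℂ) c := by
  classical
  let _ := Fintype.ofFinite G
  let _ := Fintype.ofFinite Z
  have hind : Cfsg.indFun Z (θ : Z → ℂ) 1 ≠ 0 := by
    rw [indFun_one]
    exact mul_ne_zero (Nat.cast_ne_zero.mpr Subgroup.index_ne_zero_of_finite) (irr_one_ne_zero θ.2)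
  have hres : ∀ z : Z, Cfsg.indFun Z (θ : Z → ℂ) z = ((Z.index : ℕ) : ℂ) * (θ : Z → ℂ) z := by
    intro z
    rw [indFun_apply, Finset.sum_congr rfl fun g _ => show
      Cfsg.extendByZero Z (θ : Z → ℂ) (g⁻¹ * z * g) = (θ : Z → ℂ) z by
      rw [extendByZero_of_mem _ (by simpa using (‹Z.Normal›).conj_mem z z.2 g⁻¹)]
      have := congrFun (hinv g⁻¹) z
      rw [conjFun_apply] at this
      simpa using this]
    rw [Finset.sum_const, Finset.card_univ, nsmul_eq_mul, ← mul_assoc]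
    congr 1
    rw [← Nat.card_eq_fintype_card (α := G), ← Z.index_mul_card, Nat.cast_mul]
    field_simp [card_subgroup_ne_zero (H := Z)]
  have hf : Cfsg.IsCharacter X (fun x : X => Cfsg.indFun Z (θ : Z → ℂ) x) :=
    isCharacter_res X (isCharacter_indFun (H := Z) (isCharacter_of_isIrr θ.2))
  obtain ⟨ψ, hψ⟩ : ∃ ψ : Cfsg.IrrCharacter X,
      Cfsg.classInner (fun x : X => Cfsg.indFun Z (θ : Z → ℂ) x) (ψ : X → ℂ) ≠ 0 := by
    by_contra hcon
    push Not at hcon
    refine hind ?_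
    have h := congrFun (classFun_eq_sum (isClassFunction_of_isCharacter hf)) 1
    simpa [Finset.sum_apply, hcon] using h
  obtain ⟨c, hc0, hc⟩ := constituent_resEq hZX θ.2 hf (c := Z.index) hres ψ hψ
  exact ⟨ψ, c, hc0, hc⟩

/-- The total of the squared ratios. -/
theorem sum_sq_le {Z X : Subgroup G} (hZX : Z ≤ X) [Z.Normal] (θ : Cfsg.IrrCharacter Z) [Fintype X]
    (T : Finset (Cfsg.IrrCharacter X)) {c : ℕ}
    (hc : ∀ ψ ∈ T, ResEq Z X hZX (ψ : X → ℂ) (θ : Z → ℂ) c) :
    T.card * c ^ 2 ≤ Z.relIndex X := by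
  classical
  let _ := Fintype.ofFinite Z
  set Z' := Z.subgroupOf X
  let _ := Fintype.ofFinite Z'
  set e' := Subgroup.subgroupOfEquivOfLe hZX
  set θ' : Z' → ℂ := fun z => (θ : Z → ℂ) (e' z)
  have hθ' : Cfsg.IsIrrCharacter Z' θ' := isIrr_comp_mulEquiv θ.2 e'
  obtain ⟨d, hd0, hd⟩ := exists_degree_pos θ.2
  choose D hD0 hD using fun φ : Cfsg.IrrCharacter X => exists_degree_pos φ.2
  choose m hm using fun φ : Cfsg.IrrCharacter X => classInner_char_nat
    (isCharacter_res Z' (isCharacter_of_isIrr φ.2)) (isCharacter_of_isIrr hθ')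
  have h := sum_degree_mul_classInner_res Z' hθ'
  simp only [hD, hm] at h
  have h1 : θ' 1 = (d : ℂ) := by simp only [θ', map_one]; exact hd
  rw [h1] at h
  have h2 : ∑ φ, D φ * m φ = Z'.index * d := by exact_mod_cast h
  have hT : ∀ ψ ∈ T, D ψ * m ψ = c ^ 2 * d := by
    intro ψ hψ
    have e1 : (fun z : Z' => (ψ : X → ℂ) z) = (c : ℂ) • θ' := funext fun z => by
      show _ = (c : ℂ) * (θ : Z → ℂ) (e' z)
      rw [← hc ψ hψ (e' z)]
      rfl
    have e2 : m ψ = c := by
      have := hm ψ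
      rw [e1, classInner_smul_left, classInner_irr_self hθ', mul_one] at this
      exact_mod_cast this.symm
    have e3 : D ψ = c * d := by
      have := resEq_one (hc ψ hψ)
      rw [hD, hd] at this
      exact_mod_cast this
    rw [e2, e3]; ring
  refine Nat.le_of_mul_le_mul_right ?_ hd0
  rw [Subgroup.relIndex, ← h2, mul_assoc, ← smul_eq_mul, ← Finset.sum_const, ← Finset.sum_congr rfl hT]
  exact Finset.sum_le_sum_of_subset (Finset.subset_univ T)

omit [Finite G] in
/-- For a normal `L` the index of `I ∩ L` in `L` divides the index of `I`. -/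
theorem relIndex_dvd_index [Finite G] (L I : Subgroup G) [L.Normal] : I.relIndex L ∣ I.index := by
  rw [← Subgroup.inf_relIndex_left]
  refine dvd_trans (dvd_of_eq ?_) (Subgroup.relIndex_dvd_index_of_le (le_sup_left (b := L)))
  have e1 := Subgroup.card_mul_index ((L ⊓ I).subgroupOf L)
  have e2 := Subgroup.card_mul_index ((L ⊓ I).subgroupOf I)
  have e3 := Subgroup.card_mul_index (I.subgroupOf (I ⊔ L))
  have e4 := Subgroup.card_mul_index (L.subgroupOf (I ⊔ L))
  rw [Nat.card_congr (Subgroup.subgroupOfEquivOfLe (inf_le_left (b := I))).toEquiv] at e1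
  rw [Nat.card_congr (Subgroup.subgroupOfEquivOfLe (inf_le_right (a := L))).toEquiv] at e2
  rw [Nat.card_congr (Subgroup.subgroupOfEquivOfLe (le_sup_left (b := L))).toEquiv] at e3
  rw [Nat.card_congr (Subgroup.subgroupOfEquivOfLe (le_sup_right (a := I))).toEquiv] at e4
  change _ * (L ⊓ I).relIndex L = _ at e1
  change _ * (L ⊓ I).relIndex I = _ at e2
  change _ * I.relIndex (I ⊔ L) = _ at e3
  change _ * L.relIndex (I ⊔ L) = _ at e4
  rw [Subgroup.relIndex_sup_right, ← Subgroup.inf_relIndex_right L I] at e4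
  refine Nat.eq_of_mul_eq_mul_left (Nat.card_pos (α := I)) ?_
  rw [e3, ← e4, ← e1]
  nth_rewrite 1 [← e2]
  ring

set_option maxHeartbeats 800000 in
/-- The core counting. -/
theorem exists_stabilizer {p : ℕ} [hp : Fact p.Prime] {v n M : ℕ} (Z Q L S : Subgroup G) [Z.Normal]
    [Q.Normal] [L.Normal] (hZQ : Z ≤ Q) (hQS : Q ≤ S) (hQL : Q ≤ L)
    (θ : Cfsg.IrrCharacter Z) (hinv : ∀ g : G, conjFun Z g (θ : Z → ℂ) = (θ : Z → ℂ))
    (hA : ∀ (X : Subgroup G) (hZX : Z ≤ X) (ξ : X → ℂ) (c : ℕ), Cfsg.IsCharacter X ξ →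
      ResEq Z X hZX ξ (θ : Z → ℂ) c → p ^ v ∣ c * X.index)
    (hM : Z.relIndex Q = p ^ M) (hn : Q.relIndex S = p ^ n) (hS : ¬ p ∣ S.index)
    (hv : 2 * v = M + n) (hL : ¬ p ∣ Q.relIndex L)
    (hcase : (∀ R : Subgroup G, Q ≤ R → R ≤ S → IsCyclic (R ⧸ Q.subgroupOf R)) ∨
      ∃ (ψ : Cfsg.IrrCharacter Q) (c : ℕ), 0 < c ∧ ResEq Z Q hZQ (ψ : Q → ℂ) (θ : Z → ℂ) c ∧
        c.factorization p + n ≤ v) :
    ∃ I : Subgroup G, L ≤ I ∧ I.index = p ^ n := by
  classical
  let _ := Fintype.ofFinite G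
  let _ := Fintype.ofFinite Q
  -- divisibility in exponents
  have hAv : ∀ (X : Subgroup G) (hZX : Z ≤ X) (ξ : X → ℂ) (c : ℕ), 0 < c → Cfsg.IsCharacter X ξ →
      ResEq Z X hZX ξ (θ : Z → ℂ) c → v ≤ c.factorization p + X.index.factorization p := by
    intro X hZX ξ c hc0 hξ hc
    have h := (hp.out.pow_dvd_iff_le_factorization
      (Nat.mul_ne_zero hc0.ne' Subgroup.index_ne_zero_of_finite)).mp (hA X hZX ξ c hξ hc)
    rwa [Nat.factorization_mul hc0.ne' Subgroup.index_ne_zero_of_finite, Finsupp.add_apply] at h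
  -- the stabilizer of a character
  have key : ∀ (ψ : Cfsg.IrrCharacter Q) (c : ℕ), 0 < c → ResEq Z Q hZQ (ψ : Q → ℂ) (θ : Z → ℂ) c →
      (inertia Q (ψ : Q → ℂ)).index * c ^ 2 ≤ p ^ M ∧
      ∃ j, (S ⊓ inertia Q (ψ : Q → ℂ)).relIndex S = p ^ j ∧ j ≤ n ∧
        p ^ j ≤ (inertia Q (ψ : Q → ℂ)).index ∧ (j = n ∨
          Q < S ⊓ inertia Q (ψ : Q → ℂ)) := by
    intro ψ c hc0 hc
    have horb : (inertia Q (ψ : Q → ℂ)).index * c ^ 2 ≤ p ^ M := by
      rw [← card_orbit_eq_index, ← hM]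
      refine sum_sq_le hZQ θ _ fun φ hφ z => ?_
      obtain ⟨g, hg⟩ := (mem_orbit Q).mp hφ
      rw [← hg, conjFun_apply]
      have h1 := hc ⟨g * z * g⁻¹, ‹Z.Normal›.conj_mem z z.2 g⟩
      refine h1.trans ?_
      rw [← conjFun_apply Z g (θ : Z → ℂ) z, hinv g]
    set R := S ⊓ inertia Q (ψ : Q → ℂ)
    have hQR : Q ≤ R := le_inf hQS (le_inertia Q (isClassFunction_of_isIrr ψ.2))
    have hmul := Subgroup.relIndex_mul_relIndex Q R S hQR inf_le_left
    rw [hn] at hmul
    obtain ⟨j, hjn, hj⟩ := (Nat.dvd_prime_pow hp.out).mp (Dvd.intro_left _ hmul)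
    refine ⟨horb, j, hj, hjn, ?_, ?_⟩
    · rw [← hj]
      show (S ⊓ inertia Q (ψ : Q → ℂ)).relIndex S ≤ _
      rw [Subgroup.inf_relIndex_left, ← Subgroup.relIndex_top_right]
      exact Subgroup.relIndex_le_of_le_right le_top (by
        rw [Subgroup.relIndex_top_right]; exact Subgroup.index_ne_zero_of_finite)
    · by_contra hcon
      push Not at hcon
      refine hcon.1 ?_
      have hRQ : R = Q := (hQR.eq_or_lt.resolve_right hcon.2).symm
      rw [hRQ, hn] at hj
      exact (Nat.pow_right_injective hp.out.two_le hj).symm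
  have hSidx : ∀ R : Subgroup G, R ≤ S → ∀ j : ℕ, R.relIndex S = p ^ j → R.index.factorization p = j := by
    intro R hR j hj
    rw [← Subgroup.relIndex_mul_index hR, hj, Nat.factorization_mul (pow_ne_zero _ hp.out.ne_zero)
      Subgroup.index_ne_zero_of_finite, Finsupp.add_apply, hp.out.factorization_pow,
      Finsupp.single_eq_same, Nat.factorization_eq_zero_of_not_dvd hS, add_zero]
  -- extension to a cyclic section
  have hext : ∀ (ψ : Cfsg.IrrCharacter Q) (c : ℕ), 0 < c → ResEq Z Q hZQ (ψ : Q → ℂ) (θ : Z → ℂ) c →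
      ∀ (R : Subgroup G) (j : ℕ), Q ≤ R → R ≤ S → R ≤ inertia Q (ψ : Q → ℂ) →
        IsCyclic (R ⧸ Q.subgroupOf R) → R.relIndex S = p ^ j → v ≤ c.factorization p + j := by
    intro ψ c hc0 hc R j hQR hRS hRI hcyc hj
    let _ := Fintype.ofFinite R
    let _ := Fintype.ofFinite (Q.subgroupOf R)
    have hψ' : Cfsg.IsIrrCharacter (Q.subgroupOf R)
        (fun q => (ψ : Q → ℂ) (Subgroup.subgroupOfEquivOfLe hQR q)) :=
      isIrr_comp_mulEquiv ψ.2 _
    obtain ⟨ξ, hξ, hξe⟩ := extend_of_cyclic (Q.subgroupOf R) hcyc hψ' (fun g q => by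
      have h := congrFun ((mem_inertia Q).mp (hRI g.2)) (Subgroup.subgroupOfEquivOfLe hQR q)
      rw [conjFun_apply] at h
      exact h)
    rw [← hSidx R hRS j hj]
    refine hAv R (hZQ.trans hQR) ξ c hc0 (isCharacter_of_isIrr hξ) fun z => ?_
    rw [← hc z]
    exact hξe ⟨⟨z, hQR (hZQ z.2)⟩, Subgroup.mem_subgroupOf.mpr (hZQ z.2)⟩
  have hcpow : ∀ c : ℕ, 0 < c → p ^ c.factorization p ≤ c := fun c hc0 =>
    Nat.le_of_dvd hc0 (Nat.ordProj_dvd c p)
  have hfin : ∀ (i c j : ℕ), 0 < c → p ^ j ≤ i → i * c ^ 2 ≤ p ^ M → j + 2 * c.factorization p ≤ M := by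
    intro i c j hc0 hji hle
    refine (Nat.pow_le_pow_iff_right hp.out.one_lt).mp (le_trans ?_ hle)
    rw [pow_add, mul_comm 2, pow_mul]
    exact Nat.mul_le_mul hji (Nat.pow_le_pow_left (hcpow c hc0) 2)
  -- a small character
  obtain ⟨ψ, c, hc0, hc, hsmall⟩ : ∃ (ψ : Cfsg.IrrCharacter Q) (c : ℕ), 0 < c ∧
      ResEq Z Q hZQ (ψ : Q → ℂ) (θ : Z → ℂ) c ∧ c.factorization p + n ≤ v := by
    rcases hcase with hcyc | h
    · obtain ⟨ψ, c, hc0, hc⟩ := exists_resEq hZQ θ hinv
      obtain ⟨horb, j, hj, hjn, hjI, -⟩ := key ψ c hc0 hc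
      have h1 := hext ψ c hc0 hc _ j (le_inf hQS (le_inertia Q (isClassFunction_of_isIrr ψ.2)))
        inf_le_left inf_le_right
        (hcyc _ (le_inf hQS (le_inertia Q (isClassFunction_of_isIrr ψ.2))) inf_le_left) hj
      have h2 := hfin _ c j hc0 hjI horb
      exact ⟨ψ, c, hc0, hc, by omega⟩
    · exact h
  have hlow : v ≤ c.factorization p + n := by
    have h := hAv Q hZQ _ c hc0 (isCharacter_of_isIrr ψ.2) hc
    rwa [hSidx Q hQS n hn] at h
  obtain ⟨horb, j, hj, hjn, hjI, hfree⟩ := key ψ c hc0 hc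
  set I := inertia Q (ψ : Q → ℂ) with hI
  have hjn' : j = n := by
    refine hfree.resolve_right fun hlt => ?_
    obtain ⟨y, hyR, hyQ⟩ := SetLike.exists_of_lt hlt
    set R₁ := Subgroup.zpowers y ⊔ Q with hR₁
    have hR₁S : R₁ ≤ S := sup_le (Subgroup.zpowers_le.mpr hyR.1) hQS
    have hR₁I : R₁ ≤ I := sup_le (Subgroup.zpowers_le.mpr hyR.2) (le_inertia Q (isClassFunction_of_isIrr ψ.2))
    have hcyc₁ : IsCyclic (R₁ ⧸ Q.subgroupOf R₁) := by
      refine isCyclic_iff_exists_zpowers_eq_top.mpr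
        ⟨QuotientGroup.mk' _ ⟨y, Subgroup.mem_sup_left (Subgroup.mem_zpowers y)⟩, ?_⟩
      rw [eq_top_iff]
      intro q _
      obtain ⟨⟨r, hr⟩, rfl⟩ := QuotientGroup.mk'_surjective (Q.subgroupOf R₁) q
      obtain ⟨a, ⟨i, rfl⟩, b, hb, rfl⟩ := Subgroup.mem_sup_of_normal_right.mp hr
      refine ⟨i, ?_⟩
      show (QuotientGroup.mk' (Q.subgroupOf R₁) _) ^ i = _
      rw [← map_zpow]
      refine QuotientGroup.eq.mpr (Subgroup.mem_subgroupOf.mpr ?_)
      simpa using hb
    have hmul := Subgroup.relIndex_mul_relIndex Q R₁ S le_sup_right hR₁S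
    rw [hn] at hmul
    obtain ⟨j₁, hj₁n, hj₁⟩ := (Nat.dvd_prime_pow hp.out).mp (Dvd.intro_left _ hmul)
    have h1 := hext ψ c hc0 hc R₁ j₁ le_sup_right hR₁S hR₁I hcyc₁ hj₁
    have h2 : j₁ = n := by omega
    rw [hj₁, h2] at hmul
    have h3 : Q.relIndex R₁ = 1 := Nat.eq_of_mul_eq_mul_right (pow_pos hp.out.pos n) (by rw [hmul, one_mul])
    exact hyQ (Subgroup.relIndex_eq_one.mp h3 (Subgroup.mem_sup_left (Subgroup.mem_zpowers y)))
  subst hjn'
  have hidx : I.index = p ^ j := by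
    refine le_antisymm ?_ hjI
    refine Nat.le_of_mul_le_mul_right (horb.trans ?_) (pow_pos hc0 2)
    rw [show M = j + 2 * c.factorization p by omega, pow_add, mul_comm 2, pow_mul]
    exact Nat.mul_le_mul_left _ (Nat.pow_le_pow_left (hcpow c hc0) 2)
  refine ⟨I, ?_, hidx⟩
  have hQI : Q ≤ L ⊓ I := le_inf hQL (le_inertia Q (isClassFunction_of_isIrr ψ.2))
  have h1 : (L ⊓ I).relIndex L ∣ Q.relIndex L :=
    Dvd.intro_left _ (Subgroup.relIndex_mul_relIndex Q (L ⊓ I) L hQI inf_le_left)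
  have h2 : (L ⊓ I).relIndex L ∣ p ^ j := by
    rw [Subgroup.inf_relIndex_left, ← hidx]
    exact relIndex_dvd_index L I
  obtain ⟨i, -, hi⟩ := (Nat.dvd_prime_pow hp.out).mp h2
  rcases Nat.eq_zero_or_pos i with rfl | hi0
  · rw [pow_zero, Subgroup.inf_relIndex_left, Subgroup.relIndex_eq_one] at hi
    exact hi
  · exact absurd ((hi ▸ dvd_pow_self p hi0.ne').trans h1) hL


set_option maxHeartbeats 800000 in
/-- **Complements in the quotient.** -/
theorem exists_index_pPart {H : Type u} [Group H] [Fintype H] (Z : Subgroup H) [Z.Normal]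
    (θ : Cfsg.IrrCharacter Z) (χ : Cfsg.IrrCharacter H) {e : ℕ} (he2 : e ^ 2 = Z.index)
    (hres : ∀ z : Z, (χ : H → ℂ) z = (e : ℂ) * (θ : Z → ℂ) z) (K : Subgroup H) [K.Normal] (hZK : Z ≤ K)
    {p : ℕ} [hp : Fact p.Prime]
    (hcase : (∀ P : Sylow p (H ⧸ K), IsCyclic P) ∨
      ∃ φ : K → ℂ, Cfsg.IsCharacter K φ ∧ Cfsg.indFun K φ = (χ : H → ℂ)) :
    ∃ M : Subgroup (H ⧸ K), M.index = p ^ (Nat.card (H ⧸ K)).factorization p := by
  classical
  let _ := Fintype.ofFinite Z
  let _ := Fintype.ofFinite K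
  have he0 : e ≠ 0 := fun h => Subgroup.index_ne_zero_of_finite (H := Z) (by rw [← he2, h]; rfl)
  obtain ⟨S₀⟩ := (inferInstance : Nonempty (Sylow p H))
  set S : Subgroup H := (S₀ : Subgroup H) ⊔ Z with hSdef
  set Q : Subgroup H := S ⊓ K with hQdef
  set N : Subgroup H := Subgroup.normalizer (Q : Set H) with hNdef
  have hZQ : Z ≤ Q := le_inf le_sup_right hZK
  have hSidx : ¬ p ∣ S.index := fun h => S₀.not_dvd_index (h.trans (Subgroup.index_dvd_of_le le_sup_left))
  have hSN : S ≤ N := by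
    intro g hg
    rw [hNdef, Subgroup.mem_normalizer_iff]
    intro x
    simp only [hQdef, Subgroup.mem_inf]
    constructor
    · exact fun h => ⟨mul_mem (mul_mem hg h.1) (inv_mem hg), ‹K.Normal›.conj_mem x h.2 g⟩
    · rintro ⟨h1, h2⟩
      have e1 : g⁻¹ * (g * x * g⁻¹) * g = x := by group
      refine ⟨e1 ▸ mul_mem (mul_mem (inv_mem hg) h1) hg, ?_⟩
      have h3 := ‹K.Normal›.conj_mem _ h2 g⁻¹
      rw [inv_inv] at h3
      exact e1 ▸ h3
  have hZN : Z ≤ N := hZQ.trans Subgroup.le_normalizer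
  have hQN : Q ≤ N := Subgroup.le_normalizer
  have hfrat : N ⊔ K = ⊤ := by
    have hP₀ : IsPGroup p ((S₀ : Subgroup H).subgroupOf K) :=
      S₀.isPGroup'.comap_of_injective K.subtype K.subtype_injective
    have hP₀i : ¬ p ∣ ((S₀ : Subgroup H).subgroupOf K).index := fun h =>
      S₀.not_dvd_index (h.trans (relIndex_dvd_index K (S₀ : Subgroup H)))
    have h := Sylow.normalizer_sup_eq_top (hP₀.toSylow hP₀i)
    rw [IsPGroup.toSylow_coe] at h
    refine eq_top_iff.mpr (h.ge.trans (sup_le_sup_right (fun g hg => ?_) K))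
    rw [hNdef]
    have hg' : ∀ x, (x ∈ (S₀ : Subgroup H) ⊓ K) ↔ g * x * g⁻¹ ∈ (S₀ : Subgroup H) ⊓ K := fun x => by
      rw [Subgroup.subgroupOf_map_subtype] at hg
      exact Subgroup.mem_normalizer_iff.mp hg x
    have hQeq : Q = ((S₀ : Subgroup H) ⊓ K) ⊔ Z := by
      refine le_antisymm (fun x hx => ?_) (sup_le (inf_le_inf_right K le_sup_left) hZQ)
      obtain ⟨hx1, hx2⟩ := Subgroup.mem_inf.mp hx
      obtain ⟨a, ha, b, hb, rfl⟩ := Subgroup.mem_sup_of_normal_right.mp hx1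
      have haK : a ∈ K := by simpa using mul_mem hx2 (inv_mem (hZK hb))
      exact mul_mem (Subgroup.mem_sup_left ⟨ha, haK⟩) (Subgroup.mem_sup_right hb)
    rw [Subgroup.mem_normalizer_iff]
    intro x
    rw [hQeq]
    constructor
    · intro hx
      obtain ⟨a, ha, b, hb, rfl⟩ := Subgroup.mem_sup_of_normal_right.mp hx
      rw [show g * (a * b) * g⁻¹ = g * a * g⁻¹ * (g * b * g⁻¹) by group]
      exact mul_mem (Subgroup.mem_sup_left ((hg' a).mp ha))
        (Subgroup.mem_sup_right (‹Z.Normal›.conj_mem b hb g))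
    · intro hx
      obtain ⟨a, ha, b, hb, hab⟩ := Subgroup.mem_sup_of_normal_right.mp hx
      have ha' : g⁻¹ * a * g ∈ (S₀ : Subgroup H) ⊓ K :=
        (hg' _).mpr (by simpa [mul_assoc] using ha)
      have hb' : g⁻¹ * b * g ∈ Z := by simpa using ‹Z.Normal›.conj_mem b hb g⁻¹
      rw [show x = g⁻¹ * (g * x * g⁻¹) * g by group, ← hab,
        show g⁻¹ * (a * b) * g = g⁻¹ * a * g * (g⁻¹ * b * g) by group]
      exact mul_mem (Subgroup.mem_sup_left ha') (Subgroup.mem_sup_right hb')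
  -- orders
  set v := e.factorization p
  set n := (Nat.card (H ⧸ K)).factorization p
  have himg : IsPGroup p (S.map (QuotientGroup.mk' K)) := by
    rw [hSdef, Subgroup.map_sup, (Subgroup.map_eq_bot_iff Z).mpr (by rw [QuotientGroup.ker_mk']; exact hZK),
      sup_bot_eq]
    exact S₀.isPGroup'.map _
  have hKS : K.relIndex S = p ^ n := by
    have hc : Nat.card (S.map (QuotientGroup.mk' K)) = K.relIndex S := by
      rw [← Subgroup.relIndex_bot_left, ← QuotientGroup.map_mk'_self (N := K), Subgroup.relIndex_map_map,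
        QuotientGroup.ker_mk', sup_idem, Subgroup.relIndex_sup_right]
    obtain ⟨i, hi⟩ := IsPGroup.iff_card.mp himg
    rw [← hc, hi]
    congr 1
    have h1 := Subgroup.card_mul_index (S.map (QuotientGroup.mk' K))
    have h2 : ¬ p ∣ (S.map (QuotientGroup.mk' K)).index := fun h =>
      hSidx (h.trans (Subgroup.index_map_dvd _ (QuotientGroup.mk'_surjective K)))
    show i = (Nat.card (H ⧸ K)).factorization p
    rw [← h1, hi, Nat.factorization_mul (pow_ne_zero _ hp.out.ne_zero) Subgroup.index_ne_zero_of_finite,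
      Finsupp.add_apply, hp.out.factorization_pow, Finsupp.single_eq_same,
      Nat.factorization_eq_zero_of_not_dvd h2, add_zero]
  have hQS : Q.relIndex S = p ^ n := by rw [hQdef, Subgroup.inf_relIndex_left, hKS]
  obtain ⟨m, hm⟩ : ∃ m, Z.relIndex Q = p ^ m := by
    have hc : IsPGroup p (S.map (QuotientGroup.mk' Z)) := by
      rw [hSdef, Subgroup.map_sup, QuotientGroup.map_mk'_self, sup_bot_eq]
      exact S₀.isPGroup'.map _
    obtain ⟨i, hi⟩ := IsPGroup.iff_card.mp hc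
    have hc' : Nat.card (S.map (QuotientGroup.mk' Z)) = Z.relIndex S := by
      rw [← Subgroup.relIndex_bot_left, ← QuotientGroup.map_mk'_self (N := Z), Subgroup.relIndex_map_map,
        QuotientGroup.ker_mk', sup_idem, Subgroup.relIndex_sup_right]
    rw [hc'] at hi
    have h := Subgroup.relIndex_mul_relIndex Z Q S hZQ inf_le_left
    rw [hi] at h
    obtain ⟨m, -, hm⟩ := (Nat.dvd_prime_pow hp.out).mp (Dvd.intro _ h)
    exact ⟨m, hm⟩
  have hv : 2 * v = m + n := by
    have h := Subgroup.relIndex_mul_index (hZQ.trans (inf_le_left : Q ≤ S))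
    rw [← Subgroup.relIndex_mul_relIndex Z Q S hZQ inf_le_left, hm, hQS, ← he2, ← pow_add] at h
    have h' := congrArg (fun k : ℕ => k.factorization p) h
    rw [Nat.factorization_pow, Nat.factorization_mul (pow_ne_zero _ hp.out.ne_zero)
      Subgroup.index_ne_zero_of_finite, Finsupp.add_apply, hp.out.factorization_pow, Finsupp.single_eq_same,
      Nat.factorization_eq_zero_of_not_dvd hSidx, add_zero] at h'
    simpa using h'.symm
  -- inside the normalizer
  set Z' := Z.subgroupOf N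
  set Q' := Q.subgroupOf N
  set L' := K.subgroupOf N
  set S' := S.subgroupOf N
  have hQ'n : Q'.Normal := Subgroup.normal_in_normalizer
  let eZ := Subgroup.subgroupOfEquivOfLe hZN
  let θ' : Cfsg.IrrCharacter Z' := ⟨fun z => (θ : Z → ℂ) (eZ z), by
    let _ := Fintype.ofFinite Z'
    exact isIrr_comp_mulEquiv θ.2 eZ⟩
  have hinv : ∀ g : N, conjFun Z' g (θ' : Z' → ℂ) = (θ' : Z' → ℂ) := by
    intro g
    funext z
    have h := congrFun (fr_theta_invariant Z χ θ he2 hres (g : H)) (eZ z)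
    rw [conjFun_apply] at h
    exact h
  have hNidx : ¬ p ∣ N.index := fun h => hSidx (h.trans (Subgroup.index_dvd_of_le hSN))
  have hA : ∀ (X : Subgroup N) (hZX : Z' ≤ X) (ξ : X → ℂ) (c : ℕ), Cfsg.IsCharacter X ξ →
      ResEq Z' X hZX ξ (θ' : Z' → ℂ) c → p ^ v ∣ c * X.index := by
    intro X hZX ξ c hξ hc
    have hZ1 : Z ≤ X.map N.subtype := fun z hz =>
      ⟨⟨z, hZN hz⟩, hZX (Subgroup.mem_subgroupOf.mpr hz), rfl⟩
    set eX := X.equivMapOfInjective N.subtype N.subtype_injective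
    have h := dvd_mul_index Z θ χ he2 hres (X.map N.subtype) hZ1 (ξ := fun x => ξ (eX.symm x)) (c := c)
      (isCharacter_comp hξ eX.symm.toMonoidHom) fun z => by
        have e1 : eX.symm ⟨(z : H), hZ1 z.2⟩ =
            ⟨⟨z, hZN z.2⟩, hZX (Subgroup.mem_subgroupOf.mpr z.2)⟩ := by
          rw [MulEquiv.symm_apply_eq]; exact Subtype.ext rfl
        show ξ (eX.symm _) = _
        rw [e1]
        exact hc ⟨⟨z, hZN z.2⟩, Subgroup.mem_subgroupOf.mpr z.2⟩
    rw [Subgroup.index_map_subtype, ← mul_assoc] at h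
    exact (Nat.Coprime.pow_left v (hp.out.coprime_iff_not_dvd.mpr hNidx)).dvd_of_dvd_mul_right
      ((Nat.ordProj_dvd e p).trans h)
  have hcase' : (∀ R : Subgroup N, Q' ≤ R → R ≤ S' → IsCyclic (R ⧸ Q'.subgroupOf R)) ∨
      ∃ (ψ : Cfsg.IrrCharacter Q') (c : ℕ), 0 < c ∧
        ResEq Z' Q' (Subgroup.comap_mono hZQ) (ψ : Q' → ℂ) (θ' : Z' → ℂ) c ∧ c.factorization p + n ≤ v := by
    rcases hcase with hcyc | ⟨φ, hφ, hind⟩
    · refine Or.inl fun R hQR hRS => ?_
      obtain ⟨P, hP⟩ := himg.exists_le_sylow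
      have := hcyc P
      let f : R →* H ⧸ K := (QuotientGroup.mk' K).comp (N.subtype.comp R.subtype)
      have hf : ∀ r : R, f r ∈ (P : Subgroup (H ⧸ K)) := fun r =>
        hP ⟨((r : N) : H), Subgroup.mem_subgroupOf.mp (hRS r.2), rfl⟩
      let f' : R →* (P : Subgroup (H ⧸ K)) := f.codRestrict _ hf
      have hker : Q'.subgroupOf R = f'.ker := by
        ext r
        rw [MonoidHom.mem_ker, ← Subtype.coe_inj]
        show ((r : N) : H) ∈ Q ↔ (QuotientGroup.mk' K ((r : N) : H)) = 1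
        rw [QuotientGroup.mk'_apply, QuotientGroup.eq_one_iff, hQdef, Subgroup.mem_inf]
        exact ⟨fun h => h.2, fun h => ⟨Subgroup.mem_subgroupOf.mp (hRS r.2), h⟩⟩
      let F : R ⧸ Q'.subgroupOf R →* (P : Subgroup (H ⧸ K)) := QuotientGroup.lift _ f' hker.le
      refine isCyclic_of_injective F ((injective_iff_map_eq_one F).mpr fun q hq => ?_)
      obtain ⟨r, rfl⟩ := QuotientGroup.mk'_surjective _ q
      exact (QuotientGroup.eq_one_iff r).mpr (hker.ge hq)
    · refine Or.inr ?_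
      obtain ⟨a, ha, hai⟩ := char_decomp hφ
      have hχK : Cfsg.classInner φ (fun k : K => (χ : H → ℂ) k) = 1 := by
        rw [← frobenius_reciprocity K φ (isClassFunction_of_isIrr χ.2), hind, classInner_irr_self χ.2]
      obtain ⟨φ₁, hφ1, hφ2⟩ : ∃ φ₁ : Cfsg.IrrCharacter K, a φ₁ ≠ 0 ∧
          Cfsg.classInner (fun k : K => (χ : H → ℂ) k) (φ₁ : K → ℂ) ≠ 0 := by
        by_contra hcon
        push Not at hcon
        refine one_ne_zero (α := ℂ) (hχK.symm.trans ?_)
        rw [classInner_eq_sum (isClassFunction_of_isCharacter hφ)]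
        refine Finset.sum_eq_zero fun ψ _ => ?_
        by_cases h : a ψ = 0
        · simp [hai, h]
        · simp [hcon ψ h]
      obtain ⟨c₁, hc₁0, hc₁⟩ := constituent_resEq hZK θ.2 (isCharacter_res K (isCharacter_of_isIrr χ.2))
        (c := e) hres φ₁ hφ2
      have hce : c₁ * K.index = e := by
        refine le_antisymm ?_ (Nat.le_of_dvd (Nat.mul_pos hc₁0 (Nat.pos_of_ne_zero
          Subgroup.index_ne_zero_of_finite)) (dvd_mul_index Z θ χ he2 hres K hZK
            (isCharacter_of_isIrr φ₁.2) hc₁))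
        obtain ⟨d, hd0, hd⟩ := exists_degree_pos θ.2
        have h1 : (χ : H → ℂ) 1 = (e : ℂ) * d := by rw [← hd]; exact hres 1
        rw [← hind, indFun_one] at h1
        have hle := constituent_degree_le hφ φ₁.2 (by rw [hai]; exact_mod_cast hφ1)
        rw [resEq_one hc₁, hd] at hle
        obtain ⟨D, hD⟩ := exists_degree hφ
        rw [hD] at h1 hle
        have h2 : K.index * D = e * d := by exact_mod_cast h1
        have h3 : c₁ * d ≤ D := by
          simp only [← Nat.cast_mul, Complex.natCast_re] at hle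
          exact_mod_cast hle
        refine Nat.le_of_mul_le_mul_right (le_trans ?_ h2.le) hd0
        rw [mul_right_comm, mul_comm _ K.index]
        exact Nat.mul_le_mul_left _ h3
      have hν : c₁.factorization p + n = v := by
        show _ = e.factorization p
        rw [← hce, Nat.factorization_mul hc₁0.ne' Subgroup.index_ne_zero_of_finite, Finsupp.add_apply]
        rfl
      let ι : Q' →* K :=
        { toFun := fun q => ⟨((q : N) : H), (Subgroup.mem_subgroupOf.mp q.2).2⟩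
          map_one' := rfl
          map_mul' := fun _ _ => rfl }
      set f : Q' → ℂ := fun q => (φ₁ : K → ℂ) (ι q)
      have hf : Cfsg.IsCharacter Q' f := isCharacter_comp (isCharacter_of_isIrr φ₁.2) ι
      have hfres : ResEq Z' Q' (Subgroup.comap_mono hZQ) f (θ' : Z' → ℂ) c₁ := fun z => hc₁ (eZ z)
      obtain ⟨b, hb, hbi⟩ := char_decomp hf
      choose cc hcc0 hcc using fun (ψ : Cfsg.IrrCharacter Q') (h : b ψ ≠ 0) =>
        constituent_resEq (Subgroup.comap_mono hZQ) θ'.2 hf hfres ψ (fun h0 => h (Nat.cast_eq_zero.mp ((hbi ψ).symm.trans h0)))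
      by_contra hcon
      push Not at hcon
      refine Nat.pow_succ_factorization_not_dvd hc₁0.ne' hp.out ?_
      have h1 := congrFun hb 1
      simp only [Finset.sum_apply, Pi.smul_apply, smul_eq_mul] at h1
      rw [resEq_one hfres] at h1
      have h2 : c₁ = ∑ ψ, b ψ * (if h : b ψ ≠ 0 then cc ψ h else 0) := by
        have h3 : (c₁ : ℂ) * (θ' : Z' → ℂ) 1 =
            ((∑ ψ, b ψ * (if h : b ψ ≠ 0 then cc ψ h else 0) : ℕ) : ℂ) * (θ' : Z' → ℂ) 1 := by
          rw [h1, Nat.cast_sum, Finset.sum_mul]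
          refine Finset.sum_congr rfl fun ψ _ => ?_
          by_cases h : b ψ = 0
          · simp [h]
          · rw [dif_pos h, Nat.cast_mul, mul_assoc]; exact congrArg _ (resEq_one (hcc ψ h))
        exact_mod_cast mul_right_cancel₀ (irr_one_ne_zero θ'.2) h3
      refine h2.symm ▸ Finset.dvd_sum fun ψ _ => ?_
      by_cases h : b ψ = 0
      · simp [h]
      · refine Dvd.dvd.mul_left ?_ _
        rw [dif_pos h]
        have h4 := hcon ψ (cc ψ h) (hcc0 ψ h) (hcc ψ h)
        refine (hp.out.pow_dvd_iff_le_factorization (hcc0 ψ h).ne').mpr ?_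
        rw [← h2]
        omega
  have hx : p ∣ Q'.relIndex L' → p ∣ S.index := fun h => by
    rw [show L' = (K ⊓ N).subgroupOf N from (Subgroup.inf_subgroupOf_right K N).symm,
      Subgroup.relIndex_subgroupOf (inf_le_right : K ⊓ N ≤ N)] at h
    have h1 : Q.relIndex (K ⊓ N) ∣ Q.relIndex K :=
      Dvd.intro _ (Subgroup.relIndex_mul_relIndex Q (K ⊓ N) K (le_inf inf_le_right hQN) inf_le_left)
    have h2 : Q.relIndex K = S.relIndex K := Subgroup.inf_relIndex_right S K
    exact h.trans (h1.trans (h2.dvd.trans (relIndex_dvd_index K S)))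
  obtain ⟨I, hLI, hI⟩ := exists_stabilizer (p := p) (v := v) (n := n) (M := m) Z' Q' L' S'
    (Subgroup.comap_mono hZQ) (Subgroup.comap_mono inf_le_left) (Subgroup.comap_mono inf_le_right)
    θ' hinv hA (by rw [Subgroup.relIndex_subgroupOf hQN, hm]) (by rw [Subgroup.relIndex_subgroupOf hSN, hQS])
    (fun h => hSidx (by
      rw [← Subgroup.relIndex_mul_index hSN]; exact dvd_mul_of_dvd_left h _))
    hv (fun h => hSidx (hx h)) hcase'
  · refine ⟨I.map ((QuotientGroup.mk' K).comp N.subtype), ?_⟩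
    rw [Subgroup.index_map_eq _ ?_ ?_, hI]
    · intro q
      obtain ⟨g, rfl⟩ := QuotientGroup.mk'_surjective K q
      obtain ⟨a, ha, b, hb, rfl⟩ := Subgroup.mem_sup_of_normal_right.mp (hfrat.ge (Subgroup.mem_top g))
      exact ⟨⟨a, ha⟩, QuotientGroup.eq.mpr (by simpa using hb)⟩
    · rw [← MonoidHom.comap_ker, QuotientGroup.ker_mk']
      exact hLI

end CfsgLib.CharNormal.Ramified
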