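import Cfsg.Agent.Lib.CharBlocks.PElementValue
import Cfsg.Agent.Lib.CharNormal.Galois
import Cfsg.Agent.Lib.Blocks.Functional
import Cfsg.Agent.Lib.Char.Ortho
import Mathlib.Data.Nat.Factorial.Basic
import Mathlib.NumberTheory.Padics.PadicVal.Basic
import Mathlib.GroupTheory.Sylow

/-!
# Schur's bound on `p`-groups with a faithful rational character

The values at nontrivial `p`-elements are `n - p k` with `1 ≤ k ≤ n / (p - 1)`, so the order of a
Sylow subgroup divides `p ^ M * M !` for `M = n / (p - 1)`.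
-/

namespace CfsgLib.CharNormal.Schur

open CfsgLib.Char

universe u

variable {G : Type u} [Group G] [Finite G] {p : ℕ} [hp : Fact p.Prime]

/-- A value at a `p`-element is congruent to the degree. -/
theorem int_value_congr {χ : G → ℂ} (hχ : Cfsg.IsCharacter G χ) {g : G} {k : ℕ} (hg : orderOf g = p ^ k)
    {v : ℤ} (hv : χ g = v) {n : ℕ} (hn : χ 1 = n) : (p : ℤ) ∣ (n : ℤ) - v := by
  obtain ⟨M, hM⟩ := CfsgLib.Blocks.exists_isPModular hp.out
  have := hM.2.1
  have := CfsgLib.Blocks.res_charP M hM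
  obtain ⟨d, ρ, rfl⟩ := hχ
  obtain ⟨z, hz, hsum⟩ := exists_roots_char_pow ρ g
  have hint : ∀ i, IsIntegral ℤ (z i) := fun i =>
    IsIntegral.of_pow (orderOf_pos g) (by rw [hz i]; exact isIntegral_one)
  let w : Fin (Module.finrank ℂ (Fin d → ℂ)) → Cfsg.AlgInt := fun i => ⟨z i, hint i⟩
  have hw : ∀ i, Ideal.Quotient.mk M (w i) = 1 := fun i => by
    have h1 : (Ideal.Quotient.mk M (w i)) ^ p ^ k = 1 := by
      rw [← map_pow, show w i ^ p ^ k = 1 from Subtype.ext (by rw [SubmonoidClass.coe_pow, ← hg, hz i]; rfl), map_one]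
    have h2 : (Ideal.Quotient.mk M (w i) - 1) ^ p ^ k = 0 := by
      rw [sub_pow_char_pow, h1, one_pow, sub_self]
    exact sub_eq_zero.mp (eq_zero_of_pow_eq_zero h2)
  have hs1 : ∑ i, z i = (v : ℂ) := by
    have := hsum 1
    rw [pow_one, hv] at this
    simpa using this.symm
  have hs0 : (n : ℂ) = (Module.finrank ℂ (Fin d → ℂ) : ℂ) := by
    have := hsum 0
    rw [pow_zero, hn] at this
    simpa using this
  have hsw : ∑ i, w i = (v : Cfsg.AlgInt) := Subtype.ext (by
    rw [AddSubmonoidClass.coe_finsetSum]; simpa [w] using hs1)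
  have h := congrArg (Ideal.Quotient.mk M) hsw
  rw [map_sum, map_intCast, Finset.sum_congr rfl (fun i _ => hw i)] at h
  simp only [Finset.sum_const, Finset.card_univ, Fintype.card_fin, nsmul_eq_mul, mul_one] at h
  rw [← Nat.cast_inj.mp hs0] at h
  refine (CharP.intCast_eq_zero_iff (CfsgLib.Blocks.Res M) p _).mp ?_
  rw [Int.cast_sub, Int.cast_natCast, sub_eq_zero]
  exact h

/-- The lower bound for a Galois invariant value at a `p`-element. -/
theorem value_lower {χ : G → ℂ} (hχ : Cfsg.IsCharacter G χ) {g : G} {j : ℕ}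
    (hg : orderOf g = p ^ (j + 1)) (hgal : ∀ i : ℕ, ¬ p ∣ i → χ (g ^ i) = χ g)
    {v : ℤ} (hv : χ g = v) {n : ℕ} (hn : χ 1 = n) : -(n : ℤ) ≤ ((p : ℤ) - 1) * v := by
  classical
  have := Fintype.ofFinite G
  obtain ⟨c, -, hc⟩ := CfsgLib.Blocks.exists_multiplicities hχ g
  have hq : 0 < p ^ j := pow_pos hp.out.pos j
  have hpq : p * p ^ j = orderOf g := by rw [hg, pow_succ']
  have h0 := hc 0 (Finset.mem_range.mpr (orderOf_pos g))
  simp only [pow_zero, inv_one, one_pow, one_mul] at h0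
  have hsplit : ∑ i ∈ Finset.range (orderOf g), χ (g ^ i) =
      ((orderOf g : ℂ) - (p ^ j : ℕ)) * v + ∑ i ∈ Finset.range (p ^ j), χ (g ^ (p * i)) := by
    rw [← Finset.sum_filter_add_sum_filter_not (Finset.range (orderOf g)) (fun i => p ∣ i), add_comm]
    have hS : (Finset.range (orderOf g)).filter (fun i => p ∣ i) =
        (Finset.range (p ^ j)).image (fun i => p * i) := by
      ext i
      simp only [Finset.mem_filter, Finset.mem_range, Finset.mem_image]
      constructor
      · rintro ⟨hi, a, rfl⟩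
        exact ⟨a, Nat.lt_of_mul_lt_mul_left (hpq ▸ hi), rfl⟩
      · rintro ⟨a, ha, rfl⟩
        exact ⟨hpq ▸ Nat.mul_lt_mul_of_pos_left ha hp.out.pos, dvd_mul_right p a⟩
    congr 1
    · rw [Finset.sum_congr rfl fun i hi => (hgal i (Finset.mem_filter.mp hi).2).trans hv,
        Finset.sum_const, nsmul_eq_mul]
      have hcard := Finset.card_filter_add_card_filter_not (s := Finset.range (orderOf g))
        (fun i => p ∣ i)
      rw [hS, Finset.card_image_of_injective _ (mul_right_injective₀ hp.out.ne_zero),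
        Finset.card_range, Finset.card_range] at hcard
      congr 1
      rw [eq_sub_iff_add_eq, add_comm]
      exact_mod_cast hcard
    · rw [hS, Finset.sum_image fun a _ b _ h => mul_right_injective₀ hp.out.ne_zero h]
  rw [hsplit] at h0
  have hre : ((orderOf g : ℝ) - (p ^ j : ℕ)) * (v : ℝ) + (p ^ j : ℕ) * (n : ℝ) ≥ 0 := by
    have h1 := congrArg Complex.re h0
    simp only [Complex.add_re, Complex.mul_re, Complex.sub_re, Complex.natCast_re, Complex.natCast_im,
      Complex.intCast_re, Complex.intCast_im, Complex.re_sum, Complex.sub_im, sub_self, mul_zero,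
      sub_zero] at h1
    have h2 : ∑ i ∈ Finset.range (p ^ j), (χ (g ^ (p * i))).re ≤ (p ^ j : ℕ) * (n : ℝ) := by
      refine (Finset.sum_le_card_nsmul _ _ (n : ℝ) fun i _ => ?_).trans (by simp)
      refine (Complex.re_le_norm _).trans ((norm_char_le hχ _).trans ?_)
      rw [hn, Complex.natCast_re]
    have h3 : (0 : ℝ) ≤ (orderOf g : ℝ) * (c 0 : ℝ) := by positivity
    linarith
  have h4 : ((p : ℝ) - 1) * (v : ℝ) + n ≥ 0 := by
    refine le_of_mul_le_mul_left ?_ (show (0 : ℝ) < (p ^ j : ℕ) by exact_mod_cast hq)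
    rw [mul_zero]
    refine hre.le.trans_eq ?_
    rw [← hpq]; push_cast; ring
  have h5 : ((-(n : ℤ) : ℤ) : ℝ) ≤ (((p : ℤ) - 1) * v : ℤ) := by push_cast; linarith
  exact_mod_cast h5

/-- Sums over the group of integer polynomials in a character are divisible by the order. -/
theorem sum_prod_dvd {P : Type u} [Group P] [Fintype P] {χ : P → ℂ} (hχ : Cfsg.IsCharacter P χ)
    (c : ℕ → ℤ) (s : Finset ℕ) : ∀ φ : P → ℂ, Cfsg.IsCharacter P φ →
    ∃ z : ℤ, ∑ g, φ g * ∏ k ∈ s, (χ g - c k) = (Nat.card P : ℂ) * z := by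
  classical
  induction s using Finset.induction_on with
  | empty =>
    intro φ hφ
    obtain ⟨m, hm⟩ := classInner_char_nat hφ (isCharacter_one (G := P))
    refine ⟨m, ?_⟩
    rw [Int.cast_natCast, ← hm, card_mul_classInner]
    simp
  | insert k s hk ih =>
    intro φ hφ
    obtain ⟨z₁, h₁⟩ := ih _ (isCharacter_mul hφ hχ)
    obtain ⟨z₂, h₂⟩ := ih φ hφ
    refine ⟨z₁ - c k * z₂, ?_⟩
    push_cast
    rw [mul_sub, ← h₁, mul_left_comm, ← h₂, Finset.mul_sum, ← Finset.sum_sub_distrib]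
    refine Finset.sum_congr rfl fun g _ => ?_
    rw [Finset.prod_insert hk, Pi.mul_apply]
    ring

/-- The automorphisms fixing the `r`-th roots of unity fix the values. -/
theorem value_pow {χ : G → ℂ} (hχ : Cfsg.IsCharacter G χ) {r : ℕ} (hr : ¬ p ∣ r)
    (hval : ∀ g : G, χ g ∈ IntermediateField.adjoin ℚ
      ({Complex.exp (2 * Real.pi * Complex.I / r)} : Set ℂ))
    {g : G} {j : ℕ} (hg : orderOf g = p ^ j) {i : ℕ} (hi : i.Coprime (orderOf g)) :
    χ (g ^ i) = χ g := by
  have hr0 : r ≠ 0 := fun h => hr (h ▸ dvd_zero p)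
  have hco : r.Coprime (orderOf g) := by
    rw [hg]; exact Nat.Coprime.pow_right _ (hp.out.coprime_iff_not_dvd.mpr hr).symm
  set k := Nat.chineseRemainder hco 1 i with hk
  have hkr : (k : ℕ) ≡ 1 [MOD r] := k.2.1
  have hkg : (k : ℕ) ≡ i [MOD orderOf g] := k.2.2
  have hn : (k : ℕ).Coprime (r * orderOf g) := by
    refine Nat.Coprime.mul_right ?_ ?_
    · rw [Nat.Coprime, hkr.gcd_eq, Nat.gcd_one_left]
    · rw [Nat.Coprime, hkg.gcd_eq]; exact hi
  obtain ⟨σ, hσ⟩ := exists_ringEquiv_root_pow (Nat.mul_ne_zero hr0 (orderOf_pos g).ne') hn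
  have h1 : σ (χ g) = χ (g ^ (k : ℕ)) := ringEquiv_char_apply hσ hχ (dvd_mul_left _ _)
  rw [show g ^ (k : ℕ) = g ^ i from pow_eq_pow_iff_modEq.mpr hkg] at h1
  rw [← h1]
  set ζ := Complex.exp (2 * Real.pi * Complex.I / r)
  have hζ : ζ ^ r = 1 := (Complex.isPrimitiveRoot_exp r hr0).pow_eq_one
  have hfix : σ ζ = ζ := by
    rw [hσ ζ (by rw [pow_mul, hζ, one_pow])]
    calc ζ ^ (k : ℕ) = ζ ^ ((k : ℕ) % r) := pow_eq_pow_mod _ hζ
      _ = ζ ^ (1 % r) := by rw [hkr]
      _ = ζ := by rw [← pow_eq_pow_mod _ hζ, pow_one]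
  refine IntermediateField.adjoin_induction ℚ (p := fun x _ => σ x = x) ?_ ?_ ?_ ?_ ?_ (hval g)
  · intro x hx; rw [Set.mem_singleton_iff.mp hx, hfix]
  · intro q; exact map_ratCast σ q
  · intro x y _ _ hx hy; rw [map_add, hx, hy]
  · intro x _ hx; rw [map_inv₀, hx]
  · intro x y _ _ hx hy; rw [map_mul, hx, hy]

/-- **Schur's bound.** -/
theorem factorization_le {χ : G → ℂ} (hχ : Cfsg.IsCharacter G χ) (hfaith : ∀ g, χ g = χ 1 → g = 1)
    {r : ℕ} (hr : ¬ p ∣ r) (hval : ∀ g : G, χ g ∈ IntermediateField.adjoin ℚ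
      ({Complex.exp (2 * Real.pi * Complex.I / r)} : Set ℂ)) {n : ℕ} (hn : χ 1 = n) :
    (Nat.card G).factorization p ≤ n / (p - 1) + (Nat.factorial (n / (p - 1))).factorization p := by
  classical
  obtain ⟨P⟩ := (inferInstance : Nonempty (Sylow p G))
  let _ := Fintype.ofFinite (P : Subgroup G)
  set M := n / (p - 1)
  have hp1 : 0 < p - 1 := by have := hp.out.two_le; omega
  have hprod : ∀ u : (P : Subgroup G), u ≠ 1 →
      ∏ k ∈ Finset.range M, (χ u - (((n : ℤ) - p * (k + 1) : ℤ) : ℂ)) = 0 := by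
    intro u hu
    obtain ⟨j, hj⟩ := IsPGroup.iff_orderOf.mp P.isPGroup' u
    rw [← Subgroup.orderOf_coe] at hj
    obtain ⟨j, rfl⟩ : ∃ j', j = j' + 1 := by
      refine ⟨j - 1, (Nat.sub_add_cancel (Nat.pos_of_ne_zero fun h => hu (Subtype.ext ?_))).symm⟩
      rw [h, pow_zero, orderOf_eq_one_iff] at hj
      exact hj
    have hgal : ∀ i : ℕ, i.Coprime (orderOf (u : G)) → χ ((u : G) ^ i) = χ (u : G) := fun i hi =>
      value_pow hχ hr hval hj hi
    obtain ⟨v, hv⟩ := exists_int_of_forall_coprime hχ (u : G) hgal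
    obtain ⟨k, hk⟩ := int_value_congr hχ hj hv hn
    have hlow := value_lower hχ hj (fun i hi => hgal i (by
      rw [hj]; exact Nat.Coprime.pow_right _ (hp.out.coprime_iff_not_dvd.mpr hi).symm)) hv hn
    have hup : |v| ≤ (n : ℤ) := by
      have h := norm_char_le hχ (u : G)
      rw [hv, hn, Complex.natCast_re, Complex.norm_intCast] at h
      exact_mod_cast h
    have hk1 : 1 ≤ k := by
      rcases lt_trichotomy k 0 with h | h | h
      · have := mul_neg_of_pos_of_neg (show (0 : ℤ) < p by exact_mod_cast hp.out.pos) h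
        have := (abs_le.mp hup).2
        omega
      · exfalso
        rw [h, mul_zero, sub_eq_zero] at hk
        exact hu (Subtype.ext (hfaith u (by rw [hv, hn, ← hk, Int.cast_natCast])))
      · omega
    have hkM : k.toNat ≤ M := by
      rw [Nat.le_div_iff_mul_le hp1]
      have h : k * ((p : ℤ) - 1) ≤ (n : ℤ) := by
        have hp' : (0 : ℤ) < p := by exact_mod_cast hp.out.pos
        refine le_of_mul_le_mul_left ?_ hp'
        calc (p : ℤ) * (k * ((p : ℤ) - 1)) = ((p : ℤ) - 1) * ((n : ℤ) - v) := by rw [hk]; ring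
          _ ≤ (p : ℤ) * n := by linarith
      zify [hp.out.one_le]
      rwa [Int.toNat_of_nonneg (by omega)]
    refine Finset.prod_eq_zero (i := k.toNat - 1) (Finset.mem_range.mpr (by omega)) ?_
    rw [hv, sub_eq_zero, Int.cast_inj, Nat.cast_sub (by omega), Int.toNat_of_nonneg (by omega)]
    push_cast
    linarith
  obtain ⟨z, hz⟩ := sum_prod_dvd (isCharacter_res (P : Subgroup G) hχ)
    (fun k => (n : ℤ) - p * ((k : ℤ) + 1)) (Finset.range M) _ isCharacter_one
  rw [Finset.sum_eq_single (1 : (P : Subgroup G)) (fun u _ hu => by rw [hprod u hu, mul_zero])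
    (by simp), one_mul, OneMemClass.coe_one, hn] at hz
  have hval1 : ∏ k ∈ Finset.range M, ((n : ℂ) - (((n : ℤ) - p * ((k : ℤ) + 1) : ℤ) : ℂ)) =
      ((p ^ M * Nat.factorial M : ℕ) : ℂ) := by
    rw [Nat.cast_mul, Nat.cast_pow, ← Finset.prod_range_add_one_eq_factorial, Nat.cast_prod]
    rw [show (p : ℂ) ^ M = ∏ _k ∈ Finset.range M, (p : ℂ) by
      rw [Finset.prod_const, Finset.card_range], ← Finset.prod_mul_distrib]
    refine Finset.prod_congr rfl fun k _ => ?_
    push_cast; ring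
  rw [hval1] at hz
  have hdvd : Nat.card (P : Subgroup G) ∣ p ^ M * Nat.factorial M :=
    Int.natCast_dvd_natCast.mp ⟨z, by exact_mod_cast hz⟩
  rw [P.card_eq_multiplicity] at hdvd
  have h := (hp.out.pow_dvd_iff_le_factorization
    (Nat.mul_ne_zero (pow_ne_zero _ hp.out.ne_zero) (Nat.factorial_ne_zero M))).mp hdvd
  rwa [Nat.factorization_mul (pow_ne_zero _ hp.out.ne_zero) (Nat.factorial_ne_zero M),
    Finsupp.add_apply, hp.out.factorization_pow, Finsupp.single_eq_same] at h

end CfsgLib.CharNormal.Schur
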