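import Cfsg.Agent.Lib.Modular.Reduction
import Cfsg.Agent.Lib.Blocks.GaloisInv
import Cfsg.Agent.Lib.Modular.Exact
import Mathlib.LinearAlgebra.Eigenspace.Zero
import Mathlib.LinearAlgebra.Eigenspace.Charpoly
import Mathlib.LinearAlgebra.Trace
import Mathlib.GroupTheory.Sylow
import Mathlib.Algebra.CharP.Lemmas

/-!
# Linear groups of small degree in characteristic `p` with a Sylow subgroup of order `p`

If `2 dim ≤ p`, a `p'`-element commuting with a Sylow subgroup of order `p` is scalar on each
irreducible constituent, as soon as no proper normal subgroup contains the Sylow subgroup. The proof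
transfers the projection on the trivial source part of the endomorphisms from the normalizer.
-/

set_option autoImplicit false

namespace CfsgLib.CharNormal.SmallModular

open Module

section orbit

/-- A sum over a set with free action of a cyclic group of order `p` is a trace. -/
theorem sum_free_orbit {A α : Type*} [AddCommMonoid A] [DecidableEq α] {p : ℕ} (hp : 0 < p)
    (τ : α → α) (T : A → A) (F : α → A) (hτ : ∀ a, τ^[p] a = a) (hF : ∀ a, F (τ a) = T (F a))
    (hT : ∀ (a b : A) (i : ℕ), T^[i] (a + b) = T^[i] a + T^[i] b) (hT0 : ∀ i : ℕ, T^[i] 0 = 0)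
    (S : Finset α) :
    (∀ a ∈ S, τ a ∈ S) → (∀ a ∈ S, ∀ i, 0 < i → i < p → τ^[i] a ≠ a) →
    ∃ z, ∑ a ∈ S, F a = ∑ i ∈ Finset.range p, T^[i] z := by
  induction S using Finset.strongInduction with
  | _ S ih =>
  intro hS hfree
  rcases S.eq_empty_or_nonempty with rfl | ⟨a, ha⟩
  · exact ⟨0, by simp [hT0]⟩
  set O := (Finset.range p).image (fun i => τ^[i] a) with hO
  have hFi : ∀ i, F (τ^[i] a) = T^[i] (F a) := by
    intro i
    induction i with
    | zero => rfl
    | succ i hi => rw [Function.iterate_succ_apply', hF, hi, Function.iterate_succ_apply']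
  have hmem : ∀ i, τ^[i] a ∈ S := by
    intro i
    induction i with
    | zero => exact ha
    | succ i hi => rw [Function.iterate_succ_apply']; exact hS _ hi
  have hOS : O ⊆ S := by
    intro b hb
    obtain ⟨i, -, rfl⟩ := Finset.mem_image.mp hb
    exact hmem i
  have hinj : Set.InjOn (fun i => τ^[i] a) (Finset.range p) := by
    intro i hi j hj h
    simp only [Finset.coe_range, Set.mem_Iio] at hi hj
    dsimp only at h
    have key : ∀ i j, i < j → j < p → τ^[i] a ≠ τ^[j] a := by
      intro i j hij hj h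
      refine hfree _ (hmem i) (j - i) (by omega) (by omega) ?_
      rw [← Function.iterate_add_apply, show j - i + i = j by omega, h]
    rcases lt_trichotomy i j with h' | h' | h'
    · exact absurd h (key i j h' hj)
    · exact h'
    · exact absurd h.symm (key j i h' hi)
  have hτmod : ∀ i, τ^[i] a = τ^[i % p] a := by
    intro i
    induction i using Nat.strong_induction_on with
    | _ i hi =>
    rcases Nat.lt_or_ge i p with h | h
    · rw [Nat.mod_eq_of_lt h]
    · conv_lhs => rw [show i = i - p + p by omega, Function.iterate_add_apply, hτ]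
      rw [hi _ (by omega), ← Nat.mod_eq_sub_mod h]
  have hOstable : ∀ b, τ b ∈ O → b ∈ S → b ∈ O := by
    intro b hb _
    obtain ⟨i, -, hi⟩ := Finset.mem_image.mp hb
    refine Finset.mem_image.mpr ⟨(i + (p - 1)) % p, Finset.mem_range.mpr (Nat.mod_lt _ hp), ?_⟩
    rw [← hτmod, add_comm, Function.iterate_add_apply, hi, ← Function.iterate_succ_apply,
      show (p - 1).succ = p by omega, hτ]
  obtain ⟨z, hz⟩ := ih (S \ O) (Finset.sdiff_ssubset hOS ⟨a, Finset.mem_image.mpr
    ⟨0, Finset.mem_range.mpr hp, rfl⟩⟩) (fun b hb => by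
      rw [Finset.mem_sdiff] at hb ⊢
      exact ⟨hS b hb.1, fun h => hb.2 (hOstable b h hb.1)⟩)
    (fun b hb => hfree b (Finset.mem_sdiff.mp hb).1)
  refine ⟨z + F a, ?_⟩
  rw [← Finset.sum_sdiff hOS, hz, hO, Finset.sum_image hinj, ← Finset.sum_add_distrib]
  exact Finset.sum_congr rfl fun i _ => by rw [hT, hFi]

end orbit

section transfer

variable {k : Type*} [Field k] {G : Type*} [Group G] {E : Type*} [AddCommGroup E] [Module k E]

/-- The conjugate of an endomorphism by a group element. -/
def conjEnd (ρ : Representation k G E) (g : G) (f : Module.End k E) : Module.End k E :=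
  ρ g * f * ρ g⁻¹

theorem conjEnd_mul (ρ : Representation k G E) (g h : G) (f : Module.End k E) :
    conjEnd ρ (g * h) f = conjEnd ρ g (conjEnd ρ h f) := by
  simp only [conjEnd, map_mul, mul_inv_rev, mul_assoc]

theorem conjEnd_of_commute (ρ : Representation k G E) {g : G} {f : Module.End k E}
    (h : ρ g * f = f * ρ g) : conjEnd ρ g f = f := by
  rw [conjEnd, h, mul_assoc, ← map_mul, mul_inv_cancel, map_one, mul_one]

theorem commute_of_conjEnd (ρ : Representation k G E) {g : G} {f : Module.End k E}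
    (h : conjEnd ρ g f = f) : ρ g * f = f * ρ g := by
  conv_rhs => rw [← h, conjEnd, mul_assoc, ← map_mul, inv_mul_cancel, map_one, mul_one]

variable [Finite G]

/-- The relative trace from a subgroup. -/
noncomputable def cosetSum (ρ : Representation k G E) (H : Subgroup G) (f : Module.End k E) :
    Module.End k E :=
  letI := Fintype.ofFinite (G ⧸ H)
  ∑ c : G ⧸ H, conjEnd ρ c.out f

omit [Finite G] in
theorem conjEnd_out (ρ : Representation k G E) {H : Subgroup G} {f : Module.End k E}
    (hf : ∀ h ∈ H, ρ h * f = f * ρ h) (g : G) :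
    conjEnd ρ (Quotient.out (QuotientGroup.mk g : G ⧸ H)) f = conjEnd ρ g f := by
  obtain ⟨h, hh⟩ := QuotientGroup.mk_out_eq_mul H g
  rw [hh, conjEnd_mul, conjEnd_of_commute ρ (hf h h.2)]

theorem cosetSum_commute (ρ : Representation k G E) {H : Subgroup G} {f : Module.End k E}
    (hf : ∀ h ∈ H, ρ h * f = f * ρ h) (g : G) :
    ρ g * cosetSum ρ H f = cosetSum ρ H f * ρ g := by
  refine commute_of_conjEnd ρ ?_
  unfold cosetSum
  let _ := Fintype.ofFinite (G ⧸ H)
  show ρ g * (∑ c : G ⧸ H, conjEnd ρ c.out f) * ρ g⁻¹ = _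
  rw [Finset.mul_sum, Finset.sum_mul]
  refine Fintype.sum_equiv (MulAction.toPerm g) _ _ fun c => ?_
  show conjEnd ρ g (conjEnd ρ c.out f) = conjEnd ρ (g • c : G ⧸ H).out f
  rw [← conjEnd_mul]
  conv_rhs => rw [← c.out_eq']
  rw [MulAction.Quotient.smul_mk, smul_eq_mul, conjEnd_out ρ hf]

end transfer

section green

variable {k : Type*} [Field k] [IsAlgClosed k] {p : ℕ} [hp : Fact p.Prime] [CharP k p]
  {G : Type*} [Group G] [Finite G]
  {E : Type*} [AddCommGroup E] [Module k E] [FiniteDimensional k E]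

omit [IsAlgClosed k] [FiniteDimensional k E] in
theorem geom_sum_eq_sub_pow (X : Module.End k E) :
    ∑ i ∈ Finset.range p, X ^ i = (X - 1) ^ (p - 1) := by
  have h : ∑ i ∈ Finset.range p, (Polynomial.X : Polynomial k) ^ i =
      (Polynomial.X - 1) ^ (p - 1) := by
    refine mul_left_cancel₀ (Polynomial.X_sub_C_ne_zero (1 : k)) ?_
    rw [map_one, mul_geom_sum, ← pow_succ', Nat.sub_add_cancel hp.out.one_le,
      sub_pow_char_of_commute p (Commute.one_right _), one_pow]
  have h' := congrArg (Polynomial.aeval X) h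
  simpa [map_sum] using h'

/-- **The transfer argument.** A fixed vector of the Sylow subgroup is congruent to a fixed vector
of the group. -/
theorem fixed_mod_range (ρ : Representation k G E) (P : Sylow p G) {x : G}
    (hx : Subgroup.zpowers x = (P : Subgroup G)) (hox : orderOf x = p)
    (hQ : (ρ x - 1) ^ (p - 1) = 0)
    (hgen : ∀ M : Subgroup G, M.Normal → (P : Subgroup G) ≤ M → M = ⊤)
    {v₁ : E} (hv₁ : ∀ g, ρ g v₁ = v₁) (hfix : ∀ v, (∀ g, ρ g v = v) → ∃ c : k, v = c • v₁)
    {v : E} (hv : ρ x v = v) : ∃ c : k, v - c • v₁ ∈ LinearMap.range (ρ x - 1) := by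
  classical
  have := Fintype.ofFinite G
  set Q : Module.End k E := ρ x - 1 with hQdef
  set D := LinearMap.range Q
  set F := LinearMap.ker Q
  have hmemF : ∀ w, w ∈ F ↔ ρ x w = w := fun w => by
    simp [F, Q, LinearMap.mem_ker, sub_eq_zero]
  set N := Subgroup.normalizer ((P : Subgroup G) : Set G) with hN
  have hxP : x ∈ (P : Subgroup G) := hx ▸ Subgroup.mem_zpowers x
  have hPN : (P : Subgroup G) ≤ N := Subgroup.le_normalizer
  have hpow : ∀ h ∈ (P : Subgroup G), ∃ i : ℕ, x ^ i = h := by
    intro h hh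
    rw [← hx] at hh
    exact (IsOfFinOrder.mem_powers_iff_mem_zpowers (isOfFinOrder_of_finite x)).mpr hh
  have hconjx : ∀ n ∈ N, ∃ i : ℕ, n * x * n⁻¹ = x ^ i := fun n hn => by
    obtain ⟨i, hi⟩ := hpow _ ((Subgroup.mem_normalizer_iff.mp hn x).mp hxP)
    exact ⟨i, hi.symm⟩
  have hND : ∀ n ∈ N, ∀ w ∈ D, ρ n w ∈ D := by
    intro n hn w hw
    obtain ⟨u, rfl⟩ := LinearMap.mem_range.mp hw
    obtain ⟨i, hi⟩ := hconjx n hn
    refine LinearMap.mem_range.mpr ⟨(∑ j ∈ Finset.range i, ρ x ^ j) (ρ n u), ?_⟩
    have e : ρ n * Q = Q * (∑ j ∈ Finset.range i, ρ x ^ j) * ρ n := by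
      rw [mul_geom_sum, ← map_pow, ← hi, hQdef, mul_sub, sub_mul, ← map_mul, ← map_mul, mul_one,
        one_mul, inv_mul_cancel_right]
    exact (LinearMap.congr_fun e u).symm
  have hNF : ∀ n ∈ N, ∀ w ∈ F, ρ n w ∈ F := by
    intro n hn w hw
    obtain ⟨i, hi⟩ := hconjx n⁻¹ (inv_mem hn)
    rw [hmemF] at hw ⊢
    rw [inv_inv] at hi
    have hw' : ρ (x ^ i) w = w := by
      clear hi
      induction i with
      | zero => simp
      | succ j hj => rw [pow_succ, map_mul, Module.End.mul_apply, hw, hj]
    rw [← Module.End.mul_apply, ← map_mul, show x * n = n * (n⁻¹ * x * n) by group, hi, map_mul,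
      Module.End.mul_apply, hw']
  -- a projection on the fixed vectors modulo the range
  obtain ⟨π₀, hπF, hπD, hπid⟩ : ∃ π₀ : Module.End k E,
      (∀ w, π₀ w ∈ F) ∧ (∀ w ∈ D, π₀ w = 0) ∧ ∀ w ∈ F, π₀ w - w ∈ D := by
    set q := D.mkQ.comp F.subtype
    obtain ⟨s, hs⟩ := q.rangeRestrict.exists_rightInverse_of_surjective q.range_rangeRestrict
    obtain ⟨s', hs'⟩ := s.exists_extend
    refine ⟨F.subtype.comp (s'.comp D.mkQ), fun w => (s' (D.mkQ w)).2, fun w hw => ?_, fun w hw => ?_⟩
    · have : D.mkQ w = 0 := (Submodule.Quotient.mk_eq_zero D).mpr hw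
      simp [LinearMap.comp_apply, this]
    · refine (Submodule.Quotient.eq D).mp ?_
      have h1 := LinearMap.congr_fun hs ⟨q ⟨w, hw⟩, LinearMap.mem_range_self _ _⟩
      have h2 := LinearMap.congr_fun hs' ⟨q ⟨w, hw⟩, LinearMap.mem_range_self _ _⟩
      have h3 := congrArg Subtype.val h1
      simp only [LinearMap.comp_apply, LinearMap.id_apply, Submodule.subtype_apply] at h2 h3
      have h4 : s' (D.mkQ w) = s ⟨q ⟨w, hw⟩, LinearMap.mem_range_self _ _⟩ := h2
      show D.mkQ ((s' (D.mkQ w) : F) : E) = D.mkQ w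
      rw [h4]
      exact h3
  have hQπ : Q * π₀ = 0 := LinearMap.ext fun w => LinearMap.mem_ker.mp (hπF w)
  have hπQ : π₀ * Q = 0 := LinearMap.ext fun w => hπD _ (LinearMap.mem_range_self _ _)
  have hxπ : ρ x * π₀ = π₀ := by
    have h : (ρ x - 1) * π₀ = 0 := hQπ
    rwa [sub_mul, one_mul, sub_eq_zero] at h
  have hπx : π₀ * ρ x = π₀ := by
    have h : π₀ * (ρ x - 1) = 0 := hπQ
    rwa [mul_sub, mul_one, sub_eq_zero] at h
  have hPπ : ∀ h ∈ (P : Subgroup G), ρ h * π₀ = π₀ ∧ π₀ * ρ h = π₀ := by
    intro h hh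
    obtain ⟨i, rfl⟩ := hpow h hh
    induction i with
    | zero => simp
    | succ j hj =>
      have hj' := hj (Subgroup.pow_mem _ hxP j)
      rw [pow_succ, map_mul]
      exact ⟨by rw [mul_assoc, hxπ, hj'.1], by rw [← mul_assoc, hj'.2, hπx]⟩
  set ρN : Representation k N E := ρ.comp N.subtype with hρN
  set PN := (P : Subgroup G).subgroupOf N with hPN'
  let _ := Fintype.ofFinite (N ⧸ PN)
  set φ' := cosetSum ρN PN π₀ with hφ'
  have hPc : ∀ h ∈ PN, ρN h * π₀ = π₀ * ρN h := fun h hh => by
    have h' := hPπ h (Subgroup.mem_subgroupOf.mp hh)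
    exact h'.1.trans h'.2.symm
  have hidx : ((PN.index : ℕ) : k) ≠ 0 := by
    rw [Ne, CharP.cast_eq_zero_iff k p]
    intro h
    exact P.not_dvd_index (h.trans ⟨N.index, (Subgroup.relIndex_mul_index hPN).symm⟩)
  set φ : Module.End k E := ((PN.index : ℕ) : k)⁻¹ • φ' with hφ
  have hNφ : ∀ n ∈ N, ρ n * φ = φ * ρ n := fun n hn => by
    rw [hφ, mul_smul_comm, smul_mul_assoc]
    exact congrArg _ (cosetSum_commute ρN hPc ⟨n, hn⟩)
  have hterm : ∀ n ∈ N, ρ x * conjEnd ρ n π₀ = conjEnd ρ n π₀ := by
    intro n hn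
    rw [conjEnd, ← mul_assoc, ← mul_assoc, ← map_mul, show x * n = n * (n⁻¹ * x * n) by group,
      map_mul, mul_assoc (ρ n), (hPπ _ ?_).1]
    exact (Subgroup.mem_normalizer_iff'.mp hn _).mpr (by simpa [mul_assoc] using hxP)
  have hxφ : ρ x * φ = φ := by
    rw [hφ, mul_smul_comm]
    congr 1
    rw [hφ']
    unfold cosetSum
    rw [Finset.mul_sum]
    exact Finset.sum_congr rfl fun c _ => hterm _ c.out.2
  have hφx : φ * ρ x = φ := (hNφ x (hPN hxP)).symm.trans hxφ
  have hφid : ∀ w ∈ F, φ w - w ∈ D := by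
    intro w hw
    have h1 : ((PN.index : ℕ) : k) • (φ w - w) = ∑ c : N ⧸ PN, (conjEnd ρN c.out π₀ w - w) := by
      rw [hφ, LinearMap.smul_apply, smul_sub, smul_smul, mul_inv_cancel₀ hidx, one_smul,
        Finset.sum_sub_distrib, Finset.sum_const, Finset.card_univ, ← Nat.card_eq_fintype_card,
        ← Subgroup.index, Nat.cast_smul_eq_nsmul, hφ']
      unfold cosetSum
      rw [LinearMap.sum_apply]
    have h2 : ∀ c : N ⧸ PN, conjEnd ρN c.out π₀ w - w ∈ D := by
      intro c
      have e : conjEnd ρN c.out π₀ w - w =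
          ρ (c.out : G) (π₀ (ρ (c.out : G)⁻¹ w) - ρ (c.out : G)⁻¹ w) := by
        rw [map_sub, ← Module.End.mul_apply (ρ (c.out : G)) (ρ (c.out : G)⁻¹), ← map_mul,
          mul_inv_cancel, map_one, Module.End.one_apply]
        rfl
      rw [e]
      exact hND _ c.out.2 _ (hπid _ (hNF _ (inv_mem c.out.2) _ hw))
    have h3 := D.smul_mem ((PN.index : ℕ) : k)⁻¹ (h1 ▸ Submodule.sum_mem D fun c _ => h2 c :
      ((PN.index : ℕ) : k) • (φ w - w) ∈ D)
    rwa [smul_smul, inv_mul_cancel₀ hidx, one_smul] at h3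
  have hφD : ∀ w ∈ D, φ w = 0 := by
    intro w hw
    obtain ⟨u, rfl⟩ := LinearMap.mem_range.mp hw
    have e : φ * Q = 0 := by rw [hQdef, mul_sub, hφx, mul_one, sub_self]
    exact LinearMap.congr_fun e u
  have hφφ : ∀ w ∈ F, φ (φ w) = φ w := fun w hw => by
    rw [← sub_eq_zero, ← map_sub]; exact hφD _ (hφid w hw)
  -- induction to the group
  let _ := Fintype.ofFinite (G ⧸ N)
  set ψ := cosetSum ρ N φ with hψ
  set f := ψ - φ with hf
  have hψc : ∀ g, ρ g * ψ = ψ * ρ g := cosetSum_commute ρ hNφ
  set c₀ : G ⧸ N := QuotientGroup.mk 1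
  obtain ⟨z, hz⟩ : ∃ z : Module.End k E, f = ∑ i ∈ Finset.range p, (conjEnd ρ x)^[i] z := by
    have hf' : f = ∑ c ∈ Finset.univ.erase c₀, conjEnd ρ c.out φ := by
      rw [hf, sub_eq_iff_eq_add]
      have h0 : φ = conjEnd ρ c₀.out φ := by
        rw [conjEnd_out ρ hNφ]
        simp [conjEnd]
      conv_rhs => arg 2; rw [h0]
      rw [Finset.sum_erase_add _ _ (Finset.mem_univ c₀)]
      rfl
    rw [hf']
    refine sum_free_orbit hp.out.pos (fun c : G ⧸ N => x • c) (conjEnd ρ x)
      (fun c => conjEnd ρ c.out φ) (fun c => ?_) (fun c => ?_) ?_ ?_ _ (fun c hc => ?_)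
      (fun c hc i hi hip hfx => ?_)
    · rw [smul_iterate_apply, ← hox, pow_orderOf_eq_one, one_smul]
    · rw [← conjEnd_mul]
      conv_lhs => rw [← c.out_eq']
      rw [MulAction.Quotient.smul_mk, smul_eq_mul, conjEnd_out ρ hNφ]
    · intro a b i
      induction i with
      | zero => rfl
      | succ i hi => rw [Function.iterate_succ_apply', hi, Function.iterate_succ_apply',
          Function.iterate_succ_apply', conjEnd, mul_add, add_mul]; rfl
    · intro i
      induction i with
      | zero => rfl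
      | succ i hi => rw [Function.iterate_succ_apply', hi, conjEnd, mul_zero, zero_mul]
    · rw [Finset.mem_erase] at hc ⊢
      refine ⟨fun h => hc.1 ?_, Finset.mem_univ _⟩
      rw [← inv_smul_smul x c, h]
      exact QuotientGroup.eq.mpr (by simpa using hPN hxP)
    · rw [smul_iterate_apply] at hfx
      refine (Finset.mem_erase.mp hc).1 ?_
      set g := c.out
      have hu : g⁻¹ * x ^ i * g ∈ N := by
        have h : (x ^ i * g : G) = ((x ^ i * g : G)) := rfl
        rw [← c.out_eq', MulAction.Quotient.smul_mk, smul_eq_mul] at hfx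
        have h' := QuotientGroup.eq.mp hfx.symm
        rwa [mul_assoc]
      have hpP : IsPGroup p (Subgroup.zpowers (g⁻¹ * x ^ i * g)) := by
        refine IsPGroup.of_card (n := 1) ?_
        rw [pow_one, Nat.card_zpowers, show g⁻¹ * x ^ i * g = MulAut.conj g⁻¹ (x ^ i) by simp,
          MulEquiv.orderOf_eq, orderOf_pow' _ hi.ne', hox,
          (Nat.coprime_of_lt_prime hi.ne' hip hp.out).gcd_eq_one, Nat.div_one]
      have hle : Subgroup.zpowers (g⁻¹ * x ^ i * g) ≤ N := Subgroup.zpowers_le.mpr hu
      have hsup : IsPGroup p ↥(Subgroup.zpowers (g⁻¹ * x ^ i * g) ⊔ (P : Subgroup G)) :=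
        hpP.to_sup_of_normal_right' P.isPGroup' hle
      have huP : g⁻¹ * x ^ i * g ∈ (P : Subgroup G) := by
        have h := P.3 hsup le_sup_right
        exact h.le (Subgroup.mem_sup_left (Subgroup.mem_zpowers _))
      have hgx : ∀ w ∈ (P : Subgroup G), g * w * g⁻¹ ∈ (P : Subgroup G) := by
        have hgen' : Subgroup.zpowers (g⁻¹ * x ^ i * g) = (P : Subgroup G) := by
          refine Subgroup.eq_of_le_of_card_ge (Subgroup.zpowers_le.mpr huP) ?_
          obtain ⟨j, hj⟩ := IsPGroup.iff_card.mp hpP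
          rw [← hx, Nat.card_zpowers, Nat.card_zpowers, hox,
            show g⁻¹ * x ^ i * g = MulAut.conj g⁻¹ (x ^ i) by simp, MulEquiv.orderOf_eq,
            orderOf_pow' _ hi.ne', hox, (Nat.coprime_of_lt_prime hi.ne' hip hp.out).gcd_eq_one,
            Nat.div_one]
        intro w hw
        rw [← hgen'] at hw
        obtain ⟨j, rfl⟩ := hw
        rw [← conj_zpow, show g * (g⁻¹ * x ^ i * g) * g⁻¹ = x ^ i by group]
        exact Subgroup.zpow_mem _ (Subgroup.pow_mem _ hxP i) j
      have hgN : g ∈ N := mem_normalizer_of_map_le (P : Subgroup G) g hgx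
      rw [← c.out_eq']
      exact QuotientGroup.eq.mpr (by simpa using inv_mem hgN)
  have hTpow : ∀ (i : ℕ) (a : Module.End k E), (conjEnd ρ x)^[i] a = conjEnd ρ (x ^ i) a := by
    intro i a
    induction i with
    | zero => simp [conjEnd]
    | succ i hi => rw [Function.iterate_succ_apply', hi, ← conjEnd_mul, pow_succ']
  simp only [hTpow] at hz
  have hcQ : ∀ u : Module.End k E, ρ x * u = u * ρ x → Q * u = u * Q := fun u hu => by
    rw [hQdef, sub_mul, mul_sub, hu, one_mul, mul_one]
  have hfx : ρ x * f = f * ρ x := by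
    rw [hf, mul_sub, sub_mul, hψc, hxφ, hφx]
  have hpow' : ∀ (i : ℕ) (u : Module.End k E), ρ x * u = u * ρ x → ρ (x ^ i) * u = u * ρ (x ^ i) :=
    fun i u hu => by rw [map_pow]; exact (Commute.pow_left hu i).eq
  have hφf : ∀ g : Module.End k E, ρ x * g = g * ρ x → φ * f * g * φ = 0 := by
    intro g hg
    rw [hz, Finset.mul_sum, Finset.sum_mul, Finset.sum_mul]
    have e : ∀ i ∈ Finset.range p, φ * conjEnd ρ (x ^ i) z * g * φ = φ * z * g * φ := by
      intro i hi
      clear hi
      have e1 : φ * ρ (x ^ i) = φ := by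
        rw [map_pow]
        induction i with
        | zero => simp
        | succ j hj => rw [pow_succ, ← mul_assoc, hj, hφx]
      have e2 : ρ (x ^ i)⁻¹ * φ = φ := by
        have e3 : ρ (x ^ i) * φ = φ := by rw [hpow' i φ (hxφ.trans hφx.symm), e1]
        conv_lhs => rw [← e3, ← mul_assoc, ← map_mul, inv_mul_cancel, map_one, one_mul]
      have e4 : ρ (x ^ i)⁻¹ * g = g * ρ (x ^ i)⁻¹ := by
        refine commute_of_conjEnd ρ ?_
        rw [conjEnd, inv_inv, mul_assoc, ← hpow' i g hg, ← mul_assoc, ← map_mul, inv_mul_cancel,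
          map_one, one_mul]
      simp only [conjEnd, mul_assoc]
      rw [← mul_assoc (ρ (x ^ i)⁻¹) g φ, e4, mul_assoc g, e2, ← mul_assoc φ (ρ (x ^ i)), e1]
    rw [Finset.sum_congr rfl e, Finset.sum_const, Finset.card_range, ← Nat.cast_smul_eq_nsmul k,
      CharP.cast_eq_zero, zero_smul]
  have hψf : ψ = φ + f := by rw [hf, add_sub_cancel]
  have hxψ : ∀ j : ℕ, ρ x * ψ ^ j = ψ ^ j * ρ x := fun j => (Commute.pow_right (hψc x) j).eq
  have hrec : ∀ (j i : ℕ), φ * f ^ i * ψ ^ j * φ = if i = 0 then φ ^ (j + 2) else 0 := by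
    intro j
    induction j with
    | zero =>
      intro i
      cases i with
      | zero => simp [pow_two]
      | succ i =>
        rw [if_neg (Nat.succ_ne_zero i), pow_succ', pow_zero, mul_one, ← mul_assoc,
          hφf _ (Commute.pow_right hfx i).eq]
    | succ j hj =>
      intro i
      have e : φ * f ^ i * ψ ^ (j + 1) * φ =
          φ * f ^ i * φ * ψ ^ j * φ + φ * f ^ (i + 1) * ψ ^ j * φ := by
        rw [pow_succ' ψ j, hψf, pow_succ f i]
        simp only [mul_add, add_mul, mul_assoc]
      rw [e, hj (i + 1), if_neg (Nat.succ_ne_zero i), add_zero]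
      cases i with
      | zero =>
        have h := hj 0
        rw [if_pos rfl, pow_zero, mul_one] at h
        rw [if_pos rfl, pow_zero, mul_one, mul_assoc φ φ, mul_assoc φ, h, ← pow_succ']
      | succ i =>
        rw [if_neg (Nat.succ_ne_zero i)]
        have h0 : φ * f ^ (i + 1) * φ = 0 := by
          rw [pow_succ', ← mul_assoc, hφf _ (Commute.pow_right hfx i).eq]
        rw [h0, zero_mul, zero_mul]
  -- `f` is nilpotent
  have hnil : IsNilpotent f := by
    refine isNilpotent_of_eigenvalue_zero f fun μ hμ => ?_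
    by_contra hμ0
    obtain ⟨w₀, hw₀, hw₀0⟩ := hμ.exists_hasEigenvector
    have hinv : ∀ i : ℕ, f ((Q ^ i) w₀) = μ • (Q ^ i) w₀ := fun i => by
      have e := (Commute.pow_right (hcQ f hfx).symm i).eq
      rw [← Module.End.mul_apply, e, Module.End.mul_apply, Module.End.mem_eigenspace_iff.mp hw₀,
        map_smul]
    obtain ⟨i, hi0, hi1⟩ : ∃ i, (Q ^ i) w₀ ≠ 0 ∧ (Q ^ (i + 1)) w₀ = 0 := by
      by_contra hcon
      push Not at hcon
      have : ∀ i, (Q ^ i) w₀ ≠ 0 := fun i => by
        induction i with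
        | zero => simpa using hw₀0
        | succ i hi => exact hcon i hi
      exact this (p - 1) (by rw [hQ, LinearMap.zero_apply])
    set w := (Q ^ i) w₀
    have hxw : ∀ j : ℕ, (ρ (x ^ j)⁻¹) w = w := fun j => by
      have h1 : ρ x w = w := (hmemF w).mp (LinearMap.mem_ker.mpr (by
        rw [← Module.End.mul_apply, ← pow_succ']; exact hi1))
      have h2 : ρ (x ^ j) w = w := by
        rw [map_pow]
        induction j with
        | zero => simp
        | succ j hj => rw [pow_succ, Module.End.mul_apply, h1, hj]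
      conv_lhs => rw [← h2, ← Module.End.mul_apply, ← map_mul, inv_mul_cancel, map_one,
        Module.End.one_apply]
    have h1 : μ • w = (Q ^ (p - 1)) (z w) := by
      rw [← hinv i, hz, ← geom_sum_eq_sub_pow, LinearMap.sum_apply, LinearMap.sum_apply]
      refine Finset.sum_congr rfl fun j _ => ?_
      rw [conjEnd, Module.End.mul_apply, Module.End.mul_apply, hxw, map_pow]
    rw [hQ, LinearMap.zero_apply, smul_eq_zero] at h1
    exact h1.elim hμ0 hi0
  obtain ⟨j, hj⟩ := hnil
  have hQψ : ∀ i : ℕ, Q * ψ ^ i = f ^ i * Q := by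
    intro i
    induction i with
    | zero => simp
    | succ i hi =>
      have e : Q * ψ = f * Q := by
        rw [hψf, mul_add, hcQ f hfx, show Q * φ = 0 by rw [hQdef, sub_mul, hxφ, one_mul, sub_self],
          zero_add]
      rw [pow_succ', ← mul_assoc, e, mul_assoc, hi, ← mul_assoc, ← pow_succ']
  have hrange : ∀ w, ∀ g, ρ g ((ψ ^ j) w) = (ψ ^ j) w := by
    let M : Subgroup G :=
      { carrier := {g | ρ g * ψ ^ j = ψ ^ j}
        one_mem' := by simp
        mul_mem' := fun {a b} ha hb => by
          show ρ (a * b) * ψ ^ j = ψ ^ j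
          rw [map_mul, mul_assoc, show ρ b * ψ ^ j = ψ ^ j from hb]
          exact ha
        inv_mem' := fun {a} ha => by
          show ρ a⁻¹ * ψ ^ j = ψ ^ j
          conv_lhs => rw [← show ρ a * ψ ^ j = ψ ^ j from ha, ← mul_assoc, ← map_mul,
            inv_mul_cancel, map_one, one_mul] }
    have hMn : M.Normal := ⟨fun m hm g => by
      show ρ (g * m * g⁻¹) * ψ ^ j = ψ ^ j
      rw [map_mul, mul_assoc, (Commute.pow_right (hψc g⁻¹) j).eq, ← mul_assoc, map_mul,
        mul_assoc (ρ g), show ρ m * ψ ^ j = ψ ^ j from hm, (Commute.pow_right (hψc g) j).eq,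
        mul_assoc, ← map_mul, mul_inv_cancel, map_one, mul_one]⟩
    have hxM : x ∈ M := by
      show ρ x * ψ ^ j = ψ ^ j
      have h := hQψ j
      rwa [hj, zero_mul, hQdef, sub_mul, one_mul, sub_eq_zero] at h
    intro w g
    exact LinearMap.congr_fun ((hgen M hMn (hx ▸ Subgroup.zpowers_le.mpr hxM)).ge
      (Subgroup.mem_top g) : ρ g * ψ ^ j = ψ ^ j) w
  obtain ⟨c, hc⟩ := hfix _ (hrange (φ v))
  refine ⟨c, ?_⟩
  have hvF : v ∈ F := (hmemF v).mpr hv
  have hv₁F : v₁ ∈ F := (hmemF v₁).mpr (hv₁ x)
  have h1 := LinearMap.congr_fun (hrec j 0) v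
  rw [if_pos rfl, pow_zero, mul_one, Module.End.mul_apply, Module.End.mul_apply, hc, map_smul] at h1
  have hpowφ : ∀ i : ℕ, (φ ^ (i + 1)) v = φ v := by
    intro i
    induction i with
    | zero => simp
    | succ i hi => rw [pow_succ', Module.End.mul_apply, hi, hφφ v hvF]
  rw [show j + 2 = (j + 1) + 1 from rfl, hpowφ] at h1
  have e : v - c • v₁ = c • (φ v₁ - v₁) - (φ v - v) := by rw [smul_sub, h1]; abel
  rw [e]
  exact D.sub_mem (D.smul_mem c (hφid v₁ hv₁F)) (hφid v hvF)
where
  isNilpotent_of_eigenvalue_zero (f : Module.End k E)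
      (h : ∀ μ : k, f.HasEigenvalue μ → μ = 0) : IsNilpotent f := by
    refine ⟨Module.finrank k E, ?_⟩
    have hroots : ∀ μ ∈ f.charpoly.roots, μ = 0 := fun μ hμ =>
      h μ ((Module.End.hasEigenvalue_iff_isRoot_charpoly f μ).mpr (Polynomial.mem_roots'.mp hμ).2)
    have hc : f.charpoly = Polynomial.X ^ Module.finrank k E := by
      conv_lhs => rw [(IsAlgClosed.splits f.charpoly).eq_prod_roots_of_monic (LinearMap.charpoly_monic f),
        Multiset.eq_replicate_card.mpr hroots]
      rw [← (IsAlgClosed.splits f.charpoly).natDegree_eq_card_roots, LinearMap.charpoly_natDegree,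
        Multiset.map_replicate, map_zero, sub_zero, Multiset.prod_replicate]
    have h := LinearMap.aeval_self_charpoly f
    rwa [hc, map_pow, Polynomial.aeval_X] at h
  mem_normalizer_of_map_le (H : Subgroup G) (g : G) (h : ∀ w ∈ H, g * w * g⁻¹ ∈ H) :
      g ∈ Subgroup.normalizer (H : Set G) := by
    have hle : H.map (MulAut.conj g).toMonoidHom ≤ H := by
      rintro _ ⟨w, hw, rfl⟩; exact h w hw
    have he := Subgroup.eq_of_le_of_card_ge hle
      (Subgroup.card_map_of_injective (MulAut.conj g).injective).ge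
    refine Subgroup.mem_normalizer_iff.mpr fun w => ⟨h w, fun hw => ?_⟩
    rw [← he] at hw
    obtain ⟨u, hu, hu'⟩ := hw
    have : u = w := by simpa using hu'
    exact this ▸ hu

end green

section scalar

variable {k : Type*} [Field k] [IsAlgClosed k] {p : ℕ} [hp : Fact p.Prime] [CharP k p]
  {G : Type*} [Group G] [Finite G]

/-- A `p`-element minus one is nilpotent of order the dimension. -/
theorem pElement_sub_one_pow {W : Type*} [AddCommGroup W] [Module k W] [FiniteDimensional k W]
    (σ : Representation k G W) {x : G} (hox : orderOf x = p) :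
    (σ x - 1) ^ Module.finrank k W = 0 := by
  have h1 : (σ x - 1) ^ p = 0 := by
    rcases subsingleton_or_nontrivial W with h | h
    · exact Subsingleton.elim _ _
    have : CharP (Module.End k W) p :=
      charP_of_injective_algebraMap (algebraMap k (Module.End k W)).injective p
    rw [sub_pow_char_of_commute p (Commute.one_right _), one_pow, ← map_pow, ← hox,
      pow_orderOf_eq_one, map_one, sub_self]
  have h2 := LinearMap.aeval_self_charpoly (σ x - 1)
  rwa [IsNilpotent.charpoly_eq_X_pow_finrank ⟨p, h1⟩, map_pow, Polynomial.aeval_X] at h2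

/-- A semisimple operator is scalar if the traces of its differences with a scalar against the
operators in its algebra vanish. -/
theorem eq_scalar_of_trace {W : Type*} [AddCommGroup W] [Module k W] [FiniteDimensional k W]
    (hdim : Module.finrank k W < p) (T : Module.End k W) {r : ℕ} (hr : ¬ p ∣ r) (hT : T ^ r = 1)
    (c : k) (h : ∀ q : Module.End k W, q ∈ Algebra.adjoin k {T} →
      LinearMap.trace k W (q * (T - c • 1)) = 0) : T = c • 1 := by
  classical
  rcases subsingleton_or_nontrivial W with h' | h'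
  · exact Subsingleton.elim _ _
  have hint : IsIntegral k T := Algebra.IsIntegral.isIntegral T
  set g := minpoly k T with hg
  have hsep : g.Separable := by
    refine Polynomial.Separable.of_dvd (Polynomial.separable_X_pow_sub_C (n := r) (1 : k) ?_ one_ne_zero)
      (minpoly.dvd k T ((by simp [hT] : Polynomial.aeval T (Polynomial.X ^ r - Polynomial.C (1 : k)) = 0)))
    rwa [Ne, CharP.cast_eq_zero_iff k p]
  have hroot : ∀ ζ ∈ g.roots, ζ = c := by
    intro ζ hζ
    by_contra hne
    set u := g /ₘ (Polynomial.X - Polynomial.C ζ) with hu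
    have hgu : (Polynomial.X - Polynomial.C ζ) * u = g :=
      Polynomial.mul_divByMonic_eq_iff_isRoot.mpr (Polynomial.mem_roots'.mp hζ).2
    have hu0 : u ≠ 0 := fun e => by
      rw [e, mul_zero] at hgu
      exact minpoly.ne_zero hint hgu.symm
    have huev : u.eval ζ ≠ 0 := by
      intro e
      have hdvd : (Polynomial.X - Polynomial.C ζ) ∣ u := Polynomial.dvd_iff_isRoot.mpr e
      have hsq := hsep.squarefree (Polynomial.X - Polynomial.C ζ)
        (hgu ▸ mul_dvd_mul_left _ hdvd)
      exact Polynomial.not_isUnit_X_sub_C ζ hsq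
    set U := Polynomial.aeval T u with hU
    have hU0 : U ≠ 0 := by
      intro e
      have h1 := Polynomial.natDegree_le_of_dvd (minpoly.dvd k T e) hu0
      rw [← hg, ← hgu, Polynomial.natDegree_mul (Polynomial.X_sub_C_ne_zero ζ) hu0,
        Polynomial.natDegree_X_sub_C] at h1
      omega
    have hTU : ∀ w : Polynomial k, Polynomial.aeval T w * U = (w.eval ζ) • U := by
      intro w
      obtain ⟨w', hw'⟩ := Polynomial.X_sub_C_dvd_sub_C_eval (a := ζ) (p := w)
      have h1 : Polynomial.aeval T ((w - Polynomial.C (w.eval ζ)) * u) = 0 := by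
        rw [hw', mul_assoc, mul_comm w', ← mul_assoc, hgu, map_mul, hg, minpoly.aeval, zero_mul]
      rw [map_mul, map_sub, Polynomial.aeval_C, Algebra.algebraMap_eq_smul_one, sub_mul,
        smul_mul_assoc, one_mul, sub_eq_zero] at h1
      exact h1
    set q := (u.eval ζ)⁻¹ • U with hq
    have hqq : q * q = q := by
      rw [hq, smul_mul_assoc, mul_smul_comm, hU, hTU u, smul_smul, smul_smul]
      congr 1
      field_simp
    have hproj : LinearMap.IsProj (LinearMap.range q) q :=
      ⟨fun w => LinearMap.mem_range_self q w, fun w hw => by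
        obtain ⟨v, rfl⟩ := LinearMap.mem_range.mp hw
        exact LinearMap.congr_fun hqq v⟩
    have hqmem : q ∈ Algebra.adjoin k {T} :=
      Subalgebra.smul_mem _ (Polynomial.aeval_mem_adjoin_singleton k T) _
    have h1 : q * (T - c • 1) = (ζ - c) • q := by
      have hc : (T - c • 1) * U = (ζ - c) • U := by
        have := hTU (Polynomial.X - Polynomial.C c)
        simpa [Algebra.algebraMap_eq_smul_one] using this
      have hcomm : Commute U (T - c • 1) :=
        (Algebra.commute_of_mem_adjoin_self (Polynomial.aeval_mem_adjoin_singleton k T)).symm.sub_right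
          ((Commute.one_right _).smul_right c)
      rw [hq, smul_mul_assoc, hcomm.eq, hc, smul_comm]
    have h2 := h q hqmem
    rw [h1, map_smul, hproj.trace, smul_eq_mul, mul_eq_zero] at h2
    rcases h2 with h2 | h2
    · exact hne (sub_eq_zero.mp h2)
    · rw [CharP.cast_eq_zero_iff k p] at h2
      have h3 : Module.finrank k (LinearMap.range q) ≤ Module.finrank k W := Submodule.finrank_le _
      have h4 : 0 < Module.finrank k (LinearMap.range q) := by
        refine Nat.pos_of_ne_zero fun e => hU0 ?_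
        have := LinearMap.range_eq_bot.mp (Submodule.finrank_eq_zero.mp e)
        rwa [hq, smul_eq_zero, inv_eq_zero, or_iff_right huev] at this
      have := Nat.le_of_dvd h4 h2
      omega
  have hdvd : g ∣ Polynomial.X - Polynomial.C c := by
    have hs := IsAlgClosed.splits g
    rw [hs.eq_prod_roots_of_monic (minpoly.monic hint),
      Multiset.eq_replicate_card.mpr hroot, Multiset.map_replicate, Multiset.prod_replicate]
    have hcard : g.roots.card ≤ 1 := by
      rw [← Multiset.count_eq_card.mpr fun a ha => (hroot a ha).symm]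
      exact Multiset.nodup_iff_count_le_one.mp (Polynomial.nodup_roots hsep) c
    interval_cases g.roots.card <;> simp
  obtain ⟨w, hw⟩ := hdvd
  have h1 := congrArg (Polynomial.aeval T) hw
  rw [map_mul, hg, minpoly.aeval, zero_mul] at h1
  rw [← sub_eq_zero]
  simpa [Algebra.algebraMap_eq_smul_one] using h1

/-- **The irreducible case.** -/
theorem scalar_of_commute {W : Type*} [AddCommGroup W] [Module k W] [FiniteDimensional k W]
    (σ : Representation k G W) (hdim : 2 * Module.finrank k W ≤ p)
    (hirr : ∀ U : Submodule k W, (∀ g, U ≤ U.comap (σ g)) → U = ⊥ ∨ U = ⊤)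
    (P : Sylow p G) {x : G} (hx : Subgroup.zpowers x = (P : Subgroup G)) (hox : orderOf x = p)
    (hgen : ∀ M : Subgroup G, M.Normal → (P : Subgroup G) ≤ M → M = ⊤)
    {y : G} (hxy : Commute x y) (hy : ¬ p ∣ orderOf y) : ∃ c : k, σ y = c • 1 := by
  rcases subsingleton_or_nontrivial W with hsub | hnt
  · exact ⟨0, Subsingleton.elim _ _⟩
  have h2 := hp.out.two_le
  have hd : 0 < Module.finrank k W := Module.finrank_pos
  set ad := Representation.linHom σ σ with had
  set X := σ x
  set X' := σ x⁻¹
  have hXX' : X * X' = 1 := by rw [← map_mul, mul_inv_cancel, map_one]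
  have hQ : (ad x - 1) ^ (p - 1) = 0 := by
    set m := Module.finrank k W
    set L := LinearMap.mulLeft k (X - 1)
    set R := LinearMap.mulRight k (X - 1)
    set R' := LinearMap.mulRight k X'
    have hL : L ^ m = 0 := by
      rw [LinearMap.pow_mulLeft, pElement_sub_one_pow σ hox]; ext; simp
    have hR : R ^ m = 0 := by
      rw [LinearMap.pow_mulRight, pElement_sub_one_pow σ hox]; ext; simp
    have hLR : Commute L R := LinearMap.commute_mulLeft_right _ _
    have hnil : (L - R) ^ (p - 1) = 0 := by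
      rw [sub_eq_add_neg]
      refine hLR.neg_right.add_pow_eq_zero_of_add_le_succ_of_pow_eq_zero hL
        (n := m) ?_ (by omega)
      rw [neg_pow, hR, mul_zero]
    have he : ad x - 1 = (L - R) * R' := by
      refine LinearMap.ext fun f => ?_
      simp only [L, R, R', LinearMap.sub_apply, Module.End.mul_apply, LinearMap.mulLeft_apply,
        LinearMap.mulRight_apply, Module.End.one_apply]
      show X * (f * X') - f = _
      rw [sub_mul, one_mul, mul_sub, mul_one, mul_assoc f X' X, ← map_mul, inv_mul_cancel, map_one,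
        mul_one]
      abel
    have hc : Commute (L - R) R' := by
      refine Commute.sub_left (LinearMap.commute_mulLeft_right _ _) ?_
      refine LinearMap.ext fun f => ?_
      have hXc : Commute (X - 1) X' := Commute.sub_left
        (by rw [Commute, SemiconjBy, hXX', ← map_mul, inv_mul_cancel, map_one]) (Commute.one_left _)
      simp only [R, R', Module.End.mul_apply, LinearMap.mulRight_apply]
      rw [mul_assoc, mul_assoc, hXc.eq]
    rw [he, hc.mul_pow, hnil, zero_mul]
  have hfix : ∀ f : Module.End k W, (∀ g, ad g f = f) → ∃ c : k, f = c • (1 : Module.End k W) := by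
    intro f hf
    obtain ⟨c, hc⟩ := Module.End.exists_eigenvalue f
    refine ⟨c, ?_⟩
    have hcomm : ∀ g, σ g * f = f * σ g := fun g => by
      have h : σ g * (f * σ g⁻¹) = f := hf g
      conv_rhs => rw [← h, mul_assoc, mul_assoc, ← map_mul, inv_mul_cancel, map_one, mul_one]
    have hinv : ∀ g, f.eigenspace c ≤ (f.eigenspace c).comap (σ g) := fun g w hw => by
      rw [Module.End.mem_eigenspace_iff] at hw
      rw [Submodule.mem_comap, Module.End.mem_eigenspace_iff, ← Module.End.mul_apply, ← hcomm,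
        Module.End.mul_apply, hw, map_smul]
    rcases hirr (f.eigenspace c) hinv with h | h
    · exact absurd h hc
    · refine LinearMap.ext fun w => ?_
      have := h.ge (Submodule.mem_top (x := w))
      rw [Module.End.mem_eigenspace_iff] at this
      simpa using this
  have hone : ∀ g, ad g (1 : Module.End k W) = 1 := fun g => by
    show σ g * (1 * σ g⁻¹) = 1
    rw [one_mul, ← map_mul, mul_inv_cancel, map_one]
  have hxyσ : X * σ y = σ y * X := by rw [← map_mul, hxy.eq, map_mul]
  have hfy : ad x (σ y) = σ y := by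
    show X * (σ y * X') = σ y
    rw [← mul_assoc, hxyσ, mul_assoc, hXX', mul_one]
  obtain ⟨c, hc⟩ := fixed_mod_range ad P hx hox hQ hgen hone hfix hfy
  refine ⟨c, eq_scalar_of_trace (p := p) (by omega) (σ y) hy
    (by rw [← map_pow, pow_orderOf_eq_one, map_one]) c fun q hq => ?_⟩
  obtain ⟨w, hw⟩ := LinearMap.mem_range.mp hc
  rw [← hw]
  have hqX : q * X = X * q := (Algebra.commute_of_mem_adjoin_singleton_of_commute hq hxyσ).eq.symm
  show LinearMap.trace k W (q * (X * (w * X') - w)) = 0
  rw [mul_sub, map_sub, ← mul_assoc, hqX, LinearMap.trace_mul_comm,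
    show w * X' * (X * q) = w * q by
      rw [mul_assoc, ← mul_assoc X', ← map_mul, inv_mul_cancel, map_one, one_mul],
    LinearMap.trace_mul_comm, sub_self]

/-- The operators of the closure of the commutators of a centralizing `p'`-element are unipotent. -/
theorem isNilpotent_sub_one.{v} (P : Sylow p G) {x : G} (hx : Subgroup.zpowers x = (P : Subgroup G))
    (hox : orderOf x = p) (hgen : ∀ M : Subgroup G, M.Normal → (P : Subgroup G) ≤ M → M = ⊤)
    {y : G} (hxy : Commute x y) (hy : ¬ p ∣ orderOf y) :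
    ∀ (d : ℕ) {W : Type v} [AddCommGroup W] [Module k W] [FiniteDimensional k W]
      (σ : Representation k G W), Module.finrank k W = d → 2 * d ≤ p →
      ∀ a ∈ Subgroup.normalClosure (Set.range fun g => g * y * g⁻¹ * y⁻¹), IsNilpotent (σ a - 1) := by
  intro d
  induction d using Nat.strong_induction_on with
  | _ d ih =>
  intro W _ _ _ σ hd hdp a ha
  by_cases hirr : ∀ U : Submodule k W, (∀ g, U ≤ U.comap (σ g)) → U = ⊥ ∨ U = ⊤
  · obtain ⟨c, hc⟩ := scalar_of_commute σ (by omega) hirr P hx hox hgen hxy hy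
    have hle : Subgroup.normalClosure (Set.range fun g => g * y * g⁻¹ * y⁻¹) ≤ σ.ker := by
      refine Subgroup.normalClosure_le_normal ?_
      rintro _ ⟨g, rfl⟩
      rw [SetLike.mem_coe, MonoidHom.mem_ker, map_mul, map_mul, map_mul, hc, mul_smul_comm, mul_one,
        smul_mul_assoc, ← map_mul, mul_inv_cancel, map_one, ← hc, ← map_mul, mul_inv_cancel, map_one]
    rw [show σ a = 1 from hle ha, sub_self]
    exact IsNilpotent.zero
  · push Not at hirr
    obtain ⟨U, hU, hb, ht⟩ := hirr
    obtain ⟨h1, h2⟩ := CfsgLib.Modular.finrank_sub_lt hb ht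
    obtain ⟨m₁, hm₁⟩ := ih _ (hd ▸ h1) (CfsgLib.Modular.subRep σ U hU) rfl (by omega) a ha
    obtain ⟨m₂, hm₂⟩ := ih _ (hd ▸ h2) (CfsgLib.Modular.quotRep σ U hU) rfl (by omega) a ha
    refine ⟨m₁ + m₂, LinearMap.ext fun w => ?_⟩
    set e := σ a - 1
    have hsub : ∀ (i : ℕ) (u : U), ((CfsgLib.Modular.subRep σ U hU a - 1) ^ i) u = (e ^ i) (u : W) := by
      intro i
      induction i with
      | zero => simp
      | succ i hi =>
        intro u
        rw [pow_succ', Module.End.mul_apply, pow_succ', Module.End.mul_apply, ← hi]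
        rfl
    have hquot : ∀ (i : ℕ) (w : W), ((CfsgLib.Modular.quotRep σ U hU a - 1) ^ i) (U.mkQ w) =
        U.mkQ ((e ^ i) w) := by
      intro i
      induction i with
      | zero => simp
      | succ i hi =>
        intro w
        rw [pow_succ', Module.End.mul_apply, pow_succ', Module.End.mul_apply, hi]
        rfl
    have hwU : (e ^ m₂) w ∈ U := by
      rw [← Submodule.Quotient.mk_eq_zero U, ← Submodule.mkQ_apply, ← hquot, hm₂,
        LinearMap.zero_apply]
    rw [pow_add, Module.End.mul_apply, show (e ^ m₂) w = ((⟨_, hwU⟩ : U) : W) from rfl, ← hsub, hm₁,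
      LinearMap.zero_apply, LinearMap.zero_apply, Submodule.coe_zero]

/-- **Centralizing `p'`-elements are central** in a faithful group. -/
theorem mem_center_of_faithful {V : Type*} [AddCommGroup V] [Module k V] [FiniteDimensional k V]
    (σ : Representation k G V) (hfaith : Function.Injective σ) (hdim : 2 * Module.finrank k V ≤ p)
    (P : Sylow p G) {x : G} (hx : Subgroup.zpowers x = (P : Subgroup G)) (hox : orderOf x = p)
    (hgen : ∀ M : Subgroup G, M.Normal → (P : Subgroup G) ≤ M → M = ⊤)
    (hcore : ∀ K : Subgroup G, K.Normal → IsPGroup p K → K = ⊥)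
    {y : G} (hxy : Commute x y) (hy : ¬ p ∣ orderOf y) : y ∈ Subgroup.center G := by
  set K := Subgroup.normalClosure (Set.range fun g => g * y * g⁻¹ * y⁻¹) with hK
  rcases subsingleton_or_nontrivial V with h | h
  · exact Subgroup.mem_center_iff.mpr fun g => hfaith (Subsingleton.elim _ _)
  have : CharP (Module.End k V) p :=
    charP_of_injective_algebraMap (algebraMap k (Module.End k V)).injective p
  have hKp : IsPGroup p K := fun a => by
    obtain ⟨j, hj⟩ := isNilpotent_sub_one P hx hox hgen hxy hy _ σ rfl hdim a a.2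
    refine ⟨j, Subtype.ext (hfaith ?_)⟩
    rw [SubmonoidClass.coe_pow, map_pow, OneMemClass.coe_one, map_one, ← sub_eq_zero,
      ← one_pow (M := Module.End k V) (p ^ j), ← sub_pow_char_pow_of_commute p j (Commute.one_right _)]
    exact pow_eq_zero_of_le (Nat.lt_pow_self hp.out.one_lt).le hj
  have hbot := hcore K Subgroup.normalClosure_normal hKp
  refine Subgroup.mem_center_iff.mpr fun g => ?_
  have h1 : g * y * g⁻¹ * y⁻¹ ∈ K := Subgroup.subset_normalClosure ⟨g, rfl⟩
  rw [hbot, Subgroup.mem_bot, mul_inv_eq_one, mul_inv_eq_iff_eq_mul] at h1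
  exact h1

end scalar

end CfsgLib.CharNormal.SmallModular
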