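import Cfsg.Agent.Lib.Transfer.PSolvable
import Cfsg.Agent.Lib.Solvable.CoprimeAction

/-!
A Sylow `p`-subgroup normalising a Sylow `q`-subgroup.

* `exists_normalizes_iff_not_dvd_index`: in a `p`-soluble group this happens iff `q ∤ |G : O_{p'}(G)|`;
* `exists_normalizes_of_centralized`: it happens in a `p`- or `q`-soluble group in which each
  `q`-element is centralised by a Sylow `p`-subgroup.
-/

set_option autoImplicit false

namespace CfsgLib.CharNormal

open Subgroup Cfsg

universe u

variable {G : Type u} [Group G] [Finite G] {p q : ℕ}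

theorem exists_small_normal_of_isPSolvable [Nontrivial G] (h : IsPSolvable p G) :
    ∃ N : Subgroup G, N.Normal ∧ N ≠ ⊥ ∧ (IsPGroup p N ∨ (Nat.card N).Coprime p) := by
  obtain ⟨n, H, h0, hl, -, hn, hstep⟩ := h
  by_contra hc
  push Not at hc
  have : ∀ i, H i = ⊥ := by
    intro i
    induction i using Fin.induction with
    | zero => exact h0
    | succ i ih =>
      by_contra hne
      obtain ⟨h1, h2⟩ := hc _ (hn i.succ) hne
      have hs := hstep i
      rw [ih, relIndex_bot_left] at hs
      rcases hs with ⟨m, hm⟩ | hs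
      · exact h1 (IsPGroup.of_card hm)
      · exact h2 hs
  exact bot_ne_top ((this (Fin.last n)).symm.trans hl)

theorem exists_sylow_le_of_not_dvd_index [Fact p.Prime] {H : Subgroup G} (h : ¬ p ∣ H.index) :
    ∃ P : Sylow p G, (P : Subgroup G) ≤ H := by
  obtain ⟨P₀⟩ := (inferInstance : Nonempty (Sylow p H))
  have hc : Nat.card ((P₀ : Subgroup H).map H.subtype) = p ^ (Nat.card G).factorization p := by
    rw [card_map_of_injective H.subtype_injective, P₀.card_eq_multiplicity, ← H.card_mul_index,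
      Nat.factorization_mul Nat.card_pos.ne' index_ne_zero_of_finite, Finsupp.add_apply,
      Nat.factorization_eq_zero_of_not_dvd h, add_zero]
  exact ⟨Sylow.ofCard _ hc, map_subtype_le _⟩

/-- A `p`-subgroup normalising `L` normalises a Sylow `q`-subgroup of `L` if their number is prime
to `p`. -/
theorem exists_normalized_sylow [Fact p.Prime] [Fact q.Prime] {A L : Subgroup G} (hA : IsPGroup p A)
    (hAL : A ≤ normalizer (L : Set G)) (hn : ¬ p ∣ Nat.card (Sylow q L)) :
    ∃ Q : Sylow q L, A ≤ normalizer ((Q : Subgroup L).map L.subtype : Set G) := by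
  let f : A →* MulAut L := (L.normalizerMonoidHom).comp (inclusion hAL)
  letI : MulDistribMulAction A L := MulDistribMulAction.compHom L f
  obtain ⟨Q, hQ⟩ := hA.nonempty_fixed_point_of_prime_not_dvd_card (Sylow q L) hn
  refine ⟨Q, ?_⟩
  have key : ∀ a : A, ∀ v : G, v ∈ (Q : Subgroup L).map L.subtype →
      (a : G) * v * (a : G)⁻¹ ∈ (Q : Subgroup L).map L.subtype := by
    rintro a _ ⟨v, hv, rfl⟩
    refine ⟨a • v, ?_, rfl⟩
    have h1 : a • v ∈ ((a • Q : Sylow q L) : Subgroup L) := by
      rw [Sylow.pointwise_smul_def]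
      exact Subgroup.smul_mem_pointwise_smul v a _ hv
    rwa [MulAction.mem_fixedPoints.mp hQ a] at h1
  intro a ha
  rw [mem_normalizer_iff]
  intro v
  refine ⟨key ⟨a, ha⟩ v, fun hv => ?_⟩
  have := key ⟨a, ha⟩⁻¹ _ hv
  simpa [mul_assoc] using this

/-- Each `q`-element is centralised by a Sylow `p`-subgroup. -/
def CentralizedBy (p q : ℕ) (G : Type u) [Group G] : Prop :=
  ∀ y : G, (∃ k : ℕ, orderOf y = q ^ k) → ∃ P : Sylow p G, ∀ w ∈ (P : Subgroup G), w * y = y * w

theorem centralizedBy_quotient [Fact p.Prime] [hq : Fact q.Prime] (h : CentralizedBy p q G)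
    (N : Subgroup G) [N.Normal] : CentralizedBy p q (G ⧸ N) := by
  rintro z ⟨k, hk⟩
  obtain ⟨y, rfl⟩ := QuotientGroup.mk'_surjective N z
  obtain ⟨a, b, hb, hab⟩ := Nat.exists_eq_pow_mul_and_not_dvd (orderOf_pos y).ne' q hq.out.ne_one
  obtain ⟨n, hn1, hn2⟩ := Nat.chineseRemainder
    (((Nat.Prime.coprime_iff_not_dvd hq.out).mpr hb).pow_left (a + k)) 1 0
  obtain ⟨P, hP⟩ := h (y ^ n) <| by
    have hdvd : orderOf (y ^ n) ∣ q ^ a := by
      refine orderOf_dvd_of_pow_eq_one ?_
      rw [← pow_mul, ← orderOf_dvd_iff_pow_eq_one, hab, mul_comm n]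
      exact Nat.mul_dvd_mul_left _ (Nat.modEq_zero_iff_dvd.mp hn2)
    obtain ⟨i, -, hi⟩ := (Nat.dvd_prime_pow hq.out).mp hdvd
    exact ⟨i, hi⟩
  refine ⟨P.mapSurjective (QuotientGroup.mk'_surjective N), ?_⟩
  rintro _ ⟨w, hw, rfl⟩
  have hy : QuotientGroup.mk' N (y ^ n) = QuotientGroup.mk' N y := by
    rw [map_pow]
    conv_rhs => rw [← pow_one (QuotientGroup.mk' N y)]
    exact pow_eq_pow_iff_modEq.mpr (hk.symm ▸ Nat.ModEq.of_dvd (pow_dvd_pow q le_add_self) hn1)
  rw [← hy, ← map_mul, ← map_mul, hP w hw]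

theorem sylow_card_not_dvd_of_coprime [Fact p.Prime] [Fact q.Prime] (hpq : p ≠ q)
    (hcent : CentralizedBy p q G) {N L : Subgroup G} [hN : N.Normal] (hNL : N ≤ L)
    (hq : (Nat.card N).Coprime q) (hidx : IsPGroup q (L.map (QuotientGroup.mk' N)))
    (Q : Sylow q L) : ¬ p ∣ Nat.card (Sylow q L) := by
  rw [Q.card_eq_index_normalizer]
  set Q' := (Q : Subgroup L).map L.subtype with hQ'def
  have hQp : IsPGroup q Q' := Q.2.map _
  have hcop : (Nat.card Q').Coprime (Nat.card N) := by
    obtain ⟨i, hi⟩ := IsPGroup.iff_card.mp hQp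
    rw [hi]
    exact hq.symm.pow_left i
  have hQN : Q' ≤ normalizer (N : Set G) := by simp [normalizer_eq_top]
  have : Group.IsNilpotent Q' := hQp.isNilpotent
  obtain ⟨R, hR⟩ := CfsgLib.Solvable.exists_invariant_sylow Q' N hQN hcop (Or.inl inferInstance) p
  set R' := (R : Subgroup N).map N.subtype with hR'def
  -- every element of `Q'` centralises `R'`
  have hcen : ∀ y ∈ Q', ∀ r ∈ R', r * y = y * r := by
    intro y hy
    obtain ⟨i, hi⟩ := IsPGroup.iff_orderOf.mp hQp ⟨y, hy⟩
    rw [orderOf_mk] at hi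
    obtain ⟨P, hP⟩ := hcent y ⟨i, hi⟩
    -- `P ∩ N` is a Sylow subgroup of `N` centralised by `y`
    have hS : IsPGroup p ((P : Subgroup G).subgroupOf N) :=
      P.2.comap_of_injective _ N.subtype_injective
    have hSi : ¬ p ∣ ((P : Subgroup G).subgroupOf N).index := fun hd => by
      refine P.not_dvd_index (hd.trans ?_)
      show (P : Subgroup G).relIndex N ∣ (P : Subgroup G).index
      have h1 : (P : Subgroup G).relIndex N = (P : Subgroup G).relIndex (N ⊔ (P : Subgroup G)) := by
        refine Nat.eq_of_mul_eq_mul_left (n := Nat.card (P : Subgroup G)) Nat.card_pos ?_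
        rw [← relIndex_bot_left (P : Subgroup G),
          relIndex_mul_relIndex ⊥ (P : Subgroup G) _ bot_le le_sup_right,
          ← relIndex_mul_relIndex ⊥ N (N ⊔ (P : Subgroup G)) bot_le le_sup_left, relIndex_sup_left,
          ← relIndex_mul_relIndex ⊥ ((P : Subgroup G) ⊓ N) (P : Subgroup G) bot_le inf_le_left,
          ← relIndex_mul_relIndex ⊥ ((P : Subgroup G) ⊓ N) N bot_le inf_le_right, inf_relIndex_left,
          inf_relIndex_right]
        ring
      rw [h1]
      exact relIndex_dvd_index_of_le le_sup_right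
    set S : Sylow p N := hS.toSylow hSi
    have hSy : zpowers y ≤ centralizer (((S : Subgroup N).map N.subtype : Subgroup G) : Set G) := by
      refine zpowers_le.mpr (mem_centralizer_iff.mpr ?_)
      rintro _ ⟨r, hr, rfl⟩
      exact hP r hr
    have hy' : zpowers y ≤ normalizer (R' : Set G) := zpowers_le.mpr (hR hy)
    have hcy : (Nat.card (zpowers y)).Coprime (Nat.card N) := by
      rw [Nat.card_zpowers, hi]
      exact hq.symm.pow_left i
    obtain ⟨c, ⟨-, hc⟩, hcR⟩ := CfsgLib.Solvable.exists_centralizer_conj_sylow (zpowers y) N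
      (by simp [normalizer_eq_top]) hcy (Or.inl inferInstance) S R
      (hSy.trans (centralizer_le_normalizer _)) hy'
    intro r hr
    rw [hR'def, ← hcR] at hr
    obtain ⟨t, ht, rfl⟩ := hr
    have h1 : t * y = y * t := mem_centralizer_iff.mp (hSy (mem_zpowers y)) t ht
    have h2 : y * c = c * y := mem_centralizer_iff.mp hc y (mem_zpowers y)
    show c * t * c⁻¹ * y = y * (c * t * c⁻¹)
    calc c * t * c⁻¹ * y = c * (t * (c⁻¹ * (y * c) * c⁻¹)) := by group
      _ = c * (t * y * c⁻¹) := by rw [h2]; group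
      _ = c * y * t * c⁻¹ := by rw [h1]; group
      _ = y * (c * t * c⁻¹) := by rw [← h2]; group
  -- hence `R'` lies in the normaliser of `Q'`
  have hR'n : R' ≤ normalizer (Q' : Set G) := fun r hr =>
    centralizer_le_normalizer _ (mem_centralizer_iff.mpr fun y hy => (hcen y hy r hr).symm)
  intro hdvd
  -- index of the normaliser in `L`
  have hR'N : R' ≤ N := map_subtype_le _
  have hT : R'.subgroupOf L ≤ normalizer ((Q : Subgroup L) : Set L) := by
    intro r hr
    rw [mem_normalizer_iff]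
    intro v
    have h := mem_normalizer_iff.mp (hR'n (mem_subgroupOf.mp hr)) (v : G)
    have e : ∀ z : L, (z : G) ∈ Q' ↔ z ∈ (Q : Subgroup L) := fun z => by
      rw [hQ'def]
      exact ⟨fun ⟨w, hw, hwz⟩ => (Subtype.ext hwz : w = z) ▸ hw, fun hz => ⟨z, hz, rfl⟩⟩
    exact (e v).symm.trans (h.trans (e (r * v * r⁻¹)))
  have h1 : p ∣ R'.relIndex L := hdvd.trans (index_dvd_of_le hT)
  rw [← relIndex_mul_relIndex R' N L hR'N hNL] at h1
  rcases (Fact.out : p.Prime).dvd_mul.mp h1 with h | h
  · refine R.not_dvd_index ?_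
    rwa [hR'def, show ((R : Subgroup N).map N.subtype).relIndex N = (R : Subgroup N).index from ?_] at h
    show (((R : Subgroup N).map N.subtype).subgroupOf N).index = _
    rw [show ((R : Subgroup N).map N.subtype).subgroupOf N = (R : Subgroup N) from
      comap_map_eq_self_of_injective N.subtype_injective _]
  · obtain ⟨i, hi⟩ := IsPGroup.iff_card.mp hidx
    have : N.relIndex L = q ^ i := by
      rw [← hi, ← relIndex_bot_left (L.map _),
        show (⊥ : Subgroup (G ⧸ N)) = N.map (QuotientGroup.mk' N) from (QuotientGroup.map_mk'_self N).symm,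
        relIndex_map_map, QuotientGroup.ker_mk', sup_idem, sup_eq_left.mpr hNL]
    rw [this] at h
    exact hpq ((Nat.prime_dvd_prime_iff_eq Fact.out Fact.out).mp
      ((Fact.out : p.Prime).dvd_of_dvd_pow h))

/-- A `p`- or `q`-soluble group in which each `q`-element is centralised by a Sylow `p`-subgroup. -/
theorem exists_normalizes_of_centralized [Fact p.Prime] [Fact q.Prime]
    (hsolv : IsPSolvable p G ∨ IsPSolvable q G) (hcent : CentralizedBy p q G) :
    ∃ (P : Sylow p G) (Q : Sylow q G), (P : Subgroup G) ≤ normalizer ((Q : Subgroup G) : Set G) := by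
  by_cases hpq : p = q
  · subst hpq
    obtain ⟨P⟩ := (inferInstance : Nonempty (Sylow p G))
    exact ⟨P, P, le_normalizer⟩
  induction hn : Nat.card G using Nat.strong_induction_on generalizing G with
  | _ n ih =>
  subst hn
  rcases subsingleton_or_nontrivial G with hG | hG
  · obtain ⟨P⟩ := (inferInstance : Nonempty (Sylow p G))
    obtain ⟨Q⟩ := (inferInstance : Nonempty (Sylow q G))
    exact ⟨P, Q, fun w _ => Subsingleton.elim (1 : G) w ▸ one_mem _⟩
  obtain ⟨N, hN, hne, hcase⟩ : ∃ N : Subgroup G, N.Normal ∧ N ≠ ⊥ ∧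
      ((Nat.card N).Coprime q ∨ IsPGroup q N ∨ (Nat.card N).Coprime p) := by
    rcases hsolv with h | h
    · obtain ⟨N, hN, hne, hN' | hN'⟩ := exists_small_normal_of_isPSolvable h
      · obtain ⟨i, hi⟩ := IsPGroup.iff_card.mp hN'
        exact ⟨N, hN, hne, Or.inl (hi ▸ ((Nat.coprime_primes Fact.out Fact.out).mpr hpq).pow_left i)⟩
      · exact ⟨N, hN, hne, Or.inr (Or.inr hN')⟩
    · obtain ⟨N, hN, hne, hN' | hN'⟩ := exists_small_normal_of_isPSolvable h
      · exact ⟨N, hN, hne, Or.inr (Or.inl hN')⟩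
      · exact ⟨N, hN, hne, Or.inl hN'⟩
  have hlt : Nat.card (G ⧸ N) < Nat.card G := by
    rw [N.card_eq_card_quotient_mul_card_subgroup]
    exact lt_mul_of_one_lt_right Nat.card_pos (N.one_lt_card_iff_ne_bot.mpr hne)
  obtain ⟨Pb, Qb, hPQ⟩ := ih _ hlt
    (hsolv.imp (fun h => CfsgLib.Transfer.isPSolvable_quotient h N)
      fun h => CfsgLib.Transfer.isPSolvable_quotient h N)
    (centralizedBy_quotient hcent N) rfl
  obtain ⟨P, hP⟩ := Sylow.mapSurjective_surjective (QuotientGroup.mk'_surjective N) p Pb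
  set L := (Qb : Subgroup (G ⧸ N)).comap (QuotientGroup.mk' N) with hL
  have hNL : N ≤ L := (QuotientGroup.ker_mk' N).ge.trans (MonoidHom.ker_le_comap _ _)
  have hmapL : L.map (QuotientGroup.mk' N) = Qb :=
    map_comap_eq_self_of_surjective (QuotientGroup.mk'_surjective N) _
  have hPL : (P : Subgroup G) ≤ normalizer (L : Set G) := by
    intro w hw
    have h1 := hPQ (show QuotientGroup.mk' N w ∈ (Pb : Subgroup (G ⧸ N)) from by
      rw [← hP, Sylow.coe_mapSurjective]
      exact mem_map_of_mem (QuotientGroup.mk' N) hw)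
    rw [mem_normalizer_iff] at h1 ⊢
    intro v
    simpa [hL] using h1 (QuotientGroup.mk' N v)
  have hidxL : N.relIndex L = Nat.card (Qb : Subgroup (G ⧸ N)) := by
    rw [← hmapL, ← relIndex_bot_left (L.map _),
      show (⊥ : Subgroup (G ⧸ N)) = N.map (QuotientGroup.mk' N) from (QuotientGroup.map_mk'_self N).symm,
      relIndex_map_map, QuotientGroup.ker_mk', sup_idem, sup_eq_left.mpr hNL]
  obtain ⟨Q₀⟩ := (inferInstance : Nonempty (Sylow q L))
  have hn : ¬ p ∣ Nat.card (Sylow q L) := by
    rcases hcase with h | h | h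
    · exact sylow_card_not_dvd_of_coprime hpq hcent hNL h (hmapL.symm ▸ Qb.2) Q₀
    · have hL' : IsPGroup q L := by
        obtain ⟨i, hi⟩ := IsPGroup.iff_card.mp h
        obtain ⟨j, hj⟩ := IsPGroup.iff_card.mp Qb.2
        exact IsPGroup.of_card (n := i + j) (by
          rw [← relIndex_bot_left L, ← relIndex_mul_relIndex ⊥ N L bot_le hNL, relIndex_bot_left,
            hi, hidxL, hj, pow_add])
      obtain ⟨i, hi⟩ := IsPGroup.iff_card.mp hL'
      intro hd
      rw [Q₀.card_eq_index_normalizer] at hd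
      have h1 := hd.trans (index_dvd_card _)
      rw [hi] at h1
      exact hpq ((Nat.prime_dvd_prime_iff_eq Fact.out Fact.out).mp
        ((Fact.out : p.Prime).dvd_of_dvd_pow h1))
    · intro hd
      rw [Q₀.card_eq_index_normalizer] at hd
      have h1 : p ∣ Nat.card L := hd.trans (index_dvd_card _)
      rw [← relIndex_bot_left L, ← relIndex_mul_relIndex ⊥ N L bot_le hNL, relIndex_bot_left, hidxL] at h1
      rcases (Fact.out : p.Prime).dvd_mul.mp h1 with h' | h'
      · exact (Fact.out : p.Prime).not_dvd_one (h ▸ Nat.dvd_gcd h' dvd_rfl)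
      · obtain ⟨j, hj⟩ := IsPGroup.iff_card.mp Qb.2
        exact hpq ((Nat.prime_dvd_prime_iff_eq Fact.out Fact.out).mp
          ((Fact.out : p.Prime).dvd_of_dvd_pow (hj ▸ h')))
  obtain ⟨Q, hQ⟩ := exists_normalized_sylow P.2 hPL hn
  have hidx : ¬ q ∣ ((Q : Subgroup L).map L.subtype).index := by
    rw [index_map_subtype]
    refine Nat.Prime.not_dvd_mul Fact.out Q.not_dvd_index ?_
    rw [hL, index_comap_of_surjective _ (QuotientGroup.mk'_surjective N)]
    exact Qb.not_dvd_index
  exact ⟨P, (Q.2.map L.subtype).toSylow hidx, by rwa [IsPGroup.toSylow_coe]⟩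

/-- In a `p`-soluble group a Sylow `p`-subgroup normalises a Sylow `q`-subgroup iff
`q ∤ |G : O_{p'}(G)|`. -/
theorem exists_normalizes_iff_not_dvd_index [Fact p.Prime] [Fact q.Prime] (hpq : p ≠ q)
    (hsolv : IsPSolvable p G) :
    (∃ (P : Sylow p G) (Q : Sylow q G), (P : Subgroup G) ≤ normalizer ((Q : Subgroup G) : Set G)) ↔
      ¬ q ∣ (pPrimeCore p G).index := by
  constructor
  · rintro ⟨P, Q, hPQ⟩ hd
    set K := pPrimeCore p G
    let π := QuotientGroup.mk' K
    have hπ : Function.Surjective π := QuotientGroup.mk'_surjective K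
    set Pb := P.mapSurjective hπ
    set Qb := Q.mapSurjective hπ
    have hR : pCore p (G ⧸ K) ≤ (Pb : Subgroup (G ⧸ K)) := CfsgLib.Cores.pCore_le_sylow Pb
    have hle : (Qb : Subgroup (G ⧸ K)) ≤ pCore p (G ⧸ K) := by
      refine le_trans ?_ (CfsgLib.Transfer.centralizer_pCore_le_of_isPSolvable
        (CfsgLib.Transfer.isPSolvable_quotient hsolv K) (CfsgLib.Cores.pPrimeCore_quotient_self p))
      intro y hy
      rw [mem_centralizer_iff]
      intro r hr
      have hrn : r ∈ normalizer ((Qb : Subgroup (G ⧸ K)) : Set (G ⧸ K)) := by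
        obtain ⟨w, hw, rfl⟩ := hR hr
        exact le_normalizer_map π (mem_map_of_mem _ (hPQ hw))
      have h1 : r * y * r⁻¹ * y⁻¹ ∈ pCore p (G ⧸ K) := by
        rw [mul_assoc r, mul_assoc r]
        refine mul_mem hr ?_
        have : (pCore p (G ⧸ K)).Normal := inferInstance
        simpa [mul_assoc] using this.conj_mem _ (inv_mem hr) y
      have h2 : r * y * r⁻¹ * y⁻¹ ∈ (Qb : Subgroup (G ⧸ K)) :=
        mul_mem ((mem_normalizer_iff.mp hrn y).mp hy) (inv_mem hy)
      have h3 := (disjoint_iff.mp (IsPGroup.disjoint_of_ne p q hpq _ _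
        (CfsgLib.Cores.isPGroup_pCore p) Qb.2)).le ⟨h1, h2⟩
      rw [mem_bot] at h3
      calc r * y = r * y * r⁻¹ * y⁻¹ * (y * r) := by group
        _ = y * r := by rw [h3, one_mul]
    have hbot : (Qb : Subgroup (G ⧸ K)) = ⊥ := eq_bot_iff.mpr fun y hy =>
      (disjoint_iff.mp (IsPGroup.disjoint_of_ne p q hpq _ _
        (CfsgLib.Cores.isPGroup_pCore p) Qb.2)).le ⟨hle hy, hy⟩
    refine Qb.not_dvd_index ?_
    rwa [hbot, index_bot]
  · intro hd
    obtain ⟨P⟩ := (inferInstance : Nonempty (Sylow p G))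
    set K := pPrimeCore p G
    have hKn : (P : Subgroup G) ≤ normalizer (K : Set G) := by simp [normalizer_eq_top]
    have hcop : (Nat.card (P : Subgroup G)).Coprime (Nat.card K) := by
      obtain ⟨i, hi⟩ := IsPGroup.iff_card.mp P.2
      rw [hi]
      exact (CfsgLib.Cores.coprime_card_pPrimeCore p).symm.pow_left i
    have := P.2.isNilpotent
    obtain ⟨Q, hQ⟩ := CfsgLib.Solvable.exists_invariant_sylow (P : Subgroup G) K hKn hcop
      (Or.inl inferInstance) q
    have hidx : ¬ q ∣ ((Q : Subgroup K).map K.subtype).index := by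
      rw [index_map_subtype]
      exact Nat.Prime.not_dvd_mul Fact.out Q.not_dvd_index hd
    exact ⟨P, (Q.2.map K.subtype).toSylow hidx, by rwa [IsPGroup.toSylow_coe]⟩

end CfsgLib.CharNormal
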